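import Groth.Agent.Lib.Helper67.DevGlobal
import Groth.Agent.Lib.Helper1.PushSupport
import Groth.Agent.S0045

/-!
# Dévissage of coherent modules: filtrations
-/

set_option autoImplicit false
set_option linter.style.haveILetI false
universe u
open CategoryTheory CategoryTheory.Limits AlgebraicGeometry TopologicalSpace

namespace Groth.Agent.Lib.Helper67.Devissage

open Groth.Agent.Lib.Helper49

variable {X : Scheme.{u}}

/-- `N` is a successive extension of direct images of nonzero ideals of integral closed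
subschemes (the conclusion of the filtration lemma) -/
def HasFilt (N : X.Modules) : Prop :=
  ∃ (m : ℕ) (F : ℕ → X.Modules) (φ : (j : ℕ) → (F j ⟶ F (j + 1))),
    IsZero (F 0) ∧ Nonempty (F m ≅ N) ∧ (∀ j ≤ m, Coh.IsCoh (F j)) ∧ ∀ j < m, Mono (φ j) ∧
      ∃ (Z : Scheme.{u}) (i : Z ⟶ X), IsClosedImmersion i ∧ IsIntegral Z ∧
        ∃ (I : Z.Modules) (ι : I ⟶ Coh.structureModule Z), Mono ι ∧ Coh.IsQCoh I ∧ ¬ IsZero I ∧
          Nonempty (cokernel (φ j) ≅ (Coh.push i).obj I)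

theorem isCoh_of_isZero (N : X.Modules) (h : IsZero N) : Coh.IsCoh N :=
  ⟨Groth.Agent.Lib.Helper1.isQuasicoherent_of_isZero N h,
    Groth.Agent.Lib.Helper1.isFiniteType_of_isZero N h⟩

theorem hasFilt_of_isZero (N : X.Modules) (h : IsZero N) : HasFilt N :=
  ⟨0, fun _ => N, fun _ => 𝟙 N, h, ⟨Iso.refl _⟩, fun _ _ => isCoh_of_isZero N h,
    fun j hj => absurd hj (Nat.not_lt_zero j)⟩

theorem hasFilt_of_iso {N N' : X.Modules} (e : N ≅ N') (h : HasFilt N) : HasFilt N' := by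
  obtain ⟨m, F, φ, h0, ⟨e'⟩, hcoh, hstep⟩ := h
  exact ⟨m, F, φ, h0, ⟨e' ≪≫ e⟩, hcoh, hstep⟩

theorem nonempty_cokernel_conj_iso {A A' B B' : X.Modules} (f : A ⟶ B) (α : A' ⟶ A) (β : B ⟶ B')
    [IsIso α] [IsIso β] : Nonempty (cokernel (α ≫ f ≫ β) ≅ cokernel f) :=
  ⟨cokernelEpiComp α (f ≫ β) ≪≫ cokernelCompIsIso f β⟩

/-- extend a filtration by one more step at the top -/
theorem hasFilt_extend {N N' : X.Modules} (c : N ⟶ N') [Mono c] (hN' : Coh.IsCoh N')
    (piece : ∃ (Z : Scheme.{u}) (i : Z ⟶ X), IsClosedImmersion i ∧ IsIntegral Z ∧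
      ∃ (I : Z.Modules) (ι : I ⟶ Coh.structureModule Z), Mono ι ∧ Coh.IsQCoh I ∧ ¬ IsZero I ∧
        Nonempty (cokernel c ≅ (Coh.push i).obj I)) (h : HasFilt N) : HasFilt N' := by
  obtain ⟨m, F, φ, h0, ⟨e⟩, hcoh, hstep⟩ := h
  let F' : ℕ → X.Modules := fun j => if j ≤ m then F j else N'
  have hle : ∀ j, j ≤ m → F' j = F j := fun j hj => if_pos hj
  have hgt : ∀ j, ¬ j ≤ m → F' j = N' := fun j hj => if_neg hj
  let φ' : (j : ℕ) → (F' j ⟶ F' (j + 1)) := fun j =>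
    if h : j < m then eqToHom (hle j h.le) ≫ φ j ≫ eqToHom (hle (j + 1) h).symm
    else if h2 : j = m then
      eqToHom ((hle j h2.le).trans (by rw [h2])) ≫ (e.hom ≫ c) ≫
        eqToHom (hgt (j + 1) (by omega)).symm
    else eqToHom ((hgt j (by omega)).trans (hgt (j + 1) (by omega)).symm)
  refine ⟨m + 1, F', φ', ?_, ?_, ?_, ?_⟩
  · rw [hle 0 (Nat.zero_le m)]; exact h0
  · exact ⟨eqToIso (hgt (m + 1) (by omega))⟩
  · intro j hj
    by_cases hjm : j ≤ m
    · rw [hle j hjm]; exact hcoh j hjm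
    · rw [hgt j hjm]; exact hN'
  · intro j hj
    by_cases hjm : j < m
    · obtain ⟨hmono, Z, i, hi, hZ, I, ι, hι, hqI, hI, ⟨ε⟩⟩ := hstep j hjm
      have hφ' : φ' j = eqToHom (hle j hjm.le) ≫ φ j ≫ eqToHom (hle (j + 1) hjm).symm :=
        dif_pos hjm
      obtain ⟨κ⟩ := nonempty_cokernel_conj_iso (φ j) (eqToHom (hle j hjm.le))
        (eqToHom (hle (j + 1) hjm).symm)
      refine ⟨?_, Z, i, hi, hZ, I, ι, hι, hqI, hI, ⟨cokernelIsoOfEq hφ' ≪≫ κ ≪≫ ε⟩⟩
      haveI := hmono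
      rw [hφ']
      exact mono_comp _ _
    · have hjeq : j = m := by omega
      obtain ⟨Z, i, hi, hZ, I, ι, hι, hqI, hI, ⟨ε⟩⟩ := piece
      have hφ' : φ' j = eqToHom ((hle j hjeq.le).trans (by rw [hjeq])) ≫ (e.hom ≫ c) ≫
          eqToHom (hgt (j + 1) (by omega)).symm := by
        change dite _ _ _ = _
        rw [dif_neg hjm, dif_pos hjeq]
      obtain ⟨κ⟩ := nonempty_cokernel_conj_iso c
        (eqToHom ((hle j hjeq.le).trans (by rw [hjeq])) ≫ e.hom)
        (eqToHom (hgt (j + 1) (by omega)).symm)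
      have hassoc : φ' j =
          (eqToHom ((hle j hjeq.le).trans (by rw [hjeq])) ≫ e.hom) ≫ c ≫
            eqToHom (hgt (j + 1) (by omega)).symm := by
        rw [hφ']
        simp only [Category.assoc]
      refine ⟨?_, Z, i, hi, hZ, I, ι, hι, hqI, hI, ⟨cokernelIsoOfEq hassoc ≪≫ κ ≪≫ ε⟩⟩
      rw [hassoc]
      exact mono_comp _ _

end Groth.Agent.Lib.Helper67.Devissage
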