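import Groth.Agent.Lib.Helper67.DevLocal
import Groth.Agent.Lib.Helper19.Subscheme
import Groth.Agent.Lib.Helper49.QCohProducts
import Groth.Agent.Lib.Helper49.ClosedImmUnit

/-!
# Dévissage of coherent modules, global part
-/

set_option autoImplicit false
set_option linter.style.haveILetI false
universe u
open CategoryTheory CategoryTheory.Limits AlgebraicGeometry TopologicalSpace

namespace Groth.Agent.Lib.Helper67.Devissage

open Groth.Agent.Lib.Helper49 Groth.Agent.Lib.Helper49.AssMono

variable {X : Scheme.{u}}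

theorem mono_of_app_injective {F G : X.Modules} (φ : F ⟶ G)
    (h : ∀ U : X.Opens, Function.Injective (φ.app U)) : Mono φ := by
  apply Functor.mono_of_mono_map (Scheme.Modules.toPresheaf X)
  apply (config := { allowSynthFailures := true }) NatTrans.mono_of_mono_app
  intro U
  change Mono (φ.app U.unop)
  exact (AddCommGrpCat.mono_iff_injective _).mpr (h U.unop)

theorem irreducibleSpace_of_homeomorph {A B : Type*} [TopologicalSpace A] [TopologicalSpace B]
    (h : A ≃ₜ B) [IrreducibleSpace B] : IrreducibleSpace A := by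
  rw [irreducibleSpace_def]
  have := (IrreducibleSpace.isIrreducible_univ B).image h.symm h.symm.continuous.continuousOn
  rwa [Set.image_univ, Set.range_eq_univ.mpr h.symm.surjective] at this

/-- the ideal sheaf of the reduced closure of a point -/
noncomputable abbrev IZ (x : X) : X.IdealSheafData :=
  Scheme.IdealSheafData.vanishingIdeal ⟨closure {x}, isClosed_closure⟩

theorem range_subschemeι_IZ (x : X) : Set.range (IZ x).subschemeι = closure {x} := by
  rw [Scheme.IdealSheafData.range_subschemeι, Scheme.IdealSheafData.coe_support_vanishingIdeal]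
  rfl

instance isIntegral_IZ (x : X) : IsIntegral (IZ x).subscheme := by
  have hred : IsReduced (IZ x).subscheme :=
    Groth.Agent.Lib.Helper19.isReduced_subscheme_vanishingIdeal _
  set ι := (IZ x).subschemeι with hι
  have hemb : Topology.IsClosedEmbedding ι := ι.isClosedEmbedding
  have h1 : IsIrreducible (Set.range ι) := by
    rw [range_subschemeι_IZ]
    exact isIrreducible_singleton.closure
  have h2 : IrreducibleSpace ↥(Set.range ι) := Subtype.irreducibleSpace h1
  have hirr' : IrreducibleSpace ↥(IZ x).subscheme :=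
    irreducibleSpace_of_homeomorph hemb.isEmbedding.toHomeomorph
  exact isIntegral_of_irreducibleSpace_of_isReduced _

theorem exists_subschemeι_eq (x : X) : ∃ z : (IZ x).subscheme, (IZ x).subschemeι z = x := by
  have : x ∈ Set.range (IZ x).subschemeι := by
    rw [range_subschemeι_IZ]; exact subset_closure rfl
  exact this

theorem mem_of_subschemeι_mem (x : X) (U : X.Opens) (z : (IZ x).subscheme)
    (hz : (IZ x).subschemeι z ∈ U) : x ∈ U := by
  have h1 : (IZ x).subschemeι z ∈ closure {x} := by
    rw [← range_subschemeι_IZ]; exact ⟨z, rfl⟩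
  obtain ⟨y, hy1, hy2⟩ := mem_closure_iff.mp h1 U U.2 hz
  rw [Set.mem_singleton_iff.mp hy2] at hy1
  exact hy1

/-- for `x ∈ W`, the module `O_Z` of the closure of `x` injects into `j_* (O_Z|_W)` -/
theorem mono_toPushRestrict_OZ (x : X) (W : X.Opens) (hx : x ∈ W) :
    Mono (toPushRestrict (OZ x) W) := by
  refine mono_of_app_injective _ fun U => ?_
  rw [Scheme.Modules.restrictAdjunction_unit_app_app]
  by_cases hne : Nonempty ((IZ x).subschemeι ⁻¹ᵁ U)
  · obtain ⟨⟨z, hz⟩⟩ := hne
    have hxU : x ∈ U := mem_of_subschemeι_mem x U z hz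
    obtain ⟨z₀, hz₀⟩ := exists_subschemeι_eq x
    have hle : W.ι ''ᵁ W.ι ⁻¹ᵁ U ≤ U := W.ι.image_preimage_le U
    have hxUW : x ∈ W.ι ''ᵁ W.ι ⁻¹ᵁ U := by
      rw [Scheme.Hom.image_preimage_eq_opensRange_inf, Scheme.Opens.opensRange_ι]
      exact ⟨hx, hxU⟩
    haveI : Nonempty ((IZ x).subschemeι ⁻¹ᵁ (W.ι ''ᵁ W.ι ⁻¹ᵁ U)) :=
      ⟨⟨z₀, by
        change (IZ x).subschemeι z₀ ∈ (W.ι ''ᵁ W.ι ⁻¹ᵁ U : X.Opens)
        rw [hz₀]; exact hxUW⟩⟩
    intro s t hst
    exact map_injective_of_isIntegral (IZ x).subscheme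
      (homOfLE ((IZ x).subschemeι.preimage_mono hle)) hst
  · intro s t _
    have hbot : (IZ x).subschemeι ⁻¹ᵁ U = ⊥ := by
      ext z
      simp only [Opens.coe_bot, Set.mem_empty_iff_false, iff_false]
      exact fun hz => hne ⟨⟨z, hz⟩⟩
    have hsub : Subsingleton Γ((IZ x).subscheme, (IZ x).subschemeι ⁻¹ᵁ U) := by
      rw [hbot]; infer_instance
    exact hsub.elim s t

section ClosedImm

variable {Z : Scheme.{u}} (i : Z ⟶ X) [IsClosedImmersion i]

theorem exists_preimage_eq (V : Z.Opens) : ∃ U : X.Opens, i ⁻¹ᵁ U = V := by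
  obtain ⟨t, ht, hV⟩ := i.isClosedEmbedding.isInducing.isOpen_iff.mp V.2
  exact ⟨⟨t, ht⟩, Opens.ext hV⟩

instance faithful_pushforward_closedImmersion : (Scheme.Modules.pushforward i).Faithful where
  map_injective {N N'} φ φ' h := by
    apply Scheme.Modules.hom_ext
    intro V
    obtain ⟨U, rfl⟩ := exists_preimage_eq i V
    have := congrArg (fun t => t.app U) h
    exact this

theorem isZero_of_isZero_pushforward (N : Z.Modules)
    (h : IsZero ((Scheme.Modules.pushforward i).obj N)) : IsZero N := by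
  rw [Helper45.isZero_iff_sections_subsingleton] at h ⊢
  intro V
  obtain ⟨U, rfl⟩ := exists_preimage_eq i V
  exact h U

end ClosedImm

section Sub

variable [IsNoetherian X] (F : X.Modules) [F.IsQuasicoherent] {W : X.Opens}
  (hW : IsAffineOpen W) (x : W) (φ₀ : (OZ (x : X)).restrict W.ι ⟶ F.restrict W.ι)

/-- the composite `O_Z ⟶ j_* (O_Z|_W) ⟶ j_* (F|_W)` -/
noncomputable def psi : OZ (x : X) ⟶ (Scheme.Modules.pushforward W.ι).obj (F.restrict W.ι) :=
  toPushRestrict (OZ (x : X)) W ≫ (Scheme.Modules.pushforward W.ι).map φ₀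

instance mono_psi [Mono φ₀] : Mono (psi F x φ₀) := by
  haveI := mono_toPushRestrict_OZ (x : X) W x.2
  haveI : Mono ((Scheme.Modules.pushforward W.ι).map φ₀) := inferInstance
  exact mono_comp _ _

/-- the map `O_Z ⟶ coker (F ⟶ j_* (F|_W))` -/
noncomputable def theta : OZ (x : X) ⟶ cokernel (toPushRestrict F W) :=
  psi F x φ₀ ≫ cokernel.π (toPushRestrict F W)

include hW in
theorem isQuasicoherent_pushRestrict :
    ((Scheme.Modules.pushforward W.ι).obj (F.restrict W.ι)).IsQuasicoherent := by
  haveI := quasiCompact_ι_of_isCompact W hW.isCompact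
  haveI : (F.restrict W.ι).IsQuasicoherent := Scheme.Modules.isQuasicoherent_restrictFunctor _ _
  exact isQuasicoherent_pushforward (F.restrict W.ι) W.ι

include hW in
theorem isQuasicoherent_kernel_theta : (kernel (theta F x φ₀)).IsQuasicoherent := by
  have h1 := isQuasicoherent_pushRestrict F hW
  have h2 : (cokernel (toPushRestrict F W)).IsQuasicoherent :=
    isQuasicoherent_cokernel _ inferInstance h1
  exact isQuasicoherent_kernel _ inferInstance h2

include hW in
/-- the kernel of `theta` is nonzero: it is all of `O_Z` near `x` -/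
theorem not_isZero_kernel_theta : ¬ IsZero (kernel (theta F x φ₀)) := by
  intro hz
  haveI : Mono (theta F x φ₀) := Preadditive.mono_of_kernel_zero (hz.eq_of_src _ _)
  have hinj := stalkMap_injective_of_mono (theta F x φ₀) (x : X)
  have hbij := (isIso_restrict_iff (toPushRestrict F W) W).mp
    (isIso_restrict_toPushRestrict F W) (x : X) x.2
  have hsub : Subsingleton ↑((cokernel (toPushRestrict F W)).presheaf.stalk (x : X)) :=
    (subsingleton_stalk_cokernel_iff (toPushRestrict F W) (x : X)).mpr hbij.2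
  have hne := germ_ne_zero_of_ann (OZ (x : X)) hW x (oneOZ (x : X) W) (fun r => by
    rw [smul_oneOZ_eq_zero_iff hW x])
  apply hne
  apply hinj
  exact hsub.elim _ _

/-- sections of the kernel of `theta` are killed by the ideal of `Z` -/
theorem killed_kernel_theta (U : X.Opens) (a : Γ(X, U))
    (ha : ((IZ (x : X)).subschemeι.app U).hom a = 0) (m : Γ(kernel (theta F x φ₀), U)) :
    a • m = 0 := by
  apply Helper45.app_injective_of_mono (kernel.ι (theta F x φ₀)) U
  rw [map_zero, Scheme.Modules.Hom.app_smul]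
  have h1 : ∀ s : Γ(OZ (x : X), U), a • s = 0 := by
    intro s
    rw [Helper45.pushforward_smul]
    have h2 : ∀ (b : Γ((IZ (x : X)).subscheme, (IZ (x : X)).subschemeι ⁻¹ᵁ U))
        (t : Γ(SheafOfModules.unit (IZ (x : X)).subscheme.ringCatSheaf,
          (IZ (x : X)).subschemeι ⁻¹ᵁ U)), b = 0 → b • t = 0 := fun b t hb => by
      rw [hb, zero_smul]
    exact h2 _ _ ha
  exact h1 _

include hW in
/-- if `F` has no sections supported off `W`, then `F` contains the direct image of a nonzero
ideal of the reduced closure of `x` -/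
theorem exists_mono_push_of_mono_toPushRestrict [Mono φ₀]
    (hft : SheafOfModules.IsFiniteType (R := X.ringCatSheaf) F)
    (hmono : Mono (toPushRestrict F W)) :
    ∃ (I : (IZ (x : X)).subscheme.Modules) (ι : I ⟶ Coh.structureModule (IZ (x : X)).subscheme),
      Mono ι ∧ Coh.IsQCoh I ∧ ¬ IsZero I ∧
      ∃ a : (Scheme.Modules.pushforward (IZ (x : X)).subschemeι).obj I ⟶ F, Mono a := by
  set i := (IZ (x : X)).subschemeι with hi
  set P := kernel (theta F x φ₀) with hP
  let p₁ : P ⟶ OZ (x : X) := kernel.ι (theta F x φ₀)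
  have hzero : (p₁ ≫ psi F x φ₀) ≫ cokernel.π (toPushRestrict F W) = 0 := by
    rw [Category.assoc]
    exact kernel.condition (theta F x φ₀)
  let p₂ : P ⟶ F := Abelian.monoLift (toPushRestrict F W) (p₁ ≫ psi F x φ₀) hzero
  have hp₂ : p₂ ≫ toPushRestrict F W = p₁ ≫ psi F x φ₀ := Abelian.monoLift_comp _ _ _
  haveI : Mono (p₁ ≫ psi F x φ₀) := mono_comp _ _
  haveI hmp₂ : Mono p₂ := mono_of_mono_fac hp₂
  haveI hqP : P.IsQuasicoherent := isQuasicoherent_kernel_theta F hW x φ₀
  have hftP : SheafOfModules.IsFiniteType (R := X.ringCatSheaf) P := isFiniteType_of_mono p₂ hft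
  have hk : ∀ (U : X.Opens), IsAffineOpen U → ∀ a : Γ(X, U), (i.app U).hom a = 0 →
      ∀ m : Γ(P, U), a • m = 0 := fun U _ a ha m => killed_kernel_theta F x φ₀ U a ha m
  let adj := Scheme.Modules.pullbackPushforwardAdjunction i
  haveI hu : IsIso (adj.unit.app P) := Groth.Agent.Lib.Helper49.ClosedImmUnit.isIso_unit_of_killed i P hftP hk
  let J := (Scheme.Modules.pullback i).obj P
  let ι : J ⟶ Coh.structureModule (IZ (x : X)).subscheme := (adj.homEquiv P _).symm p₁
  have hι : adj.unit.app P ≫ (Scheme.Modules.pushforward i).map ι = p₁ := by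
    exact (adj.homEquiv P _).apply_symm_apply p₁
  have hmι : Mono ((Scheme.Modules.pushforward i).map ι) := by
    have h1 : (Scheme.Modules.pushforward i).map ι = inv (adj.unit.app P) ≫ p₁ := by
      rw [← hι, IsIso.inv_hom_id_assoc]
    rw [h1]
    exact mono_comp _ _
  refine ⟨J, ι, Functor.mono_of_mono_map (Scheme.Modules.pushforward i) hmι,
    Groth.Agent.Lib.Helper16.FlatPull.isQuasicoherent_pullback i P, ?_,
    inv (adj.unit.app P) ≫ p₂, mono_comp _ _⟩
  intro hz
  have h1 : IsZero ((Scheme.Modules.pushforward i).obj J) :=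
    (Scheme.Modules.pushforward i).map_isZero hz
  exact not_isZero_kernel_theta F hW x φ₀ (h1.of_iso (asIso (adj.unit.app P)))

end Sub

/-- auxiliary form of `exists_mono_push_ideal`, by Noetherian induction on a closed set
containing the support -/
theorem exists_mono_push_ideal_aux [IsNoetherian X] (S : Closeds X) :
    ∀ (F : X.Modules), F.IsQuasicoherent → SheafOfModules.IsFiniteType (R := X.ringCatSheaf) F →
      ¬ IsZero F → (∀ y : X, ¬ Subsingleton ↑(F.presheaf.stalk y) → y ∈ S) →
      ∃ (Z : Scheme.{u}) (i : Z ⟶ X), IsClosedImmersion i ∧ IsIntegral Z ∧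
        ∃ (I : Z.Modules) (ι : I ⟶ Coh.structureModule Z), Mono ι ∧ Coh.IsQCoh I ∧ ¬ IsZero I ∧
          ∃ a : (Scheme.Modules.pushforward i).obj I ⟶ F, Mono a := by
  induction S using WellFoundedLT.induction with
  | ind S ih =>
    intro F hq hft hF hS
    haveI := hq
    obtain ⟨W, hW, x, m, hm⟩ := exists_ann_eq F hF
    obtain ⟨φ₀, hφ₀⟩ := exists_mono_of_ann F hW x m hm
    by_cases hmono : Mono (toPushRestrict F W)
    · exact ⟨_, (IZ (x : X)).subschemeι, inferInstance, inferInstance,
        exists_mono_push_of_mono_toPushRestrict F hW x φ₀ hft hmono⟩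
    · let K : X.Modules := kernel (toPushRestrict F W)
      let κ : K ⟶ F := kernel.ι (toPushRestrict F W)
      haveI : Mono κ := inferInstanceAs (Mono (kernel.ι (toPushRestrict F W)))
      have hK : ¬ IsZero K := fun hz =>
        hmono (Preadditive.mono_of_kernel_zero (hz.eq_of_src _ _))
      haveI hqK : K.IsQuasicoherent :=
        isQuasicoherent_kernel (toPushRestrict F W) hq (isQuasicoherent_pushRestrict F hW)
      have hftK : SheafOfModules.IsFiniteType (R := X.ringCatSheaf) K :=
        isFiniteType_of_mono κ hft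
      let S' : Closeds X := S ⊓ ⟨(W : Set X)ᶜ, W.2.isClosed_compl⟩
      have hS' : ∀ y : X, ¬ Subsingleton ↑(K.presheaf.stalk y) → y ∈ S' := by
        intro y hy
        refine ⟨hS y fun hsub => hy ?_, fun hyW => hy ?_⟩
        · exact (stalkMap_injective_of_mono κ y).subsingleton
        · exact subsingleton_stalk_kernel_toPushRestrict F W y hyW
      have hxS : (x : X) ∈ S := hS x fun hsub =>
        germ_ne_zero_of_ann F hW x m hm (hsub.elim _ _)
      have hlt : S' < S := by
        refine lt_of_le_of_ne inf_le_left fun heq => ?_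
        have : (x : X) ∈ S' := heq ▸ hxS
        exact this.2 x.2
      obtain ⟨Z, i, hi, hZ, I, ι, hι, hqI, hI, a, ha⟩ := ih S' hlt K hqK hftK hK hS'
      exact ⟨Z, i, hi, hZ, I, ι, hι, hqI, hI, a ≫ κ, mono_comp _ _⟩

/-- **Key step of dévissage**: a nonzero coherent module on a Noetherian scheme contains the
direct image of a nonzero quasi-coherent ideal of an integral closed subscheme. -/
theorem exists_mono_push_ideal [IsNoetherian X] (F : X.Modules) (hF : Coh.IsCoh F)
    (hne : ¬ IsZero F) :
    ∃ (Z : Scheme.{u}) (i : Z ⟶ X), IsClosedImmersion i ∧ IsIntegral Z ∧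
      ∃ (I : Z.Modules) (ι : I ⟶ Coh.structureModule Z), Mono ι ∧ Coh.IsQCoh I ∧ ¬ IsZero I ∧
        ∃ a : (Scheme.Modules.pushforward i).obj I ⟶ F, Mono a :=
  exists_mono_push_ideal_aux ⊤ F hF.1 hF.2 hne fun _ _ => trivial

end Groth.Agent.Lib.Helper67.Devissage
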