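import Groth.Agent.Lib.Helper67.DevFilt

/-!
# Dévissage of coherent modules: the filtration theorem
-/

set_option autoImplicit false
set_option linter.style.haveILetI false
universe u v
open CategoryTheory CategoryTheory.Limits AlgebraicGeometry TopologicalSpace

namespace Groth.Agent.Lib.Helper67.Devissage

open Groth.Agent.Lib.Helper49

section Abelian

variable {C : Type u} [Category.{v} C] [Abelian C]

/-- the preimage of a subobject `J` of `M / N` in `M`: it contains `N` with quotient `J` -/
theorem exists_preimage_subobject {N M J : C} (f : N ⟶ M) [Mono f] (a : J ⟶ cokernel f) [Mono a] :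
    ∃ (c : N ⟶ pullback (cokernel.π f) a), c ≫ pullback.fst _ _ = f ∧ Mono c ∧
      Nonempty (cokernel c ≅ J) := by
  have hcond : f ≫ cokernel.π f = (0 : N ⟶ J) ≫ a := by rw [cokernel.condition, zero_comp]
  let c : N ⟶ pullback (cokernel.π f) a := pullback.lift f 0 hcond
  have hc1 : c ≫ pullback.fst _ _ = f := pullback.lift_fst _ _ _
  have hc2 : c ≫ pullback.snd _ _ = 0 := pullback.lift_snd _ _ _
  haveI hmc : Mono c := mono_of_mono_fac hc1
  refine ⟨c, hc1, hmc, ?_⟩
  -- `c` is a kernel of `pullback.snd`
  have hker : ∀ {T : C} (t : T ⟶ pullback (cokernel.π f) a), t ≫ pullback.snd _ _ = 0 →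
      (t ≫ pullback.fst _ _) ≫ cokernel.π f = 0 := by
    intro T t ht
    rw [Category.assoc, pullback.condition, ← Category.assoc, ht, zero_comp]
  let S : ShortComplex C := ShortComplex.mk c (pullback.snd (cokernel.π f) a) hc2
  have hlim : IsLimit (KernelFork.ofι S.f S.zero) :=
    KernelFork.IsLimit.ofι c hc2
      (fun {T} t ht => Abelian.monoLift f (t ≫ pullback.fst _ _) (hker t ht))
      (fun {T} t ht => by
        apply pullback.hom_ext
        · rw [Category.assoc, hc1, Abelian.monoLift_comp]
        · rw [Category.assoc, hc2, comp_zero, ht])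
      (fun {T} t ht m hm => by
        rw [← cancel_mono f, Abelian.monoLift_comp, ← hm, Category.assoc, hc1])
  have hex : S.Exact := ShortComplex.exact_of_f_is_kernel S hlim
  haveI : Epi S.g := Abelian.epi_pullback_of_epi_f (cokernel.π f) a
  exact ⟨(cokernelIsCokernel c).coconePointUniqueUpToIso hex.gIsCokernel⟩

end Abelian

variable {X : Scheme.{u}}

/-- the poset of quasi-coherent subobjects of a module -/
abbrev QSub (M : X.Modules) : Type _ := {N : Subobject M // Coh.IsQCoh ((N : Subobject M) : X.Modules)}

theorem wellFoundedGT_QSub [IsNoetherian X] (M : X.Modules) (hM : Coh.IsCoh M) :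
    WellFoundedGT (QSub M) := by
  rw [wellFoundedGT_iff_monotone_chain_condition]
  intro a
  let F : ℕ →o Subobject M := ⟨fun n => (a n).1, fun n m hnm => a.monotone hnm⟩
  obtain ⟨n, hn⟩ := Groth.Agent.S0045.result X M hM F (fun n => (a n).2)
  exact ⟨n, fun m hm => Subtype.ext (hn m hm).symm⟩

/-- a filtration of a quasi-coherent subobject extends to a filtration of the whole coherent
module -/
theorem hasFilt_of_hasFilt_sub [IsNoetherian X] (M : X.Modules) (hM : Coh.IsCoh M) :
    ∀ N : QSub M, HasFilt ((N.1 : Subobject M) : X.Modules) → HasFilt M := by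
  haveI := wellFoundedGT_QSub M hM
  intro N
  induction N using WellFoundedGT.induction with
  | ind N ih =>
    intro hN
    let N₀ : X.Modules := ((N.1 : Subobject M) : X.Modules)
    let f : N₀ ⟶ M := N.1.arrow
    haveI hqN : N₀.IsQuasicoherent := N.2
    haveI hqM : M.IsQuasicoherent := hM.1
    let Q : X.Modules := cokernel f
    let q : M ⟶ Q := cokernel.π f
    by_cases hQ : IsZero Q
    · haveI : Epi f := Preadditive.epi_of_isZero_cokernel f hQ
      haveI : IsIso f := isIso_of_mono_of_epi f
      exact hasFilt_of_iso (asIso f) hN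
    · haveI hqQ : Q.IsQuasicoherent := isQuasicoherent_cokernel f hqN hqM
      have hQcoh : Coh.IsCoh Q := ⟨hqQ, isFiniteType_of_epi q hM.2⟩
      obtain ⟨Z, i, hi, hZ, I, ι, hι, hqI, hI, a, ha⟩ := exists_mono_push_ideal Q hQcoh hQ
      haveI := hi
      haveI := ha
      haveI : I.IsQuasicoherent := hqI
      let J : X.Modules := (Scheme.Modules.pushforward i).obj I
      haveI hqJ : J.IsQuasicoherent := isQuasicoherent_pushforward I i
      obtain ⟨c, hc1, hmc, ⟨ε⟩⟩ := exists_preimage_subobject f a
      let P : X.Modules := pullback q a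
      let b : P ⟶ M := pullback.fst q a
      haveI : Mono b := inferInstanceAs (Mono (pullback.fst q a))
      have hqP : P.IsQuasicoherent := by
        refine isQuasicoherent_finite_limit (cospan q a) ?_
        rintro (_ | _ | _)
        · exact hqQ
        · exact hqM
        · exact hqJ
      have hcohP : Coh.IsCoh P := ⟨hqP, isFiniteType_of_mono b hM.2⟩
      have hP : HasFilt P := hasFilt_extend c hcohP ⟨Z, i, hi, hZ, I, ι, hι, hqI, hI, ⟨ε⟩⟩ hN
      let e : ((Subobject.mk b : Subobject M) : X.Modules) ≅ P := Subobject.underlyingIso b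
      let N' : QSub M := ⟨Subobject.mk b, isQuasicoherent_of_iso e.symm hqP⟩
      have hle : N.1 ≤ Subobject.mk b := Subobject.le_mk_of_comm c hc1
      have hlt : N < N' := by
        refine lt_of_le_of_ne hle fun heq => ?_
        have hge : Subobject.mk b ≤ N.1 := by
          have h2 : N.1 = N'.1 := congrArg Subtype.val heq
          exact h2 ▸ le_refl (N'.1)
        let g : P ⟶ N₀ := Subobject.ofMkLE b N.1 hge
        have hg : g ≫ f = b := Subobject.ofMkLE_arrow hge
        have hzero : pullback.snd q a ≫ a = 0 := by
          rw [← pullback.condition]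
          change b ≫ q = 0
          rw [← hg, Category.assoc, cokernel.condition, comp_zero]
        have hsnd : pullback.snd q a = 0 := by
          rw [← cancel_mono a, hzero, zero_comp]
        haveI : Epi (pullback.snd q a) := Abelian.epi_pullback_of_epi_f q a
        exact hI (isZero_of_isZero_pushforward i I (IsZero.of_epi_eq_zero _ hsnd))
      exact ih N' hlt (hasFilt_of_iso e.symm hP)

theorem hasFilt [IsNoetherian X] (M : X.Modules) (hM : Coh.IsCoh M) : HasFilt M := by
  have hz : IsZero (((⊥ : Subobject M) : Subobject M) : X.Modules) :=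
    (isZero_zero _).of_iso Subobject.botCoeIsoZero
  exact hasFilt_of_hasFilt_sub M hM
    ⟨⊥, Groth.Agent.Lib.Helper1.isQuasicoherent_of_isZero _ hz⟩ (hasFilt_of_isZero _ hz)

end Groth.Agent.Lib.Helper67.Devissage
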