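import Mathlib
import Groth.Agent.Lib.Helper78.DVRDominate

/-!
# Integrality is detected by discrete valuation rings (Noetherian domains) (helper67)

`exists_dvr_not_dvd`: for a Noetherian domain `B` and `u v : B`, `v ≠ 0`, if `u / v` is not integral
over `B` there is a DVR `R` and an injective ring map `ψ : B → R` with `ψ v ∤ ψ u`.
-/

set_option autoImplicit false
universe u

open Polynomial Algebra IsLocalRing

namespace Groth.Agent.Lib.Helper67

/-- A Noetherian local domain which is not a field admits an injective local-type map to a DVR: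
elements of the maximal ideal go to non-units. -/
theorem exists_dvr_local (S : Type u) [CommRing S] [IsDomain S] [IsNoetherianRing S]
    [IsLocalRing S] (hS : ¬ IsField S) :
    ∃ (R : Type u) (_ : CommRing R) (_ : IsDomain R) (_ : IsDiscreteValuationRing R)
      (ρ : S →+* R), Function.Injective ρ ∧ ∀ a ∈ maximalIdeal S, ¬ IsUnit (ρ a) := by
  have hfg : (⊤ : IntermediateField (FractionRing S) (FractionRing S)).FG := by
    refine ⟨∅, ?_⟩
    rw [Finset.coe_empty, IntermediateField.adjoin_empty]
    ext z
    simp [IntermediateField.mem_bot]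
  obtain ⟨R, hRdvr, hRmem, hRlt⟩ :=
    Groth.Agent.Lib.Helper78.exists_dvr_dominating S hS (FractionRing S) (FractionRing S) hfg
  let ρ : S →+* R := (algebraMap S (FractionRing S)).codRestrict R.toSubring hRmem
  have hρinj : Function.Injective ρ := by
    intro a b hab
    apply IsFractionRing.injective S (FractionRing S)
    exact congrArg Subtype.val hab
  refine ⟨R, inferInstance, inferInstance, hRdvr, ρ, hρinj, ?_⟩
  intro a ha hunit
  have h1 := hRlt a ha
  have h2 := (ValuationSubring.valuation_eq_one_iff R (ρ a)).mp hunit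
  have h3 : ((ρ a : R) : FractionRing S) = algebraMap S (FractionRing S) a := rfl
  rw [h3] at h2
  rw [h2] at h1
  exact lt_irrefl _ h1

theorem exists_dvr_not_dvd (B : Type u) [CommRing B] [IsDomain B] [IsNoetherianRing B]
    (u v : B) (hv : v ≠ 0)
    (hnot : ¬ IsIntegral B (algebraMap B (FractionRing B) u / algebraMap B (FractionRing B) v)) :
    ∃ (R : Type u) (_ : CommRing R) (_ : IsDomain R) (_ : IsDiscreteValuationRing R)
      (ψ : B →+* R), Function.Injective ψ ∧ ¬ ψ v ∣ ψ u := by
  classical
  set K := FractionRing B with hK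
  set x : K := algebraMap B K u / algebraMap B K v with hx
  have hx0 : x ≠ 0 := fun h => hnot (by rw [h]; exact isIntegral_zero)
  have hv' : algebraMap B K v ≠ 0 := by
    rwa [Ne, map_eq_zero_iff _ (IsFractionRing.injective B K)]
  have hu' : algebraMap B K u ≠ 0 := by
    intro h
    apply hx0
    rw [hx, h, zero_div]
  have hu : u ≠ 0 := fun h => hu' (by rw [h, map_zero])
  set y : K := x⁻¹ with hy
  have hy0 : y ≠ 0 := inv_ne_zero hx0
  letI : Invertible y := invertibleOfNonzero hy0
  have hinvy : ⅟y = x := by rw [invOf_eq_inv, hy, inv_inv]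
  let B' : Subalgebra B K := Algebra.adjoin B {y}
  let y' : B' := ⟨y, Algebra.subset_adjoin rfl⟩
  have hnu : ¬ IsUnit y' := by
    intro hunit
    have htop : Ideal.span {y'} = ⊤ := Ideal.span_singleton_eq_top.mpr hunit
    have h : (⊥ : Ideal B).map (algebraMap B B') ⊔ Ideal.span {y'} = ⊤ := by
      rw [htop]; exact le_antisymm le_top le_sup_right
    obtain ⟨p, hp, hpx⟩ := exists_aeval_invOf_eq_zero_of_idealMap_adjoin_sup_span_eq_top y
      (⊥ : Ideal B) bot_ne_top h
    apply hnot
    refine ⟨p, ?_, ?_⟩
    · rw [Ideal.mem_bot, sub_eq_zero] at hp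
      exact hp
    · rw [hinvy] at hpx
      rw [← aeval_def]; exact hpx
  obtain ⟨m, hm, hym⟩ := exists_max_ideal_of_mem_nonunits (mem_nonunits_iff.mpr hnu)
  haveI := hm.isPrime
  have hfgB' : B'.FG := by
    have := Subalgebra.fg_adjoin_finset (R := B) ({y} : Finset K)
    rwa [Finset.coe_singleton] at this
  haveI : Algebra.FiniteType B B' := (Subalgebra.fg_iff_finiteType B').mp hfgB'
  haveI : IsNoetherianRing B' := Algebra.FiniteType.isNoetherianRing B B'
  haveI : IsNoetherianRing (Localization.AtPrime m) := IsLocalization.isNoetherianRing m.primeCompl (Localization.AtPrime m) inferInstance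
  haveI : IsDomain (Localization.AtPrime m) := IsLocalization.isDomain_localization m.primeCompl_le_nonZeroDivisors
  have hinjS : Function.Injective (algebraMap B' (Localization.AtPrime m)) :=
    IsLocalization.injective (Localization.AtPrime m) m.primeCompl_le_nonZeroDivisors
  have hyS : algebraMap B' (Localization.AtPrime m) y' ∈ maximalIdeal (Localization.AtPrime m) :=
    (IsLocalization.AtPrime.to_map_mem_maximal_iff (Localization.AtPrime m) m y').mpr hym
  have hS : ¬ IsField (Localization.AtPrime m) := by
    intro hfield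
    have h1 := hyS
    rw [IsLocalRing.isField_iff_maximalIdeal_eq.mp hfield, Ideal.mem_bot] at h1
    have : y' = 0 := hinjS (by rw [h1, map_zero])
    exact hy0 (congrArg Subtype.val this)
  obtain ⟨R, instR1, instR2, hRdvr, ρ, hρinj, hρnu⟩ := exists_dvr_local (Localization.AtPrime m) hS
  have hBB'inj : Function.Injective (algebraMap B B') := by
    intro a b hab
    apply IsFractionRing.injective B K
    exact congrArg Subtype.val hab
  let ψ' : B' →+* R := ρ.comp (algebraMap B' (Localization.AtPrime m))
  let ψ : B →+* R := ψ'.comp (algebraMap B B')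
  have hψinj : Function.Injective ψ := (hρinj.comp hinjS).comp hBB'inj
  have hrel : y' * algebraMap B B' u = algebraMap B B' v := by
    apply Subtype.ext
    change y * algebraMap B K u = algebraMap B K v
    rw [hy, hx, inv_div, div_mul_cancel₀ _ hu']
  have hnotunit : ¬ IsUnit (ψ' y') := hρnu _ hyS
  refine ⟨R, instR1, instR2, hRdvr, ψ, hψinj, ?_⟩
  rintro ⟨c, hc⟩
  have hψrel : ψ v = ψ' y' * ψ u := by
    change ψ' (algebraMap B B' v) = ψ' y' * ψ' (algebraMap B B' u)
    rw [← map_mul, hrel]
  have hψu : ψ u ≠ 0 := fun h => hu (hψinj (by rw [h, map_zero]))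
  apply hnotunit
  rw [hψrel] at hc
  have h1 : ψ u * (ψ' y' * c) = ψ u * 1 := by
    rw [mul_one]
    calc ψ u * (ψ' y' * c) = ψ' y' * ψ u * c := by ring
      _ = ψ u := hc.symm
  have h2 := mul_left_cancel₀ hψu h1
  exact IsUnit.of_mul_eq_one _ h2

end Groth.Agent.Lib.Helper67
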