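import Mathlib
import Groth.Prelude.Def_W4c1hilbchowincPtFun

/-!
# Pointwise functions on `Spec A` and the discrete-valuation-ring test (helper67)

* `ev A x : A →+* κ(x)`: evaluation at a point of `Spec A`.
* `ev_eq_zero_iff`, `exists_ev_eq_mul`: kernel and "fraction field" property of `ev`.
* `dvr_test`: a pointwise function varying algebraically along DVRs satisfies a divisibility
  test along every ring map `A → R` to a DVR.
-/

set_option autoImplicit false
universe u

open AlgebraicGeometry CategoryTheory W4c1hilbchowinc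

namespace Groth.Agent.Lib.Helper67

variable (A : Type u) [CommRing A]

/-- Evaluation at a point of `Spec A`, as a ring homomorphism from `A`. -/
noncomputable def ev (x : Spec (CommRingCat.of A)) :
    A →+* (Spec (CommRingCat.of A)).residueField x :=
  ((Scheme.ΓSpecIso (CommRingCat.of A)).inv ≫ (Spec (CommRingCat.of A)).Γevaluation x).hom

theorem ev_apply (x : Spec (CommRingCat.of A)) (a : A) :
    ev A x a = (Spec (CommRingCat.of A)).Γevaluation x ((Scheme.ΓSpecIso (CommRingCat.of A)).inv a) :=
  rfl

theorem Γevaluation_eq_ev (x : Spec (CommRingCat.of A)) (s : Γ(Spec (CommRingCat.of A), ⊤)) :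
    (Spec (CommRingCat.of A)).Γevaluation x s = ev A x ((Scheme.ΓSpecIso (CommRingCat.of A)).hom s) := by
  rw [ev_apply]
  congr 1
  exact (ConcreteCategory.congr_hom (Scheme.ΓSpecIso (CommRingCat.of A)).hom_inv_id s).symm

theorem ev_eq (x : Spec (CommRingCat.of A)) (a : A) :
    ev A x a = (Scheme.Spec.residueFieldIso (CommRingCat.of A) x).inv
      (algebraMap A x.asIdeal.ResidueField a) := by
  have h := Scheme.Spec.algebraMap_residueFieldIso_inv (CommRingCat.of A) x
  have h2 := ConcreteCategory.congr_hom h a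
  exact h2.symm

theorem ev_eq_zero_iff (x : Spec (CommRingCat.of A)) (a : A) :
    ev A x a = 0 ↔ a ∈ x.asIdeal := by
  rw [ev_eq]
  rw [map_eq_zero_iff _ ((Scheme.Spec.residueFieldIso (CommRingCat.of A) x).inv.hom.injective)]
  exact Ideal.algebraMap_residueField_eq_zero

theorem exists_ev_eq_mul (x : Spec (CommRingCat.of A))
    (ξ : (Spec (CommRingCat.of A)).residueField x) :
    ∃ a b : A, b ∉ x.asIdeal ∧ ev A x a = ξ * ev A x b := by
  let e := Scheme.Spec.residueFieldIso (CommRingCat.of A) x
  obtain ⟨l, hl⟩ := IsLocalRing.residue_surjective (e.hom ξ)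
  obtain ⟨a, b, rfl⟩ := IsLocalization.exists_mk'_eq x.asIdeal.primeCompl l
  refine ⟨a, b.1, b.2, ?_⟩
  have h1 : IsLocalization.mk' (Localization.AtPrime x.asIdeal) a b *
      algebraMap A (Localization.AtPrime x.asIdeal) b.1 =
      algebraMap A (Localization.AtPrime x.asIdeal) a := IsLocalization.mk'_spec _ a b
  have h2 := congrArg (IsLocalRing.residue (Localization.AtPrime x.asIdeal)) h1
  rw [map_mul, hl] at h2
  have h3 : ∀ c : A, IsLocalRing.residue (Localization.AtPrime x.asIdeal)
      (algebraMap A (Localization.AtPrime x.asIdeal) c) = algebraMap A x.asIdeal.ResidueField c :=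
    fun c => rfl
  rw [h3, h3] at h2
  rw [ev_eq, ev_eq, ← h2, map_mul]
  congr 1
  exact ConcreteCategory.congr_hom e.hom_inv_id ξ

variable {A}

/-- The DVR test: if `f` varies algebraically along DVRs, then for every ring map `ψ : A → R` to a
DVR there is `s : R` such that, at every point `y` of `Spec R` with image `x`, whenever
`f x = ev a / ev b` we have `ψ a ≡ s ψ b` modulo `y`. -/
theorem dvr_test (f : PtFun (Spec (CommRingCat.of A))) (hf : f.VariesAlongDVR)
    (R : Type u) [CommRing R] [IsDomain R] [IsDiscreteValuationRing R] (ψ : A →+* R) :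
    ∃ s : R, ∀ (y : Spec (CommRingCat.of R)) (x : Spec (CommRingCat.of A)),
      Spec.map (CommRingCat.ofHom ψ) y = x → ∀ a b : A, ev A x a = f x * ev A x b →
        ψ a - s * ψ b ∈ y.asIdeal := by
  obtain ⟨s0, hs0⟩ := hf R (Spec.map (CommRingCat.ofHom ψ))
  refine ⟨(Scheme.ΓSpecIso (CommRingCat.of R)).hom s0, ?_⟩
  intro y x hx a b hab
  subst hx
  have hy : (Spec (CommRingCat.of R)).Γevaluation y s0 =
      (Spec.map (CommRingCat.ofHom ψ)).residueFieldMap y (f (Spec.map (CommRingCat.ofHom ψ) y)) :=
    congrFun hs0 y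
  have hnat : ∀ c : A, (Spec.map (CommRingCat.ofHom ψ)).residueFieldMap y
      (ev A (Spec.map (CommRingCat.ofHom ψ) y) c) = ev R y (ψ c) := by
    intro c
    rw [ev_apply, Scheme.Γevaluation_naturality_apply, ev_apply]
    congr 1
    exact (ConcreteCategory.congr_hom
      (Scheme.ΓSpecIso_inv_naturality (CommRingCat.ofHom ψ)) c).symm
  have h1 := congrArg ((Spec.map (CommRingCat.ofHom ψ)).residueFieldMap y) hab
  rw [map_mul, hnat, hnat, ← hy, Γevaluation_eq_ev] at h1
  rw [← ev_eq_zero_iff, map_sub, map_mul, h1, sub_self]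

end Groth.Agent.Lib.Helper67
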