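import Mathlib
import Groth.Agent.Lib.Helper67.PtFunSpec
import Groth.Agent.Lib.Helper67.DVRIntegral
import Groth.Agent.Lib.Helper78.DVRScheme

/-!
# Pointwise functions varying algebraically along DVRs on a normal Noetherian affine scheme
(helper67)
-/

set_option autoImplicit false
universe u

open AlgebraicGeometry CategoryTheory W4c1hilbchowinc

namespace Groth.Agent.Lib.Helper67

theorem eq_of_forall_ev_eq (A : Type u) [CommRing A] [IsReduced A] (a a' : A)
    (h : ∀ x : Spec (CommRingCat.of A), ev A x a = ev A x a') : a = a' := by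
  rw [← sub_eq_zero]
  apply IsNilpotent.eq_zero
  rw [nilpotent_iff_mem_prime]
  intro J hJ
  have := h ⟨J, hJ⟩
  rw [← sub_eq_zero, ← map_sub, ev_eq_zero_iff] at this
  exact this

theorem eq_zero_of_forall_mem_minimalPrimes (A : Type u) [CommRing A] [IsReduced A] (w : A)
    (h : ∀ p ∈ minimalPrimes A, w ∈ p) : w = 0 := by
  have h1 : w ∈ sInf (minimalPrimes A) := by
    rw [Ideal.mem_sInf]
    intro p hp
    exact h p hp
  have h2 : sInf (minimalPrimes A) = (⊥ : Ideal A).radical := Ideal.sInf_minimalPrimes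
  rw [h2] at h1
  have h3 : IsNilpotent w := by
    obtain ⟨n, hn⟩ := h1
    exact ⟨n, by simpa using hn⟩
  exact h3.eq_zero

/-- Step 1: a pointwise function is a fraction `u / v` at all minimal primes simultaneously. -/
theorem exists_frac (A : Type u) [CommRing A] [IsReduced A] [IsNoetherianRing A]
    (f : PtFun (Spec (CommRingCat.of A))) :
    ∃ u v : A, v ∈ nonZeroDivisors A ∧ ∀ x : Spec (CommRingCat.of A),
      x.asIdeal ∈ minimalPrimes A → (v ∉ x.asIdeal ∧ ev A x u = f x * ev A x v) := by
  classical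
  have hfin : (minimalPrimes A).Finite := minimalPrimes.finite_of_isNoetherianRing A
  let M := {p : Ideal A // p ∈ minimalPrimes A}
  haveI : Finite M := hfin.to_subtype
  haveI : Fintype M := Fintype.ofFinite M
  have hprime : ∀ p : M, p.1.IsPrime := fun p => p.2.1.1
  let pt : M → Spec (CommRingCat.of A) := fun p => ⟨p.1, hprime p⟩
  have hab : ∀ p : M, ∃ a b : A, b ∉ p.1 ∧ ev A (pt p) a = f (pt p) * ev A (pt p) b :=
    fun p => exists_ev_eq_mul A (pt p) (f (pt p))
  choose a b hb hab using hab
  have hs : ∀ p : M, ∃ s : A, s ∉ p.1 ∧ ∀ p' : M, p' ≠ p → s ∈ p'.1 := by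
    intro p
    by_contra hcon
    push Not at hcon
    have hle : (Finset.univ.filter (fun p' : M => p' ≠ p)).inf (fun p' => p'.1) ≤ p.1 := by
      intro s hs
      by_contra hsp
      obtain ⟨p', hp', hsp'⟩ := hcon s hsp
      apply hsp'
      exact (Finset.inf_le (f := fun p' : M => p'.1)
        (Finset.mem_filter.mpr ⟨Finset.mem_univ p', hp'⟩)) hs
    obtain ⟨p', hp'mem, hp'le⟩ := (Ideal.IsPrime.inf_le' (hprime p)).mp hle
    have hne : p' ≠ p := (Finset.mem_filter.mp hp'mem).2
    have : p.1 ≤ p'.1 := p.2.2 ⟨hprime p', bot_le⟩ hp'le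
    exact hne (Subtype.ext (le_antisymm hp'le this))
  choose s hs1 hs2 using hs
  have hev0 : ∀ p p' : M, p' ≠ p → ev A (pt p) (s p') = 0 := by
    intro p p' hne
    rw [ev_eq_zero_iff]
    exact hs2 p' p (Ne.symm hne)
  have hsum : ∀ (c : M → A) (p : M), ev A (pt p) (∑ p', s p' * c p') =
      ev A (pt p) (s p) * ev A (pt p) (c p) := by
    intro c p
    rw [map_sum, Finset.sum_eq_single p]
    · rw [map_mul]
    · intro p' _ hne
      rw [map_mul, hev0 p p' hne, zero_mul]
    · intro h; exact absurd (Finset.mem_univ p) h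
  have hsne : ∀ p : M, ev A (pt p) (s p) ≠ 0 := fun p h =>
    hs1 p ((ev_eq_zero_iff A (pt p) (s p)).mp h)
  have hbne : ∀ p : M, ev A (pt p) (b p) ≠ 0 := fun p h =>
    hb p ((ev_eq_zero_iff A (pt p) (b p)).mp h)
  have hv : ∀ p : M, (∑ p', s p' * b p') ∉ p.1 := by
    intro p hmem
    have h0 := (ev_eq_zero_iff A (pt p) _).mpr hmem
    rw [hsum b p] at h0
    exact mul_ne_zero (hsne p) (hbne p) h0
  refine ⟨∑ p, s p * a p, ∑ p, s p * b p, ?_, ?_⟩
  · rw [mem_nonZeroDivisors_iff_right]
    intro w hw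
    apply eq_zero_of_forall_mem_minimalPrimes
    intro p hp
    have h1 : w * (∑ p', s p' * b p') ∈ p := by rw [hw]; exact Ideal.zero_mem _
    exact ((hprime ⟨p, hp⟩).mem_or_mem h1).resolve_right (hv ⟨p, hp⟩)
  · intro x hx
    refine ⟨hv ⟨x.asIdeal, hx⟩, ?_⟩
    have h1 := hsum a ⟨x.asIdeal, hx⟩
    have h2 := hsum b ⟨x.asIdeal, hx⟩
    have h3 := hab ⟨x.asIdeal, hx⟩
    change ev A x _ = ev A x _ * ev A x _ at h1
    change ev A x _ = ev A x _ * ev A x _ at h2
    change ev A x _ = f x * ev A x _ at h3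
    rw [h1, h2, h3]
    ring

theorem specMap_asIdeal {A R : Type u} [CommRing A] [CommRing R] (ψ : A →+* R)
    (y : Spec (CommRingCat.of R)) :
    ((Spec.map (CommRingCat.ofHom ψ)) y).asIdeal = Ideal.comap ψ y.asIdeal := rfl

/-- Step 2a: at a minimal prime `p`, the fraction `u / v` is integral over `A ⧸ p`. -/
theorem isIntegral_frac_quotient (A : Type u) [CommRing A] [IsNoetherianRing A]
    (f : PtFun (Spec (CommRingCat.of A))) (hf : f.VariesAlongDVR)
    (x : Spec (CommRingCat.of A)) (u v : A) (hv : v ∉ x.asIdeal)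
    (huv : ev A x u = f x * ev A x v) :
    IsIntegral (A ⧸ x.asIdeal)
      (algebraMap (A ⧸ x.asIdeal) (FractionRing (A ⧸ x.asIdeal)) (Ideal.Quotient.mk _ u) /
        algebraMap (A ⧸ x.asIdeal) (FractionRing (A ⧸ x.asIdeal)) (Ideal.Quotient.mk _ v)) := by
  by_contra hnot
  have hv0 : Ideal.Quotient.mk x.asIdeal v ≠ 0 := by
    rwa [Ne, Ideal.Quotient.eq_zero_iff_mem]
  obtain ⟨R, _, _, _, ψ₀, hψ₀, hndvd⟩ := exists_dvr_not_dvd (A ⧸ x.asIdeal) _ _ hv0 hnot
  obtain ⟨s, hs⟩ := dvr_test f hf R (ψ₀.comp (Ideal.Quotient.mk x.asIdeal))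
  have hy : Spec.map (CommRingCat.ofHom (ψ₀.comp (Ideal.Quotient.mk x.asIdeal)))
      (⟨⊥, Ideal.isPrime_bot⟩ : Spec (CommRingCat.of R)) = x := by
    apply PrimeSpectrum.ext
    rw [specMap_asIdeal]
    ext c
    rw [Ideal.mem_comap, Ideal.mem_bot, RingHom.comp_apply,
      map_eq_zero_iff _ hψ₀, Ideal.Quotient.eq_zero_iff_mem]
  have h1 := hs _ x hy u v huv
  rw [Ideal.mem_bot, sub_eq_zero] at h1
  apply hndvd
  exact ⟨s, by rw [mul_comm]; exact h1⟩

/-- Step 2: the values at the minimal primes come from a global section. -/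
theorem exists_section_minimal (A : Type u) [CommRing A] [IsReduced A] [IsNoetherianRing A]
    [IsIntegrallyClosed A]
    (f : PtFun (Spec (CommRingCat.of A))) (hf : f.VariesAlongDVR) :
    ∃ a : A, ∀ x : Spec (CommRingCat.of A), x.asIdeal ∈ minimalPrimes A → ev A x a = f x := by
  classical
  obtain ⟨u, v, hv, huv⟩ := exists_frac A f
  have hfin : (minimalPrimes A).Finite := minimalPrimes.finite_of_isNoetherianRing A
  let M := {p : Ideal A // p ∈ minimalPrimes A}
  haveI : Finite M := hfin.to_subtype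
  haveI : Fintype M := Fintype.ofFinite M
  have hprime : ∀ p : M, p.1.IsPrime := fun p => p.2.1.1
  set φ : FractionRing A := IsLocalization.mk' (FractionRing A) u ⟨v, hv⟩ with hφ
  have hφv : φ * algebraMap A (FractionRing A) v = algebraMap A (FractionRing A) u :=
    IsLocalization.mk'_spec _ u ⟨v, hv⟩
  -- the maps to the fraction fields of the quotients by minimal primes
  have hunit : ∀ (p : M) (t : nonZeroDivisors A),
      IsUnit ((Algebra.ofId A (FractionRing (A ⧸ p.1))) t) := by
    intro p t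
    haveI := hprime p
    have htp : (t : A) ∉ p.1 := fun h =>
      Set.disjoint_left.mp (Ideal.disjoint_nonZeroDivisors_of_mem_minimalPrimes p.2) h t.2
    have : algebraMap A (FractionRing (A ⧸ p.1)) t ≠ 0 := by
      rw [IsScalarTower.algebraMap_apply A (A ⧸ p.1) (FractionRing (A ⧸ p.1)), Ne,
        map_eq_zero_iff _ (IsFractionRing.injective (A ⧸ p.1) (FractionRing (A ⧸ p.1)))]
      rw [Ideal.Quotient.algebraMap_eq, Ideal.Quotient.eq_zero_iff_mem]
      exact htp
    exact IsUnit.mk0 _ this
  have hint : IsIntegral A φ := by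
    have hP : ∀ p : M, ∃ P : Polynomial A, P.Monic ∧
        (haveI := hprime p
         (IsLocalization.liftAlgHom (M := nonZeroDivisors A) (S := FractionRing A) (hunit p))
          (Polynomial.aeval φ P) = 0) := by
      intro p
      haveI := hprime p
      set θ := IsLocalization.liftAlgHom (M := nonZeroDivisors A) (S := FractionRing A) (hunit p)
        with hθ
      have hvp := (huv ⟨p.1, hprime p⟩ p.2).1
      have h1 := isIntegral_frac_quotient A f hf ⟨p.1, hprime p⟩ u v hvp
        (huv ⟨p.1, hprime p⟩ p.2).2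
      have h2 : IsIntegral A (θ φ) := by
        have h3 : θ φ = algebraMap (A ⧸ p.1) (FractionRing (A ⧸ p.1)) (Ideal.Quotient.mk _ u) /
            algebraMap (A ⧸ p.1) (FractionRing (A ⧸ p.1)) (Ideal.Quotient.mk _ v) := by
          have h4 := congrArg θ hφv
          rw [map_mul, AlgHom.commutes, AlgHom.commutes,
            IsScalarTower.algebraMap_apply A (A ⧸ p.1) (FractionRing (A ⧸ p.1)),
            IsScalarTower.algebraMap_apply A (A ⧸ p.1) (FractionRing (A ⧸ p.1)) u,
            Ideal.Quotient.algebraMap_eq] at h4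
          rw [eq_div_iff]
          · exact h4
          · rw [Ne, map_eq_zero_iff _ (IsFractionRing.injective (A ⧸ p.1) (FractionRing (A ⧸ p.1))),
              Ideal.Quotient.eq_zero_iff_mem]
            exact hvp
        rw [h3]
        exact isIntegral_trans _ h1
      obtain ⟨P, hPm, hP0⟩ := h2
      refine ⟨P, hPm, ?_⟩
      rw [← Polynomial.aeval_algHom_apply, Polynomial.aeval_def]
      exact hP0
    choose P hPm hP0 using hP
    refine ⟨∏ p, P p, Polynomial.monic_prod_of_monic _ _ (fun p _ => hPm p), ?_⟩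
    rw [← Polynomial.aeval_def, map_prod]
    set z := ∏ p, Polynomial.aeval φ (P p) with hz
    obtain ⟨w, t, hwt⟩ := IsLocalization.exists_mk'_eq (nonZeroDivisors A) z
    have hw : w = 0 := by
      apply eq_zero_of_forall_mem_minimalPrimes
      intro p hp
      haveI := hprime ⟨p, hp⟩
      have hzp : (IsLocalization.liftAlgHom (M := nonZeroDivisors A) (S := FractionRing A)
          (hunit ⟨p, hp⟩)) z = 0 := by
        rw [hz, map_prod]
        exact Finset.prod_eq_zero (Finset.mem_univ (⟨p, hp⟩ : M)) (hP0 ⟨p, hp⟩)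
      have h5 : z * algebraMap A (FractionRing A) t = algebraMap A (FractionRing A) w := by
        rw [← hwt]; exact IsLocalization.mk'_spec _ w t
      have h6 := congrArg (IsLocalization.liftAlgHom (M := nonZeroDivisors A)
        (S := FractionRing A) (hunit ⟨p, hp⟩)) h5
      rw [map_mul, hzp, zero_mul, AlgHom.commutes,
        IsScalarTower.algebraMap_apply A (A ⧸ p) (FractionRing (A ⧸ p)), eq_comm,
        map_eq_zero_iff _ (IsFractionRing.injective (A ⧸ p) (FractionRing (A ⧸ p))),
        Ideal.Quotient.algebraMap_eq, Ideal.Quotient.eq_zero_iff_mem] at h6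
      exact h6
    rw [← hwt, hw, IsLocalization.mk'_zero]
  obtain ⟨a, ha⟩ := IsIntegrallyClosed.algebraMap_eq_of_integral hint
  have hav : a * v = u := by
    apply IsFractionRing.injective A (FractionRing A)
    rw [map_mul, ha, hφv]
  refine ⟨a, fun x hx => ?_⟩
  obtain ⟨hvx, hx2⟩ := huv x hx
  have hne : ev A x v ≠ 0 := fun h => hvx ((ev_eq_zero_iff A x v).mp h)
  have h7 : ev A x a * ev A x v = f x * ev A x v := by
    rw [← map_mul, hav, hx2]
  exact mul_right_cancel₀ hne h7

/-- Step 3: the section found at the minimal primes has the right value at every point. -/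
theorem exists_section (A : Type u) [CommRing A] [IsReduced A] [IsNoetherianRing A]
    [IsIntegrallyClosed A]
    (f : PtFun (Spec (CommRingCat.of A))) (hf : f.VariesAlongDVR) :
    ∃ a : A, ∀ x : Spec (CommRingCat.of A), ev A x a = f x := by
  classical
  obtain ⟨a, ha⟩ := exists_section_minimal A f hf
  refine ⟨a, fun x => ?_⟩
  by_cases hx : x.asIdeal ∈ minimalPrimes A
  · exact ha x hx
  obtain ⟨p, hp, hpx⟩ := Ideal.exists_minimalPrimes_le (I := ⊥) (J := x.asIdeal) bot_le
  let x₀ : Spec (CommRingCat.of A) := ⟨p, hp.1.1⟩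
  have hsp : x₀ ⤳ x := (PrimeSpectrum.le_iff_specializes x₀ x).mp hpx
  have hne : x ≠ x₀ := by
    intro h
    apply hx
    rw [h]
    exact hp
  obtain ⟨R, h, hRdvr, hclosed, hcomm⟩ := Groth.Agent.Lib.Helper78.exists_dvr_specialization
    (𝟙 (Spec (CommRingCat.of A))) x₀ x hsp hne
  -- the ring map
  let ψ : A →+* R := (Spec.preimage h).hom
  have hψ : Spec.map (CommRingCat.ofHom ψ) = h := Spec.map_preimage h
  obtain ⟨s, hs⟩ := dvr_test f hf R ψ
  -- the generic point
  have hy₁ : Spec.map (CommRingCat.ofHom ψ) (⟨⊥, Ideal.isPrime_bot⟩ : Spec (CommRingCat.of R)) = x₀ := by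
    rw [hψ]
    have h1 : h (Spec.map (CommRingCat.ofHom R.subtype)
        (default : Spec ((Spec (CommRingCat.of A)).residueField x₀))) = x₀ := by
      have h0 := congrArg (fun g : Spec ((Spec (CommRingCat.of A)).residueField x₀) ⟶
        Spec (CommRingCat.of A) =>
          g (default : Spec ((Spec (CommRingCat.of A)).residueField x₀))) hcomm
      simp only [Category.comp_id] at h0
      rw [Scheme.Hom.comp_apply, Scheme.fromSpecResidueField_apply] at h0
      exact h0
    refine Eq.trans ?_ h1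
    congr 1
    apply PrimeSpectrum.ext
    rw [specMap_asIdeal]
    have h2 : (default : Spec ((Spec (CommRingCat.of A)).residueField x₀)).asIdeal = ⊥ :=
      Ideal.eq_bot_of_prime _
    rw [h2]
    exact (Ideal.comap_bot_of_injective _ Subtype.val_injective).symm
  have hy₀ : Spec.map (CommRingCat.ofHom ψ) (IsLocalRing.closedPoint R) = x := by
    rw [hψ]; exact hclosed
  have hs1 := hs _ x₀ hy₁ a 1 (by rw [ha x₀ hp, map_one, mul_one])
  rw [Ideal.mem_bot, map_one, mul_one, sub_eq_zero] at hs1
  obtain ⟨a', b', hb', hab'⟩ := exists_ev_eq_mul A x (f x)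
  have hs2 := hs _ x hy₀ a' b' hab'
  rw [← hs1, ← map_mul, ← map_sub, ← Ideal.mem_comap, ← specMap_asIdeal, hy₀,
    ← ev_eq_zero_iff, map_sub, map_mul, sub_eq_zero] at hs2
  have hne' : ev A x b' ≠ 0 := fun h0 => hb' ((ev_eq_zero_iff A x b').mp h0)
  have h3 : f x * ev A x b' = ev A x a * ev A x b' := by rw [← hab', hs2]
  exact (mul_right_cancel₀ hne' h3).symm

/-- **Main theorem**: on the spectrum of a reduced Noetherian ring integrally closed in its total
ring of fractions, a pointwise function varying algebraically along DVRs is the family of values of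
a unique global section. -/
theorem existsUnique_section_of_variesAlongDVR (A : Type u) [CommRing A] [IsReduced A]
    [IsNoetherianRing A] [IsIntegrallyClosed A]
    (f : PtFun (Spec (CommRingCat.of A))) (hf : f.VariesAlongDVR) :
    ∃! a : Γ(Spec (CommRingCat.of A), ⊤), PtFun.ofSection (Spec (CommRingCat.of A)) a = f := by
  obtain ⟨a₀, ha₀⟩ := exists_section A f hf
  refine ⟨(Scheme.ΓSpecIso (CommRingCat.of A)).inv a₀, ?_, ?_⟩
  · funext x
    exact ha₀ x
  · intro b hb
    have h1 : (Scheme.ΓSpecIso (CommRingCat.of A)).hom b = a₀ := by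
      apply eq_of_forall_ev_eq
      intro x
      rw [← Γevaluation_eq_ev, ha₀ x]
      exact congrFun hb x
    rw [← h1]
    exact (ConcreteCategory.congr_hom (Scheme.ΓSpecIso (CommRingCat.of A)).hom_inv_id b).symm

end Groth.Agent.Lib.Helper67
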