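import Groth.Agent.Lib.Helper17.HHLinFunct

/-!
# The full long exact cohomology sequence of `Coh.HH`, linearly (helper67)

Complements `Helper17.HHLinLES` (exactness at `H^i(X₃)`) with exactness at `H^i(X₂)` and at
`H^{i+1}(X₁)`, injectivity of `H^0(f)`, and the Euler characteristic bookkeeping.
-/

set_option autoImplicit false
universe u
open AlgebraicGeometry CategoryTheory Limits Opposite TopologicalSpace Abelian

namespace Groth.Agent.Lib.Helper67.HHLES

open Groth.Agent.Lib.Helper1 Groth.Agent.Lib.Helper17.HHLinLES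

variable (A : Type u) [CommRing A] {X : Scheme.{u}} [X.Over (Spec (CommRingCat.of A))]
variable {S : ShortComplex X.Modules} (hS : S.ShortExact)

include hS in
/-- `H^i(g) ∘ H^i(f) = 0` -/
theorem HHlin_g_comp_f (i : ℕ) (x : Coh.HH X S.X₁ i) :
    Canon.HHlin A S.g i (Canon.HHlin A S.f i x) = 0 := by
  have h := congrArg (fun φ => φ x) (HHlin_comp A S.f S.g i)
  simp only [LinearMap.comp_apply] at h
  rw [← h, S.zero, HHlin_zero]
  rfl

include hS in
/-- exactness at `H^i(X, S.X₂)`. -/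
theorem exists_of_HHlin_g_eq_zero (i : ℕ) (x : Coh.HH X S.X₂ i)
    (hx : Canon.HHlin A S.g i x = 0) :
    ∃ y : Coh.HH X S.X₁ i, Canon.HHlin A S.f i y = x := by
  have hS' := shortExact_map_toAbF hS
  let x' : Ext (Groth.Agent.S0459.cZ X.toTopCat) (S.map (toAbF X)).X₂ i := x
  have hx' : x'.comp (Ext.mk₀ (S.map (toAbF X)).g) (add_zero i) = 0 := hx
  obtain ⟨x₁, hx₁⟩ := Ext.covariant_sequence_exact₂ _ hS' x' hx'
  exact ⟨x₁, hx₁⟩

include hS in
theorem range_f_eq_ker_g (i : ℕ) :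
    LinearMap.range (Canon.HHlin A S.f i) = LinearMap.ker (Canon.HHlin A S.g i) := by
  apply le_antisymm
  · rintro x ⟨y, rfl⟩
    exact HHlin_g_comp_f A hS i y
  · intro x hx
    exact exists_of_HHlin_g_eq_zero A hS i x hx

/-- `H^{i+1}(f) ∘ δ = 0` -/
theorem HHlin_f_comp_delta (i : ℕ) (x : Coh.HH X S.X₃ i) :
    Canon.HHlin A S.f (i + 1) (deltaLin A hS i x) = 0 := by
  have hT := shortExact_map_toAbF hS
  change Sheaf.H.map ((S.map (toAbF X)).f) (i + 1) (deltaAb hT i x) = 0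
  rw [deltaAb_apply, Sheaf.H.map_apply]
  refine (Ext.comp_assoc _ _ _ (rfl : i + 1 = i + 1) (add_zero 1)
    (by omega : i + 1 + 0 = i + 1)).trans ?_
  rw [hT.extClass_comp, Ext.comp_zero]

/-- exactness at `H^{i+1}(X, S.X₁)`. -/
theorem exists_of_HHlin_f_eq_zero (i : ℕ) (x : Coh.HH X S.X₁ (i + 1))
    (hx : Canon.HHlin A S.f (i + 1) x = 0) :
    ∃ y : Coh.HH X S.X₃ i, deltaLin A hS i y = x := by
  have hS' := shortExact_map_toAbF hS
  let x' : Ext (Groth.Agent.S0459.cZ X.toTopCat) (S.map (toAbF X)).X₁ (i + 1) := x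
  have hx' : x'.comp (Ext.mk₀ (S.map (toAbF X)).f) (add_zero (i + 1)) = 0 := hx
  obtain ⟨x₃, hx₃⟩ := Ext.covariant_sequence_exact₁ _ hS' x' hx' (rfl : i + 1 = i + 1)
  exact ⟨x₃, hx₃⟩

theorem range_delta_eq_ker_f (i : ℕ) :
    LinearMap.range (deltaLin A hS i) = LinearMap.ker (Canon.HHlin A S.f (i + 1)) := by
  apply le_antisymm
  · rintro x ⟨y, rfl⟩
    exact HHlin_f_comp_delta A hS i y
  · intro x hx
    exact exists_of_HHlin_f_eq_zero A hS i x hx

include hS in
/-- `H^0(f)` is injective. -/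
theorem HHlin_f_zero_injective : Function.Injective (Canon.HHlin A S.f 0) := by
  have hT := shortExact_map_toAbF hS
  have : Mono (S.map (toAbF X)).f := hT.mono_f
  exact Ext.postcomp_mk₀_injective_of_mono (Groth.Agent.S0459.cZ X.toTopCat) (S.map (toAbF X)).f

end Groth.Agent.Lib.Helper67.HHLES
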