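import Groth.Agent.Lib.Helper11.GenLocusBasis
import Groth.Agent.Lib.Helper49.ClosedImmUnit

/-!
# `O_X ≅ i_* O_Z` for an isomorphism `i : Z ⟶ X` (helper67)
-/

set_option autoImplicit false
set_option linter.style.haveILetI false
universe u
open AlgebraicGeometry CategoryTheory Limits Opposite TopologicalSpace

namespace Groth.Agent.Lib.Helper67.PushUnit

open Groth.Agent.Lib.Helper11.GenLocus Groth.Agent.Lib.Helper49
open Groth.Agent.Lib.Helper49.ClosedImmUnit

variable {Z X : Scheme.{u}} (i : Z ⟶ X)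

/-- the unit section of `i_* O_Z` -/
noncomputable def oneSec : Γ((Scheme.Modules.pushforward i).obj (Coh.structureModule Z), ⊤) :=
  pushEquiv i (Coh.structureModule Z) ⊤ (toO (i ⁻¹ᵁ ⊤) 1)

/-- the canonical map `O_X ⟶ i_* O_Z` -/
noncomputable def pushUnitHom :
    Coh.structureModule X ⟶ (Scheme.Modules.pushforward i).obj (Coh.structureModule Z) :=
  homOfSection _ (oneSec i)

theorem pushUnitHom_app (U : X.Opens) (a : Γ(X, U)) :
    ((pushUnitHom i).app U).hom (toO U a) =
      pushEquiv i (Coh.structureModule Z) U (toO (i ⁻¹ᵁ U) ((i.app U).hom a)) := by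
  rw [app_eq_smul_sec, pushUnitHom, sec_homOfSection, oneSec]
  have h1 : mres ((Scheme.Modules.pushforward i).obj (Coh.structureModule Z)) (le_top : U ≤ ⊤)
      (pushEquiv i (Coh.structureModule Z) ⊤ (toO (i ⁻¹ᵁ ⊤) 1)) =
      pushEquiv i (Coh.structureModule Z) U (toO (i ⁻¹ᵁ U) 1) := by
    change ((Coh.structureModule Z).presheaf.map _).hom (toO (i ⁻¹ᵁ ⊤) 1) = toO (i ⁻¹ᵁ U) 1
    have h2 := toO_res (X := Z) (U := i ⁻¹ᵁ U) (V := i ⁻¹ᵁ ⊤) (fun z _ => trivial) 1
    rw [map_one] at h2
    exact h2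
  rw [h1, ← pushEquiv_smul, toO_smul, mul_one]

theorem isIso_pushUnitHom [IsIso i] : IsIso (pushUnitHom i) := by
  rw [Scheme.Modules.Hom.isIso_iff_isIso_app]
  intro U
  rw [Groth.Agent.Lib.Helper11.GenLocus.isIso_iff_bijective]
  have hbij : Function.Bijective (i.app U).hom :=
    ConcreteCategory.bijective_of_isIso (i.app U)
  constructor
  · intro a b hab
    have ha := pushUnitHom_app i U (ofO U a)
    have hb := pushUnitHom_app i U (ofO U b)
    rw [toO_ofO] at ha hb
    rw [ha, hb] at hab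
    have h3 : (i.app U).hom (ofO U a) = (i.app U).hom (ofO U b) := hab
    have h4 := hbij.1 h3
    calc a = toO U (ofO U a) := (toO_ofO U a).symm
      _ = toO U (ofO U b) := by rw [h4]
      _ = b := toO_ofO U b
  · intro y
    obtain ⟨a, ha⟩ := hbij.2 (ofO (i ⁻¹ᵁ U) ((pushEquiv i (Coh.structureModule Z) U).symm y))
    refine ⟨toO U a, ?_⟩
    rw [pushUnitHom_app, ha, toO_ofO]
    rfl

/-- `O_X ≅ i_* O_Z` for an isomorphism `i` -/
noncomputable def pushUnitIso [IsIso i] :
    Coh.structureModule X ≅ (Scheme.Modules.pushforward i).obj (Coh.structureModule Z) :=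
  haveI := isIso_pushUnitHom i
  asIso (pushUnitHom i)

end Groth.Agent.Lib.Helper67.PushUnit
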