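import Groth.Agent.Lib.Helper67.HHLES
import Groth.Prelude.Def_CurvBase

/-!
# Euler characteristic on schemes of cohomological dimension ≤ 1 over a field (helper67)

`IsGood k X F`: all `H^i(X, F)` are finite-dimensional and vanish for `i ≥ 2`.  For good modules
`χ = h⁰ - h¹` and `χ` is additive in short exact sequences.
-/

set_option autoImplicit false
universe u
open AlgebraicGeometry CategoryTheory Limits Opposite TopologicalSpace Abelian

namespace Groth.Agent.Lib.Helper67.EulerLES

open Groth.Agent.Lib.Helper1 Groth.Agent.Lib.Helper17.HHLinLES Groth.Agent.Lib.Helper67.HHLES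

section LinAlg

variable {k : Type*} [Field k] {A0 B0 C0 A1 B1 C1 : Type*}
  [AddCommGroup A0] [AddCommGroup B0] [AddCommGroup C0]
  [AddCommGroup A1] [AddCommGroup B1] [AddCommGroup C1]
  [Module k A0] [Module k B0] [Module k C0] [Module k A1] [Module k B1] [Module k C1]
  [FiniteDimensional k A0] [FiniteDimensional k B0] [FiniteDimensional k C0]
  [FiniteDimensional k A1] [FiniteDimensional k B1] [FiniteDimensional k C1]

theorem six_term (f0 : A0 →ₗ[k] B0) (g0 : B0 →ₗ[k] C0) (d : C0 →ₗ[k] A1) (f1 : A1 →ₗ[k] B1)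
    (g1 : B1 →ₗ[k] C1) (hf0 : Function.Injective f0)
    (h1 : LinearMap.range f0 = LinearMap.ker g0) (h2 : LinearMap.range g0 = LinearMap.ker d)
    (h3 : LinearMap.range d = LinearMap.ker f1) (h4 : LinearMap.range f1 = LinearMap.ker g1)
    (hg1 : Function.Surjective g1) :
    (Module.finrank k B0 : ℤ) - Module.finrank k B1 =
      ((Module.finrank k A0 : ℤ) - Module.finrank k A1) +
        ((Module.finrank k C0 : ℤ) - Module.finrank k C1) := by
  have e1 := LinearMap.finrank_range_add_finrank_ker f0
  have e2 := LinearMap.finrank_range_add_finrank_ker g0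
  have e3 := LinearMap.finrank_range_add_finrank_ker d
  have e4 := LinearMap.finrank_range_add_finrank_ker f1
  have e5 := LinearMap.finrank_range_add_finrank_ker g1
  have k1 : Module.finrank k (LinearMap.ker f0) = 0 := by
    rw [LinearMap.ker_eq_bot.mpr hf0]; exact finrank_bot k A0
  have r5 : Module.finrank k (LinearMap.range g1) = Module.finrank k C1 := by
    rw [LinearMap.range_eq_top.mpr hg1]; exact finrank_top k C1
  rw [h1] at e1
  rw [h2] at e2
  rw [h3] at e3
  rw [h4] at e4
  omega

end LinAlg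

variable (k : Type u) [Field k] (X : Scheme.{u}) [X.Over (Spec (CommRingCat.of k))]

/-- all cohomology groups finite-dimensional, vanishing in degrees `≥ 2` -/
def IsGood (F : X.Modules) : Prop :=
  (∀ i, Module.Finite k (Coh.HH X F i)) ∧ (∀ i, 2 ≤ i → Subsingleton (Coh.HH X F i))

variable {X}

theorem euler_eq {F : X.Modules} (hF : IsGood k X F) :
    Curv2.euler k X F =
      (Module.finrank k (Coh.HH X F 0) : ℤ) - Module.finrank k (Coh.HH X F 1) := by
  unfold Curv2.euler
  have hsupp : (Function.support fun i : ℕ =>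
      (-1 : ℤ) ^ i * (Module.finrank k (Coh.HH X F i) : ℤ)) ⊆ ((Finset.range 2 : Finset ℕ) : Set ℕ) := by
    intro i hi
    simp only [Finset.coe_range, Set.mem_Iio]
    by_contra hge
    push Not at hge
    haveI := hF.2 i hge
    apply hi
    simp [Module.finrank_zero_of_subsingleton]
  rw [finsum_eq_sum_of_support_subset _ hsupp]
  simp [Finset.sum_range_succ]
  ring

theorem isGood_of_iso {F G : X.Modules} (e : F ≅ G) (hF : IsGood k X F) : IsGood k X G := by
  have hlin : ∀ i, Coh.HH X F i ≃ₗ[k] Coh.HH X G i := fun i =>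
    LinearEquiv.ofLinear (Canon.HHlin k e.hom i) (Canon.HHlin k e.inv i)
      (by rw [← HHlin_comp, e.inv_hom_id, HHlin_id])
      (by rw [← HHlin_comp, e.hom_inv_id, HHlin_id])
  refine ⟨fun i => ?_, fun i hi => ?_⟩
  · haveI := hF.1 i
    exact Module.Finite.equiv (hlin i)
  · haveI := hF.2 i hi
    exact (hlin i).symm.toEquiv.subsingleton

variable {S : ShortComplex X.Modules} (hS : S.ShortExact)

include hS in
theorem isGood_X₂ (h1 : IsGood k X S.X₁) (h3 : IsGood k X S.X₃) : IsGood k X S.X₂ := by
  refine ⟨fun i => ?_, fun i hi => ?_⟩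
  · haveI := h1.1 i
    haveI := h3.1 i
    have hN : IsNoetherian k (Coh.HH X S.X₂ i) :=
      isNoetherian_of_range_eq_ker (Canon.HHlin k S.f i) (Canon.HHlin k S.g i)
        (range_f_eq_ker_g k hS i)
    infer_instance
  · exact subsingleton_HH_of_shortExact hS i (h1.2 i hi) (h3.2 i hi)

include hS in
theorem euler_additive (h1 : IsGood k X S.X₁) (h2 : IsGood k X S.X₂) (h3 : IsGood k X S.X₃) :
    Curv2.euler k X S.X₂ = Curv2.euler k X S.X₁ + Curv2.euler k X S.X₃ := by
  rw [euler_eq k h1, euler_eq k h2, euler_eq k h3]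
  haveI := h1.1 0
  haveI := h1.1 1
  haveI := h2.1 0
  haveI := h2.1 1
  haveI := h3.1 0
  haveI := h3.1 1
  refine six_term (Canon.HHlin k S.f 0) (Canon.HHlin k S.g 0) (deltaLin k hS 0)
    (Canon.HHlin k S.f 1) (Canon.HHlin k S.g 1) (HHlin_f_zero_injective k hS)
    (range_f_eq_ker_g k hS 0) (range_eq_ker k hS 0) (range_delta_eq_ker_f k hS 0)
    (range_f_eq_ker_g k hS 1) ?_
  intro x
  haveI := h1.2 2 le_rfl
  exact exists_of_deltaLin_eq_zero k hS 1 x (Subsingleton.elim _ _)

end Groth.Agent.Lib.Helper67.EulerLES
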