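import Groth.Agent.Lib.Lead.PushEdge
import Groth.Agent.S0028

/-!
# The edge map `H^p(Y, f_* G) → H^p(X, G)` for an affine morphism is a linear isomorphism
-/

set_option autoImplicit false
universe u
open CategoryTheory CategoryTheory.Limits AlgebraicGeometry TopologicalSpace Opposite Abelian

namespace Groth.Agent.Lib.Helper67.AffPush

open Groth.Agent.Lib.Lead CohPull

variable {X Y : Scheme.{u}} (f : X ⟶ Y)

section Bij

variable [IsAffineHom f] (G : X.Modules) [G.IsQuasicoherent]

/-- for an affine morphism and a quasi-coherent module the edge map is bijective in all degrees -/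
theorem pushEdge_bijective (p : ℕ) : Function.Bijective (pushEdge f G p) := by
  have hb := ExtAdj.Φ_bijective (invPushAdj f.base) (oneTo f.base) p (Coh.toAb G)
    (fun q => Groth.Agent.S0028.result f G (q + 1) (Nat.succ_pos q))
  have h : ⇑(pushEdge f G p) = ⇑(ExtAdj.Φ (invPushAdj f.base) (oneTo f.base) (Coh.toAb G) p) :=
    funext (PushEdge.pushEdge_eq_Φ f G p)
  rw [h]
  exact hb

end Bij

section Lin

variable (G : X.Modules)

/-- pullback of global functions, between the prelude's `Coh.Γtop` -/
noncomputable def pullTop : Coh.Γtop Y →+* Coh.Γtop X := f.appTop.hom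

theorem resTop_pullTop (ρ : Coh.Γtop Y) (U : (Opens Y)ᵒᵖ) :
    Coh.resTop X (op (f ⁻¹ᵁ U.unop)) (pullTop f ρ) = (f.app U.unop).hom (Coh.resTop Y U ρ) := by
  have h := f.naturality (homOfLE (le_top : U.unop ≤ ⊤)).op
  have h2 := congrArg (fun φ => (CommRingCat.Hom.hom φ) ρ) h
  exact h2.symm

/-- pushing forward multiplication by `f^♯ ρ` gives multiplication by `ρ` -/
theorem push_map_smulAb (ρ : Coh.Γtop Y) :
    (CohTop.push f.base).map (Coh.smulAb G (pullTop f ρ)) =
      Coh.smulAb ((Scheme.Modules.pushforward f).obj G) ρ := by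
  apply Sheaf.hom_ext
  ext U m
  change (Coh.smulAb G (pullTop f ρ)).hom.app (op (f ⁻¹ᵁ U.unop)) m =
    (Coh.smulAb ((Scheme.Modules.pushforward f).obj G) ρ).hom.app U m
  rw [Coh.smulAb_app, Coh.smulAb_app, resTop_pullTop]
  rfl

/-- the edge map is semilinear over global functions -/
theorem pushEdge_smul (ρ : Coh.Γtop Y) (p : ℕ)
    (y : Coh.HH Y ((Scheme.Modules.pushforward f).obj G) p) :
    pushEdge f G p (ρ • y) = pullTop f ρ • pushEdge f G p y := by
  rw [PushEdge.pushEdge_eq_Φ, PushEdge.pushEdge_eq_Φ]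
  change ExtAdj.Φ (invPushAdj f.base) (oneTo f.base) (Coh.toAb G) p
      (Sheaf.H.map (Coh.smulAb ((Scheme.Modules.pushforward f).obj G) ρ) p y) =
    Sheaf.H.map (Coh.smulAb G (pullTop f ρ)) p
      (ExtAdj.Φ (invPushAdj f.base) (oneTo f.base) (Coh.toAb G) p y)
  rw [Sheaf.H.map_apply, Sheaf.H.map_apply, ← push_map_smulAb]
  exact ExtAdj.Φ_naturality (invPushAdj f.base) (oneTo f.base) (Coh.smulAb G (pullTop f ρ)) p y

end Lin

section Over

variable (A : Type u) [CommRing A] [X.Over (Spec (CommRingCat.of A))]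
  [Y.Over (Spec (CommRingCat.of A))]
  (hf : f ≫ (Y ↘ Spec (CommRingCat.of A)) = X ↘ Spec (CommRingCat.of A))
  (G : X.Modules)

include hf in
theorem pullTop_toGlobal (a : A) :
    pullTop f (Coh.toGlobal (Y ↘ Spec (CommRingCat.of A)) a) =
      Coh.toGlobal (X ↘ Spec (CommRingCat.of A)) a := by
  have h : (X ↘ Spec (CommRingCat.of A)).appTop =
      (Y ↘ Spec (CommRingCat.of A)).appTop ≫ f.appTop := by
    rw [← hf]
    exact Scheme.Hom.comp_appTop _ _
  have h2 := congrArg (fun φ => (CommRingCat.Hom.hom φ)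
    ((Scheme.ΓSpecIso (CommRingCat.of A)).inv.hom a)) h
  exact h2.symm

include hf in
theorem pushEdge_smul_over (a : A) (p : ℕ)
    (y : Coh.HH Y ((Scheme.Modules.pushforward f).obj G) p) :
    pushEdge f G p (a • y) = a • pushEdge f G p y := by
  change pushEdge f G p (Coh.toGlobal (Y ↘ Spec (CommRingCat.of A)) a • y) =
    Coh.toGlobal (X ↘ Spec (CommRingCat.of A)) a • pushEdge f G p y
  rw [pushEdge_smul, pullTop_toGlobal f A hf]

/-- the edge map as an `A`-linear map -/
noncomputable def pushEdgeLin (p : ℕ) :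
    Coh.HH Y ((Scheme.Modules.pushforward f).obj G) p →ₗ[A] Coh.HH X G p where
  toFun := pushEdge f G p
  map_add' := map_add _
  map_smul' a y := pushEdge_smul_over f A hf G a p y

variable [IsAffineHom f] [G.IsQuasicoherent]

/-- for an affine morphism over `Spec A` and a quasi-coherent module, the edge map is an
`A`-linear isomorphism -/
noncomputable def pushEdgeEquiv (p : ℕ) :
    Coh.HH Y ((Scheme.Modules.pushforward f).obj G) p ≃ₗ[A] Coh.HH X G p :=
  LinearEquiv.ofBijective (pushEdgeLin f A hf G p) (pushEdge_bijective f G p)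

include hf in
theorem finite_HH_of_finite_push (p : ℕ)
    (h : Module.Finite A (Coh.HH Y ((Scheme.Modules.pushforward f).obj G) p)) :
    Module.Finite A (Coh.HH X G p) :=
  Module.Finite.equiv (pushEdgeEquiv f A hf G p)

theorem subsingleton_HH_of_subsingleton_push (p : ℕ)
    (h : Subsingleton (Coh.HH Y ((Scheme.Modules.pushforward f).obj G) p)) :
    Subsingleton (Coh.HH X G p) :=
  (pushEdge_bijective f G p).surjective.subsingleton

end Over

end Groth.Agent.Lib.Helper67.AffPush
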