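import Groth.Agent.Lib.Helper67.SmCurve14

/-!
# Line subbundles of vector bundles on a regular proper integral curve (helper67)
-/

set_option autoImplicit false
set_option linter.style.haveILetI false
universe u
open AlgebraicGeometry CategoryTheory Limits Opposite TopologicalSpace Abelian

namespace Groth.Agent.Lib.Helper67.SmCurve

open Groth.Agent.Lib.Helper67.CurveDeg Groth.Agent.Lib.Helper67.CurveCoh
open Groth.Agent.Lib.Helper67.TensRank Groth.Agent.Lib.Helper67.CurveInv
open Groth.Agent.Lib.Helper67.CurveTors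
open Groth.Agent.Lib.Helper49 Groth.Agent.Lib.Helper18.LimFinLocFree

variable (k : Type u) [Field k] (X : Scheme.{u}) [X.Over (Spec (CommRingCat.of k))]
  [IsIntegral X] [IsProper (X ↘ Spec (CommRingCat.of k))]
  (hreg : ∀ x : X, IsRegularLocalRing (X.presheaf.stalk x))
  (hdim : topologicalKrullDim X ≤ 1)

include k hreg hdim in
/-- a map from a coherent module of generic rank zero to a locally free module vanishes -/
theorem hom_eq_zero_of_rk_zero {C F : X.Modules} {s : ℕ} (hC : Coh.IsCoh C) (hrk : rk C = 0)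
    (hF : FlatMod.IsFinLocFreeOfRank s F) (ψ : C ⟶ F) : ψ = 0 := by
  have hFc := isCoh_of_rank hF
  have hKq : (kernel ψ).IsQuasicoherent := isQuasicoherent_kernel ψ hC.1 hFc.1
  have hIq : (Abelian.coimage ψ).IsQuasicoherent :=
    isQuasicoherent_cokernel (kernel.ι ψ) hKq hC.1
  have hI := sub_rank k X hreg hdim (Abelian.factorThruCoimage ψ) (isFinLocFree_of_rank hF) hIq
  have hS := shortExact_ker_coim X ψ
  have h1 := rk_additive hS hC
  change rk C = rk (kernel ψ) + rk (Abelian.coimage ψ) at h1
  have h0 : rk (Abelian.coimage ψ) = 0 := by omega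
  rw [h0] at hI
  have hz := isZero_of_rank_zero hI
  rw [← Abelian.coimage.fac ψ, hz.eq_of_tgt (Abelian.coimage.π ψ) 0, zero_comp]

include hdim in
/-- a nonzero map of locally free modules of rank one increases the degree, and is an isomorphism
if the degrees agree -/
theorem deg_le_of_ne_zero {N M : X.Modules} (hN : FlatMod.IsFinLocFreeOfRank 1 N)
    (hM : FlatMod.IsFinLocFreeOfRank 1 M) (φ : N ⟶ M) (hφ : φ ≠ 0) :
    Curv2.deg k X N 1 ≤ Curv2.deg k X M 1 ∧
      (Curv2.deg k X N 1 = Curv2.deg k X M 1 → IsIso φ) := by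
  have hbij := stalkMap_generic_bijective_of_ne_zero hN hM φ hφ
  haveI : Mono φ := mono_of_stalkMap_generic_injective (isFinLocFree_of_rank hN) φ hbij.1
  exact deg_le_of_mono_same_rank k X hdim hN hM φ

include k hreg hdim in
/-- a saturated submodule `N ⊂ E` contained in a submodule `L ⊂ E` of the same rank equals it -/
theorem isIso_of_factor_of_saturated {N L E : X.Modules} {n s : ℕ}
    (hN : FlatMod.IsFinLocFreeOfRank n N) (hL : FlatMod.IsFinLocFreeOfRank n L)
    (i : L ⟶ E) [Mono i] (j : N ⟶ E) [Mono j]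
    (hq : FlatMod.IsFinLocFreeOfRank s (cokernel j)) (c : N ⟶ L) (hc : c ≫ i = j) : IsIso c := by
  haveI : Mono c := by
    haveI : Mono (c ≫ i) := by rw [hc]; infer_instance
    exact mono_of_mono c i
  have hNc := isCoh_of_rank hN
  have hLc := isCoh_of_rank hL
  have hCc : Coh.IsCoh (cokernel c) :=
    ⟨isQuasicoherent_cokernel c hNc.1 hLc.1, isFiniteType_of_epi (cokernel.π c) hLc.2⟩
  have hS : (ShortComplex.mk c (cokernel.π c) (cokernel.condition c)).ShortExact :=
    ⟨ShortComplex.exact_of_g_is_cokernel _ (cokernelIsCokernel _)⟩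
  have h1 := rk_additive hS hLc
  change rk L = rk N + rk (cokernel c) at h1
  rw [rk_eq_of_rank hL, rk_eq_of_rank hN] at h1
  have h0 : rk (cokernel c) = 0 := by omega
  have hw : c ≫ i ≫ cokernel.π j = 0 := by
    rw [← Category.assoc, hc, cokernel.condition]
  have hψ := hom_eq_zero_of_rk_zero k X hreg hdim hCc h0 hq (cokernel.desc c (i ≫ cokernel.π j) hw)
  have h2 : i ≫ cokernel.π j = 0 := by
    rw [← cokernel.π_desc c (i ≫ cokernel.π j) hw, hψ, comp_zero]
  set d : L ⟶ N := Abelian.monoLift j i h2 with hd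
  have hdj : d ≫ j = i := Abelian.monoLift_comp j i h2
  refine ⟨d, ?_, ?_⟩
  · rw [← cancel_mono j, Category.assoc, hdj, hc, Category.id_comp]
  · rw [← cancel_mono i, Category.assoc, hc, hdj, Category.id_comp]

end Groth.Agent.Lib.Helper67.SmCurve
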