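import Groth.Agent.Lib.Helper67.RegSeqArtinLocal
import Mathlib.Tactic

/-!
* `le_of_le_sup_smul` : nilpotent Nakayama in the form `K ≤ K' ⊔ I • K → K ≤ K'` over an Artinian
  local ring.
* `mem_smul_ker_of_flat` : if `ψ : P → B` is a surjection onto a flat module, then
  `ker ψ ∩ I P = I ker ψ`.
-/

namespace Groth.Agent.Lib.Helper67

open IsLocalRing Submodule

section nak

variable {R : Type*} [CommRing R] [IsLocalRing R] [IsArtinianRing R]
variable {M : Type*} [AddCommGroup M] [Module R M]

theorem le_of_le_sup_smul (I : Ideal R) (hI : I ≠ ⊤) (K' K : Submodule R M)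
    (h : K ≤ K' ⊔ I • K) : K ≤ K' := by
  obtain ⟨N, hN⟩ : ∃ N : ℕ, maximalIdeal R ^ N = ⊥ := by
    have h := IsArtinianRing.isNilpotent_jacobson_bot (R := R)
    rw [jacobson_eq_maximalIdeal (⊥ : Ideal R) bot_ne_top] at h
    exact h
  have hIN : I ^ N = ⊥ := by
    rw [eq_bot_iff, ← hN]
    exact Ideal.pow_right_mono (le_maximalIdeal hI) N
  have hpow : ∀ n : ℕ, K ≤ K' ⊔ I ^ n • K := by
    intro n
    induction n with
    | zero => simp
    | succ n ih =>
      calc K ≤ K' ⊔ I • K := h
        _ ≤ K' ⊔ I • (K' ⊔ I ^ n • K) := sup_le_sup_left (Submodule.smul_mono le_rfl ih) _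
        _ = K' ⊔ (I • K' ⊔ I • (I ^ n • K)) := by rw [Submodule.smul_sup]
        _ ≤ K' ⊔ I ^ (n + 1) • K := by
          rw [← Submodule.mul_smul, ← pow_succ']
          refine sup_le le_sup_left (sup_le ?_ le_sup_right)
          exact le_trans Submodule.smul_le_right le_sup_left
  have := hpow N
  rwa [hIN, Submodule.bot_smul, sup_bot_eq] at this

end nak

section tor

variable {R : Type*} [CommRing R] {P B : Type*} [AddCommGroup P] [Module R P]
  [AddCommGroup B] [Module R B] [Module.Flat R B]

theorem mem_smul_ker_of_flat (ψ : P →ₗ[R] B) (hψ : Function.Surjective ψ) (I : Ideal R)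
    (q : P) (hq : q ∈ I • (⊤ : Submodule R P)) (hψq : ψ q = 0) :
    q ∈ I • LinearMap.ker ψ := by
  classical
  have htop : (⊤ : Submodule R P) = Submodule.span R (Set.range (id : P → P)) := by
    simp
  rw [htop, Submodule.mem_ideal_smul_span_iff_exists_sum] at hq
  obtain ⟨a, haI, hsum⟩ := hq
  have hsum' : ∑ l : a.support, a l • (l : P) = q := by
    rw [← hsum, Finsupp.sum]
    exact Finset.sum_coe_sort a.support (fun l => a l • (id l : P))
  have hrel : ∑ l : a.support, (fun l : a.support => a l) l • (fun l : a.support => ψ l) l = 0 := by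
    simp only
    rw [← hψq, ← hsum', map_sum]
    exact Finset.sum_congr rfl fun l _ => (map_smul ψ _ _).symm
  obtain ⟨n, c, y, hxy, hc⟩ := Module.Flat.isTrivialRelation_of_sum_smul_eq_zero hrel
  choose r hr using fun j => hψ (y j)
  have hk : ∀ l : a.support, (l : P) - ∑ j, c l j • r j ∈ LinearMap.ker ψ := by
    intro l
    have h1 : ψ (l : P) = ∑ j, c l j • y j := hxy l
    rw [LinearMap.mem_ker, map_sub, map_sum, h1, sub_eq_zero]
    exact Finset.sum_congr rfl fun j _ => by rw [map_smul, hr]
  have hq' : q = ∑ l : a.support, a l • ((l : P) - ∑ j, c l j • r j) := by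
    have h2 : ∑ l : a.support, a l • ∑ j, c l j • r j = 0 := by
      simp_rw [Finset.smul_sum, smul_smul]
      rw [Finset.sum_comm]
      refine Finset.sum_eq_zero fun j _ => ?_
      rw [← Finset.sum_smul, hc j, zero_smul]
    simp_rw [smul_sub]
    rw [Finset.sum_sub_distrib, h2, sub_zero, hsum']
  rw [hq']
  exact Submodule.sum_mem _ fun l _ => Submodule.smul_mem_smul (haI l) (hk l)

end tor

end Groth.Agent.Lib.Helper67
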