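import Groth.Agent.Lib.Helper67.FlatArtinLocal
import Mathlib.RingTheory.Regular.RegularSequence
import Mathlib.RingTheory.QuotSMulTop
import Mathlib.LinearAlgebra.Isomorphisms
import Mathlib.Tactic

/-!
Regular sequences on modules flat over an Artinian local ring `R`: regularity can be tested
modulo a proper ideal `I` of `R`, and the quotient by a regular sequence stays flat.
-/

namespace Groth.Agent.Lib.Helper67

open IsLocalRing RingTheory.Sequence Submodule
open scoped Pointwise

section general

variable {R : Type*} [CommRing R] {S : Type*} [CommRing S] [Algebra R S]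
variable (I : Ideal R)

/-- The submodule `I M` of an `S`-module `M`, for an ideal `I` of the base ring `R`. -/
abbrev baseSMulTop (M : Type*) [AddCommGroup M] [Module S M] : Submodule S M :=
  (I.map (algebraMap R S)) • (⊤ : Submodule S M)

variable {M : Type*} [AddCommGroup M] [Module S M] [Module R M] [IsScalarTower R S M]

lemma mem_baseSMulTop_iff (x : M) :
    x ∈ baseSMulTop (S := S) I M ↔ x ∈ I • (⊤ : Submodule R M) := by
  have h := Ideal.smul_restrictScalars (R := R) (S := S) I (⊤ : Submodule S M)
  rw [Submodule.restrictScalars_top] at h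
  rw [← h]
  rfl

/-- Multiplication by `r : S` as an `R`-linear endomorphism. -/
noncomputable def smulEnd (r : S) : M →ₗ[R] M :=
  (LinearMap.lsmul S M r).restrictScalars R

@[simp] lemma smulEnd_apply (r : S) (x : M) : smulEnd (R := R) r x = r • x := rfl

lemma isSMulRegular_iff_regMod_bot (r : S) :
    IsSMulRegular M r ↔ RegMod (smulEnd (R := R) r : M →ₗ[R] M) ⊥ := by
  rw [isSMulRegular_iff_right_eq_zero_of_smul]
  simp only [RegMod, Submodule.bot_smul, Submodule.mem_bot, smulEnd_apply]

lemma isSMulRegular_quot_iff_regMod (r : S) :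
    IsSMulRegular (M ⧸ baseSMulTop (S := S) I M) r ↔
      RegMod (smulEnd (R := R) r : M →ₗ[R] M) I := by
  rw [isSMulRegular_quotient_iff_mem_of_smul_mem]
  simp only [RegMod, smulEnd_apply, mem_baseSMulTop_iff]

/-- Swapping the two quotients. -/
noncomputable def quotSwap (𝔞 : Ideal S) (r : S) (M : Type*) [AddCommGroup M] [Module S M] :
    (QuotSMulTop r M ⧸ (𝔞 • ⊤ : Submodule S (QuotSMulTop r M))) ≃ₗ[S]
      QuotSMulTop r (M ⧸ (𝔞 • ⊤ : Submodule S M)) :=
  (quotEquivOfEq _ _ (by rw [map_smul'', Submodule.map_top, range_mkQ]) ≪≫ₗ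
    quotientQuotientEquivQuotientSup (r • (⊤ : Submodule S M)) (𝔞 • (⊤ : Submodule S M))) ≪≫ₗ
  (quotEquivOfEq _ _ (sup_comm _ _)) ≪≫ₗ
  ((quotientQuotientEquivQuotientSup (𝔞 • (⊤ : Submodule S M)) (r • (⊤ : Submodule S M))).symm ≪≫ₗ
    quotEquivOfEq _ _ (by rw [map_pointwise_smul, Submodule.map_top, range_mkQ]))

end general

section artin

variable {R : Type*} [CommRing R] [IsLocalRing R] [IsArtinianRing R]
variable {S : Type*} [CommRing S] [Algebra R S]

/-- Nilpotent Nakayama. -/
lemma subsingleton_of_smul_top_eq_top (I : Ideal R) (hI : I ≠ ⊤) (M : Type*) [AddCommGroup M]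
    [Module R M] (h : I • (⊤ : Submodule R M) = ⊤) : Subsingleton M := by
  obtain ⟨N, hN⟩ : ∃ N : ℕ, maximalIdeal R ^ N = ⊥ := by
    have h := IsArtinianRing.isNilpotent_jacobson_bot (R := R)
    rw [jacobson_eq_maximalIdeal (⊥ : Ideal R) bot_ne_top] at h
    exact h
  have hIN : I ^ N = ⊥ := by
    rw [eq_bot_iff, ← hN]
    exact Ideal.pow_right_mono (le_maximalIdeal hI) N
  have hpow : ∀ n : ℕ, I ^ n • (⊤ : Submodule R M) = ⊤ := by
    intro n
    induction n with
    | zero => simp
    | succ n ih => rw [pow_succ, Submodule.mul_smul, h, ih]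
  have := hpow N
  rw [hIN, Submodule.bot_smul] at this
  exact (Submodule.subsingleton_iff R).mp (subsingleton_of_bot_eq_top this)

variable (I : Ideal R) (hI : I ≠ ⊤)

include hI in
lemma nontrivial_quot_baseSMulTop (M : Type*) [AddCommGroup M] [Module S M] [Module R M]
    [IsScalarTower R S M] [Nontrivial M] : Nontrivial (M ⧸ baseSMulTop (S := S) I M) := by
  rw [Submodule.Quotient.nontrivial_iff]
  intro h
  have h2 : I • (⊤ : Submodule R M) = ⊤ := by
    rw [eq_top_iff]
    intro x _
    rw [← mem_baseSMulTop_iff (S := S), h]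
    exact Submodule.mem_top
  have := subsingleton_of_smul_top_eq_top I hI M h2
  exact not_subsingleton M this

lemma flat_quotSMulTop {M : Type*} [AddCommGroup M] [Module S M] [Module R M]
    [IsScalarTower R S M] [Module.Flat R M] (r : S) (hr : IsSMulRegular M r) :
    Module.Flat R (QuotSMulTop r M) := by
  have hreg : ∀ J : Ideal R, RegMod (smulEnd (R := R) r : M →ₗ[R] M) J := fun J =>
    regMod_of_regMod_maximalIdeal _
      (regMod_maximalIdeal_of_regMod _ ⊥ bot_ne_top
        ((isSMulRegular_iff_regMod_bot (R := R) r).mp hr)) J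
  refine flat_of_regMod (smulEnd (R := R) r : M →ₗ[R] M)
    ((mkQ (r • (⊤ : Submodule S M))).restrictScalars R) ?_ ?_ ?_ hreg
  · intro x
    obtain ⟨y, hy⟩ := mkQ_surjective (r • (⊤ : Submodule S M)) x
    exact ⟨y, hy⟩
  · intro s hs
    have hs0 : (Submodule.Quotient.mk s : M ⧸ r • (⊤ : Submodule S M)) = 0 := hs
    have hs' : s ∈ r • (⊤ : Submodule S M) := (Submodule.Quotient.mk_eq_zero _).mp hs0
    obtain ⟨t, -, ht⟩ := (Submodule.mem_smul_pointwise_iff_exists _ _ _).mp hs'
    exact ⟨t, ht.symm⟩
  · intro t
    have h0 : (Submodule.Quotient.mk (r • t) : M ⧸ r • (⊤ : Submodule S M)) = 0 :=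
      (Submodule.Quotient.mk_eq_zero _).mpr
        (Submodule.smul_mem_pointwise_smul t r ⊤ Submodule.mem_top)
    exact h0

include hI in
/-- Main theorem: regularity of a sequence on a module flat over `R` can be tested modulo `I`,
and the quotient by a regular sequence is flat over `R`. -/
theorem isRegular_iff_and_flat.{w} (rs : List S) :
    ∀ (M : Type w) [AddCommGroup M] [Module S M] [Module R M] [IsScalarTower R S M]
      [Module.Flat R M],
      (IsRegular M rs ↔ IsRegular (M ⧸ baseSMulTop (S := S) I M) rs) ∧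
      (IsRegular M rs → Module.Flat R (M ⧸ (Ideal.ofList rs • ⊤ : Submodule S M))) := by
  induction rs with
  | nil =>
    intro M _ _ _ _ _
    refine ⟨⟨fun h => ?_, fun h => ?_⟩, fun _ => ?_⟩
    · haveI := h.nontrivial
      have := nontrivial_quot_baseSMulTop (S := S) I hI M
      exact IsRegular.nil S _
    · haveI := h.nontrivial
      have : Nontrivial M := (mkQ_surjective (baseSMulTop (S := S) I M)).nontrivial
      exact IsRegular.nil S _
    · have hbot : (Ideal.ofList ([] : List S) • ⊤ : Submodule S M) = ⊥ := by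
        rw [Ideal.ofList_nil, Submodule.bot_smul]
      exact Module.Flat.of_linearEquiv
        ((quotEquivOfEqBot _ hbot).restrictScalars R)
  | cons r rs ih =>
    intro M _ _ _ _ _
    have key : IsSMulRegular M r ↔ IsSMulRegular (M ⧸ baseSMulTop (S := S) I M) r := by
      rw [isSMulRegular_iff_regMod_bot (R := R), isSMulRegular_quot_iff_regMod (R := R)]
      exact regMod_iff_of_ne_top _ ⊥ I bot_ne_top hI
    refine ⟨?_, ?_⟩
    · rw [isRegular_cons_iff, isRegular_cons_iff, ← key]
      refine and_congr_right fun hr => ?_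
      have := flat_quotSMulTop (R := R) r hr
      rw [(ih (QuotSMulTop r M)).1]
      exact (quotSwap (I.map (algebraMap R S)) r M).isRegular_congr rs
    · intro h
      rw [isRegular_cons_iff] at h
      have := flat_quotSMulTop (R := R) r h.1
      have := (ih (QuotSMulTop r M)).2 h.2
      exact Module.Flat.of_linearEquiv
        ((quotOfListConsSMulTopEquivQuotSMulTopInner M r rs).restrictScalars R)

end artin

end Groth.Agent.Lib.Helper67
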