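import Groth.Agent.Lib.Helper67.TensRank

/-!
# `χ(F ⊗ E) = rk(F) · deg E + n · χ(F)` on integral proper curves (helper67)
-/

set_option autoImplicit false
set_option linter.style.haveILetI false
universe u
open AlgebraicGeometry CategoryTheory Limits Opposite TopologicalSpace Abelian

namespace Groth.Agent.Lib.Helper67.TensRank

open Groth.Agent.Lib.Helper67.EulerLES Groth.Agent.Lib.Helper67.CurveCoh
open Groth.Agent.Lib.Helper67.CurveDeg Groth.Agent.Lib.Helper67.CurveTors
open Groth.Agent.Lib.Helper67.ZeroDim Groth.Agent.Lib.Helper67.TensExact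
open Groth.Agent.Lib.Helper67.TensZero Groth.Agent.Lib.Helper67.PushUnit
open Groth.Agent.Lib.Helper49 Groth.Agent.Lib.Helper11.FinFreeBasis
open Groth.Agent.Lib.Helper11.FinFreeAdj

variable (k : Type u) [Field k] (X : Scheme.{u}) [X.Over (Spec (CommRingCat.of k))]

theorem euler_eq_of_iso {X : Scheme.{u}} [X.Over (Spec (CommRingCat.of k))] {M N : X.Modules}
    (e : M ≅ N) : Curv2.euler k X M = Curv2.euler k X N := by
  unfold Curv2.euler
  refine finsum_congr fun i => ?_
  rw [finrank_HH_eq_of_iso k e i]

variable [IsIntegral X]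

/-- a module with zero generic stalk on an integral scheme of dimension `≤ 1` is supported at
closed points -/
theorem closedSupp_of_stalk_generic {X : Scheme.{u}} [IsIntegral X]
    (hdim : topologicalKrullDim X ≤ 1) (M : X.Modules)
    (h : Subsingleton (M.presheaf.stalk (genericPoint X))) : ClosedSupp M := by
  intro x hx
  have hxξ : x ≠ genericPoint X := fun h' => hx (h' ▸ h)
  have hcl : closure ({x} : Set X) ≠ Set.univ := by
    intro h'
    exact hxξ (IsGenericPoint.eq (show IsGenericPoint x Set.univ from h') (genericPoint_spec X))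
  have := Groth.Agent.Lib.Helper24.closure_singleton_eq_of_dim_le_one hdim x hcl
  rw [← closure_eq_iff_isClosed]
  exact this

variable [IsProper (X ↘ Spec (CommRingCat.of k))] (hdim : topologicalKrullDim X ≤ 1)
  (E : X.Modules) {n : ℕ} (hE : FlatMod.IsFinLocFreeOfRank n E)

include hdim hE in
/-- **`χ(F ⊗ E) = rk(F) · deg E + n · χ(F)`** -/
theorem euler_tensor (F : X.Modules) (hF : Coh.IsCoh F) :
    Curv2.euler k X (CohB1.tensorMod F E) =
      (rk F : ℤ) * Curv2.deg k X E n + n * Curv2.euler k X F := by
  haveI : IsNoetherian X := CurveP1.isNoetherian_of_proper k (X ↘ Spec (CommRingCat.of k))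
  have hEfl := isFinLocFree_of_rank hE
  have hEcoh := isCoh_of_rank hE
  haveI := preservesZeroMorphisms_tensR hEfl
  -- the torsion case
  have htors : ∀ M : X.Modules, Coh.IsCoh M →
      Subsingleton (M.presheaf.stalk (genericPoint X)) →
      Curv2.euler k X (CohB1.tensorMod M E) =
        (rk M : ℤ) * Curv2.deg k X E n + n * Curv2.euler k X M := by
    intro M hM hMξ
    rw [rk_eq_zero_of_subsingleton hMξ,
      euler_tensor_of_closedSupp k X E hE M hM (closedSupp_of_stalk_generic hdim M hMξ)]
    simp
  refine Groth.Agent.S0027.result X (fun F => Curv2.euler k X (CohB1.tensorMod F E) =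
      (rk F : ℤ) * Curv2.deg k X E n + n * Curv2.euler k X F) ?_ ?_ ?_ F hF
  · rintro M N ⟨e⟩ hM
    have h2 : Curv2.euler k X (CohB1.tensorMod M E) = Curv2.euler k X (CohB1.tensorMod N E) :=
      euler_eq_of_iso k ((tensR E).mapIso e)
    rw [← h2, ← rk_eq_of_iso e, ← euler_eq_of_iso k e]
    exact hM
  · intro S hS c1 c2 c3 h1 h3
    have hST := shortExact_tensR hEfl hS
    have e1 := euler_additive_of_coh k X hdim hS c1 c2 c3
    have e2 := euler_additive_of_coh k X hdim hST (isCoh_tensorMod c1 hEcoh)
      (isCoh_tensorMod c2 hEcoh) (isCoh_tensorMod c3 hEcoh)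
    change Curv2.euler k X (CohB1.tensorMod S.X₂ E) =
      Curv2.euler k X (CohB1.tensorMod S.X₁ E) + Curv2.euler k X (CohB1.tensorMod S.X₃ E) at e2
    rw [e2, h1, h3, e1, rk_additive hS c2]
    push_cast
    ring
  · intro Z i hi hZ I ι hι hI
    haveI := hi
    haveI := hZ
    haveI := hι
    haveI : I.IsQuasicoherent := hI
    letI : Z.Over (Spec (CommRingCat.of k)) := ⟨i ≫ (X ↘ Spec (CommRingCat.of k))⟩
    haveI : IsProper (Z ↘ Spec (CommRingCat.of k)) :=
      inferInstanceAs (IsProper (i ≫ (X ↘ Spec (CommRingCat.of k))))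
    haveI : IsNoetherian Z := CurveP1.isNoetherian_of_proper k (Z ↘ Spec (CommRingCat.of k))
    have hdimZ : topologicalKrullDim Z ≤ 1 :=
      le_trans i.isClosedEmbedding.isInducing.topologicalKrullDim_le hdim
    have hIcoh : Coh.IsCoh I := by
      haveI := isQuasicoherent_structureModule Z
      exact ⟨hI, Groth.Agent.Lib.Helper49.isFiniteType_of_mono ι
        (Groth.Agent.Lib.Helper49.isFiniteType_unit Z)⟩
    have hGcoh : Coh.IsCoh ((Scheme.Modules.pushforward i).obj I) :=
      Groth.Agent.S0019.result i I hIcoh
    by_cases hGξ : Subsingleton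
        (((Scheme.Modules.pushforward i).obj I).presheaf.stalk (genericPoint X))
    · exact htors _ hGcoh hGξ
    -- now the generic stalk is nonzero: `Z = X`
    have hξmem : genericPoint X ∈ closure (Set.range i) := by
      by_contra hnot
      exact hGξ (subsingleton_stalk_push_of_not_mem i I _ hnot)
    rw [i.isClosedEmbedding.isClosed_range.closure_eq] at hξmem
    have hsurj : Function.Surjective i := by
      rw [← Set.range_eq_univ]
      apply Set.eq_univ_of_univ_subset
      rw [← (genericPoint_spec X).def]
      exact closure_minimal (Set.singleton_subset_iff.mpr hξmem)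
        i.isClosedEmbedding.isClosed_range
    haveI : Surjective i := ⟨hsurj⟩
    haveI : IsIso i := isIso_of_isClosedImmersion_of_surjective i
    let j : (Scheme.Modules.pushforward i).obj I ⟶ Coh.structureModule X :=
      (Scheme.Modules.pushforward i).map ι ≫ (pushUnitIso i).inv
    haveI : Mono ((Scheme.Modules.pushforward i).map ι) := inferInstance
    haveI : Mono j := mono_comp _ _
    have hOcoh : Coh.IsCoh (Coh.structureModule X) :=
      ⟨isQuasicoherent_structureModule X, Groth.Agent.Lib.Helper49.isFiniteType_unit X⟩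
    have hQcoh : Coh.IsCoh (cokernel j) :=
      ⟨isQuasicoherent_cokernel j hGcoh.1 hOcoh.1, isFiniteType_of_epi (cokernel.π j) hOcoh.2⟩
    have hS : (ShortComplex.mk j (cokernel.π j) (cokernel.condition j)).ShortExact :=
      ⟨ShortComplex.exact_of_g_is_cokernel _ (cokernelIsCokernel _)⟩
    -- the cokernel is torsion
    have hrkadd := rk_additive hS hOcoh
    change rk (Coh.structureModule X) = rk ((Scheme.Modules.pushforward i).obj I) +
      rk (cokernel j) at hrkadd
    rw [rk_structureModule] at hrkadd
    have hrkG : rk ((Scheme.Modules.pushforward i).obj I) ≠ 0 := by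
      intro h0
      apply hGξ
      letI : Field (X.presheaf.stalk (genericPoint X)) :=
        inferInstanceAs (Field X.functionField)
      haveI := finite_stalk_of_isCoh hGcoh (genericPoint X)
      exact Module.finrank_zero_iff.mp h0
    have hrkG1 : rk ((Scheme.Modules.pushforward i).obj I) = 1 := by omega
    have hrkQ : rk (cokernel j) = 0 := by omega
    have hQξ : Subsingleton ((cokernel j).presheaf.stalk (genericPoint X)) := by
      letI : Field (X.presheaf.stalk (genericPoint X)) :=
        inferInstanceAs (Field X.functionField)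
      haveI := finite_stalk_of_isCoh hQcoh (genericPoint X)
      exact Module.finrank_zero_iff.mp hrkQ
    have hQ := htors _ hQcoh hQξ
    -- additivity
    have hST := shortExact_tensR hEfl hS
    have e1 := euler_additive_of_coh k X hdim hS hGcoh hOcoh hQcoh
    have e2 := euler_additive_of_coh k X hdim hST (isCoh_tensorMod hGcoh hEcoh)
      (isCoh_tensorMod hOcoh hEcoh) (isCoh_tensorMod hQcoh hEcoh)
    change Curv2.euler k X (CohB1.tensorMod (Coh.structureModule X) E) =
      Curv2.euler k X (CohB1.tensorMod ((Scheme.Modules.pushforward i).obj I) E) +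
        Curv2.euler k X (CohB1.tensorMod (cokernel j) E) at e2
    change Curv2.euler k X (Coh.structureModule X) =
      Curv2.euler k X ((Scheme.Modules.pushforward i).obj I) +
        Curv2.euler k X (cokernel j) at e1
    have e3 : Curv2.euler k X (CohB1.tensorMod (Coh.structureModule X) E) = Curv2.euler k X E :=
      euler_eq_of_iso k (Groth.Agent.Lib.Helper11.GenLocus.unitTensorIso E)
    rw [hrkQ] at hQ
    rw [hrkG1]
    unfold Curv2.deg
    rw [e1]
    have hQ' : Curv2.euler k X (CohB1.tensorMod (cokernel j) E) =
        (n : ℤ) * Curv2.euler k X (cokernel j) := by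
      rw [hQ]; push_cast; ring
    have ha : Curv2.euler k X (CohB1.tensorMod ((Scheme.Modules.pushforward i).obj I) E) =
        Curv2.euler k X E - (n : ℤ) * Curv2.euler k X (cokernel j) := by
      rw [← hQ', ← e3, e2]; ring
    rw [ha]; push_cast; ring

end Groth.Agent.Lib.Helper67.TensRank
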