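import Mathlib.RingTheory.Flat.EquationalCriterion
import Mathlib.RingTheory.Flat.Tensor
import Mathlib.RingTheory.Artinian.Ring
import Mathlib.RingTheory.HopkinsLevitzki
import Mathlib.RingTheory.LocalRing.MaximalIdeal.Basic
import Mathlib.RingTheory.Ideal.Maps
import Mathlib.Tactic

/-!
Flat modules over Artinian local rings: regularity of an endomorphism can be tested modulo any
proper ideal, and the cokernel of a regular endomorphism is flat.
-/

namespace Groth.Agent.Lib.Helper67

open TensorProduct IsLocalRing

section sigma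

variable {R : Type*} [CommRing R] (J : Ideal R) (M : Type*) [AddCommGroup M] [Module R M]

/-- The canonical map `J ⊗ M → M`. -/
noncomputable def idealTensorToSelf : J ⊗[R] M →ₗ[R] M :=
  TensorProduct.lift ((LinearMap.lsmul R M).comp J.subtype)

@[simp] lemma idealTensorToSelf_tmul (a : J) (m : M) :
    idealTensorToSelf J M (a ⊗ₜ m) = (a : R) • m := by
  simp [idealTensorToSelf]

lemma idealTensorToSelf_eq :
    idealTensorToSelf J M =
      (TensorProduct.lid R M).toLinearMap ∘ₗ (LinearMap.rTensor M J.subtype) :=
  (LinearMap.lid_comp_rTensor (M := M) J.subtype).symm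

lemma idealTensorToSelf_injective [Module.Flat R M] :
    Function.Injective (idealTensorToSelf J M) := by
  have h := (Module.Flat.iff_rTensor_injective'.mp ‹_›) J
  rw [idealTensorToSelf_eq]
  exact (TensorProduct.lid R M).injective.comp h

variable {M} in
lemma flat_of_idealTensorToSelf_injective
    (h : ∀ J : Ideal R, Function.Injective (idealTensorToSelf J M)) : Module.Flat R M := by
  rw [Module.Flat.iff_rTensor_injective']
  intro J
  have := h J
  rw [idealTensorToSelf_eq] at this
  exact Function.Injective.of_comp this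

lemma range_idealTensorToSelf :
    LinearMap.range (idealTensorToSelf J M) = J • (⊤ : Submodule R M) := by
  apply le_antisymm
  · rintro _ ⟨x, rfl⟩
    induction x using TensorProduct.induction_on with
    | zero => simp
    | tmul a m =>
      rw [idealTensorToSelf_tmul]
      exact Submodule.smul_mem_smul a.2 Submodule.mem_top
    | add x y hx hy =>
      rw [map_add]
      exact Submodule.add_mem _ hx hy
  · rw [Submodule.smul_le]
    intro a ha m _
    exact ⟨(⟨a, ha⟩ : J) ⊗ₜ m, by simp⟩

variable {M} in
lemma idealTensorToSelf_natural {N : Type*} [AddCommGroup N] [Module R N] (g : M →ₗ[R] N)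
    (x : J ⊗[R] M) :
    idealTensorToSelf J N (LinearMap.lTensor J g x) = g (idealTensorToSelf J M x) := by
  induction x using TensorProduct.induction_on with
  | zero => simp
  | tmul a m => simp
  | add x y hx hy => simp [hx, hy]

end sigma

section regular

variable {R : Type*} [CommRing R] {M : Type*} [AddCommGroup M] [Module R M]

/-- `g` is injective modulo `J`. -/
def RegMod (g : M →ₗ[R] M) (J : Ideal R) : Prop :=
  ∀ t : M, g t ∈ J • (⊤ : Submodule R M) → t ∈ J • (⊤ : Submodule R M)

lemma map_mem_smul_top (g : M →ₗ[R] M) (J : Ideal R) {v : M}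
    (hv : v ∈ J • (⊤ : Submodule R M)) : g v ∈ J • (⊤ : Submodule R M) := by
  induction hv using Submodule.smul_induction_on' with
  | smul a ha m _ =>
    rw [map_smul]
    exact Submodule.smul_mem_smul ha Submodule.mem_top
  | add x _ y _ hx hy =>
    rw [map_add]
    exact Submodule.add_mem _ hx hy

/-- If `Q` is the cokernel of an endomorphism `g` of a flat module `M` that is injective modulo
every ideal, then `Q` is flat. -/
theorem flat_of_regMod [Module.Flat R M] (g : M →ₗ[R] M) {Q : Type*} [AddCommGroup Q]
    [Module R Q] (π : M →ₗ[R] Q) (hπ : Function.Surjective π)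
    (hker : ∀ s, π s = 0 → ∃ t, s = g t) (hπg : ∀ t, π (g t) = 0)
    (hreg : ∀ J, RegMod g J) : Module.Flat R Q := by
  apply flat_of_idealTensorToSelf_injective
  intro J
  rw [injective_iff_map_eq_zero]
  intro x hx
  obtain ⟨x', rfl⟩ := LinearMap.lTensor_surjective J hπ x
  rw [idealTensorToSelf_natural] at hx
  obtain ⟨t, ht⟩ := hker _ hx
  have hs : idealTensorToSelf J M x' ∈ J • (⊤ : Submodule R M) := by
    rw [← range_idealTensorToSelf]
    exact ⟨x', rfl⟩
  rw [ht] at hs
  have htJ := hreg J t hs
  rw [← range_idealTensorToSelf] at htJ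
  obtain ⟨y, rfl⟩ := htJ
  have hxy : x' = LinearMap.lTensor J g y := by
    apply idealTensorToSelf_injective J M
    rw [idealTensorToSelf_natural, ht]
  rw [hxy, ← LinearMap.comp_apply, ← LinearMap.lTensor_comp]
  have : π ∘ₗ g = 0 := by
    ext t
    simp [hπg]
  rw [this, LinearMap.lTensor_zero, LinearMap.zero_apply]

end regular

section artinLocal

variable {R : Type*} [CommRing R] [IsLocalRing R]

/-- In a flat module over a local ring, if `z ∉ I` and `z • w ∈ I M` then `w ∈ 𝔪 M`. -/
theorem mem_maximalIdeal_smul_top_of_smul_mem {M : Type*} [AddCommGroup M] [Module R M]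
    [Module.Flat R M] (I : Ideal R) (z : R) (hz : z ∉ I) (w : M)
    (h : z • w ∈ I • (⊤ : Submodule R M)) : w ∈ maximalIdeal R • (⊤ : Submodule R M) := by
  classical
  have htop : (⊤ : Submodule R M) = Submodule.span R (Set.range (id : M → M)) := by
    simp
  rw [htop, Submodule.mem_ideal_smul_span_iff_exists_sum] at h
  obtain ⟨a, haI, hsum⟩ := h
  -- the relation `z • w - ∑ a k • k = 0`
  let f : Option a.support → R := fun o => Option.elim o z (fun k => -a k)
  let x : Option a.support → M := fun o => Option.elim o w (fun k => (k : M))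
  have hrel : ∑ o, f o • x o = 0 := by
    rw [Fintype.sum_option]
    simp only [f, x, Option.elim_none, Option.elim_some, neg_smul, Finset.sum_neg_distrib]
    have : ∑ k : a.support, a k • (k : M) = z • w := by
      rw [← hsum, Finsupp.sum]
      exact Finset.sum_coe_sort a.support (fun k => a k • (id k : M))
    rw [this, add_neg_cancel]
  obtain ⟨n, A, y, hxy, hA⟩ := Module.Flat.isTrivialRelation_of_sum_smul_eq_zero hrel
  have hw : w = ∑ j, A none j • y j := hxy none
  rw [hw]
  refine Submodule.sum_mem _ fun j _ => Submodule.smul_mem_smul ?_ Submodule.mem_top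
  rw [mem_maximalIdeal, mem_nonunits_iff]
  intro hu
  apply hz
  have hj := hA j
  rw [Fintype.sum_option] at hj
  simp only [f, Option.elim_none, Option.elim_some, neg_mul, Finset.sum_neg_distrib] at hj
  have hzA : z * A none j = ∑ k : a.support, a k * A (some k) j := by
    linear_combination hj
  have hmem : z * A none j ∈ I := by
    rw [hzA]
    exact I.sum_mem fun k _ => I.mul_mem_right _ (haI k)
  exact (Ideal.mul_unit_mem_iff_mem I hu).mp hmem

variable [IsArtinianRing R]

/-- A proper ideal of an Artinian local ring has a socle element modulo it. -/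
theorem exists_socle (I : Ideal R) (hI : I ≠ ⊤) :
    ∃ z, z ∉ I ∧ ∀ a ∈ maximalIdeal R, a * z ∈ I := by
  classical
  obtain ⟨N, hN⟩ : ∃ N : ℕ, maximalIdeal R ^ N ≤ I := by
    have h := IsArtinianRing.isNilpotent_jacobson_bot (R := R)
    rw [jacobson_eq_maximalIdeal (⊥ : Ideal R) bot_ne_top] at h
    obtain ⟨N, hN⟩ := h
    exact ⟨N, by rw [hN]; exact bot_le⟩
  have hex : ∃ N : ℕ, maximalIdeal R ^ N ≤ I := ⟨N, hN⟩
  let r := Nat.find hex
  have hr : maximalIdeal R ^ r ≤ I := Nat.find_spec hex
  have hr0 : r ≠ 0 := by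
    intro h0
    rw [h0, pow_zero, Ideal.one_eq_top, top_le_iff] at hr
    exact hI hr
  obtain ⟨r', hr'⟩ := Nat.exists_eq_succ_of_ne_zero hr0
  have hnot : ¬ maximalIdeal R ^ r' ≤ I := Nat.find_min hex (by omega)
  obtain ⟨z, hzm, hzI⟩ := SetLike.not_le_iff_exists.mp hnot
  refine ⟨z, hzI, fun a ha => hr ?_⟩
  rw [hr', pow_succ']
  exact Ideal.mul_mem_mul ha hzm

variable {M : Type*} [AddCommGroup M] [Module R M]

omit [IsArtinianRing R] in
lemma smul_mem_of_mem_maximalIdeal_smul_top (I : Ideal R) (z : R)
    (hz : ∀ a ∈ maximalIdeal R, a * z ∈ I) {x : M}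
    (hx : x ∈ maximalIdeal R • (⊤ : Submodule R M)) : z • x ∈ I • (⊤ : Submodule R M) := by
  induction hx using Submodule.smul_induction_on' with
  | smul a ha m _ =>
    rw [smul_smul, mul_comm]
    exact Submodule.smul_mem_smul (hz a ha) Submodule.mem_top
  | add x _ y _ hx hy =>
    rw [smul_add]
    exact Submodule.add_mem _ hx hy

variable [Module.Flat R M]

/-- Regularity modulo a proper ideal implies regularity modulo the maximal ideal. -/
theorem regMod_maximalIdeal_of_regMod (g : M →ₗ[R] M) (I : Ideal R) (hI : I ≠ ⊤)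
    (h : RegMod g I) : RegMod g (maximalIdeal R) := by
  obtain ⟨z, hzI, hz⟩ := exists_socle I hI
  intro u hu
  have h1 : g (z • u) ∈ I • (⊤ : Submodule R M) := by
    rw [map_smul]
    exact smul_mem_of_mem_maximalIdeal_smul_top I z hz hu
  exact mem_maximalIdeal_smul_top_of_smul_mem I z hzI u (h _ h1)

/-- Regularity modulo the maximal ideal implies regularity modulo every ideal. -/
theorem regMod_of_regMod_maximalIdeal (g : M →ₗ[R] M) (h : RegMod g (maximalIdeal R))
    (J : Ideal R) : RegMod g J := by
  induction J using IsNoetherian.induction with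
  | hgt J ih =>
    by_cases hJ : J = ⊤
    · intro t _
      rw [hJ, Submodule.top_smul]
      exact Submodule.mem_top
    obtain ⟨z, hzJ, hz⟩ := exists_socle J hJ
    have hlt : J < J ⊔ Ideal.span {z} := by
      refine lt_of_le_of_ne le_sup_left fun heq => hzJ ?_
      rw [heq]
      exact Ideal.mem_sup_right (Ideal.mem_span_singleton_self z)
    intro u hu
    have hu' : g u ∈ (J ⊔ Ideal.span {z}) • (⊤ : Submodule R M) :=
      Submodule.smul_mono_left le_sup_left hu
    have h2 := ih _ hlt u hu'
    rw [Submodule.sup_smul, Submodule.mem_sup] at h2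
    obtain ⟨v, hv, w, hw, rfl⟩ := h2
    rw [Submodule.ideal_span_singleton_smul] at hw
    obtain ⟨t, -, rfl⟩ := hw
    have h3 : z • g t ∈ J • (⊤ : Submodule R M) := by
      have h4 : g (v + z • t) - g v ∈ J • (⊤ : Submodule R M) :=
        Submodule.sub_mem _ hu (map_mem_smul_top g J hv)
      rwa [map_add, map_smul, add_sub_cancel_left] at h4
    have h5 : t ∈ maximalIdeal R • (⊤ : Submodule R M) :=
      h t (mem_maximalIdeal_smul_top_of_smul_mem J z hzJ (g t) h3)
    exact Submodule.add_mem _ hv (smul_mem_of_mem_maximalIdeal_smul_top J z hz h5)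

theorem regMod_iff_of_ne_top (g : M →ₗ[R] M) (I J : Ideal R) (hI : I ≠ ⊤) (hJ : J ≠ ⊤) :
    RegMod g I ↔ RegMod g J :=
  ⟨fun h => regMod_of_regMod_maximalIdeal g (regMod_maximalIdeal_of_regMod g I hI h) J,
   fun h => regMod_of_regMod_maximalIdeal g (regMod_maximalIdeal_of_regMod g J hJ h) I⟩

end artinLocal

end Groth.Agent.Lib.Helper67
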