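import Mathlib.RingTheory.NoetherNormalization
import Mathlib.RingTheory.KrullDimension.Polynomial
import Mathlib.RingTheory.KrullDimension.Field
import Mathlib.RingTheory.Ideal.HasGoingUp
import Mathlib.LinearAlgebra.LinearIndependent.Basic
import Mathlib.LinearAlgebra.Dimension.Finite
import Mathlib.Tactic

/-!
Counting points of finitely generated algebras over a field with values in finite fields:
`#Hom_k(B, k') ≤ N * #k' ^ r` if `dim B ≤ r`, with `N` independent of `k'`.
-/

namespace Groth.Agent.Lib.Helper67

/-- Ring homomorphisms to a field with prescribed restriction to a subring over which the source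
is generated by `N` elements as a module: there are at most `N` of them. -/
theorem card_ringHom_le_of_span {k' P B : Type*} [Field k'] [CommRing P] [CommRing B]
    (g : P →+* B) (N : ℕ) (b : Fin N → B)
    (hb : ∀ x : B, ∃ p : Fin N → P, x = ∑ i, g (p i) * b i) (ψ : P →+* k')
    (T : Finset (B →+* k')) (hT : ∀ φ ∈ T, φ.comp g = ψ) : T.card ≤ N := by
  classical
  have hLI : LinearIndependent k' (fun t : T => ((t.1 : B →+* k') : B → k')) := by
    have h0 := linearIndependent_monoidHom B k'
    have hinj : Function.Injective (fun t : T => ((t.1 : B →+* k') : B →* k')) := by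
      intro t1 t2 h
      apply Subtype.ext
      apply RingHom.ext
      intro x
      exact DFunLike.congr_fun h x
    exact h0.comp _ hinj
  let ev : (B → k') →ₗ[k'] (Fin N → k') :=
    { toFun := fun F i => F (b i), map_add' := fun _ _ => rfl, map_smul' := fun _ _ => rfl }
  have hLI2 : LinearIndependent k' (fun t : T => ev ((t.1 : B →+* k') : B → k')) := by
    rw [Fintype.linearIndependent_iff]
    intro c hc
    have hc' : ∀ i : Fin N, ∑ t : T, c t * (t.1 : B →+* k') (b i) = 0 := by
      intro i
      have := congrFun hc i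
      simpa [ev] using this
    have hzero : ∑ t : T, c t • ((t.1 : B →+* k') : B → k') = 0 := by
      funext x
      obtain ⟨p, rfl⟩ := hb x
      simp only [Finset.sum_apply, Pi.smul_apply, smul_eq_mul, Pi.zero_apply, map_sum, map_mul]
      have h1 : ∀ t : T, ∀ i : Fin N, (t.1 : B →+* k') (g (p i)) = ψ (p i) := by
        intro t i
        have := hT t.1 t.2
        exact DFunLike.congr_fun this (p i)
      calc ∑ t : T, c t * ∑ i, (t.1 : B →+* k') (g (p i)) * (t.1 : B →+* k') (b i)
          = ∑ t : T, ∑ i, ψ (p i) * (c t * (t.1 : B →+* k') (b i)) := by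
            refine Finset.sum_congr rfl fun t _ => ?_
            rw [Finset.mul_sum]
            refine Finset.sum_congr rfl fun i _ => ?_
            rw [h1 t i]; ring
        _ = ∑ i, ψ (p i) * ∑ t : T, c t * (t.1 : B →+* k') (b i) := by
            rw [Finset.sum_comm]
            refine Finset.sum_congr rfl fun i _ => ?_
            rw [Finset.mul_sum]
        _ = 0 := by
            refine Finset.sum_eq_zero fun i _ => ?_
            rw [hc' i, mul_zero]
    exact Fintype.linearIndependent_iff.mp hLI c hzero
  have := hLI2.fintype_card_le_finrank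
  simpa using this

/-- lifting chains of primes along an injective integral extension -/
theorem ringKrullDim_le_of_injective_integral {P B : Type*} [CommRing P] [CommRing B]
    [Algebra P B] [Algebra.IsIntegral P B] (hinj : Function.Injective (algebraMap P B)) :
    ringKrullDim P ≤ ringKrullDim B := by
  unfold ringKrullDim Order.krullDim
  refine iSup_le fun l => ?_
  obtain ⟨Q, _, hQ, hQc⟩ := Ideal.exists_ideal_over_prime_of_isIntegral (l.head.asIdeal)
    (⊥ : Ideal B) (by
      rw [← RingHom.ker_eq_comap_bot, (RingHom.injective_iff_ker_eq_bot _).mp hinj]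
      exact bot_le)
  haveI := hQ
  haveI : Q.LiesOver l.head.asIdeal := ⟨hQc.symm⟩
  obtain ⟨L, hlen, -, -⟩ := Ideal.exists_ltSeries_of_hasGoingUp l Q
  rw [← hlen]
  exact le_iSup (fun L : LTSeries (PrimeSpectrum B) => (L.length : WithBot ℕ∞)) L

/-- Points of a finitely generated algebra of dimension `≤ r` over a field `k` with values in
finite `k`-fields `k'`: at most `N * #k' ^ r`, with `N` independent of `k'`. -/
theorem exists_card_algHom_le {k : Type*} [Field k] (B : Type*) [CommRing B] [Algebra k B]
    [Algebra.FiniteType k B] (r : ℕ) (hr : ringKrullDim B ≤ r) :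
    ∃ N : ℕ, ∀ (k' : Type*) [Field k'] [Algebra k k'] [Finite k'],
      Finite (B →ₐ[k] k') ∧ Nat.card (B →ₐ[k] k') ≤ N * Nat.card k' ^ r := by
  classical
  have hfin : ∀ (k' : Type _) [Field k'] [Algebra k k'] [Finite k'], Finite (B →ₐ[k] k') := by
    intro k' _ _ _
    obtain ⟨t, ht⟩ := (Algebra.FiniteType.out : (⊤ : Subalgebra k B).FG)
    have hinj : Function.Injective (fun (φ : B →ₐ[k] k') (x : (t : Set B)) => φ x.1) := by
      intro φ1 φ2 h
      apply AlgHom.ext_of_adjoin_eq_top ht
      intro x hx
      exact congrFun h ⟨x, hx⟩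
    exact Finite.of_injective _ hinj
  rcases subsingleton_or_nontrivial B with hB | hB
  · refine ⟨0, fun k' _ _ _ => ⟨hfin k', ?_⟩⟩
    have : IsEmpty (B →ₐ[k] k') := ⟨fun φ => by
      have h1 : (1 : B) = 0 := Subsingleton.elim _ _
      have h2 := congrArg φ h1
      simp at h2⟩
    simp
  · obtain ⟨s, g, hginj, hgfin⟩ := exists_finite_inj_algHom_of_fg k B
    letI := g.toRingHom.toAlgebra
    have hmf : Module.Finite (MvPolynomial (Fin s) k) B := hgfin
    have hs : s ≤ r := by
      have hint : Algebra.IsIntegral (MvPolynomial (Fin s) k) B := inferInstance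
      have h1 := ringKrullDim_le_of_injective_integral (P := MvPolynomial (Fin s) k) (B := B) hginj
      rw [MvPolynomial.ringKrullDim_of_isNoetherianRing, ringKrullDim_eq_zero_of_field] at h1
      have h2 := h1.trans hr
      simp only [Nat.card_eq_fintype_card, Fintype.card_fin, zero_add] at h2
      exact_mod_cast h2
    obtain ⟨N, b, hb⟩ := Module.Finite.exists_fin (R := MvPolynomial (Fin s) k) (M := B)
    refine ⟨N, fun k' _ _ _ => ⟨hfin k', ?_⟩⟩
    haveI := hfin k'
    haveI := Fintype.ofFinite (B →ₐ[k] k')
    haveI := Fintype.ofFinite k'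
    let Φ : (B →ₐ[k] k') → (Fin s → k') := fun φ i => φ (g (MvPolynomial.X i))
    have hfib : ∀ a ∈ (Finset.univ : Finset (B →ₐ[k] k')).image Φ,
        ((Finset.univ : Finset (B →ₐ[k] k')).filter fun φ => Φ φ = a).card ≤ N := by
      intro a _
      let T : Finset (B →+* k') := ((Finset.univ : Finset (B →ₐ[k] k')).filter
        fun φ => Φ φ = a).image (fun φ : B →ₐ[k] k' => (φ : B →+* k'))
      have hcard : T.card = ((Finset.univ : Finset (B →ₐ[k] k')).filter fun φ => Φ φ = a).card :=
        Finset.card_image_of_injective _ (fun φ1 φ2 h => AlgHom.coe_ringHom_injective h)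
      rw [← hcard]
      refine card_ringHom_le_of_span g.toRingHom N b ?_
        ((MvPolynomial.aeval a : MvPolynomial (Fin s) k →ₐ[k] k') : _ →+* k') T ?_
      · intro x
        have hx : x ∈ Submodule.span (MvPolynomial (Fin s) k) (Set.range b) := by
          rw [hb]; trivial
        obtain ⟨p, hp⟩ := (Submodule.mem_span_range_iff_exists_fun _).mp hx
        refine ⟨p, ?_⟩
        rw [← hp]
        refine Finset.sum_congr rfl fun i _ => ?_
        rw [Algebra.smul_def]
        rfl
      · intro φ' hφ'
        obtain ⟨φ, hφ, rfl⟩ := Finset.mem_image.mp hφ'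
        have hφa : Φ φ = a := (Finset.mem_filter.mp hφ).2
        apply MvPolynomial.ringHom_ext
        · intro c
          simp
        · intro i
          simp [← hφa, Φ]
    have h1 := Finset.card_le_mul_card_image (Finset.univ : Finset (B →ₐ[k] k')) N hfib
    calc Nat.card (B →ₐ[k] k') = Fintype.card (B →ₐ[k] k') := Nat.card_eq_fintype_card
      _ ≤ N * ((Finset.univ : Finset (B →ₐ[k] k')).image Φ).card := h1
      _ ≤ N * Fintype.card (Fin s → k') := Nat.mul_le_mul_left _ (Finset.card_le_univ _)
      _ = N * (Nat.card k') ^ s := by simp [Nat.card_eq_fintype_card]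
      _ ≤ N * Nat.card k' ^ r :=
        Nat.mul_le_mul_left _ (Nat.pow_le_pow_right Nat.card_pos hs)

end Groth.Agent.Lib.Helper67
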