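import Mathlib
import Groth.Agent.Lib.Helper67.PointCount

/-!
Counting points of finitely generated `ℤ`-algebras with values in finite fields, uniformly in
the characteristic: if `dim B ≤ r` then `#Hom(B, F) * #F ≤ C * #F ^ r` for all finite fields `F`
in which a fixed `N ≠ 0` is invertible, and `#Hom(B, F) ≤ C_p * #F ^ r` for `F` of
characteristic `p`.
-/

open TensorProduct

namespace Groth.Agent.Lib.Helper67

theorem int_isJacobsonRing : IsJacobsonRing ℤ := by
  rw [isJacobsonRing_iff_prime_eq]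
  intro P hP
  by_cases h : P = ⊥
  · subst h
    refine le_antisymm ?_ Ideal.le_jacobson
    intro x hx
    rw [Ideal.mem_jacobson_bot] at hx
    rw [Ideal.mem_bot]
    by_contra hx0
    have h1 := hx (2 * x)
    rw [Int.isUnit_iff] at h1
    have h2 : 0 < x * x := mul_self_pos.mpr hx0
    rcases h1 with h1 | h1 <;> nlinarith
  · have : P.IsMaximal := hP.isMaximal h
    exact Ideal.jacobson_eq_self_of_isMaximal

section dim

attribute [local instance] Algebra.TensorProduct.rightAlgebra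

/-- The generic fibre of a finitely generated `ℤ`-algebra has dimension at most `dim B - 1`. -/
theorem succ_le_ringKrullDim_of_le_tensorQ {B : Type*} [CommRing B] [Algebra.FiniteType ℤ B]
    (d : ℕ) (h : (d : WithBot ℕ∞) ≤ ringKrullDim (ℚ ⊗[ℤ] B)) :
    ((d + 1 : ℕ) : WithBot ℕ∞) ≤ ringKrullDim B := by
  classical
  haveI : IsLocalization (Algebra.algebraMapSubmonoid B (nonZeroDivisors ℤ)) (ℚ ⊗[ℤ] B) :=
    IsLocalization.tensorRight ℚ (nonZeroDivisors ℤ)
  obtain ⟨l, hl⟩ := Order.le_krullDim_iff.mp h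
  let cm : PrimeSpectrum (ℚ ⊗[ℤ] B) → PrimeSpectrum B :=
    fun J => ⟨J.asIdeal.comap (algebraMap B (ℚ ⊗[ℤ] B)), inferInstance⟩
  have hcm : StrictMono cm := by
    intro J₁ J₂ hlt
    rw [← PrimeSpectrum.asIdeal_lt_asIdeal] at hlt ⊢
    refine lt_of_le_of_ne (Ideal.comap_mono hlt.le) ?_
    intro heq
    apply hlt.ne
    rw [← IsLocalization.map_under (Algebra.algebraMapSubmonoid B (nonZeroDivisors ℤ)) _ J₁.asIdeal,
      ← IsLocalization.map_under (Algebra.algebraMapSubmonoid B (nonZeroDivisors ℤ)) _ J₂.asIdeal]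
    exact congrArg _ heq
  let l' := l.map cm hcm
  obtain ⟨m, hm, hle⟩ := Ideal.exists_le_maximal (l'.last).asIdeal (l'.last).2.ne_top
  have hne : (l'.last).asIdeal ≠ m := by
    intro heq
    haveI := int_isJacobsonRing
    letI := Ideal.Quotient.field m
    haveI : Module.Finite ℤ (B ⧸ m) := finite_of_finite_type_of_isJacobsonRing ℤ (B ⧸ m)
    have hnotinj : ¬ Function.Injective (algebraMap ℤ (B ⧸ m)) := by
      intro hinj
      have : IsField ℤ := isField_of_isIntegral_of_isField hinj (Field.toIsField _)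
      exact Int.not_isField this
    rw [injective_iff_map_eq_zero] at hnotinj
    push_neg at hnotinj
    obtain ⟨n, hn0, hnne⟩ := hnotinj
    have hnm : (n : B) ∈ m := by
      rw [← Ideal.Quotient.eq_zero_iff_mem]
      simpa using hn0
    rw [← heq] at hnm
    have hlast : l'.last = cm l.last := LTSeries.last_map _ _ _
    rw [hlast] at hnm
    have hmem : algebraMap B (ℚ ⊗[ℤ] B) (n : B) ∈ l.last.asIdeal := hnm
    have hunit : IsUnit (algebraMap B (ℚ ⊗[ℤ] B) (n : B)) :=
      IsLocalization.map_units _ (⟨(n : B), ⟨n, mem_nonZeroDivisors_of_ne_zero hnne, by simp⟩⟩ :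
        Algebra.algebraMapSubmonoid B (nonZeroDivisors ℤ))
    exact l.last.2.ne_top (Ideal.eq_top_of_isUnit_mem _ hmem hunit)
  have hlt : l'.last < ⟨m, hm.isPrime⟩ := by
    rw [← PrimeSpectrum.asIdeal_lt_asIdeal]
    exact lt_of_le_of_ne hle hne
  let l'' := l'.snoc ⟨m, hm.isPrime⟩ hlt
  have hlen : l''.length = d + 1 := by simp [l'', l', hl]
  rw [← hlen]
  exact Order.LTSeries.length_le_krullDim l''

end dim

section eqn

attribute [local instance] Algebra.TensorProduct.rightAlgebra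
attribute [local instance] MvPolynomial.algebraMvPolynomial

open MvPolynomial in
/-- Clearing denominators in a Noether normalization of the generic fibre: there are
`y₁, …, y_d ∈ B` such that every `z ∈ B` is a root of a polynomial over `ℤ[y₁, …, y_d]` whose
leading coefficient is a nonzero integer. -/
theorem exists_int_eqn {B : Type*} [CommRing B] {d : ℕ}
    (g : MvPolynomial (Fin d) ℚ →ₐ[ℚ] ℚ ⊗[ℤ] B) (hg : g.IsIntegral) :
    ∃ y : Fin d → B, ∀ z : B, ∃ (D : ℕ) (q : Polynomial (MvPolynomial (Fin d) ℤ)) (N : ℤ),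
      N ≠ 0 ∧ q.natDegree ≤ D ∧ q.coeff D = MvPolynomial.C N ∧
      q.eval₂ ((MvPolynomial.aeval y : MvPolynomial (Fin d) ℤ →ₐ[ℤ] B) :
        MvPolynomial (Fin d) ℤ →+* B) z = 0 := by
  classical
  haveI : IsLocalization (Algebra.algebraMapSubmonoid B (nonZeroDivisors ℤ)) (ℚ ⊗[ℤ] B) :=
    IsLocalization.tensorRight ℚ (nonZeroDivisors ℤ)
  -- denominators of the `g (X j)`
  have h1 : ∀ j : Fin d, ∃ (y : B) (n : ℤ), n ≠ 0 ∧
      g (X j) * (n : ℚ ⊗[ℤ] B) = algebraMap B (ℚ ⊗[ℤ] B) y := by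
    intro j
    obtain ⟨⟨y, s⟩, hys⟩ := IsLocalization.surj (Algebra.algebraMapSubmonoid B (nonZeroDivisors ℤ))
      (g (X j))
    obtain ⟨n, hn, hns⟩ := s.2
    refine ⟨y, n, nonZeroDivisors.ne_zero hn, ?_⟩
    rw [← hys, ← hns]
    simp
  choose y n hn hyn using h1
  refine ⟨y, fun z => ?_⟩
  -- rescaling
  let σ : MvPolynomial (Fin d) ℚ →ₐ[ℚ] MvPolynomial (Fin d) ℚ :=
    aeval (fun j => C (n j : ℚ) * X j)
  let σ' : MvPolynomial (Fin d) ℚ →ₐ[ℚ] MvPolynomial (Fin d) ℚ :=
    aeval (fun j => C (1 / (n j : ℚ)) * X j)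
  have hσ : σ.comp σ' = AlgHom.id ℚ _ := by
    apply MvPolynomial.algHom_ext
    intro j
    have hnj : (n j : ℚ) ≠ 0 := by exact_mod_cast hn j
    simp only [σ, σ', AlgHom.comp_apply, aeval_X, map_mul, AlgHom.id_apply, aeval_C,
      algebraMap_eq]
    rw [← mul_assoc, ← C_mul, one_div, inv_mul_cancel₀ hnj, C_1, one_mul]
  let g' : MvPolynomial (Fin d) ℚ →ₐ[ℚ] ℚ ⊗[ℤ] B := g.comp σ
  have hg'X : ∀ j, g' (X j) = algebraMap B (ℚ ⊗[ℤ] B) (y j) := by
    intro j
    rw [← hyn j]
    simp only [g', σ, AlgHom.comp_apply, aeval_X, map_mul]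
    rw [mul_comm]
    congr 1
    rw [← algebraMap_eq, AlgHom.commutes]
    simp
  have hgg' : g = g'.comp σ' := by
    rw [AlgHom.comp_assoc, hσ, AlgHom.comp_id]
  obtain ⟨P, hPm, hP⟩ := hg (algebraMap B (ℚ ⊗[ℤ] B) z)
  let P' : Polynomial (MvPolynomial (Fin d) ℚ) := P.map (σ' : _ →+* _)
  have hP'm : P'.Monic := hPm.map _
  have hP' : P'.eval₂ (g' : _ →+* _) (algebraMap B (ℚ ⊗[ℤ] B) z) = 0 := by
    rw [Polynomial.eval₂_map]
    have : ((g' : MvPolynomial (Fin d) ℚ →+* ℚ ⊗[ℤ] B).comp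
        (σ' : MvPolynomial (Fin d) ℚ →+* MvPolynomial (Fin d) ℚ)) =
        (g : MvPolynomial (Fin d) ℚ →+* ℚ ⊗[ℤ] B) := by
      rw [hgg']; rfl
    rw [this]
    exact hP
  -- integer normalization
  let M' : Submonoid (MvPolynomial (Fin d) ℤ) :=
    (nonZeroDivisors ℤ).map (C : ℤ →+* MvPolynomial (Fin d) ℤ)
  haveI : IsLocalization M' (MvPolynomial (Fin d) ℚ) :=
    MvPolynomial.isLocalization (nonZeroDivisors ℤ) ℚ
  let q₀ : Polynomial (MvPolynomial (Fin d) ℤ) := IsLocalization.integerNormalization M' P'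
  obtain ⟨b, hbM, hb⟩ := IsLocalization.integerNormalization_spec M' P'
  obtain ⟨n₀, hn₀, rfl⟩ := hbM
  have hn₀' : n₀ ≠ 0 := nonZeroDivisors.ne_zero hn₀
  have hinj : Function.Injective (algebraMap (MvPolynomial (Fin d) ℤ) (MvPolynomial (Fin d) ℚ)) := by
    rw [MvPolynomial.algebraMap_def]
    exact MvPolynomial.map_injective _ (RingHom.injective_int (algebraMap ℤ ℚ))
  have hdeg₀ : q₀.natDegree ≤ P'.natDegree := by
    rw [Polynomial.natDegree_le_iff_coeff_eq_zero]
    intro N hN
    have h1 : N ∉ P'.support := by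
      rw [Polynomial.notMem_support_iff]
      exact Polynomial.coeff_eq_zero_of_natDegree_lt hN
    have h2 : N ∉ q₀.support := fun h => h1 (IsLocalization.integerNormalization_support M' P' h)
    exact Polynomial.notMem_support_iff.mp h2
  have hcoeff₀ : q₀.coeff P'.natDegree = C n₀ := by
    apply hinj
    have := congrArg (fun Q => Q.coeff P'.natDegree) hb
    simp only [Polynomial.coeff_map, Polynomial.coeff_smul] at this
    rw [this, hP'm.coeff_natDegree, Algebra.smul_def, mul_one]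
  have heval₀ := IsLocalization.integerNormalization_eval₂_eq_zero M'
    (g' : MvPolynomial (Fin d) ℚ →+* ℚ ⊗[ℤ] B) P' hP'
  have hcomp : ((g' : MvPolynomial (Fin d) ℚ →+* ℚ ⊗[ℤ] B).comp
      (algebraMap (MvPolynomial (Fin d) ℤ) (MvPolynomial (Fin d) ℚ))) =
      (algebraMap B (ℚ ⊗[ℤ] B)).comp
        ((MvPolynomial.aeval y : MvPolynomial (Fin d) ℤ →ₐ[ℤ] B) : MvPolynomial (Fin d) ℤ →+* B) := by
    apply MvPolynomial.ringHom_ext
    · intro c
      simp
    · intro j
      simp only [RingHom.comp_apply, MvPolynomial.algebraMap_def, MvPolynomial.map_X,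
        RingHom.coe_coe, aeval_X]
      exact hg'X j
  rw [hcomp, ← Polynomial.hom_eval₂] at heval₀
  obtain ⟨⟨m, hmM⟩, hm⟩ := (IsLocalization.map_eq_zero_iff
    (Algebra.algebraMapSubmonoid B (nonZeroDivisors ℤ)) (ℚ ⊗[ℤ] B) _).mp heval₀
  obtain ⟨m', hm', rfl⟩ := hmM
  have hm'0 : m' ≠ 0 := nonZeroDivisors.ne_zero hm'
  refine ⟨P'.natDegree, Polynomial.C (C m') * q₀, m' * n₀, mul_ne_zero hm'0 hn₀', ?_, ?_, ?_⟩
  · exact (Polynomial.natDegree_C_mul_le _ _).trans hdeg₀
  · rw [Polynomial.coeff_C_mul, hcoeff₀, C_mul]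
  · rw [Polynomial.eval₂_mul, Polynomial.eval₂_C]
    simpa using hm

end eqn

section count

/-- Ring homomorphisms from a finitely generated ring to a finite ring are finite in number. -/
theorem finite_ringHom_of_finiteType (B : Type*) [CommRing B] [Algebra.FiniteType ℤ B]
    (F : Type*) [CommRing F] [Finite F] : Finite (B →+* F) := by
  obtain ⟨t, ht⟩ := (Algebra.FiniteType.out : (⊤ : Subalgebra ℤ B).FG)
  have hinj : Function.Injective (fun (φ : B →+* F) (x : (t : Set B)) => φ x.1) := by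
    intro φ1 φ2 h
    have : φ1.toIntAlgHom = φ2.toIntAlgHom := by
      apply AlgHom.ext_of_adjoin_eq_top ht
      intro x hx
      exact congrFun h ⟨x, hx⟩
    ext x
    exact DFunLike.congr_fun this x
  exact Finite.of_injective _ hinj

/-- Counting ring homomorphisms to a finite field by means of equations with integral leading
coefficients for the generators over `ℤ[y₁, …, y_d]`. -/
theorem card_ringHom_le_of_eqns {B : Type*} [CommRing B] {ι : Type*} [Fintype ι] (gen : ι → B)
    (hgen : Algebra.adjoin ℤ (Set.range gen) = ⊤) {d : ℕ} (y : Fin d → B)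
    (D : ι → ℕ) (q : ι → Polynomial (MvPolynomial (Fin d) ℤ)) (N : ι → ℤ)
    (hdeg : ∀ i, (q i).natDegree ≤ D i)
    (hcoeff : ∀ i, (q i).coeff (D i) = MvPolynomial.C (N i))
    (heval : ∀ i, (q i).eval₂ ((MvPolynomial.aeval y : MvPolynomial (Fin d) ℤ →ₐ[ℤ] B) :
        MvPolynomial (Fin d) ℤ →+* B) (gen i) = 0)
    (F : Type*) [Field F] [Finite F] (hN : ∀ i, (N i : F) ≠ 0) :
    Nat.card (B →+* F) ≤ (∏ i, D i) * Nat.card F ^ d := by
  classical
  haveI := Fintype.ofFinite F
  let Ψ : (B →+* F) → (Σ _ : Fin d → F, (ι → F)) :=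
    fun φ => ⟨fun j => φ (y j), fun i => φ (gen i)⟩
  have hΨinj : Function.Injective Ψ := by
    intro φ1 φ2 h
    have h2 : (fun i => φ1 (gen i)) = (fun i => φ2 (gen i)) := by
      have := congrArg (fun t => t.2) h
      exact this
    have : φ1.toIntAlgHom = φ2.toIntAlgHom := by
      apply AlgHom.ext_of_adjoin_eq_top hgen
      rintro _ ⟨i, rfl⟩
      exact congrFun h2 i
    ext x
    exact DFunLike.congr_fun this x
  haveI : Finite (B →+* F) := Finite.of_injective _ hΨinj
  haveI := Fintype.ofFinite (B →+* F)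
  let θ : (Fin d → F) → MvPolynomial (Fin d) ℤ →+* F :=
    fun a => MvPolynomial.eval₂Hom (Int.castRingHom F) a
  let 𝒮 : Finset (Σ _ : Fin d → F, (ι → F)) :=
    (Finset.univ : Finset (Fin d → F)).sigma
      (fun a => Fintype.piFinset (fun i => ((q i).map (θ a)).roots.toFinset))
  have hmem : ∀ φ : B →+* F, Ψ φ ∈ 𝒮 := by
    intro φ
    simp only [𝒮, Ψ, Finset.mem_sigma, Finset.mem_univ, true_and, Fintype.mem_piFinset,
      Multiset.mem_toFinset]
    intro i
    have hθ : φ.comp ((MvPolynomial.aeval y : MvPolynomial (Fin d) ℤ →ₐ[ℤ] B) :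
        MvPolynomial (Fin d) ℤ →+* B) = θ (fun j => φ (y j)) := by
      apply MvPolynomial.ringHom_ext
      · intro c
        simp [θ]
      · intro j
        simp [θ]
    have hne : (q i).map (θ (fun j => φ (y j))) ≠ 0 := by
      intro h0
      have := congrArg (fun Q => Q.coeff (D i)) h0
      simp only [Polynomial.coeff_map, hcoeff i, Polynomial.coeff_zero] at this
      apply hN i
      simpa [θ] using this
    rw [Polynomial.mem_roots hne, Polynomial.IsRoot, Polynomial.eval_map, ← hθ,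
      ← Polynomial.hom_eval₂, heval i, map_zero]
  have hcard𝒮 : 𝒮.card ≤ (∏ i, D i) * Fintype.card F ^ d := by
    rw [Finset.card_sigma]
    calc ∑ a : Fin d → F, (Fintype.piFinset
            (fun i => ((q i).map (θ a)).roots.toFinset)).card
        ≤ ∑ _a : Fin d → F, ∏ i, D i := by
          apply Finset.sum_le_sum
          intro a _
          rw [Fintype.card_piFinset]
          apply Finset.prod_le_prod'
          intro i _
          calc ((q i).map (θ a)).roots.toFinset.card
              ≤ Multiset.card ((q i).map (θ a)).roots := Multiset.toFinset_card_le _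
            _ ≤ ((q i).map (θ a)).natDegree := Polynomial.card_roots' _
            _ ≤ (q i).natDegree := Polynomial.natDegree_map_le
            _ ≤ D i := hdeg i
      _ = (∏ i, D i) * Fintype.card F ^ d := by
          simp [mul_comm]
  calc Nat.card (B →+* F) = Fintype.card (B →+* F) := Nat.card_eq_fintype_card
    _ = (Finset.univ : Finset (B →+* F)).card := rfl
    _ ≤ 𝒮.card := Finset.card_le_card_of_injOn Ψ (fun φ _ => hmem φ) hΨinj.injOn
    _ ≤ (∏ i, D i) * Nat.card F ^ d := by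
        rw [Nat.card_eq_fintype_card]
        exact hcard𝒮

end count

section charp

/-- Points with values in finite fields of a fixed characteristic `p`. -/
theorem exists_card_ringHom_le_of_charP {B : Type*} [CommRing B] [Algebra.FiniteType ℤ B] (r : ℕ)
    (hr : ringKrullDim B ≤ r) (p : ℕ) (hp : p.Prime) :
    ∃ C : ℕ, ∀ (F : Type*) [Field F] [Finite F], CharP F p →
      Nat.card (B →+* F) ≤ C * Nat.card F ^ r := by
  haveI : Fact p.Prime := ⟨hp⟩
  have hsurj : Function.Surjective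
      (Algebra.TensorProduct.includeRight : B →ₐ[ℤ] ZMod p ⊗[ℤ] B) :=
    Algebra.TensorProduct.includeRight_surjective _ (ZMod.intCast_surjective)
  have hdim : ringKrullDim (ZMod p ⊗[ℤ] B) ≤ r :=
    (ringKrullDim_le_of_surjective
      (Algebra.TensorProduct.includeRight : B →ₐ[ℤ] ZMod p ⊗[ℤ] B).toRingHom hsurj).trans hr
  obtain ⟨C, hC⟩ := exists_card_algHom_le (k := ZMod p) (ZMod p ⊗[ℤ] B) r hdim
  refine ⟨C, fun F _ _ hchar => ?_⟩
  haveI := hchar
  letI : Algebra (ZMod p) F := ZMod.algebra F p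
  obtain ⟨hfin, hle⟩ := hC F
  let Λ : (B →+* F) → (ZMod p ⊗[ℤ] B →ₐ[ZMod p] F) := fun φ =>
    Algebra.TensorProduct.lift (Algebra.ofId (ZMod p) F) φ.toIntAlgHom
      (fun _ _ => Commute.all _ _)
  have hΛ : Function.Injective Λ := by
    intro φ1 φ2 h
    ext b
    have := DFunLike.congr_fun h ((1 : ZMod p) ⊗ₜ[ℤ] b)
    simpa [Λ] using this
  exact (Nat.card_le_card_of_injective Λ hΛ).trans hle

end charp

section main

attribute [local instance] Algebra.TensorProduct.rightAlgebra

theorem natAbs_cast_eq_zero {F : Type*} [Ring F] {n : ℤ} (h : (n : F) = 0) :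
    (n.natAbs : F) = 0 := by
  rcases Int.natAbs_eq n with h' | h'
  · rw [h'] at h
    simpa using h
  · rw [h'] at h
    simpa using h

/-- Points with values in finite fields of large characteristic: the generic fibre has
dimension `≤ r - 1`. -/
theorem exists_card_ringHom_mul_le {B : Type*} [CommRing B] [Algebra.FiniteType ℤ B] (r : ℕ)
    (hr : ringKrullDim B ≤ r) :
    ∃ (N C : ℕ), N ≠ 0 ∧ ∀ (F : Type*) [Field F] [Finite F], (N : F) ≠ 0 →
      Nat.card (B →+* F) * Nat.card F ≤ C * Nat.card F ^ r := by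
  classical
  haveI : IsLocalization (Algebra.algebraMapSubmonoid B (nonZeroDivisors ℤ)) (ℚ ⊗[ℤ] B) :=
    IsLocalization.tensorRight ℚ (nonZeroDivisors ℤ)
  rcases subsingleton_or_nontrivial (ℚ ⊗[ℤ] B) with hQ | hQ
  · have h0 : algebraMap B (ℚ ⊗[ℤ] B) 1 = 0 := Subsingleton.elim _ _
    obtain ⟨⟨m, hmM⟩, hm⟩ := (IsLocalization.map_eq_zero_iff
      (Algebra.algebraMapSubmonoid B (nonZeroDivisors ℤ)) (ℚ ⊗[ℤ] B) _).mp h0
    obtain ⟨n, hn, rfl⟩ := hmM
    have hn0 : n ≠ 0 := nonZeroDivisors.ne_zero hn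
    refine ⟨n.natAbs, 0, Int.natAbs_ne_zero.mpr hn0, ?_⟩
    intro F _ _ hNF
    have : IsEmpty (B →+* F) := ⟨fun φ => by
      have h1 : ((n : ℤ) : B) = 0 := by simpa using hm
      have h2 : ((n : ℤ) : F) = 0 := by rw [← map_intCast φ, h1, map_zero]
      exact hNF (natAbs_cast_eq_zero h2)⟩
    simp
  · obtain ⟨d, g, hginj, hgint⟩ := exists_integral_inj_algHom_of_fg ℚ (ℚ ⊗[ℤ] B)
    have hdr : d + 1 ≤ r := by
      letI := g.toRingHom.toAlgebra
      haveI : Algebra.IsIntegral (MvPolynomial (Fin d) ℚ) (ℚ ⊗[ℤ] B) := ⟨fun x => hgint x⟩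
      have h1 := ringKrullDim_le_of_injective_integral (P := MvPolynomial (Fin d) ℚ)
        (B := ℚ ⊗[ℤ] B) hginj
      rw [MvPolynomial.ringKrullDim_of_isNoetherianRing, ringKrullDim_eq_zero_of_field] at h1
      have hd : (d : WithBot ℕ∞) ≤ ringKrullDim (ℚ ⊗[ℤ] B) := by simpa using h1
      have h2 := (succ_le_ringKrullDim_of_le_tensorQ d hd).trans hr
      exact_mod_cast h2
    obtain ⟨t, ht⟩ := (Algebra.FiniteType.out : (⊤ : Subalgebra ℤ B).FG)
    have hgen : Algebra.adjoin ℤ (Set.range (Subtype.val : {x // x ∈ t} → B)) = ⊤ := by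
      have : Set.range (Subtype.val : {x // x ∈ t} → B) = (t : Set B) := by
        ext x
        simp
      rw [this]
      exact ht
    obtain ⟨y, hy⟩ := exists_int_eqn g hgint
    choose D q N hN0 hdeg hcoeff heval using fun i : {x // x ∈ t} => hy i.1
    refine ⟨∏ i, (N i).natAbs, ∏ i, D i, ?_, ?_⟩
    · rw [Finset.prod_ne_zero_iff]
      intro i _
      exact Int.natAbs_ne_zero.mpr (hN0 i)
    · intro F _ _ hNF
      have hNi : ∀ i, (N i : F) ≠ 0 := by
        intro i h
        apply hNF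
        rw [Nat.cast_prod]
        exact Finset.prod_eq_zero (Finset.mem_univ i) (natAbs_cast_eq_zero h)
      have h1 := card_ringHom_le_of_eqns (Subtype.val : {x // x ∈ t} → B) hgen y D q N hdeg hcoeff
        heval F hNi
      calc Nat.card (B →+* F) * Nat.card F
          ≤ ((∏ i, D i) * Nat.card F ^ d) * Nat.card F := Nat.mul_le_mul_right _ h1
        _ = (∏ i, D i) * Nat.card F ^ (d + 1) := by rw [pow_succ, mul_assoc]
        _ ≤ (∏ i, D i) * Nat.card F ^ r :=
          Nat.mul_le_mul_left _ (Nat.pow_le_pow_right Nat.card_pos hdr)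

end main

end Groth.Agent.Lib.Helper67
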