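import Mathlib
import Groth.Agent.Lib.Helper67.ArithCount

/-!
Points of schemes of finite type over `ℤ` with values in finite fields: finiteness and the
Lang–Weil-type trivial bounds in `ℕ`-form, and summability of `∑_x N(x)^{-σ}` over closed points
for `σ > dim X`.
-/

universe u
open CategoryTheory AlgebraicGeometry

namespace Groth.Agent.Lib.Helper67

/-- `ℕ`-form of the bound of S13070, together with the finiteness of the set of points. -/
theorem arith_points_bound {X : Scheme.{u}}
    (f : X ⟶ Spec (CommRingCat.of (ULift.{u} ℤ))) [LocallyOfFiniteType f] [QuasiCompact f] (r : ℕ)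
    (hr : topologicalKrullDim X ≤ r) :
    ∃ (c p₀ : ℕ), 0 < c ∧ ∀ (p m : ℕ), p.Prime → 1 ≤ m →
      ∀ (F : Type u) [Field F], Nat.card F = p ^ m →
        Finite (Spec (CommRingCat.of F) ⟶ X) ∧
        (p₀ ≤ p → Nat.card (Spec (CommRingCat.of F) ⟶ X) * Nat.card F ≤ c * Nat.card F ^ r) ∧
        (p < p₀ → Nat.card (Spec (CommRingCat.of F) ⟶ X) ≤ c * Nat.card F ^ r) := by
  classical
  haveI : CompactSpace X := QuasiCompact.compactSpace_of_compactSpace f
  let 𝒰 := X.affineCover.finiteSubcover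
  -- rings and open immersions
  let Rg : 𝒰.I₀ → CommRingCat.{u} := fun i => Γ(𝒰.X i, ⊤)
  let j : ∀ i, Spec (Rg i) ⟶ X := fun i => (𝒰.X i).isoSpec.inv ≫ 𝒰.f i
  have hjrange : ∀ i, Set.range (j i).base = Set.range (𝒰.f i).base := by
    intro i
    simp only [j, Scheme.Hom.comp_base, TopCat.coe_comp]
    rw [Set.range_comp]
    have : Set.range ((𝒰.X i).isoSpec.inv.base) = Set.univ :=
      Set.range_eq_univ.mpr (𝒰.X i).isoSpec.inv.surjective
    rw [this, Set.image_univ]
  have hcov : ∀ x : X, ∃ i, x ∈ Set.range (j i).base := by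
    intro x
    obtain ⟨i, hi⟩ := 𝒰.exists_eq x
    exact ⟨i, by rw [hjrange]; exact hi⟩
  let φ : ∀ i, CommRingCat.of (ULift.{u} ℤ) ⟶ Rg i := fun i => Spec.preimage (j i ≫ f)
  have hft : ∀ i, Algebra.FiniteType ℤ (Rg i) := by
    intro i
    have h1 : LocallyOfFiniteType (Spec.map (φ i)) := by
      simp only [φ, Spec.map_preimage]
      infer_instance
    have h2 : (φ i).hom.FiniteType :=
      (HasRingHomProperty.Spec_iff (P := @LocallyOfFiniteType)).mp h1
    have h3 : ((φ i).hom.comp
        ((ULift.ringEquiv.symm : ℤ ≃+* ULift.{u} ℤ) : ℤ →+* ULift.{u} ℤ)).FiniteType :=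
      h2.comp (RingHom.FiniteType.of_surjective _ (RingEquiv.surjective _))
    have h4 : (φ i).hom.comp
        ((ULift.ringEquiv.symm : ℤ ≃+* ULift.{u} ℤ) : ℤ →+* ULift.{u} ℤ) =
        algebraMap ℤ (Rg i) := Subsingleton.elim _ _
    rw [h4] at h3
    exact RingHom.finiteType_algebraMap.mp h3
  have hdim : ∀ i, ringKrullDim (Rg i) ≤ r := by
    intro i
    rw [← PrimeSpectrum.topologicalKrullDim_eq_ringKrullDim]
    exact ((j i).isOpenEmbedding.isInducing.topologicalKrullDim_le).trans hr
  -- the constants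
  have hZ2 : ∀ i, ∃ (N C : ℕ), N ≠ 0 ∧ ∀ (F : Type u) [Field F] [Finite F], (N : F) ≠ 0 →
      Nat.card (Rg i →+* F) * Nat.card F ≤ C * Nat.card F ^ r := by
    intro i
    haveI := hft i
    exact Groth.Agent.Lib.Helper67.exists_card_ringHom_mul_le.{u, u} (B := Rg i) r (hdim i)
  choose N₂ C₂ hN₂ hC₂ using hZ2
  have hZ1 : ∀ i (p : ℕ), ∃ C : ℕ, p.Prime → ∀ (F : Type u) [Field F] [Finite F], CharP F p →
      Nat.card (Rg i →+* F) ≤ C * Nat.card F ^ r := by
    intro i p
    haveI := hft i
    by_cases hp : p.Prime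
    · obtain ⟨C, hC⟩ := Groth.Agent.Lib.Helper67.exists_card_ringHom_le_of_charP.{u, u}
        (B := Rg i) r (hdim i) p hp
      exact ⟨C, fun _ => hC⟩
    · exact ⟨0, fun h => absurd h hp⟩
  choose C₁ hC₁ using hZ1
  let p₀ : ℕ := (∑ i, N₂ i) + 1
  let c : ℕ := (∑ i, (C₂ i + ∑ p ∈ Finset.range p₀, C₁ i p)) + 1
  refine ⟨c, p₀, Nat.succ_pos _, ?_⟩
  intro p m hp hm F _ hcard
  haveI : Finite F := Nat.finite_of_card_ne_zero (by rw [hcard]; exact pow_ne_zero _ hp.ne_zero)
  have hchar : CharP F p := by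
    obtain ⟨p', hp'⟩ := CharP.exists F
    haveI := hp'
    haveI := Fintype.ofFinite F
    obtain ⟨n, hp'prime, hn⟩ := FiniteField.card F p'
    rw [← Nat.card_eq_fintype_card, hcard] at hn
    have h1 : p ∣ p' ^ (n : ℕ) := by
      rw [← hn]
      exact dvd_pow_self p (by omega)
    have h2 : p ∣ p' := hp.dvd_of_dvd_pow h1
    have h3 : p = p' := (Nat.prime_dvd_prime_iff_eq hp hp'prime).mp h2
    rw [h3]
    exact hp'
  haveI := hchar
  -- the comparison map
  let G := Spec (CommRingCat.of F) ⟶ X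
  let Tgt := Σ i : 𝒰.I₀, (Rg i →+* F)
  have hfinT : ∀ i, Finite (Rg i →+* F) := fun i => by
    haveI := hft i
    exact Groth.Agent.Lib.Helper67.finite_ringHom_of_finiteType (Rg i) F
  let pt : Spec (CommRingCat.of F) := default
  have hsub : ∀ (g : G), ∃ i, Set.range g.base ⊆ Set.range (j i).base := by
    intro g
    obtain ⟨i, hi⟩ := hcov (g.base pt)
    refine ⟨i, ?_⟩
    rintro _ ⟨y, rfl⟩
    rw [Subsingleton.elim y pt]
    exact hi
  choose ig hig using hsub
  let lft : ∀ g : G, Spec (CommRingCat.of F) ⟶ Spec (Rg (ig g)) :=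
    fun g => IsOpenImmersion.lift (j (ig g)) g (hig g)
  have hlft : ∀ g : G, lft g ≫ j (ig g) = g := fun g => IsOpenImmersion.lift_fac _ _ _
  let ψ : ∀ g : G, Rg (ig g) ⟶ CommRingCat.of F := fun g => Spec.preimage (lft g)
  let Θ : G → Tgt := fun g => ⟨ig g, (ψ g).hom⟩
  let Λ : Tgt → G := fun t => Spec.map (CommRingCat.ofHom t.2) ≫ j t.1
  have hΛΘ : ∀ g : G, Λ (Θ g) = g := by
    intro g
    have h1 : Spec.map (ψ g) = lft g := Spec.map_preimage _
    show Spec.map (CommRingCat.ofHom ((ψ g).hom)) ≫ j (ig g) = g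
    rw [CommRingCat.ofHom_hom, h1, hlft g]
  have hΘinj : Function.Injective Θ := by
    intro g1 g2 h
    rw [← hΛΘ g1, ← hΛΘ g2, h]
  haveI : Finite Tgt := inferInstance
  have h1 : Nat.card G ≤ Nat.card Tgt := Nat.card_le_card_of_injective Θ hΘinj
  have h2 : Nat.card Tgt = ∑ i, Nat.card (Rg i →+* F) := by
    haveI := fun i => Fintype.ofFinite (Rg i →+* F)
    rw [Nat.card_eq_fintype_card, Fintype.card_sigma]
    simp only [Nat.card_eq_fintype_card]
  have hmain : Nat.card (Spec (CommRingCat.of F) ⟶ X) ≤ ∑ i, Nat.card (Rg i →+* F) :=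
    h1.trans h2.le
  have hGfin : Finite (Spec (CommRingCat.of F) ⟶ X) := Finite.of_injective Θ hΘinj
  refine ⟨hGfin, ?_, ?_⟩
  · intro hp₀
    have hNi : ∀ i, ((N₂ i : ℕ) : F) ≠ 0 := by
      intro i h
      rw [CharP.cast_eq_zero_iff F p] at h
      have hlt : N₂ i < p := by
        have : N₂ i ≤ ∑ i, N₂ i := Finset.single_le_sum (fun _ _ => Nat.zero_le _) (Finset.mem_univ i)
        omega
      exact Nat.not_dvd_of_pos_of_lt (Nat.pos_of_ne_zero (hN₂ i)) hlt h
    calc Nat.card (Spec (CommRingCat.of F) ⟶ X) * Nat.card F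
        ≤ (∑ i, Nat.card (Rg i →+* F)) * Nat.card F := Nat.mul_le_mul_right _ hmain
      _ = ∑ i, Nat.card (Rg i →+* F) * Nat.card F := Finset.sum_mul _ _ _
      _ ≤ ∑ i, C₂ i * Nat.card F ^ r := Finset.sum_le_sum fun i _ => hC₂ i F (hNi i)
      _ = (∑ i, C₂ i) * Nat.card F ^ r := (Finset.sum_mul _ _ _).symm
      _ ≤ c * Nat.card F ^ r := by
          apply Nat.mul_le_mul_right
          show ∑ i, C₂ i ≤ (∑ i, (C₂ i + ∑ p ∈ Finset.range p₀, C₁ i p)) + 1
          have : ∑ i, C₂ i ≤ ∑ i, (C₂ i + ∑ p ∈ Finset.range p₀, C₁ i p) :=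
            Finset.sum_le_sum fun i _ => Nat.le_add_right _ _
          omega
  · intro hp₀
    calc Nat.card (Spec (CommRingCat.of F) ⟶ X)
        ≤ ∑ i, Nat.card (Rg i →+* F) := hmain
      _ ≤ ∑ i, C₁ i p * Nat.card F ^ r := Finset.sum_le_sum fun i _ => hC₁ i p hp F hchar
      _ = (∑ i, C₁ i p) * Nat.card F ^ r := (Finset.sum_mul _ _ _).symm
      _ ≤ c * Nat.card F ^ r := by
          apply Nat.mul_le_mul_right
          show ∑ i, C₁ i p ≤ (∑ i, (C₂ i + ∑ p ∈ Finset.range p₀, C₁ i p)) + 1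
          have : ∑ i, C₁ i p ≤ ∑ i, (C₂ i + ∑ p ∈ Finset.range p₀, C₁ i p) := by
            apply Finset.sum_le_sum
            intro i _
            have : C₁ i p ≤ ∑ p ∈ Finset.range p₀, C₁ i p :=
              Finset.single_le_sum (f := fun p => C₁ i p) (fun _ _ => Nat.zero_le _)
                (Finset.mem_range.mpr hp₀)
            omega
          omega

/-- Points with residue field isomorphic to a given field `F` inject into `F`-valued points. -/
theorem card_residueField_equiv_le {X : Scheme.{u}} (F : Type u) [Field F]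
    [Finite (Spec (CommRingCat.of F) ⟶ X)] :
    Finite {x : X // Nonempty (X.residueField x ≃+* F)} ∧
      Nat.card {x : X // Nonempty (X.residueField x ≃+* F)} ≤
        Nat.card (Spec (CommRingCat.of F) ⟶ X) := by
  classical
  let ee : ∀ x : {x : X // Nonempty (X.residueField x ≃+* F)}, X.residueField x.1 ≃+* F :=
    fun x => x.2.some
  let m : {x : X // Nonempty (X.residueField x ≃+* F)} → (Spec (CommRingCat.of F) ⟶ X) :=
    fun x => Spec.map (CommRingCat.ofHom ((ee x : X.residueField x.1 ≃+* F) :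
      X.residueField x.1 →+* F)) ≫ X.fromSpecResidueField x.1
  have hm : ∀ x (pt : Spec (CommRingCat.of F)), (m x).base pt = x.1 := by
    intro x pt
    simp only [m, Scheme.Hom.comp_base, TopCat.coe_comp, Function.comp_apply]
    exact Scheme.fromSpecResidueField_apply _ _
  have hinj : Function.Injective m := by
    intro x x' h
    apply Subtype.ext
    have pt : Spec (CommRingCat.of F) := default
    rw [← hm x pt, ← hm x' pt, h]
  exact ⟨Finite.of_injective m hinj, Nat.card_le_card_of_injective m hinj⟩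

/-- `∑_x N(x)^{-σ}` over the points with finite residue field converges for `σ > dim X`. -/
theorem summable_closedPts {X : Scheme.{u}}
    (f : X ⟶ Spec (CommRingCat.of (ULift.{u} ℤ))) [LocallyOfFiniteType f] [QuasiCompact f] (r : ℕ)
    (hr : topologicalKrullDim X ≤ r) (σ : ℝ) (hσ : (r : ℝ) < σ) :
    Summable (fun i : {x : X // IsClosed ({x} : Set X) ∧ 2 ≤ Nat.card (X.residueField x)} =>
      (Nat.card (X.residueField i.1) : ℝ) ^ (-σ)) := by
  classical
  obtain ⟨c, p₀, hc, hbound⟩ := arith_points_bound f r hr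
  set I := {x : X // IsClosed ({x} : Set X) ∧ 2 ≤ Nat.card (X.residueField x)} with hI
  let q : I → ℕ := fun i => Nat.card (X.residueField i.1)
  -- the majorant
  let M₂ : ℕ → ℕ → ℝ := fun p n =>
    if p.Prime ∧ ∃ m, 1 ≤ m ∧ n = p ^ m then (c : ℝ) * (n : ℝ) ^ ((r : ℝ) - σ) else 0
  let M : ℕ → ℝ := fun n => (c : ℝ) * (n : ℝ) ^ ((r : ℝ) - 1 - σ) + ∑ p ∈ Finset.range p₀, M₂ p n
  have hM₂nn : ∀ p n, 0 ≤ M₂ p n := by
    intro p n
    simp only [M₂]
    split_ifs
    · positivity
    · exact le_rfl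
  have hMnn : ∀ n, 0 ≤ M n := by
    intro n
    simp only [M]
    have : 0 ≤ ∑ p ∈ Finset.range p₀, M₂ p n := Finset.sum_nonneg fun p _ => hM₂nn p n
    positivity
  have hM₂sum : ∀ p, Summable (M₂ p) := by
    intro p
    by_cases hp : p.Prime
    · let pw : ℕ → ℕ := fun m => p ^ (m + 1)
      have hpw : Function.Injective pw := by
        intro a b h
        have := Nat.pow_right_injective hp.two_le h
        omega
      have hx0 : (0 : ℝ) ≤ (p : ℝ) ^ ((r : ℝ) - σ) := by positivity
      have hx1 : (p : ℝ) ^ ((r : ℝ) - σ) < 1 :=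
        Real.rpow_lt_one_of_one_lt_of_neg (by exact_mod_cast hp.one_lt) (by linarith)
      rw [← hpw.summable_iff]
      · have : (M₂ p) ∘ pw = fun m => ((c : ℝ) * (p : ℝ) ^ ((r : ℝ) - σ)) *
            ((p : ℝ) ^ ((r : ℝ) - σ)) ^ m := by
          funext m
          simp only [Function.comp_apply, M₂, pw]
          rw [if_pos ⟨hp, m + 1, by omega, rfl⟩]
          have hcast : (((p ^ (m + 1) : ℕ)) : ℝ) = ((p : ℝ) ^ (m + 1)) := by push_cast; rfl
          rw [hcast, ← Real.rpow_natCast ((p : ℝ)) (m + 1), ← Real.rpow_mul (by positivity),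
            mul_comm (((m + 1 : ℕ)) : ℝ), Real.rpow_mul (by positivity), Real.rpow_natCast, pow_succ]
          ring
        rw [this]
        exact (summable_geometric_of_lt_one hx0 hx1).mul_left _
      · intro n hn
        simp only [M₂]
        rw [if_neg]
        rintro ⟨-, m, hm, rfl⟩
        apply hn
        exact ⟨m - 1, by simp only [pw]; congr 1; omega⟩
    · have : M₂ p = fun _ => 0 := by
        funext n
        simp only [M₂]
        rw [if_neg]
        exact fun h => hp h.1
      rw [this]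
      exact summable_zero
  have hMsum : Summable M := by
    apply Summable.add
    · apply Summable.mul_left
      exact Real.summable_nat_rpow.mpr (by linarith)
    · exact summable_sum fun p _ => hM₂sum p
  -- the key bound
  have hkey : ∀ n : ℕ, Finite {i : I // q i = n} ∧
      (Nat.card {i : I // q i = n} : ℝ) * (n : ℝ) ^ (-σ) ≤ M n := by
    intro n
    by_cases hne : Nonempty {i : I // q i = n}
    · obtain ⟨⟨i₀, hi₀⟩⟩ := hne
      have hn2 : 2 ≤ n := hi₀ ▸ i₀.2.2
      have hnpos : (0 : ℝ) < (n : ℝ) := by positivity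
      let F : Type u := X.residueField i₀.1
      have hFcard : Nat.card F = n := hi₀
      haveI : Finite F := Nat.finite_of_card_ne_zero (by rw [hFcard]; omega)
      haveI := Fintype.ofFinite F
      obtain ⟨p, hchar, m, hp, hpm⟩ := FiniteField.card' F
      have hnpm : Nat.card F = p ^ (m : ℕ) := by rw [Nat.card_eq_fintype_card, hpm]
      obtain ⟨hfin, hb1, hb2⟩ := hbound p m hp m.pos F hnpm
      haveI := hfin
      obtain ⟨hfin2, hle2⟩ := card_residueField_equiv_le (X := X) F
      haveI := hfin2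
      let ψ : {i : I // q i = n} → {x : X // Nonempty (X.residueField x ≃+* F)} := fun i =>
        ⟨i.1.1, by
          have h1 : Nat.card (X.residueField i.1.1) = Nat.card F := by rw [hFcard]; exact i.2
          haveI : Finite (X.residueField i.1.1) :=
            Nat.finite_of_card_ne_zero (by rw [h1, hFcard]; omega)
          haveI := Fintype.ofFinite (X.residueField i.1.1)
          exact ⟨FiniteField.ringEquivOfCardEq (by
            rw [← Nat.card_eq_fintype_card, ← Nat.card_eq_fintype_card, h1])⟩⟩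
      have hψ : Function.Injective ψ := by
        intro a b h
        apply Subtype.ext
        apply Subtype.ext
        exact congrArg (fun t => t.1) h
      have hfin3 : Finite {i : I // q i = n} := Finite.of_injective ψ hψ
      refine ⟨hfin3, ?_⟩
      have hle3 : Nat.card {i : I // q i = n} ≤ Nat.card (Spec (CommRingCat.of F) ⟶ X) :=
        (Nat.card_le_card_of_injective ψ hψ).trans hle2
      set H := Nat.card (Spec (CommRingCat.of F) ⟶ X) with hH
      have hHle : (Nat.card {i : I // q i = n} : ℝ) ≤ (H : ℝ) := by exact_mod_cast hle3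
      have hσpos : (0 : ℝ) < (n : ℝ) ^ (-σ) := Real.rpow_pos_of_pos hnpos _
      by_cases hpp : p₀ ≤ p
      · have h1 : H * n ≤ c * n ^ r := by
          have := hb1 hpp
          rwa [hFcard] at this
        have h2 : (H : ℝ) * (n : ℝ) ≤ (c : ℝ) * (n : ℝ) ^ r := by exact_mod_cast h1
        have h3 : (H : ℝ) ≤ (c : ℝ) * (n : ℝ) ^ ((r : ℝ) - 1) := by
          rw [Real.rpow_sub_one hnpos.ne', Real.rpow_natCast, ← mul_div_assoc, le_div_iff₀ hnpos]
          exact h2
        have h4 : (n : ℝ) ^ ((r : ℝ) - 1 - σ) = (n : ℝ) ^ ((r : ℝ) - 1) * (n : ℝ) ^ (-σ) := by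
          rw [← Real.rpow_add hnpos]
          congr 1
        calc (Nat.card {i : I // q i = n} : ℝ) * (n : ℝ) ^ (-σ)
            ≤ (H : ℝ) * (n : ℝ) ^ (-σ) := by gcongr
          _ ≤ ((c : ℝ) * (n : ℝ) ^ ((r : ℝ) - 1)) * (n : ℝ) ^ (-σ) := by gcongr
          _ = (c : ℝ) * (n : ℝ) ^ ((r : ℝ) - 1 - σ) := by rw [h4]; ring
          _ ≤ M n := by
              simp only [M]
              have : 0 ≤ ∑ p ∈ Finset.range p₀, M₂ p n := Finset.sum_nonneg fun p _ => hM₂nn p n
              linarith
      · have hpp' : p < p₀ := not_le.mp hpp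
        have h1 : H ≤ c * n ^ r := by
          have := hb2 hpp'
          rwa [hFcard] at this
        have h2 : (H : ℝ) ≤ (c : ℝ) * (n : ℝ) ^ r := by exact_mod_cast h1
        have h4 : (n : ℝ) ^ ((r : ℝ) - σ) = (n : ℝ) ^ r * (n : ℝ) ^ (-σ) := by
          rw [← Real.rpow_natCast, ← Real.rpow_add hnpos]
          congr 1
        have hnpm' : n = p ^ (m : ℕ) := by rw [← hFcard, hnpm]
        calc (Nat.card {i : I // q i = n} : ℝ) * (n : ℝ) ^ (-σ)
            ≤ (H : ℝ) * (n : ℝ) ^ (-σ) := by gcongr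
          _ ≤ ((c : ℝ) * (n : ℝ) ^ r) * (n : ℝ) ^ (-σ) := by gcongr
          _ = (c : ℝ) * (n : ℝ) ^ ((r : ℝ) - σ) := by rw [h4]; ring
          _ = M₂ p n := by
              simp only [M₂]
              rw [if_pos ⟨hp, m, m.pos, hnpm'⟩]
          _ ≤ ∑ p ∈ Finset.range p₀, M₂ p n :=
              Finset.single_le_sum (f := fun p => M₂ p n) (fun p _ => hM₂nn p n)
                (Finset.mem_range.mpr hpp')
          _ ≤ M n := by
              simp only [M]
              have : (0 : ℝ) ≤ (c : ℝ) * (n : ℝ) ^ ((r : ℝ) - 1 - σ) := by positivity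
              linarith
    · haveI : IsEmpty {i : I // q i = n} := not_nonempty_iff.mp hne
      refine ⟨inferInstance, ?_⟩
      simp only [Nat.card_of_isEmpty, Nat.cast_zero, zero_mul]
      exact hMnn n
  refine summable_of_sum_le (c := ∑' n, M n) (fun i => by positivity) ?_
  intro T
  calc ∑ i ∈ T, (Nat.card (X.residueField i.1) : ℝ) ^ (-σ)
      = ∑ i ∈ T, (fun n : ℕ => (n : ℝ) ^ (-σ)) (q i) := rfl
    _ = ∑ n ∈ T.image q, (T.filter (fun i => q i = n)).card • (n : ℝ) ^ (-σ) :=
        Finset.sum_comp (fun n : ℕ => (n : ℝ) ^ (-σ)) q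
    _ ≤ ∑ n ∈ T.image q, M n := by
        apply Finset.sum_le_sum
        intro n _
        obtain ⟨hfin, hle⟩ := hkey n
        haveI := hfin
        have h1 : (T.filter (fun i => q i = n)).card ≤ Nat.card {i : I // q i = n} := by
          rw [← Nat.card_eq_finsetCard]
          apply Nat.card_le_card_of_injective
            (fun a : {x // x ∈ T.filter (fun i => q i = n)} =>
              (⟨a.1, (Finset.mem_filter.mp a.2).2⟩ : {i : I // q i = n}))
          intro a b h
          apply Subtype.ext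
          exact congrArg (fun t => t.1) h
        have h2 : ((T.filter (fun i => q i = n)).card : ℝ) ≤ (Nat.card {i : I // q i = n} : ℝ) := by
          exact_mod_cast h1
        rw [nsmul_eq_mul]
        have hσnn : (0 : ℝ) ≤ (n : ℝ) ^ (-σ) := by positivity
        calc ((T.filter (fun i => q i = n)).card : ℝ) * (n : ℝ) ^ (-σ)
            ≤ (Nat.card {i : I // q i = n} : ℝ) * (n : ℝ) ^ (-σ) := by gcongr
          _ ≤ M n := hle
    _ ≤ ∑' n, M n := hMsum.sum_le_tsum _ (fun n _ => hMnn n)

end Groth.Agent.Lib.Helper67
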