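import Mathlib
import Groth.Agent.Lib.Helper67.ArithScheme
import Groth.Prelude.Def_ResDeg

/-!
# Finiteness of points of bounded degree on schemes of finite type over a finite field (helper67)
-/

set_option autoImplicit false
universe u
open CategoryTheory AlgebraicGeometry

namespace Groth.Agent.Lib.Helper67

/-- Finitely many `F`-points, `F` a finite field, on a scheme of finite type over `ℤ`. -/
theorem finite_points_int {X : Scheme.{u}}
    (f : X ⟶ Spec (CommRingCat.of (ULift.{u} ℤ))) [LocallyOfFiniteType f] [QuasiCompact f]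
    (F : Type u) [Field F] [Finite F] : Finite (Spec (CommRingCat.of F) ⟶ X) := by
  classical
  haveI : CompactSpace X := QuasiCompact.compactSpace_of_compactSpace f
  let 𝒰 := X.affineCover.finiteSubcover
  let Rg : 𝒰.I₀ → CommRingCat.{u} := fun i => Γ(𝒰.X i, ⊤)
  let j : ∀ i, Spec (Rg i) ⟶ X := fun i => (𝒰.X i).isoSpec.inv ≫ 𝒰.f i
  have hjrange : ∀ i, Set.range (j i).base = Set.range (𝒰.f i).base := by
    intro i
    simp only [j, Scheme.Hom.comp_base, TopCat.coe_comp]
    rw [Set.range_comp]
    have : Set.range ((𝒰.X i).isoSpec.inv.base) = Set.univ :=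
      Set.range_eq_univ.mpr (𝒰.X i).isoSpec.inv.surjective
    rw [this, Set.image_univ]
  have hcov : ∀ x : X, ∃ i, x ∈ Set.range (j i).base := by
    intro x
    obtain ⟨i, hi⟩ := 𝒰.exists_eq x
    exact ⟨i, by rw [hjrange]; exact hi⟩
  let φ : ∀ i, CommRingCat.of (ULift.{u} ℤ) ⟶ Rg i := fun i => Spec.preimage (j i ≫ f)
  have hft : ∀ i, Algebra.FiniteType ℤ (Rg i) := by
    intro i
    have h1 : LocallyOfFiniteType (Spec.map (φ i)) := by
      simp only [φ, Spec.map_preimage]
      infer_instance
    have h2 : (φ i).hom.FiniteType :=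
      (HasRingHomProperty.Spec_iff (P := @LocallyOfFiniteType)).mp h1
    have h3 : ((φ i).hom.comp
        ((ULift.ringEquiv.symm : ℤ ≃+* ULift.{u} ℤ) : ℤ →+* ULift.{u} ℤ)).FiniteType :=
      h2.comp (RingHom.FiniteType.of_surjective _ (RingEquiv.surjective _))
    have h4 : (φ i).hom.comp
        ((ULift.ringEquiv.symm : ℤ ≃+* ULift.{u} ℤ) : ℤ →+* ULift.{u} ℤ) =
        algebraMap ℤ (Rg i) := Subsingleton.elim _ _
    rw [h4] at h3
    exact RingHom.finiteType_algebraMap.mp h3
  let G := Spec (CommRingCat.of F) ⟶ X
  let Tgt := Σ i : 𝒰.I₀, (Rg i →+* F)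
  have hfinT : ∀ i, Finite (Rg i →+* F) := fun i => by
    haveI := hft i
    exact Groth.Agent.Lib.Helper67.finite_ringHom_of_finiteType (Rg i) F
  let pt : Spec (CommRingCat.of F) := default
  have hsub : ∀ (g : G), ∃ i, Set.range g.base ⊆ Set.range (j i).base := by
    intro g
    obtain ⟨i, hi⟩ := hcov (g.base pt)
    refine ⟨i, ?_⟩
    rintro _ ⟨y, rfl⟩
    rw [Subsingleton.elim y pt]
    exact hi
  choose ig hig using hsub
  let lft : ∀ g : G, Spec (CommRingCat.of F) ⟶ Spec (Rg (ig g)) :=
    fun g => IsOpenImmersion.lift (j (ig g)) g (hig g)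
  have hlft : ∀ g : G, lft g ≫ j (ig g) = g := fun g => IsOpenImmersion.lift_fac _ _ _
  let ψ : ∀ g : G, Rg (ig g) ⟶ CommRingCat.of F := fun g => Spec.preimage (lft g)
  let Θ : G → Tgt := fun g => ⟨ig g, (ψ g).hom⟩
  let Λ : Tgt → G := fun t => Spec.map (CommRingCat.ofHom t.2) ≫ j t.1
  have hΛΘ : ∀ g : G, Λ (Θ g) = g := by
    intro g
    have h1 : Spec.map (ψ g) = lft g := Spec.map_preimage _
    show Spec.map (CommRingCat.ofHom ((ψ g).hom)) ≫ j (ig g) = g
    rw [CommRingCat.ofHom_hom, h1, hlft g]
  have hΘinj : Function.Injective Θ := by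
    intro g1 g2 h
    rw [← hΛΘ g1, ← hΛΘ g2, h]
  haveI : Finite Tgt := inferInstance
  exact Finite.of_injective Θ hΘinj

/-- Finitely many `F`-points, `F` a finite field, on a scheme of finite type over a finite field. -/
theorem finite_points_finField {k : Type u} [Field k] [Finite k] {X : Scheme.{u}}
    (f : X ⟶ Spec (CommRingCat.of k)) [LocallyOfFiniteType f] [QuasiCompact f]
    (F : Type u) [Field F] [Finite F] : Finite (Spec (CommRingCat.of F) ⟶ X) := by
  let φ : ULift.{u} ℤ →+* k := (Int.castRingHom k).comp (ULift.ringEquiv : ULift.{u} ℤ ≃+* ℤ)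
  have hφ : φ.FiniteType := by
    have h1 : (Int.castRingHom k).FiniteType := by
      have h0 : Algebra.FiniteType ℤ k := inferInstance
      have h := RingHom.finiteType_algebraMap.mpr h0
      rwa [show algebraMap ℤ k = Int.castRingHom k from Subsingleton.elim _ _] at h
    exact h1.comp (RingHom.FiniteType.of_surjective _ (RingEquiv.surjective _))
  haveI : LocallyOfFiniteType (Spec.map (CommRingCat.ofHom φ)) :=
    (HasRingHomProperty.Spec_iff (P := @LocallyOfFiniteType)).mpr hφ
  exact finite_points_int (f ≫ Spec.map (CommRingCat.ofHom φ)) F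

/-- Finitely many points with a residue field of given finite cardinality. -/
theorem finite_pts_card_eq {X : Scheme.{u}}
    (hX : ∀ (F : Type u) [Field F] [Finite F], Finite (Spec (CommRingCat.of F) ⟶ X))
    (N : ℕ) (hN : N ≠ 0) : Finite {x : X // Nat.card (X.residueField x) = N} := by
  classical
  by_cases hne : Nonempty {x : X // Nat.card (X.residueField x) = N}
  · obtain ⟨x₀, hx₀⟩ := hne
    haveI : Finite (X.residueField x₀) := Nat.finite_of_card_ne_zero (by rw [hx₀]; exact hN)
    haveI := hX (X.residueField x₀)
    have h1 := (card_residueField_equiv_le (X := X) (X.residueField x₀)).1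
    refine Finite.of_injective (fun x : {x : X // Nat.card (X.residueField x) = N} =>
      (⟨x.1, ?_⟩ : {x : X // Nonempty (X.residueField x ≃+* X.residueField x₀)})) ?_
    · haveI : Finite (X.residueField x.1) :=
        Nat.finite_of_card_ne_zero (by rw [x.2]; exact hN)
      haveI := Fintype.ofFinite (X.residueField x.1)
      haveI := Fintype.ofFinite (X.residueField x₀)
      have hc : Fintype.card (X.residueField x.1) = Fintype.card (X.residueField x₀) := by
        rw [← Nat.card_eq_fintype_card, ← Nat.card_eq_fintype_card, x.2, hx₀]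
      exact ⟨(FiniteField.ringEquivOfCardEq hc : X.residueField x.1 ≃+* X.residueField x₀)⟩
    · intro x y h
      exact Subtype.ext (congrArg (fun z => z.1) h)
  · haveI : IsEmpty {x : X // Nat.card (X.residueField x) = N} := not_nonempty_iff.mp hne
    infer_instance

/-- The residue field at a point of the spectrum of a field `k` has the cardinality of `k`. -/
theorem natCard_residueField_spec_field (k : Type u) [Field k] (y : Spec (CommRingCat.of k)) :
    Nat.card ((Spec (CommRingCat.of k)).residueField y) = Nat.card k := by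
  let e := Scheme.Spec.residueFieldIso (CommRingCat.of k) y
  have h1 : Nat.card ((Spec (CommRingCat.of k)).residueField y) =
      Nat.card y.asIdeal.ResidueField :=
    Nat.card_congr e.commRingCatIsoToRingEquiv.toEquiv
  haveI : y.asIdeal.IsMaximal := by
    have : y.asIdeal = ⊥ := Ideal.eq_bot_of_prime _
    rw [this]
    exact Ideal.bot_isMaximal
  have h2 : Function.Bijective (algebraMap k y.asIdeal.ResidueField) :=
    ⟨(algebraMap k y.asIdeal.ResidueField).injective, y.asIdeal.algebraMap_residueField_surjective⟩
  rw [h1]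
  exact (Nat.card_congr (Equiv.ofBijective _ h2)).symm

/-- A point of positive residue degree `e` over a field `k` has a residue field with `#k ^ e`
elements. -/
theorem natCard_residueField_of_residueDegree {k : Type u} [Field k] {X : Scheme.{u}}
    (f : X ⟶ Spec (CommRingCat.of k)) (x : X) (e : ℕ) (he : 1 ≤ e)
    (hx : EGA4loc.residueDegree f x = e) :
    Nat.card (X.residueField x) = Nat.card k ^ e := by
  letI := (f.residueFieldMap x).hom.toAlgebra
  have hx' : Module.finrank ((Spec (CommRingCat.of k)).residueField (f.base x))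
      (X.residueField x) = e := hx
  haveI : Module.Finite ((Spec (CommRingCat.of k)).residueField (f.base x)) (X.residueField x) :=
    Module.finite_of_finrank_pos (by rw [hx']; omega)
  rw [Module.natCard_eq_pow_finrank
    (K := (Spec (CommRingCat.of k)).residueField (f.base x)) (V := X.residueField x), hx',
    natCard_residueField_spec_field]

/-- Finitely many closed points of given positive degree on a scheme of finite type over a finite
field. -/
theorem finite_degPts {k : Type u} [Field k] [Finite k] {X : Scheme.{u}}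
    (f : X ⟶ Spec (CommRingCat.of k)) [LocallyOfFiniteType f] [QuasiCompact f] (e : ℕ)
    (he : 1 ≤ e) :
    Finite {x : X // IsClosed ({x} : Set X) ∧ EGA4loc.residueDegree f x = e} := by
  have hN : Nat.card k ^ e ≠ 0 := pow_ne_zero _ Nat.card_pos.ne'
  haveI := finite_pts_card_eq (X := X) (fun F _ _ => finite_points_finField f F) (Nat.card k ^ e) hN
  refine Finite.of_injective (fun x : {x : X // IsClosed ({x} : Set X) ∧
      EGA4loc.residueDegree f x = e} =>
    (⟨x.1, natCard_residueField_of_residueDegree f x.1 e he x.2.2⟩ :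
      {x : X // Nat.card (X.residueField x) = Nat.card k ^ e})) ?_
  intro x y h
  exact Subtype.ext (congrArg (fun z => z.1) h)

end Groth.Agent.Lib.Helper67
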