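import Mathlib

/-!
Euler products over a free commutative monoid on a countable set of "primes" `i : I` with norms
`q i ≥ 2`: the Dirichlet series `∑ a_n n^{-s}`, `a_n = #{β : I →₀ ℕ | ∏ q_i ^ β_i = n}`, converges
absolutely and does not vanish as soon as `∑ q_i ^ {-Re s} < ∞` (and `Re s > 0`).
The proof embeds `I` into the prime numbers and uses Mathlib's Euler product for completely
multiplicative functions on `ℕ`.
-/

open Complex

namespace Groth.Agent.Lib.Helper67

/-- The completely multiplicative function on `ℕ` with prescribed values at the primes. -/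
noncomputable def cmulOfPrimes (g : ℕ → ℂ) : ℕ →*₀ ℂ where
  toFun n := if n = 0 then 0 else n.factorization.prod (fun p e => g p ^ e)
  map_zero' := by simp
  map_one' := by simp
  map_mul' a b := by
    by_cases ha : a = 0
    · simp [ha]
    by_cases hb : b = 0
    · simp [hb]
    simp only [ha, hb, mul_eq_zero, or_self, if_false]
    rw [Nat.factorization_mul ha hb, Finsupp.prod_add_index']
    · intro p; simp
    · intro p e₁ e₂; exact pow_add _ _ _

theorem cmulOfPrimes_prime (g : ℕ → ℂ) {p : ℕ} (hp : p.Prime) : cmulOfPrimes g p = g p := by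
  show (if p = 0 then 0 else p.factorization.prod (fun p e => g p ^ e)) = g p
  rw [if_neg hp.ne_zero, hp.factorization, Finsupp.prod_single_index]
  · simp
  · simp

/-- Summability of a completely multiplicative function whose values at the primes are summable
and uniformly bounded in norm by `ρ < 1`. -/
theorem summable_norm_cmulOfPrimes (g : ℕ → ℂ) (ρ : ℝ) (hρ : ρ < 1) (hg : ∀ p, ‖g p‖ ≤ ρ)
    (hsum : Summable (fun p => ‖g p‖)) : Summable (fun n => ‖cmulOfPrimes g n‖) := by
  classical
  have hρ0 : 0 ≤ ρ := (norm_nonneg _).trans (hg 0)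
  set S : ℝ := ∑' p, ‖g p‖ with hS
  let Fhom : ℕ →* ℝ :=
    { toFun := fun n => ‖cmulOfPrimes g n‖
      map_one' := by simp
      map_mul' := fun a b => by simp }
  have hFnn : ∀ n, 0 ≤ Fhom n := fun n => norm_nonneg (cmulOfPrimes g n)
  have hF : ∀ {p : ℕ}, p.Prime → ‖Fhom p‖ < 1 := by
    intro p hp
    show ‖‖cmulOfPrimes g p‖‖ < 1
    rw [norm_norm, cmulOfPrimes_prime g hp]
    exact (hg p).trans_lt hρ
  have hbound : ∀ N : ℕ, ∑' m : N.smoothNumbers, Fhom m ≤ Real.exp (S / (1 - ρ)) := by
    intro N
    have h1 := (EulerProduct.summable_and_hasSum_smoothNumbers_prod_primesBelow_geometric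
      (f := Fhom) hF N).2
    rw [h1.tsum_eq]
    have h2 : ∀ p ∈ N.primesBelow, (1 - Fhom p)⁻¹ ≤ Real.exp (‖g p‖ / (1 - ρ)) := by
      intro p hp
      have hpp : p.Prime := Nat.prime_of_mem_primesBelow hp
      have hval : Fhom p = ‖g p‖ := by
        show ‖cmulOfPrimes g p‖ = ‖g p‖
        rw [cmulOfPrimes_prime g hpp]
      rw [hval]
      have hu0 : 0 ≤ ‖g p‖ := norm_nonneg _
      have hu1 : ‖g p‖ ≤ ρ := hg p
      have h1ρ : 0 < 1 - ρ := by linarith
      have h1u : 0 < 1 - ‖g p‖ := by linarith
      calc (1 - ‖g p‖)⁻¹ = 1 + ‖g p‖ / (1 - ‖g p‖) := by field_simp; ring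
        _ ≤ 1 + ‖g p‖ / (1 - ρ) := by
            gcongr
        _ ≤ Real.exp (‖g p‖ / (1 - ρ)) := by
            rw [add_comm]
            exact Real.add_one_le_exp _
    calc ∏ p ∈ N.primesBelow, (1 - Fhom p)⁻¹
        ≤ ∏ p ∈ N.primesBelow, Real.exp (‖g p‖ / (1 - ρ)) := by
          apply Finset.prod_le_prod
          · intro p hp
            have hpp : p.Prime := Nat.prime_of_mem_primesBelow hp
            have : Fhom p < 1 := by
              have := hF hpp
              rwa [Real.norm_of_nonneg (hFnn p)] at this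
            exact inv_nonneg.mpr (by linarith)
          · exact h2
      _ = Real.exp (∑ p ∈ N.primesBelow, ‖g p‖ / (1 - ρ)) := (Real.exp_sum _ _).symm
      _ ≤ Real.exp (S / (1 - ρ)) := by
          apply Real.exp_le_exp.mpr
          rw [← Finset.sum_div]
          have h1ρ : 0 < 1 - ρ := by linarith
          apply div_le_div_of_nonneg_right _ h1ρ.le
          exact hsum.sum_le_tsum _ (fun _ _ => norm_nonneg _)
  refine summable_of_sum_le (c := Real.exp (S / (1 - ρ))) (fun n => norm_nonneg _) ?_
  intro T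
  set N := T.sup id + 1 with hN
  have hsm := (EulerProduct.summable_and_hasSum_smoothNumbers_prod_primesBelow_geometric
      (f := Fhom) hF N).1
  have hsm' : Summable (fun m : N.smoothNumbers => Fhom m) := by
    refine hsm.congr ?_
    intro m
    exact Real.norm_of_nonneg (hFnn _)
  calc ∑ n ∈ T, ‖cmulOfPrimes g n‖
      = ∑ n ∈ T.filter (· ∈ N.smoothNumbers), ‖cmulOfPrimes g n‖ := by
        symm
        apply Finset.sum_filter_of_ne
        intro n hn hne
        have hn0 : n ≠ 0 := by
          rintro rfl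
          simp at hne
        apply Nat.mem_smoothNumbers_of_lt (Nat.pos_of_ne_zero hn0)
        have : n ≤ T.sup id := Finset.le_sup (f := id) hn
        omega
    _ = ∑ m ∈ T.subtype (· ∈ N.smoothNumbers), Fhom m := by
        rw [Finset.sum_subtype_eq_sum_filter]
        rfl
    _ ≤ ∑' m : N.smoothNumbers, Fhom m :=
        hsm'.sum_le_tsum _ (fun _ _ => hFnn _)
    _ ≤ Real.exp (S / (1 - ρ)) := hbound N

/-- The number of elements of norm `n` in the free commutative monoid on `I`, the generator `i`
having norm `q i`. -/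
noncomputable def freeCount {I : Type*} (q : I → ℕ) (n : ℕ) : ℕ :=
  Nat.card {β : I →₀ ℕ // β.prod (fun i m => q i ^ m) = n}

/-- `n ↦ n ^ (-s)` as a monoid homomorphism `ℕ →* ℂ`. -/
noncomputable def natCpowHom (s : ℂ) : ℕ →* ℂ where
  toFun n := (n : ℂ) ^ (-s)
  map_one' := by simp
  map_mul' a b := by
    push_cast
    exact Complex.natCast_mul_natCast_cpow a b (-s)

theorem lseries_free {I : Type*} (q : I → ℕ) (hq : ∀ i, 2 ≤ q i) (s : ℂ) (hs : 0 < s.re)
    (hsum : Summable (fun i => (q i : ℝ) ^ (-s.re))) :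
    LSeriesSummable (fun n => (freeCount q n : ℂ)) s ∧
      LSeries (fun n => (freeCount q n : ℂ)) s ≠ 0 := by
  classical
  -- countability
  have hcount : Countable I := by
    have h1 := hsum.countable_support
    have hsupp : Function.support (fun i => (q i : ℝ) ^ (-s.re)) = Set.univ := by
      ext i
      simp only [Function.mem_support, Set.mem_univ, iff_true]
      have : (0 : ℝ) < (q i : ℝ) := by
        have := hq i
        positivity
      exact (Real.rpow_pos_of_pos this _).ne'
    rw [hsupp] at h1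
    exact Set.countable_univ_iff.mp h1
  obtain ⟨e, he⟩ := exists_injective_nat I
  let ι : I → ℕ := fun i => Nat.nth Nat.Prime (e i)
  have hιprime : ∀ i, (ι i).Prime := fun i => Nat.prime_nth_prime _
  have hιinj : Function.Injective ι :=
    fun i j h => he (Nat.nth_injective Nat.infinite_setOf_prime h)
  let w : I → ℂ := fun i => (q i : ℂ) ^ (-s)
  have hwnorm : ∀ i, ‖w i‖ = (q i : ℝ) ^ (-s.re) := fun i => by
    simp only [w]
    rw [Complex.norm_natCast_cpow_of_pos (by have := hq i; omega)]
    simp
  let g : ℕ → ℂ := Function.extend ι w 0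
  have hgι : ∀ i, g (ι i) = w i := fun i => hιinj.extend_apply _ _ i
  have hg0 : ∀ p, p ∉ Set.range ι → g p = 0 := fun p hp => by
    simp only [g]
    rw [Function.extend_apply' _ _ _ (by simpa using hp)]
    rfl
  set ρ : ℝ := (2 : ℝ) ^ (-s.re) with hρdef
  have hρ : ρ < 1 := Real.rpow_lt_one_of_one_lt_of_neg (by norm_num) (by linarith)
  have hgρ : ∀ p, ‖g p‖ ≤ ρ := by
    intro p
    by_cases hp : p ∈ Set.range ι
    · obtain ⟨i, rfl⟩ := hp
      rw [hgι, hwnorm]
      exact Real.rpow_le_rpow_of_nonpos (by norm_num) (by exact_mod_cast hq i) (by linarith)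
    · rw [hg0 p hp, norm_zero]
      positivity
  have hgsum : Summable (fun p => ‖g p‖) := by
    have h1 : (fun p => ‖g p‖) ∘ ι = fun i => (q i : ℝ) ^ (-s.re) := by
      funext i
      simp [hgι, hwnorm]
    rw [← hιinj.summable_iff]
    · rw [h1]
      exact hsum
    · intro p hp
      rw [hg0 p hp, norm_zero]
  let f := cmulOfPrimes g
  have hfsum : Summable (fun n => ‖f n‖) := summable_norm_cmulOfPrimes g ρ hρ hgρ hgsum
  have hne : ∑' n, f n ≠ 0 := by
    rw [← EulerProduct.exp_tsum_primes_log_eq_tsum hfsum]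
    exact Complex.exp_ne_zero _
  -- the embedding of the free monoid into `ℕ`
  let ν : (I →₀ ℕ) → ℕ := fun β => (β.mapDomain ι).prod (· ^ ·)
  have hsuppprime : ∀ β : I →₀ ℕ, ∀ p ∈ (β.mapDomain ι).support, p.Prime := by
    intro β p hp
    have h1 := Finsupp.mapDomain_support hp
    obtain ⟨i, -, rfl⟩ := Finset.mem_image.mp h1
    exact hιprime i
  have hνfact : ∀ β, (ν β).factorization = β.mapDomain ι := fun β =>
    Nat.prod_pow_factorization_eq_self (hsuppprime β)
  have hνinj : Function.Injective ν := by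
    intro β₁ β₂ h
    apply Finsupp.mapDomain_injective hιinj
    rw [← hνfact, ← hνfact, h]
  have hν0 : ∀ β, ν β ≠ 0 := by
    intro β
    simp only [ν]
    rw [Finsupp.prod_ne_zero_iff]
    intro p hp
    exact pow_ne_zero _ (hsuppprime β p hp).ne_zero
  let Nm : (I →₀ ℕ) → ℕ := fun β => β.prod (fun i m => q i ^ m)
  have hfν : ∀ β, f (ν β) = natCpowHom s (Nm β) := by
    intro β
    show (if ν β = 0 then 0 else (ν β).factorization.prod (fun p e => g p ^ e)) = _
    rw [if_neg (hν0 β), hνfact, Finsupp.prod_mapDomain_index (by simp) (fun _ _ _ => pow_add _ _ _)]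
    simp only [Nm]
    rw [map_finsuppProd]
    refine Finsupp.prod_congr fun i _ => ?_
    rw [hgι, map_pow]
    rfl
  have hfrange : Function.support f ⊆ Set.range ν := by
    intro n hn
    have hn0 : n ≠ 0 := by
      rintro rfl
      exact hn (map_zero f)
    have hfn : f n = n.factorization.prod (fun p e => g p ^ e) := by
      show (if n = 0 then 0 else _) = _
      rw [if_neg hn0]
    have hsub : (n.factorization.support : Set ℕ) ⊆ Set.range ι := by
      intro p hp
      by_contra hpr
      apply hn
      rw [hfn, Finsupp.prod]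
      apply Finset.prod_eq_zero hp
      rw [hg0 p hpr]
      exact zero_pow (Finsupp.mem_support_iff.mp hp)
    refine ⟨n.factorization.comapDomain ι hιinj.injOn, ?_⟩
    simp only [ν]
    rw [Finsupp.mapDomain_comapDomain ι hιinj _ hsub]
    exact Nat.factorization_prod_pow_eq_self hn0
  have hsumeq : ∑' β, natCpowHom s (Nm β) = ∑' n, f n := by
    rw [← hνinj.tsum_eq hfrange]
    exact tsum_congr fun β => (hfν β).symm
  have hTsum : Summable (fun β : I →₀ ℕ => natCpowHom s (Nm β)) := by
    have h1 : Summable (fun β => ‖f (ν β)‖) := hfsum.comp_injective hνinj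
    have h2 : Summable (fun β => f (ν β)) := h1.of_norm
    exact h2.congr hfν
  -- regroup by the norm
  let E : (Σ n : ℕ, {β : I →₀ ℕ // Nm β = n}) ≃ (I →₀ ℕ) := Equiv.sigmaFiberEquiv Nm
  have hTsum' : Summable (fun p : (Σ n : ℕ, {β : I →₀ ℕ // Nm β = n}) =>
      natCpowHom s (Nm (E p))) := (E.summable_iff (f := fun β => natCpowHom s (Nm β))).mpr hTsum
  have hfib : ∀ n : ℕ, ∑' c : {β : I →₀ ℕ // Nm β = n}, natCpowHom s (Nm (E ⟨n, c⟩)) =
      (freeCount q n : ℂ) * natCpowHom s n := by
    intro n
    have h1 : ∀ c : {β : I →₀ ℕ // Nm β = n}, natCpowHom s (Nm (E ⟨n, c⟩)) = natCpowHom s n := by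
      intro c
      have : Nm (E ⟨n, c⟩) = n := c.2
      rw [this]
    rw [tsum_congr h1, tsum_const, nsmul_eq_mul]
    rfl
  have hterm : ∀ n : ℕ, LSeries.term (fun n => (freeCount q n : ℂ)) s n =
      (freeCount q n : ℂ) * natCpowHom s n := by
    intro n
    by_cases hn : n = 0
    · subst hn
      have : freeCount q 0 = 0 := by
        simp only [freeCount]
        have : IsEmpty {β : I →₀ ℕ // β.prod (fun i m => q i ^ m) = 0} := by
          constructor
          rintro ⟨β, hβ⟩
          rw [Finsupp.prod, Finset.prod_eq_zero_iff] at hβ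
          obtain ⟨i, -, hi⟩ := hβ
          have := hq i
          exact absurd hi (pow_ne_zero _ (by omega))
        exact Nat.card_of_isEmpty
      simp [this]
    · rw [LSeries.term_of_ne_zero hn]
      show _ = _ * (n : ℂ) ^ (-s)
      rw [Complex.cpow_neg, div_eq_mul_inv]
  constructor
  · have h1 := hTsum'.sigma
    have h2 : Summable (fun n : ℕ => (freeCount q n : ℂ) * natCpowHom s n) :=
      h1.congr hfib
    exact h2.congr fun n => (hterm n).symm
  · have h1 := hTsum'.tsum_sigma
    have h2 : ∑' p : (Σ n : ℕ, {β : I →₀ ℕ // Nm β = n}), natCpowHom s (Nm (E p)) =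
        ∑' β, natCpowHom s (Nm β) := E.tsum_eq (fun β => natCpowHom s (Nm β))
    rw [LSeries, tsum_congr hterm, ← tsum_congr hfib, ← h1, h2, hsumeq]
    exact hne

end Groth.Agent.Lib.Helper67
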