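import Mathlib
import Groth.Prelude.Def_W4c1zetahwZeta
import Groth.Agent.Lib.Helper67.EulerFree
import Groth.Agent.Lib.Helper67.ArithScheme

/-!
The arithmetic zeta function `L_X(s) = ∑ a_n n^{-s}` (`a_n` = number of effective `0`-cycles of
norm `n`) of a scheme of finite type over `ℤ` of dimension `≤ r` converges absolutely and has no
zeros for `Re s > r`.
-/

universe u
open CategoryTheory AlgebraicGeometry

namespace Groth.Agent.Lib.Helper67

/-- Cycles of nonzero norm live on the closed points with finite residue field. -/
theorem cycleNormCount_eq_freeCount (X : Scheme.{u}) {n : ℕ} (hn : n ≠ 0) :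
    Zeta.cycleNormCount X n =
      freeCount (fun i : {x : X // IsClosed ({x} : Set X) ∧ 2 ≤ Nat.card (X.residueField x)} =>
        Nat.card (X.residueField i.1)) n := by
  classical
  unfold Zeta.cycleNormCount freeCount
  let Pp : X → Prop := fun x => IsClosed ({x} : Set X) ∧ 2 ≤ Nat.card (X.residueField x)
  have hsupp : ∀ α : X →₀ ℕ, (∀ x ∈ α.support, IsClosed ({x} : Set X)) →
      α.prod (fun x m => Nat.card (X.residueField x) ^ m) = n → ∀ x ∈ α.support, Pp x := by
    intro α hα hprod x hx
    refine ⟨hα x hx, ?_⟩
    have hαx : α x ≠ 0 := Finsupp.mem_support_iff.mp hx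
    have h0 : Nat.card (X.residueField x) ≠ 0 := by
      intro h0
      apply hn
      rw [← hprod, Finsupp.prod]
      apply Finset.prod_eq_zero hx
      rw [h0]
      exact zero_pow hαx
    have h1 : Nat.card (X.residueField x) ≠ 1 := by
      intro h1
      rw [Nat.card_eq_one_iff_unique] at h1
      obtain ⟨hs, -⟩ := h1
      exact zero_ne_one (Subsingleton.elim (0 : X.residueField x) 1)
    omega
  refine Nat.card_congr
    { toFun := fun a => ⟨a.1.subtypeDomain Pp, by
        rw [Finsupp.prod_subtypeDomain_index (h := fun x m => Nat.card (X.residueField x) ^ m)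
          (hsupp a.1 a.2.1 a.2.2)]
        exact a.2.2⟩
      invFun := fun b => ⟨b.1.extendDomain, by
        have hsub : ∀ x ∈ (b.1.extendDomain : X →₀ ℕ).support, Pp x := fun x hx =>
          Finsupp.support_extendDomain_subset b.1 hx
        refine ⟨fun x hx => (hsub x hx).1, ?_⟩
        rw [← Finsupp.prod_subtypeDomain_index
          (h := fun x m => Nat.card (X.residueField x) ^ m) hsub,
          Finsupp.subtypeDomain_extendDomain]
        exact b.2⟩
      left_inv := fun a => by
        apply Subtype.ext
        exact Finsupp.extendDomain_subtypeDomain a.1 (hsupp a.1 a.2.1 a.2.2)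
      right_inv := fun b => by
        apply Subtype.ext
        exact Finsupp.subtypeDomain_extendDomain b.1 }

/-- Convergence and non-vanishing of the arithmetic zeta function in `Re s > dim X`. -/
theorem arithZeta_summable_ne_zero {X : Scheme.{u}}
    (f : X ⟶ Spec (CommRingCat.of (ULift.{u} ℤ))) [LocallyOfFiniteType f] [QuasiCompact f] (r : ℕ)
    (hr : topologicalKrullDim X ≤ r) (s : ℂ) (hs : (r : ℝ) < s.re) :
    LSeriesSummable (Zeta.arithCoeff X) s ∧ LSeries (Zeta.arithCoeff X) s ≠ 0 := by
  have hs0 : 0 < s.re := lt_of_le_of_lt (Nat.cast_nonneg r) hs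
  have hsum := summable_closedPts f r hr s.re hs
  have key := lseries_free
    (fun i : {x : X // IsClosed ({x} : Set X) ∧ 2 ≤ Nat.card (X.residueField x)} =>
      Nat.card (X.residueField i.1)) (fun i => i.2.2) s hs0 hsum
  have hcongr : ∀ n : ℕ, n ≠ 0 → Zeta.arithCoeff X n =
      (freeCount (fun i : {x : X // IsClosed ({x} : Set X) ∧ 2 ≤ Nat.card (X.residueField x)} =>
        Nat.card (X.residueField i.1)) n : ℂ) := by
    intro n hn
    show ((Zeta.cycleNormCount X n : ℕ) : ℂ) = _
    rw [cycleNormCount_eq_freeCount X hn]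
  constructor
  · exact (LSeriesSummable_congr s (fun {n} hn => hcongr n hn)).mpr key.1
  · rw [LSeries_congr (fun {n} hn => hcongr n hn) s]
    exact key.2

end Groth.Agent.Lib.Helper67
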