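import Groth.Agent.Lib.Helper67.CurvePoints
import Mathlib.AlgebraicGeometry.Noetherian

/-!
# Proper closed subsets of a curve are finite
-/

set_option autoImplicit false
universe u
open CategoryTheory AlgebraicGeometry TopologicalSpace

namespace Groth.Agent.Lib.Helper67.CurveFinite

open Groth.Agent.Lib.Helper67 Groth.Agent.Lib.Helper67.CurvePoints

variable {k : Type u} [Field k] {C : Scheme.{u}} {f : C ⟶ Spec (CommRingCat.of k)} [IsIntegral C]

theorem noetherianSpace (hC : Curve.IsSmoothProperCurve k C f) : NoetherianSpace C := by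
  haveI := isLocallyNoetherian hC
  obtain ⟨hprop, hsm, hint, hdim⟩ := hC
  haveI : CompactSpace C := QuasiCompact.compactSpace_of_compactSpace f
  haveI : IsNoetherian C := {}
  infer_instance

/-- the complement of a nonempty open subset of a curve is finite -/
theorem finite_compl (hC : Curve.IsSmoothProperCurve k C f) (W : C.Opens)
    (hW : genericPoint C ∈ W) : ((W : Set C)ᶜ).Finite := by
  haveI := noetherianSpace hC
  obtain ⟨S, hSf, hSc, hSi, hSU⟩ :=
    NoetherianSpace.exists_finite_set_isClosed_irreducible (W.isOpen.isClosed_compl)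
  rw [hSU]
  refine Set.Finite.sUnion hSf fun t ht => ?_
  obtain ⟨ξ, hξ⟩ := QuasiSober.sober (hSi t ht) (hSc t ht)
  have hξt : ξ ∈ t := hξ.mem
  have hξW : ξ ∈ (W : Set C)ᶜ := by rw [hSU]; exact ⟨t, ht, hξt⟩
  have hξη : ξ ≠ genericPoint C := by
    rintro rfl
    exact hξW hW
  have hcl : IsClosed ({ξ} : Set C) := isClosed_singleton_of_ne hC ξ hξη
  have : t = {ξ} := by
    rw [← hξ.def, hcl.closure_eq]
  rw [this]
  exact Set.finite_singleton ξ

end Groth.Agent.Lib.Helper67.CurveFinite
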