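import Groth.Agent.FunFld.RR

/-!
# Functions regular outside two places: the quotient computing the genus
-/

set_option autoImplicit false

open FunFld WithZero

namespace Groth.Agent.Lib.Helper67.FFTwoPoint

open Groth.Agent.FF

universe u v
variable {k : Type u} {K : Type v} [Field k] [Field K] [Algebra k K]

/-- functions regular outside the set `S` of places -/
def regOutside (S : Set (Place k K)) : Submodule k K where
  carrier := {x | ∀ Q : Place k K, Q ∉ S → Q.1 x ≤ 1}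
  add_mem' {x y} hx hy Q hQ := (Q.1.map_add x y).trans (max_le (hx Q hQ) (hy Q hQ))
  zero_mem' Q _ := by simp
  smul_mem' c x hx Q hQ := (val_smul_le Q c x).trans (hx Q hQ)

theorem mem_regOutside (S : Set (Place k K)) (x : K) :
    x ∈ regOutside S ↔ ∀ Q : Place k K, Q ∉ S → Q.1 x ≤ 1 := Iff.rfl

theorem L_inf (A B : Divisor k K) : L (A ⊓ B) = L A ⊓ L B := by
  ext x
  rw [Submodule.mem_inf, mem_L, mem_L, mem_L]
  constructor
  · intro h
    refine ⟨fun P => (h P).trans ?_, fun P => (h P).trans ?_⟩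
    · rw [exp_le_exp, Finsupp.inf_apply]; exact inf_le_left
    · rw [exp_le_exp, Finsupp.inf_apply]; exact inf_le_right
  · rintro ⟨h1, h2⟩ P
    rw [Finsupp.inf_apply]
    rcases le_total (A P) (B P) with h | h
    · rw [inf_eq_left.mpr h]; exact h1 P
    · rw [inf_eq_right.mpr h]; exact h2 P

theorem deg_inf_add_deg_sup (A B : Divisor k K) :
    (A ⊓ B).deg + (A ⊔ B).deg = A.deg + B.deg := by
  rw [← deg_add, ← deg_add]
  congr 1
  ext P
  simp only [Finsupp.add_apply, Finsupp.inf_apply, Finsupp.sup_apply]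
  exact min_add_max _ _

/-- if `deg (A ⊓ B) ≥ 2g - 1` then `L (A ⊔ B) = L A + L B` -/
theorem L_sup (hK : IsFunctionField k K) (A B : Divisor k K)
    (h : 2 * (genus k K : ℤ) - 1 ≤ (A ⊓ B).deg) : L (A ⊔ B) = L A ⊔ L B := by
  have hA : 2 * (genus k K : ℤ) - 1 ≤ A.deg := h.trans (deg_mono inf_le_left)
  have hB : 2 * (genus k K : ℤ) - 1 ≤ B.deg := h.trans (deg_mono inf_le_right)
  have hAB : 2 * (genus k K : ℤ) - 1 ≤ (A ⊔ B).deg := hA.trans (deg_mono le_sup_left)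
  have hle : L A ⊔ L B ≤ L (A ⊔ B) := sup_le (L_mono le_sup_left) (L_mono le_sup_right)
  haveI := finite_L hK (A ⊔ B)
  haveI := finite_L hK A
  haveI := finite_L hK B
  symm
  apply Submodule.eq_of_le_of_finrank_le hle
  have h1 := Submodule.finrank_sup_add_finrank_inf_eq (L A) (L B)
  rw [← L_inf] at h1
  have e1 := ell_eq_of_deg_ge hK A hA
  have e2 := ell_eq_of_deg_ge hK B hB
  have e3 := ell_eq_of_deg_ge hK (A ⊓ B) h
  have e4 := ell_eq_of_deg_ge hK (A ⊔ B) hAB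
  have e5 := deg_inf_add_deg_sup A B
  unfold ell at e1 e2 e3 e4
  have h2 : (Module.finrank k ↥(L A ⊔ L B) : ℤ) + Module.finrank k ↥(L (A ⊓ B)) =
      Module.finrank k ↥(L A) + Module.finrank k ↥(L B) := by exact_mod_cast h1
  have : (Module.finrank k ↥(L (A ⊔ B)) : ℤ) ≤ Module.finrank k ↥(L A ⊔ L B) := by linarith
  exact_mod_cast this

end Groth.Agent.Lib.Helper67.FFTwoPoint

namespace Groth.Agent.Lib.Helper67.FFTwoPoint

open Groth.Agent.FF

universe u v
variable {k : Type u} {K : Type v} [Field k] [Field K] [Algebra k K]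

section TwoPoints

variable {P₁ P₂ : Place k K}

/-- the divisor `n P₁ + m P₂` -/
noncomputable def dv (P₁ P₂ : Place k K) (n m : ℕ) : Divisor k K :=
  Finsupp.single P₁ (n : ℤ) + Finsupp.single P₂ (m : ℤ)

theorem dv_apply_left (hne : P₁ ≠ P₂) (n m : ℕ) : dv P₁ P₂ n m P₁ = n := by
  unfold dv
  rw [Finsupp.add_apply, Finsupp.single_eq_same, Finsupp.single_eq_of_ne hne, add_zero]

theorem dv_apply_right (hne : P₁ ≠ P₂) (n m : ℕ) : dv P₁ P₂ n m P₂ = m := by
  unfold dv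
  rw [Finsupp.add_apply, Finsupp.single_eq_same, Finsupp.single_eq_of_ne hne.symm, zero_add]

theorem dv_apply_other (n m : ℕ) {Q : Place k K} (h1 : Q ≠ P₁) (h2 : Q ≠ P₂) :
    dv P₁ P₂ n m Q = 0 := by
  unfold dv
  rw [Finsupp.add_apply, Finsupp.single_eq_of_ne h1, Finsupp.single_eq_of_ne h2, add_zero]

theorem dv_inf (hne : P₁ ≠ P₂) (n m n' m' : ℕ) :
    dv P₁ P₂ n m ⊓ dv P₁ P₂ n' m' = dv P₁ P₂ (min n n') (min m m') := by
  ext Q
  rw [Finsupp.inf_apply]
  by_cases h1 : Q = P₁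
  · subst h1
    rw [dv_apply_left hne, dv_apply_left hne, dv_apply_left hne]
    push_cast; rfl
  by_cases h2 : Q = P₂
  · subst h2
    rw [dv_apply_right hne, dv_apply_right hne, dv_apply_right hne]
    push_cast; rfl
  rw [dv_apply_other _ _ h1 h2, dv_apply_other _ _ h1 h2, dv_apply_other _ _ h1 h2, inf_idem]

theorem dv_sup (hne : P₁ ≠ P₂) (n m n' m' : ℕ) :
    dv P₁ P₂ n m ⊔ dv P₁ P₂ n' m' = dv P₁ P₂ (max n n') (max m m') := by
  ext Q
  rw [Finsupp.sup_apply]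
  by_cases h1 : Q = P₁
  · subst h1
    rw [dv_apply_left hne, dv_apply_left hne, dv_apply_left hne]
    push_cast; rfl
  by_cases h2 : Q = P₂
  · subst h2
    rw [dv_apply_right hne, dv_apply_right hne, dv_apply_right hne]
    push_cast; rfl
  rw [dv_apply_other _ _ h1 h2, dv_apply_other _ _ h1 h2, dv_apply_other _ _ h1 h2, sup_idem]

theorem dv_zero_zero : dv P₁ P₂ 0 0 = 0 := by
  unfold dv; simp

theorem deg_dv (n m : ℕ) : (dv P₁ P₂ n m).deg = n * P₁.deg + m * P₂.deg := by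
  unfold dv
  rw [deg_add, deg_single, deg_single]

theorem L_dv_le (n m : ℕ) : L (dv P₁ P₂ n m) ≤ regOutside ({P₁, P₂} : Set (Place k K)) := by
  intro x hx Q hQ
  have h1 : Q ≠ P₁ := fun h => hQ (h ▸ Set.mem_insert _ _)
  have h2 : Q ≠ P₂ := fun h => hQ (h ▸ Set.mem_insert_of_mem _ rfl)
  have := hx Q
  rwa [dv_apply_other _ _ h1 h2, exp_zero] at this

theorem L_dv_left_le (hne : P₁ ≠ P₂) (n : ℕ) :
    L (dv P₁ P₂ n 0) ≤ regOutside ({P₁} : Set (Place k K)) := by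
  intro x hx Q hQ
  have h1 : Q ≠ P₁ := fun h => hQ (h ▸ rfl)
  have := hx Q
  by_cases h2 : Q = P₂
  · subst h2
    rwa [dv_apply_right hne, Nat.cast_zero, exp_zero] at this
  · rwa [dv_apply_other _ _ h1 h2, exp_zero] at this

theorem L_dv_right_le (hne : P₁ ≠ P₂) (m : ℕ) :
    L (dv P₁ P₂ 0 m) ≤ regOutside ({P₂} : Set (Place k K)) := by
  intro x hx Q hQ
  have h2 : Q ≠ P₂ := fun h => hQ (h ▸ rfl)
  have := hx Q
  by_cases h1 : Q = P₁
  · subst h1
    rwa [dv_apply_left hne, Nat.cast_zero, exp_zero] at this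
  · rwa [dv_apply_other _ _ h1 h2, exp_zero] at this

theorem exists_val_le_exp (P : Place k K) (x : K) : ∃ N : ℕ, ∀ N' : ℕ, N ≤ N' →
    P.1 x ≤ exp (N' : ℤ) := by
  by_cases hx : x = 0
  · exact ⟨0, fun N' _ => by rw [hx, map_zero]; exact zero_le'⟩
  · refine ⟨(-P.ord x).toNat, fun N' hN' => ?_⟩
    rw [val_le_exp_iff P hx]
    have := Int.self_le_toNat (-P.ord x)
    have h2 : ((-P.ord x).toNat : ℤ) ≤ N' := by exact_mod_cast hN'
    linarith

theorem exists_mem_L_dv (hne : P₁ ≠ P₂) {y : K}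
    (hy : y ∈ regOutside ({P₁, P₂} : Set (Place k K))) :
    ∃ N : ℕ, ∀ N' : ℕ, N ≤ N' → y ∈ L (dv P₁ P₂ N' N') := by
  obtain ⟨N₁, h₁⟩ := exists_val_le_exp P₁ y
  obtain ⟨N₂, h₂⟩ := exists_val_le_exp P₂ y
  refine ⟨max N₁ N₂, fun N' hN' Q => ?_⟩
  by_cases h1 : Q = P₁
  · subst h1
    rw [dv_apply_left hne]
    exact h₁ N' (le_of_max_le_left hN')
  by_cases h2 : Q = P₂
  · subst h2
    rw [dv_apply_right hne]
    exact h₂ N' (le_of_max_le_right hN')
  rw [dv_apply_other _ _ h1 h2, exp_zero]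
  apply hy Q
  intro hQ
  rcases hQ with hQ | hQ
  · exact h1 hQ
  · exact h2 hQ

/-- splitting a sum with bounded poles -/
theorem mem_L_of_add (hne : P₁ ≠ P₂) (n m : ℕ) {a b : K}
    (hab : a + b ∈ L (dv P₁ P₂ n m)) (ha : a ∈ regOutside ({P₁} : Set (Place k K)))
    (hb : b ∈ regOutside ({P₂} : Set (Place k K))) :
    a ∈ L (dv P₁ P₂ n 0) ∧ b ∈ L (dv P₁ P₂ 0 m) := by
  have h1exp : (1 : WithZero (Multiplicative ℤ)) ≤ exp ((n : ℕ) : ℤ) := by
    rw [← exp_zero, exp_le_exp]; exact Int.natCast_nonneg n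
  have h1exp' : (1 : WithZero (Multiplicative ℤ)) ≤ exp ((m : ℕ) : ℤ) := by
    rw [← exp_zero, exp_le_exp]; exact Int.natCast_nonneg m
  constructor
  · intro Q
    by_cases h1 : Q = P₁
    · subst h1
      rw [dv_apply_left hne]
      have hb1 : Q.1 b ≤ 1 := hb Q (fun h => hne h)
      have hsum := hab Q
      rw [dv_apply_left hne] at hsum
      have : a = (a + b) + (-b) := by ring
      rw [this]
      refine (Q.1.map_add _ _).trans (max_le hsum ?_)
      rw [Valuation.map_neg]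
      exact hb1.trans h1exp
    · have := ha Q h1
      by_cases h2 : Q = P₂
      · subst h2
        rwa [dv_apply_right hne, Nat.cast_zero, exp_zero]
      · rwa [dv_apply_other _ _ h1 h2, exp_zero]
  · intro Q
    by_cases h2 : Q = P₂
    · subst h2
      rw [dv_apply_right hne]
      have ha1 : Q.1 a ≤ 1 := ha Q (fun h => hne h.symm)
      have hsum := hab Q
      rw [dv_apply_right hne] at hsum
      have : b = (a + b) + (-a) := by ring
      rw [this]
      refine (Q.1.map_add _ _).trans (max_le hsum ?_)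
      rw [Valuation.map_neg]
      exact ha1.trans h1exp'
    · have := hb Q h2
      by_cases h1 : Q = P₁
      · subst h1
        rwa [dv_apply_left hne, Nat.cast_zero, exp_zero]
      · rwa [dv_apply_other _ _ h1 h2, exp_zero]

end TwoPoints

end Groth.Agent.Lib.Helper67.FFTwoPoint

namespace Groth.Agent.Lib.Helper67.FFTwoPoint

open Groth.Agent.FF

universe u v w
variable {k : Type u} {K : Type v} [Field k] [Field K] [Algebra k K]

/-- the quotient of the functions regular outside two places by the sums of functions regular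
outside one of them has `q^g` elements -/
theorem card_range_eq (hK : IsFunctionField k K) [Finite k] {P₁ P₂ : Place k K} (hne : P₁ ≠ P₂)
    {H : Type w} [AddCommGroup H]
    (ψ : regOutside ({P₁, P₂} : Set (Place k K)) →+ H)
    (hker : ∀ x, ψ x = 0 ↔ ∃ a ∈ regOutside ({P₁} : Set (Place k K)),
      ∃ b ∈ regOutside ({P₂} : Set (Place k K)), (x : K) = a + b) :
    Nat.card ψ.range = Nat.card k ^ genus k K := by
  set g := genus k K with hg
  set n := 2 * g with hn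
  have hd₁ : 1 ≤ P₁.deg := deg_pos hK P₁
  have hd₂ : 1 ≤ P₂.deg := deg_pos hK P₂
  have hdeg₁ : 2 * (genus k K : ℤ) - 1 ≤ (dv P₁ P₂ n 0).deg := by
    rw [deg_dv, hn]
    push_cast
    have : (1 : ℤ) ≤ P₁.deg := by exact_mod_cast hd₁
    nlinarith [Int.natCast_nonneg g]
  have hdeg₂ : 2 * (genus k K : ℤ) - 1 ≤ (dv P₁ P₂ 0 n).deg := by
    rw [deg_dv, hn]
    push_cast
    have : (1 : ℤ) ≤ P₂.deg := by exact_mod_cast hd₂
    nlinarith [Int.natCast_nonneg g]
  have hsupD : dv P₁ P₂ n 0 ⊔ dv P₁ P₂ 0 n = dv P₁ P₂ n n := by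
    rw [dv_sup hne]; simp
  have hinfD : dv P₁ P₂ n 0 ⊓ dv P₁ P₂ 0 n = 0 := by
    rw [dv_inf hne]; simp [dv_zero_zero]
  have hle : L (dv P₁ P₂ n 0) ⊔ L (dv P₁ P₂ 0 n) ≤ L (dv P₁ P₂ n n) := by
    rw [← hsupD]
    exact sup_le (L_mono le_sup_left) (L_mono le_sup_right)
  let ψD : L (dv P₁ P₂ n n) →+ H :=
    ψ.comp (Submodule.inclusion (L_dv_le n n)).toAddMonoidHom
  have hψD : ∀ x : L (dv P₁ P₂ n n), ψD x = ψ ⟨x.1, L_dv_le n n x.2⟩ := fun x => rfl
  -- the kernel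
  have hkerD : ∀ x : L (dv P₁ P₂ n n), ψD x = 0 ↔
      (x : K) ∈ L (dv P₁ P₂ n 0) ⊔ L (dv P₁ P₂ 0 n) := by
    intro x
    rw [hψD, hker, Submodule.mem_sup]
    constructor
    · rintro ⟨a, ha, b, hb, hab⟩
      have hab' : a + b ∈ L (dv P₁ P₂ n n) := by
        have : (x : K) = a + b := hab
        rw [← this]; exact x.2
      obtain ⟨h1, h2⟩ := mem_L_of_add hne n n hab' ha hb
      exact ⟨a, h1, b, h2, hab.symm⟩
    · rintro ⟨a, ha, b, hb, hab⟩
      exact ⟨a, L_dv_left_le hne n ha, b, L_dv_right_le hne n hb, hab.symm⟩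
  -- the range
  have hrange : ψD.range = ψ.range := by
    apply le_antisymm
    · rintro _ ⟨x, rfl⟩
      exact ⟨_, rfl⟩
    · rintro _ ⟨y, rfl⟩
      obtain ⟨N₀, hN₀⟩ := exists_mem_L_dv hne y.2
      set N := max N₀ n with hN
      have hyN : (y : K) ∈ L (dv P₁ P₂ N N) := hN₀ N (le_max_left _ _)
      have hnN : n ≤ N := le_max_right _ _
      have e1 : L (dv P₁ P₂ N N) = L (dv P₁ P₂ N n) ⊔ L (dv P₁ P₂ 0 N) := by
        have h1 : dv P₁ P₂ N n ⊔ dv P₁ P₂ 0 N = dv P₁ P₂ N N := by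
          rw [dv_sup hne]; simp [hnN]
        have h2 : dv P₁ P₂ N n ⊓ dv P₁ P₂ 0 N = dv P₁ P₂ 0 n := by
          rw [dv_inf hne]; simp [hnN]
        rw [← h1]
        exact L_sup hK _ _ (by rw [h2]; exact hdeg₂)
      have e2 : L (dv P₁ P₂ N n) = L (dv P₁ P₂ n n) ⊔ L (dv P₁ P₂ N 0) := by
        have h1 : dv P₁ P₂ n n ⊔ dv P₁ P₂ N 0 = dv P₁ P₂ N n := by
          rw [dv_sup hne]; simp [hnN]
        have h2 : dv P₁ P₂ n n ⊓ dv P₁ P₂ N 0 = dv P₁ P₂ n 0 := by
          rw [dv_inf hne]; simp [hnN]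
        rw [← h1]
        exact L_sup hK _ _ (by rw [h2]; exact hdeg₁)
      rw [e1, e2, Submodule.mem_sup] at hyN
      obtain ⟨xa, hxa, b, hb, hy⟩ := hyN
      rw [Submodule.mem_sup] at hxa
      obtain ⟨x, hx, a, ha, hxa'⟩ := hxa
      refine ⟨⟨x, hx⟩, ?_⟩
      rw [hψD]
      have hdiff : ψ (y - ⟨x, L_dv_le n n hx⟩) = 0 := by
        rw [hker]
        refine ⟨a, L_dv_left_le hne N ha, b, L_dv_right_le hne N hb, ?_⟩
        show (y : K) - x = a + b
        rw [← hy, ← hxa']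
        ring
      rw [map_sub, sub_eq_zero] at hdiff
      exact hdiff.symm
  rw [← hrange]
  -- counting
  haveI := finite_L hK (dv P₁ P₂ n n)
  haveI := finite_L hK (dv P₁ P₂ n 0)
  haveI := finite_L hK (dv P₁ P₂ 0 n)
  have hc1 : Nat.card (L (dv P₁ P₂ n n)) = Nat.card ψD.range * Nat.card ψD.ker := by
    rw [AddSubgroup.card_eq_card_quotient_mul_card_addSubgroup ψD.ker]
    congr 1
    exact Nat.card_congr (QuotientAddGroup.quotientKerEquivRange ψD).toEquiv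
  have hc2 : Nat.card ψD.ker = Nat.card ↥(L (dv P₁ P₂ n 0) ⊔ L (dv P₁ P₂ 0 n)) := by
    refine Nat.card_congr
      { toFun := fun x => ⟨x.1.1, (hkerD x.1).mp x.2⟩
        invFun := fun x => ⟨⟨x.1, hle x.2⟩, (hkerD _).mpr x.2⟩
        left_inv := fun x => rfl
        right_inv := fun x => rfl }
  have hc3 : Nat.card (L (dv P₁ P₂ n n)) = Nat.card k ^ ell (dv P₁ P₂ n n) :=
    Module.natCard_eq_pow_finrank
  have hc4 : Nat.card ↥(L (dv P₁ P₂ n 0) ⊔ L (dv P₁ P₂ 0 n)) =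
      Nat.card k ^ Module.finrank k ↥(L (dv P₁ P₂ n 0) ⊔ L (dv P₁ P₂ 0 n)) :=
    Module.natCard_eq_pow_finrank
  -- dimensions
  have hf1 := Submodule.finrank_sup_add_finrank_inf_eq (L (dv P₁ P₂ n 0)) (L (dv P₁ P₂ 0 n))
  rw [← L_inf, hinfD] at hf1
  have e0 : Module.finrank k ↥(L (0 : Divisor k K)) = 1 := ell_zero hK
  have e1 := ell_eq_of_deg_ge hK (dv P₁ P₂ n 0) hdeg₁
  have e2 := ell_eq_of_deg_ge hK (dv P₁ P₂ 0 n) hdeg₂
  have hdegD : 2 * (genus k K : ℤ) - 1 ≤ (dv P₁ P₂ n n).deg :=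
    hdeg₁.trans (deg_mono (by rw [← hsupD]; exact le_sup_left))
  have e3 := ell_eq_of_deg_ge hK (dv P₁ P₂ n n) hdegD
  rw [deg_dv] at e1 e2 e3
  unfold ell at e1 e2
  have hfin : ell (dv P₁ P₂ n n) =
      Module.finrank k ↥(L (dv P₁ P₂ n 0) ⊔ L (dv P₁ P₂ 0 n)) + g := by
    have h' : (Module.finrank k ↥(L (dv P₁ P₂ n 0) ⊔ L (dv P₁ P₂ 0 n)) : ℤ) +
        Module.finrank k ↥(L (0 : Divisor k K)) =
        Module.finrank k ↥(L (dv P₁ P₂ n 0)) + Module.finrank k ↥(L (dv P₁ P₂ 0 n)) := by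
      exact_mod_cast hf1
    rw [e0] at h'
    have : (ell (dv P₁ P₂ n n) : ℤ) =
        Module.finrank k ↥(L (dv P₁ P₂ n 0) ⊔ L (dv P₁ P₂ 0 n)) + g := by
      push_cast at e1 e2 e3 h' ⊢
      linarith
    exact_mod_cast this
  rw [hc3, hc2, hc4, hfin, pow_add, mul_comm] at hc1
  have hq : 0 < Nat.card k ^ Module.finrank k ↥(L (dv P₁ P₂ n 0) ⊔ L (dv P₁ P₂ 0 n)) :=
    pow_pos Nat.card_pos _
  exact (Nat.eq_of_mul_eq_mul_right hq hc1).symm

end Groth.Agent.Lib.Helper67.FFTwoPoint
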