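import Groth.Agent.FunFld.StrongApprox
import Groth.Agent.Lib.Helper67.FFTwoPoint

/-!
# A function regular outside one place, a unit at a given place and vanishing on a finite set
-/

set_option autoImplicit false

open FunFld WithZero

namespace Groth.Agent.Lib.Helper67.FFApproxUnit

open Groth.Agent.FF Groth.Agent.Lib.Helper67.FFTwoPoint

universe u v
variable {k : Type u} {K : Type v} [Field k] [Field K] [Algebra k K]

theorem exists_reg_unit_vanish (hK : IsFunctionField k K) (P₀ Py : Place k K)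
    (T : Set (Place k K)) (hT : T.Finite) (h0 : P₀ ∉ T) (hy : Py ∈ T) :
    ∃ z : K, z ∈ regOutside ({P₀} : Set (Place k K)) ∧ Py.1 z = 1 ∧
      ∀ Q ∈ T, Q ≠ Py → Q.1 z < 1 := by
  classical
  haveI : Finite T := hT.to_subtype
  let e := Finite.equivFin T
  let P : Fin (Nat.card T) → Place k K := fun i => (e.symm i).1
  have hP : Function.Injective P := fun i j hij => e.symm.injective (Subtype.ext hij)
  have hrange : ∀ Q, Q ∈ Set.range P ↔ Q ∈ T := by
    intro Q
    constructor
    · rintro ⟨i, rfl⟩; exact (e.symm i).2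
    · intro hQ; exact ⟨e ⟨Q, hQ⟩, by show (e.symm (e ⟨Q, hQ⟩)).1 = Q; rw [e.symm_apply_apply]⟩
  have hinf : P₀ ∉ Set.range P := fun h => h0 ((hrange P₀).mp h)
  obtain ⟨z, hz1, hz2⟩ := strong_approx_le hK P₀ P hP hinf
    (fun i => if P i = Py then 1 else 0) (fun _ => 1)
  have hlt : (exp (-(1 : ℤ)) : ℤᵐ⁰) < 1 := by
    rw [← exp_zero, exp_lt_exp]; norm_num
  have hval : ∀ Q ∈ T, (Q = Py → Q.1 z = 1) ∧ (Q ≠ Py → Q.1 z < 1) := by
    intro Q hQ
    obtain ⟨i, rfl⟩ := (hrange Q).mpr hQ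
    have hi := hz1 i
    constructor
    · intro h
      rw [if_pos h] at hi
      have h1 : (P i).1 (z - 1) < (P i).1 1 := by
        rw [map_one]; exact lt_of_le_of_lt hi hlt
      have h2 : z = (z - 1) + 1 := by ring
      rw [h2, (P i).1.map_add_eq_of_lt_right h1, map_one]
    · intro h
      rw [if_neg h, sub_zero] at hi
      exact lt_of_le_of_lt hi hlt
  refine ⟨z, fun Q hQ => ?_, (hval Py hy).1 rfl, fun Q hQ hne => (hval Q hQ).2 hne⟩
  have hQ0 : Q ≠ P₀ := hQ
  by_cases hQT : Q ∈ T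
  · by_cases hQy : Q = Py
    · exact ((hval Q hQT).1 hQy).le
    · exact ((hval Q hQT).2 hQy).le
  · exact hz2 Q hQ0 (fun h => hQT ((hrange Q).mp h))

end Groth.Agent.Lib.Helper67.FFApproxUnit
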