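import Groth.Agent.Lib.Helper67.CurveGenus
import Groth.Agent.Lib.Helper67.CurveFinite
import Groth.Agent.Lib.Helper67.FFApproxUnit
import Mathlib.AlgebraicGeometry.Morphisms.Affine

/-!
# The complement of a closed point of a smooth proper curve is affine
-/

set_option autoImplicit false
universe u
open CategoryTheory AlgebraicGeometry IsLocalRing FunFld TopologicalSpace Opposite

namespace Groth.Agent.Lib.Helper67.CurveAffine

open Groth.Agent.Lib.Helper67 Groth.Agent.Lib.Helper67.CurveFF Groth.Agent.Lib.Helper67.CurveVal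
  Groth.Agent.Lib.Helper67.CurveBasic Groth.Agent.Lib.Helper67.CurveTop Groth.Agent.FF
  Groth.Agent.Lib.Helper67.CurvePoints Groth.Agent.Lib.Helper67.CurvePlaces
  Groth.Agent.Lib.Helper67.CurveGeomIrr Groth.Agent.Lib.Helper67.CurveCount
  Groth.Agent.Lib.Helper67.CurveSections Groth.Agent.Lib.Helper67.FFTwoPoint
  Groth.Agent.Lib.Helper67.CurveGenus Groth.Agent.Lib.Helper67.CurveFinite
  Groth.Agent.Lib.Helper67.FFApproxUnit

variable {k : Type u} [Field k] {C : Scheme.{u}} {f : C ⟶ Spec (CommRingCat.of k)} [IsIntegral C]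

/-- a germ is a unit iff the inverse of the rational function lies in the local ring -/
theorem isUnit_germ_iff (W : C.Opens) [Nonempty W] (u : C) (hu : u ∈ W) (s : Γ(C, W)) :
    IsUnit (C.presheaf.germ W u hu s) ↔
      ∃ t : C.presheaf.stalk u, C.germToFunctionField W s *
        algebraMap (C.presheaf.stalk u) C.functionField t = 1 := by
  have hgerm : algebraMap (C.presheaf.stalk u) C.functionField (C.presheaf.germ W u hu s) =
      C.germToFunctionField W s := Scheme.algebraMap_germ_eq_germToFunctionField (X := C) hu s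
  constructor
  · intro h
    obtain ⟨t, ht⟩ := h.exists_right_inv
    refine ⟨t, ?_⟩
    rw [← hgerm, ← map_mul, ht, map_one]
  · rintro ⟨t, ht⟩
    rw [← hgerm, ← map_mul] at ht
    have : C.presheaf.germ W u hu s * t = 1 := by
      apply IsFractionRing.injective (C.presheaf.stalk u) C.functionField
      rw [ht, map_one]
    exact IsUnit.of_mul_eq_one _ this

/-- in terms of places -/
theorem isUnit_germ_iff_val (hC : Curve.IsSmoothProperCurve k C f)
    [GeometricallyIrreducible f] [PerfectField k] (W : C.Opens) [Nonempty W]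
    (u : {x : C // IsClosed ({x} : Set C)}) (hu : u.1 ∈ W) (s : Γ(C, W)) :
    letI := algK f
    IsUnit (C.presheaf.germ W u.1 hu s) ↔ (closedEquiv hC u).1 (C.germToFunctionField W s) = 1 := by
  letI := algK f
  haveI := fun x => valuationRing_stalk hC x
  rw [isUnit_germ_iff]
  set z := C.germToFunctionField W s with hz
  have hzO : z ∈ (closedEquiv hC u).O := by
    rw [closedEquiv_O hC u]
    exact ⟨C.presheaf.germ W u.1 hu s,
      Scheme.algebraMap_germ_eq_germToFunctionField (X := C) hu s⟩
  have hz1 : (closedEquiv hC u).1 z ≤ 1 := hzO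
  constructor
  · rintro ⟨t, ht⟩
    have htO : algebraMap (C.presheaf.stalk u.1) C.functionField t ∈ (closedEquiv hC u).O := by
      rw [closedEquiv_O hC u]; exact ⟨t, rfl⟩
    have ht1 : (closedEquiv hC u).1 (algebraMap (C.presheaf.stalk u.1) C.functionField t) ≤ 1 :=
      htO
    have hmul := congrArg (closedEquiv hC u).1 ht
    rw [map_mul, map_one] at hmul
    apply le_antisymm hz1
    by_contra hlt
    push Not at hlt
    have : (closedEquiv hC u).1 z *
        (closedEquiv hC u).1 (algebraMap (C.presheaf.stalk u.1) C.functionField t) < 1 :=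
      mul_lt_one_of_nonneg_of_lt_one_left zero_le' hlt ht1
    rw [hmul] at this
    exact lt_irrefl _ this
  · intro h1
    have hz0 : z ≠ 0 := by
      rintro h0
      rw [h0, map_zero] at h1
      exact zero_ne_one h1
    have hinv : z⁻¹ ∈ (closedEquiv hC u).O := by
      show (closedEquiv hC u).1 z⁻¹ ≤ 1
      rw [map_inv₀, h1, inv_one]
    rw [closedEquiv_O hC u] at hinv
    obtain ⟨t, ht⟩ := hinv
    exact ⟨t, by rw [ht, mul_inv_cancel₀ hz0]⟩


/-- a section over the complement of `x₀` which is a unit at `y` and whose nonvanishing locus is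
affine -/
theorem exists_section_basicOpen_affine (hC : Curve.IsSmoothProperCurve k C f)
    [GeometricallyIrreducible f] [PerfectField k] (x₀ : C) (hx₀ : IsClosed ({x₀} : Set C))
    (y : C) (hy : IsClosed ({y} : Set C)) (hyx : y ≠ x₀) :
    ∃ s : Γ(C, complOpen x₀ hx₀), y ∈ C.basicOpen s ∧ IsAffineOpen (C.basicOpen s) := by
  letI := algK f
  haveI := fun x => valuationRing_stalk hC x
  have hK := isFunctionField_of_curve hC
  set U := complOpen x₀ hx₀ with hU
  have hη₀ : genericPoint C ≠ x₀ := (ne_genericPoint_of_isClosed hC x₀ hx₀).symm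
  haveI : Nonempty U := ⟨⟨genericPoint C, hη₀⟩⟩
  have hyU : y ∈ U := hyx
  obtain ⟨W, hWaff, hyW, hWU⟩ := exists_isAffineOpen_mem_and_subset (x := y) (U := U) hyU
  haveI : Nonempty W := ⟨⟨y, hyW⟩⟩
  have hηW : genericPoint C ∈ W := genericPoint_mem W
  have hfin := finite_compl hC W hηW
  set P₀ := closedEquiv hC ⟨x₀, hx₀⟩ with hP₀
  set Py := closedEquiv hC ⟨y, hy⟩ with hPy
  -- the places outside `W`
  let T : Set (Place k C.functionField) :=
    (closedEquiv hC) '' {z | z.1 ∉ W ∧ z.1 ≠ x₀} ∪ {Py}
  have hTfin : T.Finite := by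
    refine Set.Finite.union (Set.Finite.image _ ?_) (Set.finite_singleton _)
    refine Set.Finite.of_injOn (f := Subtype.val) (t := (W : Set C)ᶜ) ?_
      (Subtype.val_injective.injOn) hfin
    intro z hz
    exact hz.1
  have h0T : P₀ ∉ T := by
    rintro (⟨z, hz, hzP⟩ | h)
    · have := (closedEquiv hC).injective hzP
      exact hz.2 (congrArg Subtype.val this)
    · have := (closedEquiv hC).injective (Set.mem_singleton_iff.mp h)
      exact hyx (congrArg Subtype.val this).symm
  have hyT : Py ∈ T := Or.inr rfl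
  obtain ⟨z, hzreg, hzy, hzT⟩ := exists_reg_unit_vanish hK P₀ Py T hTfin h0T hyT
  -- the section
  have hrU := range_germToFunctionField hC U {P₀} (fun w => by
    rw [Set.mem_singleton_iff]
    exact ⟨fun h h' => h (congrArg Subtype.val ((closedEquiv hC).injective h')),
      fun h h' => h (congrArg _ (Subtype.ext h'))⟩)
  have hzr : z ∈ Set.range (C.germToFunctionField U) := by rw [hrU]; exact hzreg
  obtain ⟨s, hs⟩ := hzr
  have hyb : y ∈ C.basicOpen s := by
    rw [Scheme.mem_basicOpen _ _ y hyU, isUnit_germ_iff_val hC U ⟨y, hy⟩ hyU s, hs]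
    exact hzy
  have hle : C.basicOpen s ≤ W := by
    intro u hub
    by_contra huW
    have huU : u ∈ U := C.basicOpen_le s hub
    have huη : u ≠ genericPoint C := by
      rintro rfl; exact huW hηW
    have hucl : IsClosed ({u} : Set C) := isClosed_singleton_of_ne hC u huη
    have hunit : IsUnit (C.presheaf.germ U u huU s) := (Scheme.mem_basicOpen _ _ u huU).mp hub
    rw [isUnit_germ_iff_val hC U ⟨u, hucl⟩ huU s, hs] at hunit
    have hQT : closedEquiv hC ⟨u, hucl⟩ ∈ T := Or.inl ⟨⟨u, hucl⟩, ⟨huW, huU⟩, rfl⟩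
    have hQy : closedEquiv hC ⟨u, hucl⟩ ≠ Py := by
      intro h
      have := congrArg Subtype.val ((closedEquiv hC).injective h)
      simp only at this
      rw [this] at huW
      exact huW hyW
    have := hzT _ hQT hQy
    rw [hunit] at this
    exact lt_irrefl _ this
  refine ⟨s, hyb, ?_⟩
  have hres : C.basicOpen (C.presheaf.map (homOfLE hWU).op s) = C.basicOpen s := by
    rw [Scheme.basicOpen_res]
    exact inf_eq_right.mpr hle
  rw [← hres]
  exact hWaff.basicOpen _


/-- a closed point different from a given one -/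
theorem exists_closed_ne (hC : Curve.IsSmoothProperCurve k C f)
    [GeometricallyIrreducible f] [PerfectField k] (x₀ : C) :
    ∃ y : C, IsClosed ({y} : Set C) ∧ y ≠ x₀ := by
  letI := algK f
  have hK := isFunctionField_of_curve hC
  obtain ⟨⟨x, hx, -⟩, -⟩ := id hK
  obtain ⟨P, hP⟩ := exists_zero_of_transcendental hK hx
  obtain ⟨Q, hQ⟩ := exists_pole_of_transcendental hK hx
  have hPQ : P ≠ Q := by
    rintro rfl
    linarith
  obtain ⟨y₁, rfl⟩ := (closedEquiv hC).surjective P
  obtain ⟨y₂, rfl⟩ := (closedEquiv hC).surjective Q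
  by_cases h1 : y₁.1 = x₀
  · refine ⟨y₂.1, y₂.2, fun h2 => hPQ ?_⟩
    have : y₁ = y₂ := Subtype.ext (h1.trans h2.symm)
    rw [this]
  · exact ⟨y₁.1, y₁.2, h1⟩

/-- the complement of a closed point of a smooth proper geometrically irreducible curve over a
perfect field is affine -/
theorem isAffineOpen_complOpen (hC : Curve.IsSmoothProperCurve k C f)
    [GeometricallyIrreducible f] [PerfectField k] (x₀ : C) (hx₀ : IsClosed ({x₀} : Set C)) :
    IsAffineOpen (complOpen x₀ hx₀) := by
  letI := algK f
  haveI := fun x => valuationRing_stalk hC x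
  have hK := isFunctionField_of_curve hC
  set U := complOpen x₀ hx₀ with hU
  have hη₀ : genericPoint C ≠ x₀ := (ne_genericPoint_of_isClosed hC x₀ hx₀).symm
  haveI : Nonempty U := ⟨⟨genericPoint C, hη₀⟩⟩
  set P₀ := closedEquiv hC ⟨x₀, hx₀⟩ with hP₀
  have hrU := range_germToFunctionField hC U {P₀} (fun w => by
    rw [Set.mem_singleton_iff]
    exact ⟨fun h h' => h (congrArg Subtype.val ((closedEquiv hC).injective h')),
      fun h h' => h (congrArg _ (Subtype.ext h'))⟩)
  let s : Set Γ(C, U) := {t | IsAffineOpen (C.basicOpen t)}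
  apply isAffineOpen_of_isAffineOpen_basicOpen U s ?_ (fun t ht => ht)
  by_contra hspan
  -- a nonzero element of `s`
  obtain ⟨y₁, hy₁, hy₁x⟩ := exists_closed_ne hC x₀
  obtain ⟨t₁, hy₁b, ht₁aff⟩ := exists_section_basicOpen_affine hC x₀ hx₀ y₁ hy₁ hy₁x
  have ht₁0 : t₁ ≠ 0 := by
    rintro rfl
    rw [Scheme.basicOpen_zero] at hy₁b
    exact hy₁b
  -- transport to the function field
  let ρ : Γ(C, U) →+* C.functionField := (C.germToFunctionField U).hom
  have hρinj : Function.Injective ρ := C.germToFunctionField_injective U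
  let ρ' : Γ(C, U) ≃+* ρ.range := RingEquiv.ofBijective ρ.rangeRestrict
    ⟨fun a b hab => hρinj (congrArg Subtype.val hab), ρ.rangeRestrict_surjective⟩
  let I' : Ideal ρ.range := (Ideal.span s).comap (ρ'.symm : ρ.range →+* Γ(C, U))
  have hI' : I' ≠ ⊤ := fun h => hspan (Ideal.comap_eq_top_iff.mp h)
  obtain ⟨V, hAV, hIV⟩ := Ideal.image_subset_nonunits_valuationSubring I' hI'
  have hmemI : ∀ t ∈ s, ρ t ∈ V.nonunits := by
    intro t ht
    apply hIV
    refine ⟨ρ' t, ?_, rfl⟩
    show ρ'.symm (ρ' t) ∈ Ideal.span s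
    rw [ρ'.symm_apply_apply]
    exact Ideal.subset_span ht
  have hρV : ∀ t, ρ t ∈ V := fun t => hAV ⟨t, rfl⟩
  have hkV : ∀ c : k, stalkHom f (genericPoint C) c ∈ V := by
    intro c
    have h1 : algebraMap k C.functionField c ∈ (regOutside ({P₀} : Set (Place k C.functionField))) := by
      rw [Algebra.algebraMap_eq_smul_one]
      apply Submodule.smul_mem
      intro Q _
      rw [map_one]
    have h2 : algebraMap k C.functionField c ∈ Set.range (C.germToFunctionField U) := by
      rw [hrU]; exact h1
    obtain ⟨t, ht⟩ := h2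
    have := hρV t
    rw [show ρ t = algebraMap k C.functionField c from ht] at this
    exact this
  have hVtop : V ≠ ⊤ := by
    rintro rfl
    have := hmemI t₁ ht₁aff
    rw [ValuationSubring.mem_nonunits_iff_or] at this
    rcases this with h | h
    · apply ht₁0
      apply hρinj
      rw [h, map_zero]
    · exact h (ValuationSubring.mem_top _)
  obtain ⟨y, hyV⟩ := exists_valSubring_eq f (existence hC) V hkV
  have hyη : y ≠ genericPoint C := by
    rintro rfl
    rw [valSubring_genericPoint] at hyV
    exact hVtop hyV.symm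
  have hycl : IsClosed ({y} : Set C) := isClosed_singleton_of_ne hC y hyη
  have hQO : (closedEquiv hC ⟨y, hycl⟩).O = V := (closedEquiv_O hC ⟨y, hycl⟩).trans hyV
  by_cases hyx : y = x₀
  · -- then all sections over `U` are constant
    subst hyx
    have hz : ρ t₁ ∈ L (0 : Divisor k C.functionField) := by
      intro Q
      rw [Finsupp.zero_apply, WithZero.exp_zero]
      by_cases hQ : Q = P₀
      · rw [hQ]
        have : ρ t₁ ∈ (closedEquiv hC ⟨y, hycl⟩).O := by rw [hQO]; exact hρV t₁
        exact this
      · have h1 : ρ t₁ ∈ Set.range (C.germToFunctionField U) := ⟨t₁, rfl⟩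
        rw [hrU] at h1
        exact h1 Q hQ
    rw [L_zero_eq hK] at hz
    obtain ⟨c, hc'⟩ := hz
    have hc : algebraMap k C.functionField c = ρ t₁ := by
      rw [Algebra.algebraMap_eq_smul_one]; exact hc'
    have hc0 : c ≠ 0 := by
      rintro rfl
      apply ht₁0
      apply hρinj
      rw [← hc]
      simp
    have hnon := hmemI t₁ ht₁aff
    rw [ValuationSubring.mem_nonunits_iff_or] at hnon
    rcases hnon with h | h
    · apply ht₁0
      apply hρinj
      rw [h, map_zero]
    · apply h
      have : (ρ t₁)⁻¹ = stalkHom f (genericPoint C) c⁻¹ := by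
        rw [← hc]
        show (algebraMap k C.functionField c)⁻¹ = algebraMap k C.functionField c⁻¹
        rw [map_inv₀]
      rw [this]
      exact hkV _
  · -- `y` lies in `U`, and the section attached to `y` is a unit there
    obtain ⟨t, hyb, htaff⟩ := exists_section_basicOpen_affine hC x₀ hx₀ y hycl hyx
    have hyU : y ∈ U := hyx
    have hunit : IsUnit (C.presheaf.germ U y hyU t) := (Scheme.mem_basicOpen _ _ y hyU).mp hyb
    rw [isUnit_germ_iff_val hC U ⟨y, hycl⟩ hyU t] at hunit
    have hnon := hmemI t htaff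
    rw [ValuationSubring.mem_nonunits_iff_or] at hnon
    have hρt : ρ t = C.germToFunctionField U t := rfl
    rcases hnon with h | h
    · rw [← hρt, h, map_zero] at hunit
      exact zero_ne_one hunit
    · apply h
      rw [← hQO]
      show (closedEquiv hC ⟨y, hycl⟩).1 (ρ t)⁻¹ ≤ 1
      rw [map_inv₀, hρt, hunit, inv_one]

end Groth.Agent.Lib.Helper67.CurveAffine
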