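import Groth.Agent.Lib.Helper67.CurveVal
import Groth.Agent.Lib.Helper97.VarTrdeg
import Groth.Prelude.Def_Curve

/-!
# Basic facts on curves over a field: the function field is finitely generated of
transcendence degree one
-/

set_option autoImplicit false
universe u
open CategoryTheory AlgebraicGeometry IsLocalRing

namespace Groth.Agent.Lib.Helper67.CurveBasic

open Groth.Agent.Lib.Helper67 Groth.Agent.Lib.Helper67.CurveFF Groth.Agent.Lib.Helper67.CurveVal

variable {k : Type u} [Field k] {C : Scheme.{u}} (f : C ⟶ Spec (CommRingCat.of k))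

theorem stalkHom_eq_stalkMap (x : C) :
    letI : C.Over (Spec (CommRingCat.of k)) := ⟨f⟩
    stalkHom f x = Curv2.stalkMap k C x := by
  letI : C.Over (Spec (CommRingCat.of k)) := ⟨f⟩
  have h1 : CommRingCat.ofHom (stalkHom f x) = CommRingCat.ofHom (Curv2.stalkMap k C x) := by
    apply Spec.map_injective
    rw [specMap_stalkHom]
    have h2 : CommRingCat.ofHom (Curv2.stalkMap k C x) =
        (Scheme.ΓSpecIso (CommRingCat.of k)).inv ≫ f.appTop ≫ C.presheaf.germ ⊤ x trivial := rfl
    rw [h2, Spec.map_comp, Spec.map_comp, ← Scheme.fromSpecStalk_toSpecΓ]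
    simp only [Category.assoc]
    rw [← Scheme.toSpecΓ_naturality_assoc, toSpecΓ_SpecMap_ΓSpecIso_inv, Category.comp_id]
  exact congrArg CommRingCat.Hom.hom h1

section Trdeg

variable [IsIntegral C]

open Groth.Agent.Lib.Helper97.VarTrdeg

theorem trdeg_functionField [LocallyOfFiniteType f] (hdim : topologicalKrullDim C = 1) :
    letI := (stalkHom f (genericPoint C)).toAlgebra
    Algebra.trdeg k C.functionField = 1 := by
  letI := (stalkHom f (genericPoint C)).toAlgebra
  letI : C.Over (Spec (CommRingCat.of k)) := ⟨f⟩
  haveI : LocallyOfFiniteType (C ↘ Spec (CommRingCat.of k)) := ‹LocallyOfFiniteType f›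
  letI := Curv2.resAlgebra k C (genericPoint C)
  obtain ⟨s, hs1, hs2⟩ := exists_dim_closure_eq_trdeg k C (genericPoint C)
  -- the closure of the generic point is everything
  have hcl : closure ({genericPoint C} : Set C) = Set.univ := (genericPoint_spec C).def
  have hdim' : topologicalKrullDim ↥(closure ({genericPoint C} : Set C)) = 1 := by
    rw [hcl, ← hdim]
    exact IsHomeomorph.topologicalKrullDim_eq _ (Homeomorph.Set.univ C).isHomeomorph
  have hs : s = 1 := by
    rw [hdim'] at hs1
    exact_mod_cast hs1.symm
  -- the residue map is an isomorphism of `k`-algebras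
  let ρ : C.functionField →ₐ[k] C.residueField (genericPoint C) :=
    { toRingHom := (C.residue (genericPoint C)).hom
      commutes' := fun c => by
        show (C.residue (genericPoint C)).hom (stalkHom f (genericPoint C) c) =
          Curv2.resMap k C (genericPoint C) c
        rw [stalkHom_eq_stalkMap]
        rfl }
  have hρ : Function.Bijective ρ :=
    ⟨(C.residue (genericPoint C)).hom.injective, IsLocalRing.residue_surjective⟩
  have h1 := (AlgEquiv.ofBijective ρ hρ).trdeg_eq
  rw [h1, hs2, hs]
  simp

end Trdeg

section EssFT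

variable [IsIntegral C]

theorem essFiniteType_functionField [LocallyOfFiniteType f] :
    letI := (stalkHom f (genericPoint C)).toAlgebra
    Algebra.EssFiniteType k C.functionField := by
  letI := (stalkHom f (genericPoint C)).toAlgebra
  obtain ⟨U, hU, hηU, -⟩ :=
    exists_isAffineOpen_mem_and_subset (x := genericPoint C) (U := ⊤) trivial
  haveI : Nonempty U := ⟨⟨_, hηU⟩⟩
  let φ : k →+* Γ(C, U) :=
    (f.appLE ⊤ U le_top).hom.comp (Scheme.ΓSpecIso (CommRingCat.of k)).inv.hom
  have hφ : φ.FiniteType := by
    have h1 : (f.appLE ⊤ U le_top).hom.FiniteType :=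
      HasRingHomProperty.appLE (P := @LocallyOfFiniteType) f ‹_› ⟨⊤, isAffineOpen_top _⟩ ⟨U, hU⟩ _
    have h2 : (Scheme.ΓSpecIso (CommRingCat.of k)).inv.hom.FiniteType := by
      apply RingHom.FiniteType.of_surjective
      exact (ConcreteCategory.bijective_of_isIso (Scheme.ΓSpecIso (CommRingCat.of k)).inv).2
    exact h1.comp h2
  letI := φ.toAlgebra
  haveI : Algebra.FiniteType k Γ(C, U) := hφ
  haveI : IsFractionRing Γ(C, U) C.functionField :=
    functionField_isFractionRing_of_isAffineOpen C U hU
  haveI : IsScalarTower k Γ(C, U) C.functionField := IsScalarTower.of_algebraMap_eq (fun c => by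
    show stalkHom f (genericPoint C) c = (C.germToFunctionField U).hom (φ c)
    rw [stalkHom_eq_stalkMap]
    letI : C.Over (Spec (CommRingCat.of k)) := ⟨f⟩
    show (C.presheaf.germ ⊤ (genericPoint C) trivial).hom
        ((f.appTop).hom ((Scheme.ΓSpecIso (CommRingCat.of k)).inv.hom c)) =
      (C.presheaf.germ U (genericPoint C) hηU).hom
        ((f.appLE ⊤ U le_top).hom ((Scheme.ΓSpecIso (CommRingCat.of k)).inv.hom c))
    rw [Scheme.Hom.appLE]
    have := C.presheaf.germ_res_apply (homOfLE (le_top : U ≤ ⊤)) (genericPoint C) hηU
      ((f.appTop).hom ((Scheme.ΓSpecIso (CommRingCat.of k)).inv.hom c))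
    exact this.symm)
  haveI : Algebra.EssFiniteType Γ(C, U) C.functionField :=
    Algebra.EssFiniteType.of_isLocalization _ (nonZeroDivisors Γ(C, U))
  exact Algebra.EssFiniteType.comp k Γ(C, U) C.functionField

end EssFT

section Finite

variable [IsIntegral C]

open IntermediateField

theorem exists_transcendental_finite [LocallyOfFiniteType f] (hdim : topologicalKrullDim C = 1) :
    letI := (stalkHom f (genericPoint C)).toAlgebra
    ∃ x : C.functionField, Transcendental k x ∧
      ∀ y : C.functionField, Transcendental k y →
        FiniteDimensional (adjoin k ({y} : Set C.functionField)) C.functionField := by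
  letI := (stalkHom f (genericPoint C)).toAlgebra
  have htr := trdeg_functionField f hdim
  have hess := essFiniteType_functionField f
  have hex : ∃ x : C.functionField, Transcendental k x := by
    by_contra hno
    push Not at hno
    have halg : Algebra.IsAlgebraic k C.functionField := ⟨fun x => by
      by_contra hx
      exact hno x hx⟩
    have h0 := trdeg_eq_zero (R := k) (A := C.functionField)
    rw [htr] at h0
    exact one_ne_zero h0
  obtain ⟨x, hx⟩ := hex
  refine ⟨x, hx, fun y hy => ?_⟩
  have hind : AlgebraicIndependent k (fun _ : PUnit.{u+1} => y) := by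
    rw [algebraicIndependent_unique_type_iff]; exact hy
  have hbasis : IsTranscendenceBasis k (fun _ : PUnit.{u+1} => y) :=
    hind.isTranscendenceBasis_of_trdeg_le_of_finite (by simp [htr])
  have halg : Algebra.IsAlgebraic (adjoin k (Set.range (fun _ : PUnit.{u+1} => y)))
      C.functionField := hbasis.isAlgebraic_field
  have hrange : Set.range (fun _ : PUnit.{u+1} => y) = {y} := by
    ext z; simp [eq_comm]
  rw [hrange] at halg
  haveI : Algebra.EssFiniteType (adjoin k ({y} : Set C.functionField)) C.functionField :=
    Algebra.EssFiniteType.of_comp k (adjoin k ({y} : Set C.functionField)) C.functionField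
  exact Algebra.finite_of_essFiniteType_of_isAlgebraic

end Finite

end Groth.Agent.Lib.Helper67.CurveBasic
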