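import Groth.Agent.Lib.Helper67.CurveP1b
import Groth.Agent.Lib.Helper17.ProjSpaceProper

/-!
# Integral proper curves over a field admit a finite morphism to the projective line
-/

set_option autoImplicit false
set_option linter.unusedSectionVars false
universe u
open CategoryTheory CategoryTheory.Limits AlgebraicGeometry TopologicalSpace Opposite

namespace Groth.Agent.Lib.Helper67.CurveP1

variable (k : Type u) [Field k] {Z : Scheme.{u}} (q : Z ⟶ Spec (CommRingCat.of k))

theorem isNoetherian_of_proper [IsProper q] : IsNoetherian Z := by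
  haveI : IsLocallyNoetherian Z := LocallyOfFiniteType.isLocallyNoetherian q
  haveI : CompactSpace Z := QuasiCompact.compactSpace_of_compactSpace q
  exact ⟨⟩

/-- an affine scheme proper over a field has dimension zero -/
theorem dim_le_zero_of_affine_proper [IsProper q] [IsAffine Z] : topologicalKrullDim Z ≤ 0 := by
  haveI : IsAffineHom q := inferInstance
  haveI : IsFinite q := (IsFinite.iff_isProper_and_isAffineHom).mpr ⟨inferInstance, inferInstance⟩
  haveI hsub : Subsingleton (Spec (CommRingCat.of k)) :=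
    inferInstanceAs (Subsingleton (PrimeSpectrum k))
  let y : Spec (CommRingCat.of k) := (⊥ : PrimeSpectrum k)
  have hd : _root_.IsDiscrete (q ⁻¹' {y}) := Scheme.Hom.isDiscrete_preimage_singleton q y
  have hu : q ⁻¹' {y} = Set.univ := Set.eq_univ_of_forall fun z => Subsingleton.elim _ _
  rw [hu, isDiscrete_univ_iff] at hd
  exact topologicalKrullDim_zero_of_discreteTopology Z

theorem exists_finite_to_P1 [IsIntegral Z] [IsProper q] (hdim : topologicalKrullDim Z = 1) :
    ∃ φ : Z ⟶ CohB1.ProjSpace 1 k, φ ≫ CohB1.ProjSpace.toSpec 1 k = q ∧ IsFinite φ := by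
  classical
  haveI : IsNoetherian Z := isNoetherian_of_proper k q
  haveI : Z.IsSeparated := isSeparated_of_over k q
  -- a nonempty affine open
  obtain ⟨_, ⟨U, hU, rfl⟩, hξU, -⟩ :=
    Z.isBasis_affineOpens.exists_subset_of_mem_open (Set.mem_univ (genericPoint Z)) isOpen_univ
  haveI : Nonempty U := ⟨⟨_, hξU⟩⟩
  -- its complement is finite and nonempty
  have hfin : ((U : Set Z)ᶜ).Finite := by
    refine Groth.Agent.Lib.Helper24.finite_of_isClosed_of_ne_univ hdim.le _ U.2.isClosed_compl ?_
    intro h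
    have : genericPoint Z ∈ ((U : Set Z)ᶜ) := h ▸ Set.mem_univ _
    exact this hξU
  have hne : ∃ z : Z, z ∉ U := by
    by_contra hall
    push Not at hall
    have htop : U = ⊤ := by
      ext z
      simp only [Opens.coe_top, Set.mem_univ, iff_true]
      exact hall z
    haveI : IsAffine Z := by
      rw [htop] at hU
      haveI : IsAffine (⊤ : Z.Opens).toScheme := hU
      exact .of_isIso (Scheme.topIso Z).inv
    have := dim_le_zero_of_affine_proper k q
    rw [hdim] at this
    exact absurd this (by norm_num)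
  obtain ⟨z₁, hz₁⟩ := hne
  obtain ⟨x, hx0, ⟨f, hf⟩, hpole⟩ := exists_pole_function hdim.le U hU hfin
  -- local inverses
  have hloc : ∀ z : {z : Z // z ∉ U}, ∃ (W : Z.Opens) (hW : z.1 ∈ W) (g : Γ(Z, W)),
      @Scheme.germToFunctionField Z _ W ⟨⟨z.1, hW⟩⟩ g = x⁻¹ ∧ z.1 ∉ Z.basicOpen g := by
    intro z
    obtain ⟨s, hs, hsx⟩ := hpole z.1 z.2
    obtain ⟨W, hW, g, hg⟩ := Z.presheaf.exists_germ_eq (x := z.1) s
    refine ⟨W, hW, g, ?_, ?_⟩
    · haveI : Nonempty W := ⟨⟨z.1, hW⟩⟩
      rw [← Scheme.algebraMap_germ_eq_germToFunctionField Z hW g, hg, hsx]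
    · intro hmem
      rw [Scheme.mem_basicOpen Z g z.1 hW, hg] at hmem
      exact hs hmem
  choose W hW g hg hgz using hloc
  obtain ⟨r, hr, hnc⟩ := exists_morphism_of_pole_data q x hx0 U f hf W hW g hg ⟨z₁, hz₁⟩
    (hgz ⟨z₁, hz₁⟩)
  haveI : IsSeparated (CohB1.ProjSpace.toSpec 1 k) :=
    (Groth.Agent.Lib.Helper17.ProjSpaceProper.isProper_toSpec 1 k).toIsSeparated
  refine ⟨r, hr, Groth.Agent.S0219.result k Z (CohB1.ProjSpace 1 k) q
    (CohB1.ProjSpace.toSpec 1 k) r hr hdim.le ?_⟩
  intro C hC _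
  rw [irreducibleComponents_eq_singleton, Set.mem_singleton_iff] at hC
  subst hC
  exact ⟨r z₁, ⟨z₁, trivial, rfl⟩, r (genericPoint Z), ⟨_, trivial, rfl⟩, hnc⟩

end Groth.Agent.Lib.Helper67.CurveP1
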