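import Groth.Agent.Lib.Helper67.EulerLES
import Groth.Agent.Lib.Helper67.AffPushLin
import Groth.Agent.Lib.Helper67.CurveP1c
import Groth.Agent.Lib.Helper17.HZero
import Groth.Agent.Lib.Helper49.CohNoeth
import Groth.Agent.Lib.Helper49.StalkNbhd2
import Groth.Agent.S0007
import Groth.Agent.S0019
import Groth.Agent.S0022
import Groth.Agent.S0038
import Groth.Agent.S0027

set_option autoImplicit false
set_option linter.style.haveILetI false
universe u
open AlgebraicGeometry CategoryTheory Limits Opposite TopologicalSpace Abelian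

namespace Groth.Agent.Lib.Helper67.CurveCoh

open Groth.Agent.Lib.Helper67.EulerLES

section Affine

variable (A : Type u) [CommRing A] (X : Scheme.{u}) [X.Over (Spec (CommRingCat.of A))]

theorem finite_HH_zero_of_isAffine [IsAffine X]
    (hfin : (X ↘ Spec (CommRingCat.of A)).appTop.hom.Finite) (G : X.Modules)
    (hG : Coh.IsCoh G) : Module.Finite A (Coh.HH X G 0) := by
  haveI : G.IsQuasicoherent := hG.1
  have h1 : Module.Finite Γ(X, ⊤) Γ(G, ⊤) :=
    Groth.Agent.Lib.Helper49.finite_sections_of_isFiniteType G hG.2 (isAffineOpen_top X)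
  let ψ : A →+* Γ(X, ⊤) :=
    (X ↘ Spec (CommRingCat.of A)).appTop.hom.comp (Scheme.ΓSpecIso (CommRingCat.of A)).inv.hom
  have hψ : ψ.Finite := by
    refine RingHom.Finite.comp hfin ?_
    exact RingHom.Finite.of_surjective _
      (ConcreteCategory.bijective_of_isIso (Scheme.ΓSpecIso (CommRingCat.of A)).inv).2
  letI : Algebra A Γ(X, ⊤) := ψ.toAlgebra
  letI : Module A Γ(G, ⊤) := Module.compHom Γ(G, ⊤) ψ
  haveI : IsScalarTower A Γ(X, ⊤) Γ(G, ⊤) := IsScalarTower.of_algebraMap_smul fun a n => rfl
  haveI : Module.Finite A Γ(X, ⊤) := hψ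
  haveI : Module.Finite A Γ(G, ⊤) := Module.Finite.trans Γ(X, ⊤) Γ(G, ⊤)
  let e : Coh.HH X G 0 ≃ₗ[A] Γ(G, ⊤) :=
    { (Groth.Agent.Lib.Helper17.HZero.hh0Equiv G) with
      map_smul' := fun a x =>
        Groth.Agent.Lib.Helper17.HZero.hh0Equiv_smul G
          (Coh.toGlobal (X ↘ Spec (CommRingCat.of A)) a) x }
  exact Module.Finite.equiv e.symm

end Affine


theorem isQuasicoherent_structureModule (X : Scheme.{u}) :
    SheafOfModules.IsQuasicoherent.{u, u, u} (Coh.structureModule X) := by
  have e : SheafOfModules.free (R := X.ringCatSheaf) PUnit.{u+1} ≅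
      SheafOfModules.unit X.ringCatSheaf :=
    Limits.coproductUniqueIso (fun _ : PUnit.{u+1} => SheafOfModules.unit X.ringCatSheaf)
  exact (SheafOfModules.isQuasicoherent X.ringCatSheaf).prop_of_iso e
    (inferInstanceAs (SheafOfModules.free (R := X.ringCatSheaf) PUnit.{u+1}).IsQuasicoherent)

section Field

variable (k : Type u) [Field k]

/-- coherent modules on a scheme finite over a field are good -/
theorem isGood_of_isFinite (Z : Scheme.{u}) [Z.Over (Spec (CommRingCat.of k))]
    [IsFinite (Z ↘ Spec (CommRingCat.of k))] (G : Z.Modules) (hG : Coh.IsCoh G) :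
    IsGood k Z G := by
  haveI : IsAffine Z := isAffine_of_isAffineHom (Z ↘ Spec (CommRingCat.of k))
  haveI : G.IsQuasicoherent := hG.1
  have h0 : Module.Finite k (Coh.HH Z G 0) :=
    finite_HH_zero_of_isAffine k Z (Scheme.Hom.finite_appTop _) G hG
  have hpos : ∀ i, 0 < i → Subsingleton (Coh.HH Z G i) := fun i hi =>
    Groth.Agent.S0007.result Z G i hi
  refine ⟨fun i => ?_, fun i hi => hpos i (by omega)⟩
  rcases Nat.eq_zero_or_pos i with rfl | hi
  · exact h0
  · haveI := hpos i hi
    infer_instance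

/-- coherent modules on an integral proper curve over a field are good -/
theorem isGood_of_integral_curve (Z : Scheme.{u}) [Z.Over (Spec (CommRingCat.of k))]
    [IsIntegral Z] [IsProper (Z ↘ Spec (CommRingCat.of k))] (hdim : topologicalKrullDim Z = 1)
    (G : Z.Modules) (hG : Coh.IsCoh G) : IsGood k Z G := by
  obtain ⟨φ, hφ, hfin⟩ := CurveP1.exists_finite_to_P1 k (Z ↘ Spec (CommRingCat.of k)) hdim
  haveI := hfin
  haveI : G.IsQuasicoherent := hG.1
  haveI : IsProper (CohB1.ProjSpace.toSpec 1 k) :=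
    Groth.Agent.Lib.Helper17.ProjSpaceProper.isProper_toSpec 1 k
  haveI : IsLocallyNoetherian (CohB1.ProjSpace 1 k) :=
    LocallyOfFiniteType.isLocallyNoetherian (CohB1.ProjSpace.toSpec 1 k)
  have hpush : Coh.IsCoh ((Coh.push φ).obj G) := Groth.Agent.S0019.result φ G hG
  haveI : Coh.IsQCoh ((Coh.push φ).obj G) := hpush.1
  have hφ' : φ ≫ (CohB1.ProjSpace 1 k ↘ Spec (CommRingCat.of k)) =
      Z ↘ Spec (CommRingCat.of k) := hφ
  refine ⟨fun i => ?_, fun i hi => ?_⟩
  · exact AffPush.finite_HH_of_finite_push φ k hφ' G i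
      (Groth.Agent.S0038.result 1 k _ hpush i)
  · exact AffPush.subsingleton_HH_of_subsingleton_push φ G i
      (Groth.Agent.S0022.result 1 k _ i (by omega))

/-- coherent modules on an integral proper scheme of dimension `≤ 1` over a field are good -/
theorem isGood_of_integral (Z : Scheme.{u}) [Z.Over (Spec (CommRingCat.of k))]
    [IsIntegral Z] [IsProper (Z ↘ Spec (CommRingCat.of k))] (hdim : topologicalKrullDim Z ≤ 1)
    (G : Z.Modules) (hG : Coh.IsCoh G) : IsGood k Z G := by
  by_cases h1 : topologicalKrullDim Z = 1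
  · exact isGood_of_integral_curve k Z h1 G hG
  · haveI : IsFinite (Z ↘ Spec (CommRingCat.of k)) := by
      refine Groth.Agent.S0219.result k Z (Spec (CommRingCat.of k)) (Z ↘ Spec (CommRingCat.of k))
        (𝟙 _) (Z ↘ Spec (CommRingCat.of k)) (Category.comp_id _) hdim ?_
      intro C hC hCdim
      exfalso
      rw [irreducibleComponents_eq_singleton, Set.mem_singleton_iff] at hC
      subst hC
      apply h1
      rw [← hCdim]
      exact ((Homeomorph.Set.univ Z).isHomeomorph.topologicalKrullDim_eq _).symm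
    exact isGood_of_isFinite k Z G hG

/-- **Finiteness and vanishing of cohomology of coherent modules on a proper scheme of dimension
`≤ 1` over a field.** -/
theorem isGood_of_coh (X : Scheme.{u}) [X.Over (Spec (CommRingCat.of k))]
    [IsProper (X ↘ Spec (CommRingCat.of k))] (hdim : topologicalKrullDim X ≤ 1)
    (M : X.Modules) (hM : Coh.IsCoh M) : IsGood k X M := by
  haveI : IsNoetherian X := CurveP1.isNoetherian_of_proper k (X ↘ Spec (CommRingCat.of k))
  by_cases hne : Nonempty X
  swap
  · rw [not_nonempty_iff] at hne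
    haveI : IsAffine X := isAffine_of_isEmpty
    haveI : IsAffineHom (X ↘ Spec (CommRingCat.of k)) := inferInstance
    haveI : IsFinite (X ↘ Spec (CommRingCat.of k)) :=
      (IsFinite.iff_isProper_and_isAffineHom).mpr ⟨inferInstance, inferInstance⟩
    exact isGood_of_isFinite k X M hM
  refine Groth.Agent.S0027.result X (IsGood k X) ?_ ?_ ?_ M hM
  · rintro M N ⟨e⟩ hM
    exact isGood_of_iso k e hM
  · intro S hS _ _ _ h1 h3
    exact isGood_X₂ k hS h1 h3
  · intro Z i hi hZ I ι hι hI
    haveI := hi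
    haveI := hZ
    haveI := hι
    haveI : I.IsQuasicoherent := hI
    letI : Z.Over (Spec (CommRingCat.of k)) := ⟨i ≫ (X ↘ Spec (CommRingCat.of k))⟩
    haveI : IsProper (Z ↘ Spec (CommRingCat.of k)) :=
      inferInstanceAs (IsProper (i ≫ (X ↘ Spec (CommRingCat.of k))))
    haveI : IsNoetherian Z := CurveP1.isNoetherian_of_proper k (Z ↘ Spec (CommRingCat.of k))
    have hdimZ : topologicalKrullDim Z ≤ 1 :=
      le_trans i.isClosedEmbedding.isInducing.topologicalKrullDim_le hdim
    haveI := isQuasicoherent_structureModule Z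
    have hIcoh : Coh.IsCoh I :=
      ⟨hI, Groth.Agent.Lib.Helper49.isFiniteType_of_mono ι
        (Groth.Agent.Lib.Helper49.isFiniteType_unit Z)⟩
    have hgood : IsGood k Z I := isGood_of_integral k Z hdimZ I hIcoh
    have hf : i ≫ (X ↘ Spec (CommRingCat.of k)) = Z ↘ Spec (CommRingCat.of k) := rfl
    refine ⟨fun p => ?_, fun p hp => ?_⟩
    · haveI := hgood.1 p
      exact Module.Finite.equiv (AffPush.pushEdgeEquiv i k hf I p).symm
    · haveI := hgood.2 p hp
      exact (AffPush.pushEdgeEquiv i k hf I p).toEquiv.subsingleton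

end Field

end Groth.Agent.Lib.Helper67.CurveCoh
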