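import Groth.Agent.Lib.Helper67.DegCount

/-!
# `npts` as a sum over divisors
-/

set_option autoImplicit false

namespace Groth.Agent.Lib.Helper67.DegCount

variable {ι : Type*} {d : ι → ℕ}

theorem npts_eq_sum_divisors (h : Admissible d) {m : ℕ} (hm : 1 ≤ m) :
    npts d m = ∑ e ∈ m.divisors, e * Nat.card {i // d i = e} := by
  classical
  rw [npts_eq_sum h hm le_rfl]
  have h1 : ∀ i ∈ (h.fin m).toFinset, (if d i ∣ m then d i else 0) =
      ∑ e ∈ m.divisors, if d i = e then e else 0 := by
    intro i _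
    rw [Finset.sum_ite_eq]
    by_cases hdvd : d i ∣ m
    · rw [if_pos hdvd, if_pos (Nat.mem_divisors.mpr ⟨hdvd, by omega⟩)]
    · rw [if_neg hdvd, if_neg (fun h' => hdvd (Nat.mem_divisors.mp h').1)]
  rw [Finset.sum_congr rfl h1, Finset.sum_comm]
  refine Finset.sum_congr rfl fun e he => ?_
  have hem : e ≤ m := Nat.le_of_dvd (by omega) (Nat.mem_divisors.mp he).1
  rw [← Finset.sum_filter, Finset.sum_const, smul_eq_mul, mul_comm]
  congr 1
  rw [← Nat.card_eq_finsetCard]
  refine Nat.card_congr (Equiv.subtypeEquivRight fun i => ?_)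
  rw [Finset.mem_filter, Set.Finite.mem_toFinset, Set.mem_ofPred_eq]
  constructor
  · exact fun hi => hi.2
  · exact fun hi => ⟨hi ▸ hem, hi⟩

/-- transport of `npts` along a degree preserving bijection -/
theorem npts_congr {ι' : Type*} {d' : ι' → ℕ} (e : ι ≃ ι') (he : ∀ i, d' (e i) = d i) (m : ℕ) :
    npts d m = npts d' m := by
  unfold npts
  rw [← finsum_comp_equiv e]
  refine finsum_congr fun i => ?_
  rw [he]

end Groth.Agent.Lib.Helper67.DegCount
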