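import Mathlib.Algebra.BigOperators.Finsupp.Basic
import Mathlib.Algebra.BigOperators.Finprod
import Mathlib.Data.Finsupp.Order
import Mathlib.Data.Finset.Finsupp
import Mathlib.SetTheory.Cardinal.Finite
import Mathlib.Order.Interval.Finset.Nat
import Mathlib.NumberTheory.Divisors
import Mathlib.Tactic

/-!
# Counting multisets by weight

For a family of positive "degrees" `d : ι → ℕ` with finitely many indices of each degree, let
`cnt d n` be the number of finitely supported `E : ι →₀ ℕ` of weight `∑ E i * d i = n`, and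
`npts d m = ∑_{i, d i ∣ m} d i`.  Then `n * cnt n = ∑_{m=1}^{n} npts m * cnt (n - m)`: this is the
logarithmic-derivative form of the Euler product `∑ cnt n tⁿ = ∏ᵢ (1 - t^{d i})⁻¹`.
-/

set_option autoImplicit false

namespace Groth.Agent.Lib.Helper67.DegCount

variable {ι : Type*} (d : ι → ℕ)

/-- the weight of a multiset of indices -/
noncomputable def wt (E : ι →₀ ℕ) : ℕ := E.sum fun i n => n * d i

lemma wt_zero : wt d (0 : ι →₀ ℕ) = 0 := by simp [wt]

lemma wt_add (E F : ι →₀ ℕ) : wt d (E + F) = wt d E + wt d F := by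
  unfold wt
  exact Finsupp.sum_add_index' (fun i => by simp) (fun i a b => by ring)

lemma wt_single (i : ι) (n : ℕ) : wt d (Finsupp.single i n) = n * d i := by
  unfold wt
  rw [Finsupp.sum_single_index]
  simp

/-- the number of multisets of weight `n` -/
noncomputable def cnt (n : ℕ) : ℕ := Nat.card {E : ι →₀ ℕ // wt d E = n}

/-- the sum of the degrees dividing `m` -/
noncomputable def npts (m : ℕ) : ℕ := ∑ᶠ i, if d i ∣ m then d i else 0

/-- positive degrees, finitely many indices of bounded degree -/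
structure Admissible : Prop where
  pos : ∀ i, 1 ≤ d i
  fin : ∀ n, {i | d i ≤ n}.Finite

variable {d}

lemma coeff_mul_le (E : ι →₀ ℕ) (i : ι) : E i * d i ≤ wt d E := by
  classical
  by_cases hi : i ∈ E.support
  · unfold wt Finsupp.sum
    exact Finset.single_le_sum (f := fun i => E i * d i) (fun _ _ => Nat.zero_le _) hi
  · rw [Finsupp.notMem_support_iff.mp hi, zero_mul]
    exact Nat.zero_le _

lemma coeff_le (h : Admissible d) (E : ι →₀ ℕ) (i : ι) : E i ≤ wt d E :=
  (Nat.le_mul_of_pos_right _ (h.pos i)).trans (coeff_mul_le E i)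

lemma deg_le_of_mem_support (E : ι →₀ ℕ) {i : ι} (hi : E i ≠ 0) : d i ≤ wt d E :=
  (Nat.le_mul_of_pos_left _ (Nat.pos_of_ne_zero hi)).trans (coeff_mul_le E i)

theorem finite_wt_eq (h : Admissible d) (n : ℕ) : {E : ι →₀ ℕ | wt d E = n}.Finite := by
  classical
  set S : Finset ι := (h.fin n).toFinset with hS
  refine Set.Finite.subset (Finset.finite_toSet (S.finsupp (fun _ => Finset.range (n + 1)))) ?_
  intro E hE
  rw [Set.mem_ofPred_eq] at hE
  rw [Finset.mem_coe, Finset.mem_finsupp_iff]
  constructor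
  · intro i hi
    rw [Finsupp.mem_support_iff] at hi
    rw [hS, Set.Finite.mem_toFinset]
    exact hE ▸ deg_le_of_mem_support E hi
  · intro i _
    rw [Finset.mem_range]
    exact Nat.lt_succ_of_le (hE ▸ coeff_le h E i)

/-- multisets of weight `n` containing `i` at least `j` times -/
theorem card_ge (n : ℕ) (i : ι) (j : ℕ) :
    Nat.card {E : ι →₀ ℕ // wt d E = n ∧ j ≤ E i} =
      if j * d i ≤ n then cnt d (n - j * d i) else 0 := by
  classical
  split_ifs with hle
  · unfold cnt
    refine Nat.card_congr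
      { toFun := fun E => ⟨E.1 - Finsupp.single i j, ?_⟩
        invFun := fun E => ⟨E.1 + Finsupp.single i j, ?_, ?_⟩
        left_inv := ?_
        right_inv := ?_ }
    · have h1 : E.1 - Finsupp.single i j + Finsupp.single i j = E.1 :=
        tsub_add_cancel_of_le (Finsupp.single_le_iff.mpr E.2.2)
      have h2 := wt_add d (E.1 - Finsupp.single i j) (Finsupp.single i j)
      rw [h1, wt_single, E.2.1] at h2
      omega
    · rw [wt_add, wt_single, E.2]
      omega
    · simp
    · intro E
      apply Subtype.ext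
      exact tsub_add_cancel_of_le (Finsupp.single_le_iff.mpr E.2.2)
    · intro E
      apply Subtype.ext
      exact add_tsub_cancel_right _ _
  · have : IsEmpty {E : ι →₀ ℕ // wt d E = n ∧ j ≤ E i} := by
      refine ⟨fun E => hle ?_⟩
      calc j * d i ≤ E.1 i * d i := Nat.mul_le_mul_right _ E.2.2
        _ ≤ wt d E.1 := coeff_mul_le _ _
        _ = n := E.2.1
    exact Nat.card_of_isEmpty

lemma sum_dvd_reindex (e n : ℕ) (he : 1 ≤ e) (f : ℕ → ℕ) :
    ∑ m ∈ Finset.range n, (if e ∣ m + 1 then f (m + 1) else 0) =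
      ∑ j ∈ Finset.Icc 1 n, if j * e ≤ n then f (j * e) else 0 := by
  have h1 : ∑ m ∈ Finset.range n, (if e ∣ m + 1 then f (m + 1) else 0) =
      ∑ x ∈ Finset.Icc 1 n, if e ∣ x then f x else 0 := by
    rw [Finset.range_eq_Ico, Finset.sum_Ico_add' (fun x => if e ∣ x then f x else 0) 0 n 1]
    congr 1
  rw [h1, ← Finset.sum_filter, ← Finset.sum_filter]
  refine Finset.sum_nbij' (fun x => x / e) (fun j => j * e) ?_ ?_ ?_ ?_ ?_
  · intro x hx
    rw [Finset.mem_filter, Finset.mem_Icc] at hx ⊢
    obtain ⟨⟨hx1, hxn⟩, c, rfl⟩ := hx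
    rw [Nat.mul_div_cancel_left _ (by omega : 0 < e)]
    have hc : 1 ≤ c := by
      rcases Nat.eq_zero_or_pos c with rfl | hc
      · omega
      · exact hc
    refine ⟨⟨hc, ?_⟩, ?_⟩
    · calc c = 1 * c := (one_mul c).symm
        _ ≤ e * c := Nat.mul_le_mul_right _ he
        _ ≤ n := hxn
    · rw [mul_comm]; exact hxn
  · intro j hj
    rw [Finset.mem_filter, Finset.mem_Icc] at hj ⊢
    obtain ⟨⟨hj1, _⟩, hjn⟩ := hj
    refine ⟨⟨?_, hjn⟩, Dvd.intro_left j rfl⟩
    calc 1 = 1 * 1 := rfl
      _ ≤ j * e := Nat.mul_le_mul hj1 he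
  · intro x hx
    rw [Finset.mem_filter] at hx
    exact Nat.div_mul_cancel hx.2
  · intro j _
    exact Nat.mul_div_cancel _ (by omega : 0 < e)
  · intro x hx
    rw [Finset.mem_filter] at hx
    rw [Nat.div_mul_cancel hx.2]

end Groth.Agent.Lib.Helper67.DegCount

namespace Groth.Agent.Lib.Helper67.DegCount

variable {ι : Type*} {d : ι → ℕ}

lemma npts_eq_sum (h : Admissible d) {m n : ℕ} (hm : 1 ≤ m) (hmn : m ≤ n) :
    npts d m = ∑ i ∈ (h.fin n).toFinset, if d i ∣ m then d i else 0 := by
  unfold npts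
  refine finsum_eq_sum_of_support_subset _ ?_
  intro i hi
  rw [Function.mem_support] at hi
  rw [Finset.mem_coe, Set.Finite.mem_toFinset, Set.mem_ofPred_eq]
  by_cases hdvd : d i ∣ m
  · exact (Nat.le_of_dvd (by omega) hdvd).trans hmn
  · rw [if_neg hdvd] at hi
    exact absurd rfl hi

lemma sum_Icc_boole (a n : ℕ) (ha : a ≤ n) :
    (∑ j ∈ Finset.Icc 1 n, if j ≤ a then 1 else 0) = a := by
  rw [Finset.sum_boole]
  have : (Finset.Icc 1 n).filter (fun j => j ≤ a) = Finset.Icc 1 a := by
    ext j
    rw [Finset.mem_filter, Finset.mem_Icc, Finset.mem_Icc]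
    omega
  rw [this, Nat.card_Icc]
  simp

/-- The logarithmic-derivative form of the Euler product. -/
theorem mul_cnt_eq (h : Admissible d) (n : ℕ) :
    n * cnt d n = ∑ m ∈ Finset.range n, npts d (m + 1) * cnt d (n - (m + 1)) := by
  classical
  set S : Finset ι := (h.fin n).toFinset with hS
  set T : Finset (ι →₀ ℕ) := (finite_wt_eq h n).toFinset with hT
  have hTmem : ∀ E, E ∈ T ↔ wt d E = n := by
    intro E; rw [hT, Set.Finite.mem_toFinset]; rfl
  have hcnt : cnt d n = T.card := by
    unfold cnt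
    rw [← Nat.card_eq_finsetCard T]
    exact Nat.card_congr (Equiv.subtypeEquivRight fun E => (hTmem E).symm)
  have hL : n * cnt d n = ∑ i ∈ S, ∑ j ∈ Finset.Icc 1 n,
      if j * d i ≤ n then d i * cnt d (n - j * d i) else 0 := by
    have h1 : n * cnt d n = ∑ E ∈ T, wt d E := by
      rw [hcnt, Finset.sum_congr rfl (fun E hE => (hTmem E).mp hE), Finset.sum_const,
        smul_eq_mul, mul_comm]
    have h2 : ∀ E ∈ T, wt d E =
        ∑ i ∈ S, (∑ j ∈ Finset.Icc 1 n, if j ≤ E i then 1 else 0) * d i := by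
      intro E hE
      have hEn := (hTmem E).mp hE
      have hsub : E.support ⊆ S := by
        intro i hi
        rw [Finsupp.mem_support_iff] at hi
        rw [hS, Set.Finite.mem_toFinset]
        exact hEn ▸ deg_le_of_mem_support E hi
      unfold wt
      rw [Finsupp.sum_of_support_subset E hsub _ (fun i _ => by simp)]
      refine Finset.sum_congr rfl fun i _ => ?_
      rw [sum_Icc_boole (E i) n (hEn ▸ coeff_le h E i)]
    rw [h1, Finset.sum_congr rfl h2, Finset.sum_comm]
    refine Finset.sum_congr rfl fun i _ => ?_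
    simp_rw [Finset.sum_mul]
    rw [Finset.sum_comm]
    refine Finset.sum_congr rfl fun j _ => ?_
    have h3 : ∑ E ∈ T, (if j ≤ E i then 1 else 0) * d i =
        d i * (T.filter (fun E => j ≤ E i)).card := by
      rw [← Finset.sum_mul, Finset.sum_boole, mul_comm]
      simp
    rw [h3]
    have h4 : (T.filter (fun E => j ≤ E i)).card =
        Nat.card {E : ι →₀ ℕ // wt d E = n ∧ j ≤ E i} := by
      rw [← Nat.card_eq_finsetCard]
      exact Nat.card_congr (Equiv.subtypeEquivRight fun E => by rw [Finset.mem_filter, hTmem])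
    rw [h4, card_ge]
    split_ifs <;> simp
  have hR : ∑ m ∈ Finset.range n, npts d (m + 1) * cnt d (n - (m + 1)) =
      ∑ i ∈ S, ∑ m ∈ Finset.range n,
        if d i ∣ m + 1 then d i * cnt d (n - (m + 1)) else 0 := by
    rw [Finset.sum_comm]
    refine Finset.sum_congr rfl fun m hm => ?_
    rw [Finset.mem_range] at hm
    rw [npts_eq_sum h (m := m + 1) (n := n) (by omega) (by omega), Finset.sum_mul]
    refine Finset.sum_congr rfl fun i _ => ?_
    split_ifs <;> simp
  rw [hL, hR]
  refine Finset.sum_congr rfl fun i _ => ?_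
  exact (sum_dvd_reindex (d i) n (h.pos i) (fun x => d i * cnt d (n - x))).symm

end Groth.Agent.Lib.Helper67.DegCount

namespace Groth.Agent.Lib.Helper67.DegCount

variable {ι : Type*} {d : ι → ℕ}

theorem cnt_zero (h : Admissible d) : cnt d 0 = 1 := by
  unfold cnt
  have huniq : ∀ E : ι →₀ ℕ, wt d E = 0 → E = 0 := by
    intro E hE
    ext i
    have := coeff_le h E i
    rw [hE] at this
    simpa using this
  have : Unique {E : ι →₀ ℕ // wt d E = 0} :=
    { default := ⟨0, wt_zero d⟩
      uniq := fun E => Subtype.ext (huniq E.1 E.2) }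
  exact Nat.card_unique

end Groth.Agent.Lib.Helper67.DegCount

namespace Groth.Agent.Lib.Helper67.DegCount

variable {ι : Type*} {d : ι → ℕ}

theorem npts_one (h : Admissible d) : npts d 1 = Nat.card {i // d i = 1} := by
  classical
  rw [npts_eq_sum h le_rfl le_rfl]
  have h1 : ∀ i ∈ (h.fin 1).toFinset, (if d i ∣ 1 then d i else 0) = if d i = 1 then 1 else 0 := by
    intro i _
    by_cases hi : d i = 1
    · rw [if_pos hi, if_pos (by rw [hi]), hi]
    · rw [if_neg hi, if_neg (fun h' => hi (Nat.dvd_one.mp h'))]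
  rw [Finset.sum_congr rfl h1, Finset.sum_boole, Nat.cast_id, ← Nat.card_eq_finsetCard]
  refine Nat.card_congr (Equiv.subtypeEquivRight fun i => ?_)
  rw [Finset.mem_filter, Set.Finite.mem_toFinset, Set.mem_ofPred_eq]
  constructor
  · exact fun hi => hi.2
  · exact fun hi => ⟨hi.le, hi⟩

end Groth.Agent.Lib.Helper67.DegCount
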