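import Groth.Agent.Lib.Helper67.FFConstExt
import Groth.Agent.Lib.Helper67.DegCount

/-!
# Point counts in constant field extensions

`N_m(K'/k') = N_{r m}(K/k)` for the constant field extension of degree `r` of a function field over
a finite field.
-/

set_option autoImplicit false
set_option linter.unusedSectionVars false

open FunFld WithZero

namespace Groth.Agent.Lib.Helper67.FFConstExt

open Groth.Agent.FF Groth.Agent.FF.Ext Groth.Agent.Lib.Helper67.DegCount
  Groth.Agent.Lib.Helper67.FFFin

lemma lcm_eq_div_gcd_mul (d r : ℕ) (hd : 0 < d) :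
    Nat.lcm d r = d / Nat.gcd d r * r := by
  have hg : 0 < Nat.gcd d r := Nat.gcd_pos_of_pos_left r hd
  have h1 := Nat.gcd_mul_lcm d r
  obtain ⟨d', hd'⟩ := Nat.gcd_dvd_left d r
  have h2 : d / Nat.gcd d r = d' := Nat.div_eq_of_eq_mul_right hg hd'
  rw [h2]
  have : Nat.gcd d r * Nat.lcm d r = Nat.gcd d r * (d' * r) := by
    rw [h1, ← mul_assoc, ← hd']
  exact Nat.eq_of_mul_eq_mul_left hg this

lemma div_gcd_dvd_iff (d r m : ℕ) (hd : 0 < d) :
    d / Nat.gcd d r ∣ m ↔ d ∣ r * m := by
  have hg : 0 < Nat.gcd d r := Nat.gcd_pos_of_pos_left r hd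
  obtain ⟨d', hd'⟩ := Nat.gcd_dvd_left d r
  obtain ⟨r', hr'⟩ := Nat.gcd_dvd_right d r
  have h2 : d / Nat.gcd d r = d' := Nat.div_eq_of_eq_mul_right hg hd'
  have h3 : r / Nat.gcd d r = r' := Nat.div_eq_of_eq_mul_right hg hr'
  have hcop : Nat.Coprime d' r' := by
    have := Nat.coprime_div_gcd_div_gcd hg
    rwa [h2, h3] at this
  rw [h2]
  constructor
  · rintro ⟨c, rfl⟩
    refine ⟨r' * c, ?_⟩
    calc r * (d' * c) = (Nat.gcd d r * r') * (d' * c) := by rw [← hr']
      _ = (Nat.gcd d r * d') * (r' * c) := by ring
      _ = d * (r' * c) := by rw [← hd']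
  · intro h
    have h4 : Nat.gcd d r * d' ∣ Nat.gcd d r * (r' * m) := by
      have : r * m = Nat.gcd d r * (r' * m) := by
        calc r * m = (Nat.gcd d r * r') * m := by rw [← hr']
          _ = _ := by ring
      rw [← this, ← hd']
      exact h
    have h5 : d' ∣ r' * m := (Nat.mul_dvd_mul_iff_left hg).mp h4
    exact hcop.dvd_of_dvd_mul_left h5

universe u v
variable {k : Type u} {K : Type v} [Field k] [Field K] [Algebra k K]

/-- the degree function on places is admissible over a finite constant field -/
theorem admissible_deg [Finite k] (hK : IsFunctionField k K) :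
    Admissible (fun P : Place k K => P.deg) :=
  ⟨fun P => deg_pos hK P, fun n => finite_places_deg_le hK n⟩

end Groth.Agent.Lib.Helper67.FFConstExt

namespace Groth.Agent.Lib.Helper67.FFConstExt

open Groth.Agent.FF Groth.Agent.FF.Ext Groth.Agent.Lib.Helper67.DegCount
  Groth.Agent.Lib.Helper67.FFFin

variable {k k' K K' : Type*} [Field k] [Field k'] [Field K] [Field K']
  [Algebra k k'] [Algebra k K] [Algebra K K'] [Algebra k' K'] [Algebra k K']
  [IsScalarTower k k' K'] [IsScalarTower k K K']

variable [Algebra.IsAlgebraic K K']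

/-- the place of `K` below a place of `K'/k'` -/
noncomputable def below (Q : Place k' K') : Place k K :=
  Classical.choose (exists_isOverWith_below (K := K) (placeDown (k := k) Q))

lemma isOver_below (Q : Place k' K') : IsOver (placeDown (k := k) Q) (below (k := k) (K := K) Q) :=
  Classical.choose_spec (exists_isOverWith_below (K := K) (placeDown (k := k) Q))

lemma below_eq_iff (Q : Place k' K') (P : Place k K) :
    below (k := k) (K := K) Q = P ↔ IsOver (placeDown (k := k) Q) P := by
  constructor
  · rintro rfl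
    exact isOver_below Q
  · intro h
    exact unique_below (isOver_below Q) h

/-- degree of a place of the constant field extension in terms of the place below -/
lemma deg_eq_div_gcd [Finite k] [Finite k']
    (hsurj : Function.Surjective (Algebra.TensorProduct.productMap
      (IsScalarTower.toAlgHom k k' K') (IsScalarTower.toAlgHom k K K')))
    (hK : IsFunctionField k K) (Q : Place k' K') {P : Place k K}
    (hQP : IsOver (placeDown (k := k) Q) P) :
    Q.deg = P.deg / Nat.gcd P.deg (Module.finrank k k') := by
  obtain ⟨e, he⟩ := hQP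
  have h1 := deg_eq_lcm hsurj hK he
  rw [deg_placeDown, lcm_eq_div_gcd_mul _ _ (deg_pos hK P), mul_comm] at h1
  have hfd : FiniteDimensional k k' := Module.Finite.of_finite
  exact Nat.eq_of_mul_eq_mul_right Module.finrank_pos h1

/-- `N_m(K'/k') = N_{r m}(K/k)` -/
theorem npts_constExt [Finite k] [Finite k']
    (hbij : Function.Bijective (Algebra.TensorProduct.productMap
      (IsScalarTower.toAlgHom k k' K') (IsScalarTower.toAlgHom k K K')))
    (hK : IsFunctionField k K) (hK' : IsFunctionField k' K') (m : ℕ) (hm : 1 ≤ m) :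
    npts (fun Q : Place k' K' => Q.deg) m =
      npts (fun P : Place k K => P.deg) (Module.finrank k k' * m) := by
  classical
  have hfd : FiniteDimensional k k' := Module.Finite.of_finite
  have halg : Algebra.IsAlgebraic k k' := inferInstance
  have hfdK : FiniteDimensional K K' := finiteDimensional_of_productMap_surjective hbij.2
  set r := Module.finrank k k' with hr
  have hrpos : 0 < r := Module.finrank_pos
  have hadm := admissible_deg hK
  have hadm' := admissible_deg hK'
  rw [npts_eq_sum hadm' hm le_rfl,
    npts_eq_sum hadm (m := r * m) (n := r * m) (Nat.mul_pos hrpos hm) le_rfl]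
  set S' := (hadm'.fin m).toFinset with hS'
  set T := (hadm.fin (r * m)).toFinset with hT
  have hmaps : ∀ Q ∈ S', below (k := k) (K := K) Q ∈ T := by
    intro Q hQ
    rw [hS', Set.Finite.mem_toFinset, Set.mem_ofPred_eq] at hQ
    rw [hT, Set.Finite.mem_toFinset, Set.mem_ofPred_eq]
    obtain ⟨e, he⟩ := isOver_below (k := k) (K := K) Q
    have h1 := deg_eq_lcm hbij.2 hK he
    rw [deg_placeDown] at h1
    calc (below (k := k) (K := K) Q).deg
        ≤ Nat.lcm (below (k := k) (K := K) Q).deg r :=
          Nat.le_of_dvd (Nat.lcm_pos (deg_pos hK _) hrpos) (Nat.dvd_lcm_left _ _)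
      _ = r * Q.deg := h1.symm
      _ ≤ r * m := Nat.mul_le_mul_left _ hQ
  rw [← Finset.sum_fiberwise_of_maps_to hmaps]
  refine Finset.sum_congr rfl fun P _ => ?_
  set d := P.deg with hd
  have hdpos : 0 < d := deg_pos hK P
  set g := Nat.gcd d r with hg
  have hterm : ∀ Q ∈ S'.filter (fun Q => below (k := k) (K := K) Q = P),
      (if Q.deg ∣ m then Q.deg else 0) = if d ∣ r * m then d / g else 0 := by
    intro Q hQ
    rw [Finset.mem_filter, below_eq_iff] at hQ
    rw [deg_eq_div_gcd hbij.2 hK Q hQ.2]
    by_cases h : d ∣ r * m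
    · rw [if_pos h, if_pos ((div_gcd_dvd_iff d r m hdpos).mpr h)]
    · rw [if_neg h, if_neg (fun h' => h ((div_gcd_dvd_iff d r m hdpos).mp h'))]
  rw [Finset.sum_congr rfl hterm, Finset.sum_const, smul_eq_mul]
  by_cases hdvd : d ∣ r * m
  · rw [if_pos hdvd, if_pos hdvd]
    -- the filter is in bijection with the places above `P`
    set Qs := (finite_isOver (K' := K') P).toFinset with hQs
    have hQsmem : ∀ Q, Q ∈ Qs ↔ IsOver Q P := by
      intro Q; rw [hQs, Set.Finite.mem_toFinset]; rfl
    have hcard : (S'.filter (fun Q => below (k := k) (K := K) Q = P)).card = Qs.card := by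
      refine Finset.card_nbij' (fun Q => placeDown (k := k) Q) (fun Q => placeUp (k' := k') Q)
        ?_ ?_ ?_ ?_
      · intro Q hQ
        rw [Finset.mem_coe, Finset.mem_filter, below_eq_iff] at hQ
        rw [Finset.mem_coe, hQsmem]
        exact hQ.2
      · intro Q hQ
        rw [Finset.mem_coe, hQsmem] at hQ
        rw [Finset.mem_coe, Finset.mem_filter, below_eq_iff, hS', Set.Finite.mem_toFinset,
          Set.mem_ofPred_eq]
        refine ⟨?_, hQ⟩
        have h1 := deg_eq_div_gcd hbij.2 hK (placeUp (k' := k') Q) (P := P) hQ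
        rw [h1]
        exact Nat.le_of_dvd hm ((div_gcd_dvd_iff d r m hdpos).mpr hdvd)
      · intro Q _
        rfl
      · intro Q _
        rfl
    rw [hcard, card_isOver_eq_gcd hbij hK P Qs hQsmem]
    exact Nat.mul_div_cancel' (Nat.gcd_dvd_left d r)
  · rw [if_neg hdvd, if_neg hdvd, mul_zero]

end Groth.Agent.Lib.Helper67.FFConstExt
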