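import Groth.Agent.Lib.Helper67.CurvePlaces
import Groth.Agent.Lib.Helper67.DegCountDiv
import Groth.Agent.Lib.Helper67.FFConstNpts
import Groth.Prelude.Def_W4c1zetahwZeta

/-!
# Counting closed points of a curve by places of its function field
-/

set_option autoImplicit false
universe u
open CategoryTheory AlgebraicGeometry IsLocalRing FunFld

namespace Groth.Agent.Lib.Helper67.CurveCount

open Groth.Agent.Lib.Helper67 Groth.Agent.Lib.Helper67.CurveFF Groth.Agent.Lib.Helper67.CurveVal
  Groth.Agent.Lib.Helper67.CurveBasic Groth.Agent.Lib.Helper67.CurveTop Groth.Agent.FF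
  Groth.Agent.Lib.Helper67.CurvePoints Groth.Agent.Lib.Helper67.CurvePlaces
  Groth.Agent.Lib.Helper67.CurveGeomIrr Groth.Agent.Lib.Helper67.DegCount

variable {k : Type u} [Field k] {C : Scheme.{u}} {f : C ⟶ Spec (CommRingCat.of k)} [IsIntegral C]

theorem isFunctionField_of_curve (hC : Curve.IsSmoothProperCurve k C f)
    [GeometricallyIrreducible f] [PerfectField k] :
    letI := algK f
    IsFunctionField k C.functionField := by
  obtain ⟨hprop, hsm, hint, hdim⟩ := hC
  exact isFunctionField f hdim

/-- closed points correspond to places, compatibly with degrees -/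
noncomputable def closedEquiv (hC : Curve.IsSmoothProperCurve k C f)
    [GeometricallyIrreducible f] [PerfectField k] :
    letI := algK f
    {x : C // IsClosed ({x} : Set C)} ≃ Place k C.functionField :=
  letI := algK f
  haveI := fun x => valuationRing_stalk hC x
  (Equiv.subtypeEquivRight (fun x : C =>
    ⟨fun hx => ne_genericPoint_of_isClosed hC x hx, fun hx => isClosed_singleton_of_ne hC x hx⟩)).trans
  (Equiv.ofBijective _ (placeOf_bijective f (isFunctionField_of_curve hC) (existence hC)
    (uniqueness hC)))

theorem deg_closedEquiv (hC : Curve.IsSmoothProperCurve k C f)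
    [GeometricallyIrreducible f] [PerfectField k] (x : {x : C // IsClosed ({x} : Set C)}) :
    letI := algK f
    (closedEquiv hC x).deg = EGA4loc.residueDegree f x.1 := by
  letI := algK f
  haveI := fun x => valuationRing_stalk hC x
  exact deg_eq_residueDegree f x.1 _
    (placeOf_O f (isFunctionField_of_curve hC) x.1 (ne_genericPoint_of_isClosed hC x.1 x.2))

theorem degCount_eq (hC : Curve.IsSmoothProperCurve k C f)
    [GeometricallyIrreducible f] [PerfectField k] (e : ℕ) :
    letI := algK f
    Zeta.degCount f e = Nat.card {P : Place k C.functionField // P.deg = e} := by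
  letI := algK f
  unfold Zeta.degCount
  refine Nat.card_congr ?_
  refine (Equiv.subtypeSubtypeEquivSubtypeInter (fun x : C => IsClosed ({x} : Set C))
    (fun x => EGA4loc.residueDegree f x = e)).symm.trans ?_
  refine Equiv.subtypeEquiv (closedEquiv hC) fun x => ?_
  rw [deg_closedEquiv hC x]

theorem nPts_eq_npts (hC : Curve.IsSmoothProperCurve k C f)
    [GeometricallyIrreducible f] [Finite k] {m : ℕ} (hm : 1 ≤ m) :
    letI := algK f
    Zeta.nPts f m = npts (fun P : Place k C.functionField => P.deg) m := by
  letI := algK f
  have hK := isFunctionField_of_curve hC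
  rw [npts_eq_sum_divisors (Groth.Agent.Lib.Helper67.FFConstExt.admissible_deg hK) hm]
  unfold Zeta.nPts
  refine Finset.sum_congr rfl fun e _ => ?_
  rw [degCount_eq hC e]

end Groth.Agent.Lib.Helper67.CurveCount
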