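import Groth.Agent.Lib.Helper67.CurveCoh
import Groth.Agent.Lib.Helper49.FibreRank
import Groth.Agent.Lib.Helper49.StalkExact
import Groth.Agent.Lib.Helper1.PushSupport

/-!
# Degrees of locally free modules on proper schemes of dimension ≤ 1 over a field (helper67)
-/

set_option autoImplicit false
set_option linter.style.haveILetI false
universe u
open AlgebraicGeometry CategoryTheory Limits Opposite TopologicalSpace Abelian

namespace Groth.Agent.Lib.Helper67.CurveDeg

open Groth.Agent.Lib.Helper67.EulerLES Groth.Agent.Lib.Helper67.CurveCoh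
open Groth.Agent.Lib.Helper49

section Rank

variable {X : Scheme.{u}}

theorem isFinLocFree_of_rank {M : X.Modules} {n : ℕ}
    (h : FlatMod.IsFinLocFreeOfRank n M) : FlatMod.IsFinLocFree M := by
  intro x
  obtain ⟨U, hxU, φ⟩ := h x
  exact ⟨U, n, hxU, φ⟩

theorem isCoh_of_rank {M : X.Modules} {n : ℕ}
    (h : FlatMod.IsFinLocFreeOfRank n M) : Coh.IsCoh M :=
  ⟨isQuasicoherent_of_isFinLocFree M (isFinLocFree_of_rank h),
    isFiniteType_of_isFinLocFree M (isFinLocFree_of_rank h)⟩

attribute [local instance] Helper45.stalkModuleSections in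
/-- the stalks of a locally free module of rank `n` are free and finite of rank `n` -/
theorem stalk_of_rank {M : X.Modules} {n : ℕ} (h : FlatMod.IsFinLocFreeOfRank n M) (x : X) :
    Module.Free (X.presheaf.stalk x) ↑(M.presheaf.stalk x) ∧
    Module.Finite (X.presheaf.stalk x) ↑(M.presheaf.stalk x) ∧
    Module.finrank (X.presheaf.stalk x) ↑(M.presheaf.stalk x) = n := by
  haveI := isQuasicoherent_of_isFinLocFree M (isFinLocFree_of_rank h)
  obtain ⟨U, hxU, ⟨e⟩⟩ := h x
  obtain ⟨_, ⟨V, hV : IsAffineOpen V, rfl⟩, hxV, hVU⟩ :=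
    X.isBasis_affineOpens.exists_subset_of_mem_open hxU U.2
  let e' : Γ(M, V) ≃ₗ[Γ(X, V)] (Fin n → Γ(X, V)) :=
    sectionsEquivOfIsoFree M n (isoFreeOfLE hVU M n e)
  obtain ⟨y, rfl⟩ : ∃ y : V, (y : X) = x := ⟨⟨x, hxV⟩, rfl⟩
  have := Helper45.isLocalizedModule_germₗ hV M y
  have := hV.isLocalization_stalk y
  have hfreeV : Module.Free Γ(X, V) Γ(M, V) := Module.Free.of_equiv e'.symm
  have hfinV : Module.Finite Γ(X, V) Γ(M, V) := Module.Finite.equiv e'.symm
  have hfree : Module.Free (X.presheaf.stalk (y : X)) ↑(M.presheaf.stalk (y : X)) :=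
    Module.free_of_isLocalizedModule (hV.primeIdealOf y).asIdeal.primeCompl (Helper45.germₗ M y)
  have hfin : Module.Finite (X.presheaf.stalk (y : X)) ↑(M.presheaf.stalk (y : X)) :=
    Module.Finite.of_isLocalizedModule (hV.primeIdealOf y).asIdeal.primeCompl
      (Helper45.germₗ M y)
  refine ⟨hfree, hfin, ?_⟩
  rw [← fibreRank_eq_finrank_of_free]
  exact fibreRank_eq_of_linearEquiv hV M n e' y

/-- ranks are additive in short exact sequences of locally free modules -/
theorem rank_additive [Nonempty X] {S : ShortComplex X.Modules} (hS : S.ShortExact)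
    {n₁ n₂ n₃ : ℕ} (h₁ : FlatMod.IsFinLocFreeOfRank n₁ S.X₁)
    (h₂ : FlatMod.IsFinLocFreeOfRank n₂ S.X₂) (h₃ : FlatMod.IsFinLocFreeOfRank n₃ S.X₃) :
    n₂ = n₁ + n₃ := by
  obtain ⟨x⟩ := ‹Nonempty X›
  obtain ⟨f1, g1, r1⟩ := stalk_of_rank h₁ x
  obtain ⟨f2, g2, r2⟩ := stalk_of_rank h₂ x
  obtain ⟨f3, g3, r3⟩ := stalk_of_rank h₃ x
  haveI := hS.mono_f
  haveI := hS.epi_g
  have hex : Function.Exact (stalkMapLinear S.f x) (stalkMapLinear S.g x) :=
    stalkMap_exact_of_shortExact S hS x
  have hinj : Function.Injective (stalkMapLinear S.f x) := stalkMap_injective_of_mono S.f x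
  have hsurj : Function.Surjective (stalkMapLinear S.g x) := stalkMap_surjective_of_epi S.g x
  obtain ⟨l, hl⟩ := Module.projective_lifting_property (stalkMapLinear S.g x) LinearMap.id hsurj
  obtain ⟨e, -⟩ := hex.splitSurjectiveEquiv hinj ⟨l, hl⟩
  rw [← r1, ← r2, ← r3, e.finrank_eq, Module.finrank_prod]

end Rank

section Empty

variable {X : Scheme.{u}}

theorem isZero_of_isEmpty [IsEmpty X] (M : X.Modules) : IsZero M :=
  Helper1.isZero_of_sections_eq_zero M fun V t =>
    Helper1.section_eq_zero_of_subsingleton_stalk M V (fun x => isEmptyElim x) t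

theorem euler_eq_zero_of_isEmpty (k : Type u) [Field k] [X.Over (Spec (CommRingCat.of k))]
    [IsEmpty X] (F : X.Modules) : Curv2.euler k X F = 0 := by
  unfold Curv2.euler
  refine finsum_eq_zero_of_forall_eq_zero fun i => ?_
  haveI := Helper1.subsingleton_HH_of_isZero (isZero_of_isEmpty F) i
  simp [Module.finrank_zero_of_subsingleton]

end Empty

section Deg

variable (k : Type u) [Field k] (X : Scheme.{u}) [X.Over (Spec (CommRingCat.of k))]
  [IsProper (X ↘ Spec (CommRingCat.of k))] (hdim : topologicalKrullDim X ≤ 1)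

include hdim in
/-- Euler characteristic is additive on short exact sequences of coherent modules -/
theorem euler_additive_of_coh {S : ShortComplex X.Modules} (hS : S.ShortExact)
    (h₁ : Coh.IsCoh S.X₁) (h₂ : Coh.IsCoh S.X₂) (h₃ : Coh.IsCoh S.X₃) :
    Curv2.euler k X S.X₂ = Curv2.euler k X S.X₁ + Curv2.euler k X S.X₃ :=
  euler_additive k hS (isGood_of_coh k X hdim _ h₁) (isGood_of_coh k X hdim _ h₂)
    (isGood_of_coh k X hdim _ h₃)

include hdim in
/-- degree is additive on short exact sequences of locally free modules -/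
theorem deg_additive {S : ShortComplex X.Modules} (hS : S.ShortExact) {n₁ n₂ n₃ : ℕ}
    (h₁ : FlatMod.IsFinLocFreeOfRank n₁ S.X₁) (h₂ : FlatMod.IsFinLocFreeOfRank n₂ S.X₂)
    (h₃ : FlatMod.IsFinLocFreeOfRank n₃ S.X₃) :
    Curv2.deg k X S.X₂ n₂ = Curv2.deg k X S.X₁ n₁ + Curv2.deg k X S.X₃ n₃ := by
  unfold Curv2.deg
  by_cases hne : Nonempty X
  · have hr := rank_additive hS h₁ h₂ h₃
    rw [euler_additive_of_coh k X hdim hS (isCoh_of_rank h₁) (isCoh_of_rank h₂) (isCoh_of_rank h₃),
      hr]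
    push_cast
    ring
  · rw [not_nonempty_iff] at hne
    simp only [euler_eq_zero_of_isEmpty]
    ring

end Deg

end Groth.Agent.Lib.Helper67.CurveDeg
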