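import Groth.Agent.Lib.Helper67.FFTwoPoint

/-!
# Functions with poles bounded by a divisor outside two places: the quotient computing `H¹(O(D))`
-/

set_option autoImplicit false

open FunFld WithZero

namespace Groth.Agent.Lib.Helper67.FFTwoPointD

open Groth.Agent.FF Groth.Agent.Lib.Helper67.FFTwoPoint

universe u v w
variable {k : Type u} {K : Type v} [Field k] [Field K] [Algebra k K]

/-- functions with poles bounded by `D` outside the set `S` of places -/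
def LOut (S : Set (Place k K)) (D : Divisor k K) : Submodule k K where
  carrier := {x | ∀ Q : Place k K, Q ∉ S → Q.1 x ≤ exp (D Q)}
  add_mem' {x y} hx hy Q hQ := (Q.1.map_add x y).trans (max_le (hx Q hQ) (hy Q hQ))
  zero_mem' Q _ := by simp
  smul_mem' c x hx Q hQ := (val_smul_le Q c x).trans (hx Q hQ)

theorem mem_LOut (S : Set (Place k K)) (D : Divisor k K) (x : K) :
    x ∈ LOut S D ↔ ∀ Q : Place k K, Q ∉ S → Q.1 x ≤ exp (D Q) := Iff.rfl

theorem LOut_empty (D : Divisor k K) : LOut (∅ : Set (Place k K)) D = L D := by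
  ext x
  rw [mem_LOut, mem_L]
  exact ⟨fun h Q => h Q (Set.notMem_empty Q), fun h Q _ => h Q⟩

theorem LOut_mono {S T : Set (Place k K)} (h : S ⊆ T) (D : Divisor k K) : LOut S D ≤ LOut T D :=
  fun _ hx Q hQ => hx Q (fun hQS => hQ (h hQS))

theorem L_le_LOut (S : Set (Place k K)) (D : Divisor k K) : L D ≤ LOut S D :=
  fun _ hx Q _ => hx Q

section TwoPoints

variable {P₁ P₂ : Place k K}

theorem L_add_dv_le (D : Divisor k K) (n m : ℕ) :
    L (D + dv P₁ P₂ n m) ≤ LOut ({P₁, P₂} : Set (Place k K)) D := by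
  intro x hx Q hQ
  have h1 : Q ≠ P₁ := fun h => hQ (h ▸ Set.mem_insert _ _)
  have h2 : Q ≠ P₂ := fun h => hQ (h ▸ Set.mem_insert_of_mem _ rfl)
  have := hx Q
  rwa [Finsupp.add_apply, dv_apply_other _ _ h1 h2, add_zero] at this

theorem L_add_dv_left_le (hne : P₁ ≠ P₂) (D : Divisor k K) (n : ℕ) :
    L (D + dv P₁ P₂ n 0) ≤ LOut ({P₁} : Set (Place k K)) D := by
  intro x hx Q hQ
  have h1 : Q ≠ P₁ := fun h => hQ (h ▸ rfl)
  have := hx Q
  by_cases h2 : Q = P₂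
  · subst h2
    rwa [Finsupp.add_apply, dv_apply_right hne, Nat.cast_zero, add_zero] at this
  · rwa [Finsupp.add_apply, dv_apply_other _ _ h1 h2, add_zero] at this

theorem L_add_dv_right_le (hne : P₁ ≠ P₂) (D : Divisor k K) (m : ℕ) :
    L (D + dv P₁ P₂ 0 m) ≤ LOut ({P₂} : Set (Place k K)) D := by
  intro x hx Q hQ
  have h2 : Q ≠ P₂ := fun h => hQ (h ▸ rfl)
  have := hx Q
  by_cases h1 : Q = P₁
  · subst h1
    rwa [Finsupp.add_apply, dv_apply_left hne, Nat.cast_zero, add_zero] at this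
  · rwa [Finsupp.add_apply, dv_apply_other _ _ h1 h2, add_zero] at this

theorem exists_val_le_exp_add (P : Place k K) (x : K) (c : ℤ) : ∃ N : ℕ, ∀ N' : ℕ, N ≤ N' →
    P.1 x ≤ exp (c + (N' : ℤ)) := by
  obtain ⟨N₀, hN₀⟩ := exists_val_le_exp P x
  refine ⟨N₀ + c.natAbs, fun N' hN' => ?_⟩
  refine (hN₀ N₀ le_rfl).trans ?_
  rw [exp_le_exp]
  have h1 : ((N₀ + c.natAbs : ℕ) : ℤ) ≤ N' := by exact_mod_cast hN'
  have h2 : -|c| ≤ c := neg_abs_le c
  push_cast at h1
  linarith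

theorem exists_mem_L_add_dv (hne : P₁ ≠ P₂) (D : Divisor k K) {y : K}
    (hy : y ∈ LOut ({P₁, P₂} : Set (Place k K)) D) :
    ∃ N : ℕ, ∀ N' : ℕ, N ≤ N' → y ∈ L (D + dv P₁ P₂ N' N') := by
  obtain ⟨N₁, h₁⟩ := exists_val_le_exp_add P₁ y (D P₁)
  obtain ⟨N₂, h₂⟩ := exists_val_le_exp_add P₂ y (D P₂)
  refine ⟨max N₁ N₂, fun N' hN' Q => ?_⟩
  rw [Finsupp.add_apply]
  by_cases h1 : Q = P₁
  · subst h1
    rw [dv_apply_left hne]
    exact h₁ N' (le_of_max_le_left hN')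
  by_cases h2 : Q = P₂
  · subst h2
    rw [dv_apply_right hne]
    exact h₂ N' (le_of_max_le_right hN')
  rw [dv_apply_other _ _ h1 h2, add_zero]
  apply hy Q
  intro hQ
  rcases hQ with hQ | hQ
  · exact h1 hQ
  · exact h2 hQ

/-- splitting a sum with bounded poles -/
theorem mem_L_of_add_D (hne : P₁ ≠ P₂) (D : Divisor k K) (n m : ℕ) {a b : K}
    (hab : a + b ∈ L (D + dv P₁ P₂ n m)) (ha : a ∈ LOut ({P₁} : Set (Place k K)) D)
    (hb : b ∈ LOut ({P₂} : Set (Place k K)) D) :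
    a ∈ L (D + dv P₁ P₂ n 0) ∧ b ∈ L (D + dv P₁ P₂ 0 m) := by
  have hexp : ∀ (c : ℤ) (j : ℕ), exp c ≤ exp (c + (j : ℤ)) := by
    intro c j
    rw [exp_le_exp]
    have := Int.natCast_nonneg j
    linarith
  constructor
  · intro Q
    rw [Finsupp.add_apply]
    by_cases h1 : Q = P₁
    · subst h1
      rw [dv_apply_left hne]
      have hb1 : Q.1 b ≤ exp (D Q) := hb Q (fun h => hne h)
      have hsum := hab Q
      rw [Finsupp.add_apply, dv_apply_left hne] at hsum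
      have : a = (a + b) + (-b) := by ring
      rw [this]
      refine (Q.1.map_add _ _).trans (max_le hsum ?_)
      rw [Valuation.map_neg]
      exact hb1.trans (hexp _ _)
    · have := ha Q h1
      by_cases h2 : Q = P₂
      · subst h2
        rwa [dv_apply_right hne, Nat.cast_zero, add_zero]
      · rwa [dv_apply_other _ _ h1 h2, add_zero]
  · intro Q
    rw [Finsupp.add_apply]
    by_cases h2 : Q = P₂
    · subst h2
      rw [dv_apply_right hne]
      have ha1 : Q.1 a ≤ exp (D Q) := ha Q (fun h => hne h.symm)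
      have hsum := hab Q
      rw [Finsupp.add_apply, dv_apply_right hne] at hsum
      have : b = (a + b) + (-a) := by ring
      rw [this]
      refine (Q.1.map_add _ _).trans (max_le hsum ?_)
      rw [Valuation.map_neg]
      exact ha1.trans (hexp _ _)
    · have := hb Q h2
      by_cases h1 : Q = P₁
      · subst h1
        rwa [dv_apply_left hne, Nat.cast_zero, add_zero]
      · rwa [dv_apply_other _ _ h1 h2, add_zero]

theorem add_dv_sup (hne : P₁ ≠ P₂) (D : Divisor k K) (n m n' m' : ℕ) :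
    (D + dv P₁ P₂ n m) ⊔ (D + dv P₁ P₂ n' m') = D + dv P₁ P₂ (max n n') (max m m') := by
  rw [← dv_sup hne]
  ext Q
  simp only [Finsupp.sup_apply, Finsupp.add_apply]
  exact (max_add_add_left _ _ _)

theorem add_dv_inf (hne : P₁ ≠ P₂) (D : Divisor k K) (n m n' m' : ℕ) :
    (D + dv P₁ P₂ n m) ⊓ (D + dv P₁ P₂ n' m') = D + dv P₁ P₂ (min n n') (min m m') := by
  rw [← dv_inf hne]
  ext Q
  simp only [Finsupp.inf_apply, Finsupp.add_apply]
  exact (min_add_add_left _ _ _)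

end TwoPoints

/-- the quotient of `LOut {P₁, P₂} D` by `LOut {P₁} D + LOut {P₂} D` has `q^i` elements with
`i = ℓ(D) - deg D - 1 + g` -/
theorem card_range_eq_D (hK : IsFunctionField k K) [Finite k] {P₁ P₂ : Place k K} (hne : P₁ ≠ P₂)
    (D : Divisor k K) {H : Type w} [AddCommGroup H]
    (ψ : LOut ({P₁, P₂} : Set (Place k K)) D →+ H)
    (hker : ∀ x, ψ x = 0 ↔ ∃ a ∈ LOut ({P₁} : Set (Place k K)) D,
      ∃ b ∈ LOut ({P₂} : Set (Place k K)) D, (x : K) = a + b) :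
    ∃ i : ℕ, (i : ℤ) = (ell D : ℤ) - D.deg - 1 + genus k K ∧
      Nat.card ψ.range = Nat.card k ^ i := by
  set g := genus k K with hg
  set n := 2 * g + D.deg.natAbs with hn
  have hd₁ : 1 ≤ P₁.deg := deg_pos hK P₁
  have hd₂ : 1 ≤ P₂.deg := deg_pos hK P₂
  have habs : -|D.deg| ≤ D.deg := neg_abs_le D.deg
  have habs0 : 0 ≤ |D.deg| := abs_nonneg _
  have hdeg₁ : 2 * (genus k K : ℤ) - 1 ≤ (D + dv P₁ P₂ n 0).deg := by
    rw [deg_add, deg_dv, hn]
    push_cast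
    have : (1 : ℤ) ≤ P₁.deg := by exact_mod_cast hd₁
    nlinarith [Int.natCast_nonneg g, habs0, habs]
  have hdeg₂ : 2 * (genus k K : ℤ) - 1 ≤ (D + dv P₁ P₂ 0 n).deg := by
    rw [deg_add, deg_dv, hn]
    push_cast
    have : (1 : ℤ) ≤ P₂.deg := by exact_mod_cast hd₂
    nlinarith [Int.natCast_nonneg g, habs0, habs]
  have hsupD : (D + dv P₁ P₂ n 0) ⊔ (D + dv P₁ P₂ 0 n) = D + dv P₁ P₂ n n := by
    rw [add_dv_sup hne]; simp
  have hinfD : (D + dv P₁ P₂ n 0) ⊓ (D + dv P₁ P₂ 0 n) = D := by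
    rw [add_dv_inf hne]; simp [dv_zero_zero]
  have hle : L (D + dv P₁ P₂ n 0) ⊔ L (D + dv P₁ P₂ 0 n) ≤ L (D + dv P₁ P₂ n n) := by
    rw [← hsupD]
    exact sup_le (L_mono le_sup_left) (L_mono le_sup_right)
  let ψD : L (D + dv P₁ P₂ n n) →+ H :=
    ψ.comp (Submodule.inclusion (L_add_dv_le D n n)).toAddMonoidHom
  have hψD : ∀ x : L (D + dv P₁ P₂ n n), ψD x = ψ ⟨x.1, L_add_dv_le D n n x.2⟩ := fun x => rfl
  -- the kernel
  have hkerD : ∀ x : L (D + dv P₁ P₂ n n), ψD x = 0 ↔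
      (x : K) ∈ L (D + dv P₁ P₂ n 0) ⊔ L (D + dv P₁ P₂ 0 n) := by
    intro x
    rw [hψD, hker, Submodule.mem_sup]
    constructor
    · rintro ⟨a, ha, b, hb, hab⟩
      have hab' : a + b ∈ L (D + dv P₁ P₂ n n) := by
        have : (x : K) = a + b := hab
        rw [← this]; exact x.2
      obtain ⟨h1, h2⟩ := mem_L_of_add_D hne D n n hab' ha hb
      exact ⟨a, h1, b, h2, hab.symm⟩
    · rintro ⟨a, ha, b, hb, hab⟩
      exact ⟨a, L_add_dv_left_le hne D n ha, b, L_add_dv_right_le hne D n hb, hab.symm⟩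
  -- the range
  have hrange : ψD.range = ψ.range := by
    apply le_antisymm
    · rintro _ ⟨x, rfl⟩
      exact ⟨_, rfl⟩
    · rintro _ ⟨y, rfl⟩
      obtain ⟨N₀, hN₀⟩ := exists_mem_L_add_dv hne D y.2
      set N := max N₀ n with hN
      have hyN : (y : K) ∈ L (D + dv P₁ P₂ N N) := hN₀ N (le_max_left _ _)
      have hnN : n ≤ N := le_max_right _ _
      have e1 : L (D + dv P₁ P₂ N N) = L (D + dv P₁ P₂ N n) ⊔ L (D + dv P₁ P₂ 0 N) := by
        have h1 : (D + dv P₁ P₂ N n) ⊔ (D + dv P₁ P₂ 0 N) = D + dv P₁ P₂ N N := by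
          rw [add_dv_sup hne]; simp [hnN]
        have h2 : (D + dv P₁ P₂ N n) ⊓ (D + dv P₁ P₂ 0 N) = D + dv P₁ P₂ 0 n := by
          rw [add_dv_inf hne]; simp [hnN]
        rw [← h1]
        exact L_sup hK _ _ (by rw [h2]; exact hdeg₂)
      have e2 : L (D + dv P₁ P₂ N n) = L (D + dv P₁ P₂ n n) ⊔ L (D + dv P₁ P₂ N 0) := by
        have h1 : (D + dv P₁ P₂ n n) ⊔ (D + dv P₁ P₂ N 0) = D + dv P₁ P₂ N n := by
          rw [add_dv_sup hne]; simp [hnN]
        have h2 : (D + dv P₁ P₂ n n) ⊓ (D + dv P₁ P₂ N 0) = D + dv P₁ P₂ n 0 := by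
          rw [add_dv_inf hne]; simp [hnN]
        rw [← h1]
        exact L_sup hK _ _ (by rw [h2]; exact hdeg₁)
      rw [e1, e2, Submodule.mem_sup] at hyN
      obtain ⟨xa, hxa, b, hb, hy⟩ := hyN
      rw [Submodule.mem_sup] at hxa
      obtain ⟨x, hx, a, ha, hxa'⟩ := hxa
      refine ⟨⟨x, hx⟩, ?_⟩
      rw [hψD]
      have hdiff : ψ (y - ⟨x, L_add_dv_le D n n hx⟩) = 0 := by
        rw [hker]
        refine ⟨a, L_add_dv_left_le hne D N ha, b, L_add_dv_right_le hne D N hb, ?_⟩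
        show (y : K) - x = a + b
        rw [← hy, ← hxa']
        ring
      rw [map_sub, sub_eq_zero] at hdiff
      exact hdiff.symm
  rw [← hrange]
  -- counting
  haveI := finite_L hK (D + dv P₁ P₂ n n)
  haveI := finite_L hK (D + dv P₁ P₂ n 0)
  haveI := finite_L hK (D + dv P₁ P₂ 0 n)
  haveI := finite_L hK D
  have hc1 : Nat.card (L (D + dv P₁ P₂ n n)) = Nat.card ψD.range * Nat.card ψD.ker := by
    rw [AddSubgroup.card_eq_card_quotient_mul_card_addSubgroup ψD.ker]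
    congr 1
    exact Nat.card_congr (QuotientAddGroup.quotientKerEquivRange ψD).toEquiv
  have hc2 : Nat.card ψD.ker =
      Nat.card ↥(L (D + dv P₁ P₂ n 0) ⊔ L (D + dv P₁ P₂ 0 n)) := by
    refine Nat.card_congr
      { toFun := fun x => ⟨x.1.1, (hkerD x.1).mp x.2⟩
        invFun := fun x => ⟨⟨x.1, hle x.2⟩, (hkerD _).mpr x.2⟩
        left_inv := fun x => rfl
        right_inv := fun x => rfl }
  have hc3 : Nat.card (L (D + dv P₁ P₂ n n)) = Nat.card k ^ ell (D + dv P₁ P₂ n n) :=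
    Module.natCard_eq_pow_finrank
  have hc4 : Nat.card ↥(L (D + dv P₁ P₂ n 0) ⊔ L (D + dv P₁ P₂ 0 n)) =
      Nat.card k ^ Module.finrank k ↥(L (D + dv P₁ P₂ n 0) ⊔ L (D + dv P₁ P₂ 0 n)) :=
    Module.natCard_eq_pow_finrank
  -- dimensions
  have hf1 := Submodule.finrank_sup_add_finrank_inf_eq (L (D + dv P₁ P₂ n 0))
    (L (D + dv P₁ P₂ 0 n))
  rw [← L_inf, hinfD] at hf1
  have e1 := ell_eq_of_deg_ge hK (D + dv P₁ P₂ n 0) hdeg₁
  have e2 := ell_eq_of_deg_ge hK (D + dv P₁ P₂ 0 n) hdeg₂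
  have hdegD : 2 * (genus k K : ℤ) - 1 ≤ (D + dv P₁ P₂ n n).deg :=
    hdeg₁.trans (deg_mono (by rw [← hsupD]; exact le_sup_left))
  have e3 := ell_eq_of_deg_ge hK (D + dv P₁ P₂ n n) hdegD
  rw [deg_add, deg_dv] at e1 e2 e3
  unfold ell at e1 e2
  set s := Module.finrank k ↥(L (D + dv P₁ P₂ n 0) ⊔ L (D + dv P₁ P₂ 0 n)) with hs
  have h' : (s : ℤ) + (ell D : ℤ) =
      Module.finrank k ↥(L (D + dv P₁ P₂ n 0)) + Module.finrank k ↥(L (D + dv P₁ P₂ 0 n)) := by
    unfold ell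
    exact_mod_cast hf1
  have hi : (0 : ℤ) ≤ (ell D : ℤ) - D.deg - 1 + g := by
    -- `ell (D + dv n n) ≥ s` as the sup is contained in it
    have hsle : s ≤ ell (D + dv P₁ P₂ n n) := Submodule.finrank_mono hle
    have hsle' : (s : ℤ) ≤ ell (D + dv P₁ P₂ n n) := by exact_mod_cast hsle
    push_cast at e1 e2 e3 h' hsle'
    linarith
  obtain ⟨i, hi'⟩ := Int.eq_ofNat_of_zero_le hi
  refine ⟨i, hi'.symm, ?_⟩
  have hfin : ell (D + dv P₁ P₂ n n) = s + i := by
    have : (ell (D + dv P₁ P₂ n n) : ℤ) = s + i := by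
      push_cast at e1 e2 e3 h' ⊢
      linarith
    exact_mod_cast this
  rw [hc3, hc2, hc4, hfin, pow_add, mul_comm] at hc1
  have hq : 0 < Nat.card k ^ s := pow_pos Nat.card_pos _
  exact (Nat.eq_of_mul_eq_mul_right hq hc1).symm

/-- the global sections: `L(D)` has `q^ℓ(D)` elements -/
theorem card_L (hK : IsFunctionField k K) [Finite k] (D : Divisor k K) :
    Nat.card (L D) = Nat.card k ^ ell D := by
  haveI := finite_L hK D
  exact Module.natCard_eq_pow_finrank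

end Groth.Agent.Lib.Helper67.FFTwoPointD
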