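import Groth.Agent.Lib.Helper67.CurveGenus
import Groth.Agent.Lib.Helper67.FFTwoPointD
import Groth.Agent.FunFld.Residue

/-!
# Divisors on a curve: the spaces `A_W(E)` of rational functions with poles bounded by `E` on `W`
-/

set_option autoImplicit false
universe u
open CategoryTheory AlgebraicGeometry IsLocalRing FunFld TopologicalSpace Opposite WithZero

noncomputable section

namespace Groth.Agent.Lib.Helper67.CurveDiv

open Groth.Agent.Lib.Helper67 Groth.Agent.Lib.Helper67.CurveFF Groth.Agent.Lib.Helper67.CurveVal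
  Groth.Agent.Lib.Helper67.CurveBasic Groth.Agent.Lib.Helper67.CurveTop Groth.Agent.FF
  Groth.Agent.Lib.Helper67.CurvePoints Groth.Agent.Lib.Helper67.CurvePlaces
  Groth.Agent.Lib.Helper67.CurveGeomIrr Groth.Agent.Lib.Helper67.CurveCount
  Groth.Agent.Lib.Helper67.CurveSections Groth.Agent.Lib.Helper67.FFTwoPoint
  Groth.Agent.Lib.Helper67.FFTwoPointD Groth.Agent.Lib.Helper67.CurveGenus

variable {k : Type u} [Field k] {C : Scheme.{u}} [C.Over (Spec (CommRingCat.of k))] [IsIntegral C]

/-- the `k`-algebra structure on the function field of a `k`-scheme -/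
abbrev algKO : Algebra k C.functionField := algK (C ↘ Spec (CommRingCat.of k))

attribute [local instance] algKO

section General

/-- an element of the image of a local ring in the function field is a section near the point -/
theorem exists_section_of_mem_range (y : C) (a : C.functionField)
    (ha : a ∈ Set.range (algebraMap (C.presheaf.stalk y) C.functionField)) :
    ∃ (W : C.Opens) (_ : y ∈ W) (t : Γ(C, W)),
      ∀ hne : Nonempty W, (@Scheme.germToFunctionField C _ W hne) t = a := by
  obtain ⟨s, hs⟩ := ha
  obtain ⟨W₀, hyW₀, t₀, ht₀⟩ := C.presheaf.exists_germ_eq s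
  refine ⟨W₀, hyW₀, t₀, fun hne => ?_⟩
  rw [← hs, ← ht₀]
  exact (Scheme.algebraMap_germ_eq_germToFunctionField (X := C) hyW₀ t₀).symm

/-- every rational function is a section over some nonempty open -/
theorem exists_section_generic (a : C.functionField) :
    ∃ (W : C.Opens) (_ : genericPoint C ∈ W) (t : Γ(C, W)),
      ∀ hne : Nonempty W, (@Scheme.germToFunctionField C _ W hne) t = a := by
  obtain ⟨W₀, hyW₀, t₀, ht₀⟩ := C.presheaf.exists_germ_eq (x := genericPoint C) a
  exact ⟨W₀, hyW₀, t₀, fun hne => ht₀⟩

end General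

variable (hC : Curve.IsSmoothProperCurve k C (C ↘ Spec (CommRingCat.of k)))
  [GeometricallyIrreducible (C ↘ Spec (CommRingCat.of k))] [PerfectField k]

/-- the place of a closed point -/
def plc (y : C) (hy : IsClosed ({y} : Set C)) : Place k C.functionField :=
  closedEquiv hC ⟨y, hy⟩

theorem plc_injective {y y' : C} (hy : IsClosed ({y} : Set C)) (hy' : IsClosed ({y'} : Set C))
    (h : plc hC y hy = plc hC y' hy') : y = y' :=
  congrArg Subtype.val ((closedEquiv hC).injective h)

theorem exists_plc_eq (Q : Place k C.functionField) :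
    ∃ (y : C) (hy : IsClosed ({y} : Set C)), plc hC y hy = Q := by
  obtain ⟨⟨y, hy⟩, rfl⟩ := (closedEquiv hC).surjective Q
  exact ⟨y, hy, rfl⟩

/-- places whose point is outside `W` -/
def outS (W : C.Opens) : Set (Place k C.functionField) :=
  {Q | ((closedEquiv hC).symm Q).1 ∉ W}

theorem plc_mem_outS_iff (W : C.Opens) (y : C) (hy : IsClosed ({y} : Set C)) :
    plc hC y hy ∈ outS hC W ↔ y ∉ W := by
  simp only [outS, plc, Set.mem_ofPred_eq, Equiv.symm_apply_apply]

/-- sections of `O(E)` over `W`, inside the function field -/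
def AW (W : C.Opens) (E : Divisor k C.functionField) : Submodule k C.functionField :=
  LOut (outS hC W) E

theorem mem_AW_iff (W : C.Opens) (E : Divisor k C.functionField) (c : C.functionField) :
    c ∈ AW hC W E ↔ ∀ (y : C) (hy : IsClosed ({y} : Set C)), y ∈ W →
      (plc hC y hy).1 c ≤ exp (E (plc hC y hy)) := by
  constructor
  · intro h y hy hyW
    apply h
    rw [plc_mem_outS_iff]
    exact not_not.mpr hyW
  · intro h Q hQ
    obtain ⟨y, hy, rfl⟩ := exists_plc_eq hC Q
    rw [plc_mem_outS_iff, not_not] at hQ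
    exact h y hy hQ

theorem AW_mono {V W : C.Opens} (h : V ≤ W) (E : Divisor k C.functionField) :
    AW hC W E ≤ AW hC V E := by
  intro c hc
  rw [mem_AW_iff] at hc ⊢
  exact fun y hy hyV => hc y hy (h hyV)

theorem AW_eq_LOut (W : C.Opens) (S : Set (Place k C.functionField))
    (hS : ∀ (y : C) (hy : IsClosed ({y} : Set C)), y ∈ W ↔ plc hC y hy ∉ S)
    (E : Divisor k C.functionField) : AW hC W E = LOut S E := by
  have : outS hC W = S := by
    ext Q
    obtain ⟨y, hy, rfl⟩ := exists_plc_eq hC Q
    rw [plc_mem_outS_iff, hS y hy, not_not]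
  rw [AW, this]

theorem AW_top (E : Divisor k C.functionField) : AW hC ⊤ E = L E := by
  rw [AW_eq_LOut hC ⊤ ∅ (fun y hy => ⟨fun _ => Set.notMem_empty _, fun _ => trivial⟩), LOut_empty]

theorem LOut_zero_eq (S : Set (Place k C.functionField)) :
    (LOut S (0 : Divisor k C.functionField) : Set C.functionField) = regOutside S := by
  ext c
  simp only [SetLike.mem_coe, mem_LOut, mem_regOutside, Finsupp.coe_zero, Pi.zero_apply, exp_zero]

/-- sections of the structure sheaf are the sections of `O(0)` -/
theorem range_germ_eq_AW_zero (W : C.Opens) [Nonempty W] :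
    Set.range (C.germToFunctionField W) = (AW hC W 0 : Set C.functionField) := by
  rw [AW, LOut_zero_eq]
  refine range_germToFunctionField hC W (outS hC W) (fun y => ?_)
  have := plc_mem_outS_iff hC W y.1 y.2
  rw [← not_iff_not, not_not]
  exact this.symm

theorem germ_mem_AW_zero (W : C.Opens) [Nonempty W] (r : Γ(C, W)) :
    C.germToFunctionField W r ∈ AW hC W 0 := by
  have : C.germToFunctionField W r ∈ Set.range (C.germToFunctionField W) := ⟨r, rfl⟩
  rw [range_germ_eq_AW_zero hC] at this
  exact this

theorem exists_germ_eq_of_mem_AW_zero (W : C.Opens) [Nonempty W] {c : C.functionField}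
    (hc : c ∈ AW hC W 0) : ∃ r : Γ(C, W), C.germToFunctionField W r = c := by
  have : c ∈ Set.range (C.germToFunctionField W) := by
    rw [range_germ_eq_AW_zero hC]; exact hc
  exact this

theorem mul_mem_AW (W : C.Opens) {E E' : Divisor k C.functionField} {a b : C.functionField}
    (ha : a ∈ AW hC W E) (hb : b ∈ AW hC W E') : a * b ∈ AW hC W (E + E') := by
  intro Q hQ
  rw [map_mul, Finsupp.add_apply, exp_add]
  exact mul_le_mul' (ha Q hQ) (hb Q hQ)

theorem mul_mem_AW_zero_left (W : C.Opens) {E : Divisor k C.functionField} {a b : C.functionField}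
    (ha : a ∈ AW hC W 0) (hb : b ∈ AW hC W E) : a * b ∈ AW hC W E := by
  have := mul_mem_AW hC W ha hb
  rwa [zero_add] at this

/-- a rational function which is integral at a closed point is a section near that point -/
theorem exists_section_of_val_le_one (y : C) (hy : IsClosed ({y} : Set C)) (a : C.functionField)
    (ha : (plc hC y hy).1 a ≤ 1) :
    ∃ (W : C.Opens) (_ : y ∈ W) (t : Γ(C, W)),
      ∀ hne : Nonempty W, (@Scheme.germToFunctionField C _ W hne) t = a := by
  haveI := fun x => valuationRing_stalk hC x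
  apply exists_section_of_mem_range
  have h1 : a ∈ (plc hC y hy).O := ha
  rw [plc, closedEquiv_O hC ⟨y, hy⟩] at h1
  exact h1

/-- local generators of `O(E)` -/
theorem exists_local_gen (E : Divisor k C.functionField) (x : C) :
    ∃ V : C.Opens, x ∈ V ∧ ∃ t : C.functionField, t ≠ 0 ∧ t ∈ AW hC V E ∧ t⁻¹ ∈ AW hC V (-E) := by
  classical
  have hK := isFunctionField_of_curve hC
  obtain ⟨t, ht0, ht⟩ : ∃ t : C.functionField, t ≠ 0 ∧
      ∀ hx : IsClosed ({x} : Set C), (plc hC x hx).ord t = -E (plc hC x hx) := by
    by_cases hx : IsClosed ({x} : Set C)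
    · obtain ⟨t, ht0, ht⟩ := exists_ord_eq (plc hC x hx) (-E (plc hC x hx))
      exact ⟨t, ht0, fun _ => ht⟩
    · exact ⟨1, one_ne_zero, fun h => absurd h hx⟩
  set D : Divisor k C.functionField := FunFld.div k t + E with hD
  set B : Set C := {y | ∃ hy : IsClosed ({y} : Set C), y ≠ x ∧ D (plc hC y hy) ≠ 0} with hB
  have hBfin : B.Finite := by
    refine Set.Finite.subset (D.support.finite_toSet.image
      (fun Q => ((closedEquiv hC).symm Q).1)) ?_
    rintro y ⟨hy, -, hDy⟩
    refine ⟨plc hC y hy, ?_, ?_⟩
    · simpa using hDy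
    · simp [plc]
  have hBcl : IsClosed B := by
    rw [← Set.biUnion_of_singleton B]
    exact hBfin.isClosed_biUnion (fun y hy => hy.1)
  refine ⟨⟨Bᶜ, hBcl.isOpen_compl⟩, ?_, t, ht0, ?_, ?_⟩
  · rintro ⟨-, hne, -⟩
    exact hne rfl
  all_goals
    rw [mem_AW_iff]
    intro y hy hyV
    have hord : (plc hC y hy).ord t = -E (plc hC y hy) := by
      by_cases hyx : y = x
      · subst hyx
        exact ht hy
      · have : D (plc hC y hy) = 0 := by
          by_contra h
          exact hyV ⟨hy, hyx, h⟩
        rw [hD, Finsupp.add_apply, div_apply hK] at this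
        linarith
  · rw [val_le_exp_iff _ ht0, hord]
  · rw [val_le_exp_iff _ (inv_ne_zero ht0), ord_inv, hord, Finsupp.neg_apply]

end Groth.Agent.Lib.Helper67.CurveDiv
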