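import Groth.Agent.Lib.Helper67.ZetaCount
import Mathlib.AlgebraicGeometry.FunctionField
import Mathlib.AlgebraicGeometry.Stalk

/-!
# The function field of an integral scheme over a field, as an extension of the base field
-/

set_option autoImplicit false
universe u
open CategoryTheory AlgebraicGeometry

namespace Groth.Agent.Lib.Helper67.CurveFF

open Groth.Agent.Lib.Helper67

variable {k : Type u} [Field k] {C : Scheme.{u}} (f : C ⟶ Spec (CommRingCat.of k))

/-- the structure map `k → O_{C,x}` -/
noncomputable def stalkHom (x : C) : k →+* C.presheaf.stalk x :=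
  (Spec.preimage (C.fromSpecStalk x ≫ f)).hom

theorem specMap_stalkHom (x : C) :
    Spec.map (CommRingCat.ofHom (stalkHom f x)) = C.fromSpecStalk x ≫ f := by
  unfold stalkHom
  rw [CommRingCat.ofHom_hom]
  exact Spec.map_preimage _

theorem stalkSpecializes_comp_stalkHom {x y : C} (h : x ⤳ y) :
    (C.presheaf.stalkSpecializes h).hom.comp (stalkHom f y) = stalkHom f x := by
  have h1 : CommRingCat.ofHom (stalkHom f y) ≫ C.presheaf.stalkSpecializes h =
      CommRingCat.ofHom (stalkHom f x) := by
    apply Spec.map_injective
    rw [Spec.map_comp, specMap_stalkHom, specMap_stalkHom,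
      Scheme.SpecMap_stalkSpecializes_fromSpecStalk_assoc]
  exact congrArg CommRingCat.Hom.hom h1

theorem residue_comp_stalkHom (x : C) :
    (C.residue x).hom.comp (stalkHom f x) = strHom f x := by
  have h1 : CommRingCat.ofHom (stalkHom f x) ≫ C.residue x =
      CommRingCat.ofHom (strHom f x) := by
    apply Spec.map_injective
    rw [Spec.map_comp, specMap_stalkHom, specMap_strHom]
    rfl
  exact congrArg CommRingCat.Hom.hom h1

end Groth.Agent.Lib.Helper67.CurveFF
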