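import Mathlib.AlgebraicGeometry.FunctionField
import Mathlib.Topology.Sheaves.SheafCondition.UniqueGluing

/-!
# Sections of the structure sheaf of an integral scheme as elements of the function field
-/

set_option autoImplicit false
universe u
open CategoryTheory AlgebraicGeometry TopologicalSpace Opposite

namespace Groth.Agent.Lib.Helper67.CurveSections

variable {C : Scheme.{u}} [IsIntegral C]

theorem genericPoint_mem (W : C.Opens) [h : Nonempty W] : genericPoint C ∈ W :=
  ((genericPoint_spec C).mem_open_set_iff W.isOpen).mpr (by simpa using h)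

theorem germToFunctionField_res {W W' : C.Opens} [Nonempty W] [Nonempty W'] (i : W' ⟶ W)
    (s : Γ(C, W)) :
    C.germToFunctionField W' (C.presheaf.map i.op s) = C.germToFunctionField W s :=
  C.presheaf.germ_res_apply i (genericPoint C) (genericPoint_mem W') s

/-- a rational function is a section over `W` as soon as it lies in all local rings at points of
`W` -/
theorem mem_range_germToFunctionField_iff (W : C.Opens) [Nonempty W] (a : C.functionField) :
    a ∈ Set.range (C.germToFunctionField W) ↔
      ∀ y ∈ W, a ∈ Set.range (algebraMap (C.presheaf.stalk y) C.functionField) := by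
  constructor
  · rintro ⟨s, rfl⟩ y hy
    exact ⟨C.presheaf.germ W y hy s, Scheme.algebraMap_germ_eq_germToFunctionField (X := C) hy s⟩
  · intro h
    -- local sections
    have hloc : ∀ y : W, ∃ (Wy : C.Opens) (_ : y.1 ∈ Wy) (_ : Wy ≤ W) (t : Γ(C, Wy)),
        ∀ hne : Nonempty Wy, (@Scheme.germToFunctionField C _ Wy hne) t = a := by
      rintro ⟨y, hy⟩
      obtain ⟨s, hs⟩ := h y hy
      obtain ⟨W₀, hyW₀, t₀, ht₀⟩ := C.presheaf.exists_germ_eq s
      refine ⟨W₀ ⊓ W, ⟨hyW₀, hy⟩, inf_le_right,
        C.presheaf.map (homOfLE (inf_le_left : W₀ ⊓ W ≤ W₀)).op t₀, fun hne => ?_⟩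
      haveI : Nonempty W₀ := ⟨⟨y, hyW₀⟩⟩
      rw [germToFunctionField_res, ← hs, ← ht₀]
      exact (Scheme.algebraMap_germ_eq_germToFunctionField (X := C) hyW₀ t₀).symm
    choose Wy hyWy hWyW t ht using hloc
    have hne : ∀ y : W, Nonempty (Wy y) := fun y => ⟨⟨y.1, hyWy y⟩⟩
    have hcompat : TopCat.Presheaf.IsCompatible C.presheaf Wy t := by
      intro y y'
      haveI := hne y
      haveI := hne y'
      haveI : Nonempty (Wy y ⊓ Wy y' : C.Opens) :=
        ⟨⟨genericPoint C, ⟨genericPoint_mem (Wy y), genericPoint_mem (Wy y')⟩⟩⟩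
      apply C.germToFunctionField_injective (Wy y ⊓ Wy y')
      rw [germToFunctionField_res, germToFunctionField_res, ht y (hne y), ht y' (hne y')]
    obtain ⟨s, hs, -⟩ := C.sheaf.existsUnique_gluing' Wy W (fun y => homOfLE (hWyW y))
      (fun x hx => by
        rw [Opens.mem_iSup]
        exact ⟨⟨x, hx⟩, hyWy ⟨x, hx⟩⟩) t hcompat
    obtain ⟨y₀⟩ := ‹Nonempty W›
    refine ⟨s, ?_⟩
    haveI := hne y₀
    rw [← germToFunctionField_res (homOfLE (hWyW y₀)) s]
    have := hs y₀
    rw [← ht y₀ (hne y₀)]
    exact congrArg _ this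

end Groth.Agent.Lib.Helper67.CurveSections
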