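import Groth.Agent.Lib.Helper67.MVH1
import Groth.Agent.Lib.Helper67.CurveCount
import Groth.Agent.Lib.Helper67.CurveSections
import Groth.Agent.Lib.Helper67.FFTwoPoint
import Groth.Agent.Lib.Helper1.AffineVanishing
import Groth.Prelude.Def_Coh

/-!
# The genus of a curve and the genus of its function field
-/

set_option autoImplicit false
universe u
open CategoryTheory AlgebraicGeometry IsLocalRing FunFld TopologicalSpace Opposite

namespace Groth.Agent.Lib.Helper67.CurveGenus

open Groth.Agent.Lib.Helper67 Groth.Agent.Lib.Helper67.CurveFF Groth.Agent.Lib.Helper67.CurveVal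
  Groth.Agent.Lib.Helper67.CurveBasic Groth.Agent.Lib.Helper67.CurveTop Groth.Agent.FF
  Groth.Agent.Lib.Helper67.CurvePoints Groth.Agent.Lib.Helper67.CurvePlaces
  Groth.Agent.Lib.Helper67.CurveGeomIrr Groth.Agent.Lib.Helper67.CurveCount
  Groth.Agent.Lib.Helper67.CurveSections Groth.Agent.Lib.Helper67.FFTwoPoint

variable {k : Type u} [Field k] {C : Scheme.{u}} {f : C ⟶ Spec (CommRingCat.of k)} [IsIntegral C]

theorem closedEquiv_O (hC : Curve.IsSmoothProperCurve k C f)
    [GeometricallyIrreducible f] [PerfectField k] (y : {x : C // IsClosed ({x} : Set C)}) :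
    letI := algK f
    haveI := fun x => valuationRing_stalk hC x
    (closedEquiv hC y).O = valSubring y.1 := by
  letI := algK f
  haveI := fun x => valuationRing_stalk hC x
  exact placeOf_O f (isFunctionField_of_curve hC) y.1 (ne_genericPoint_of_isClosed hC y.1 y.2)

/-- sections over an open set, inside the function field -/
theorem range_germToFunctionField (hC : Curve.IsSmoothProperCurve k C f)
    [GeometricallyIrreducible f] [PerfectField k] (W : C.Opens) [Nonempty W]
    (S : letI := algK f; Set (Place k C.functionField))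
    (hS : ∀ y : {x : C // IsClosed ({x} : Set C)}, y.1 ∈ W ↔ closedEquiv hC y ∉ S) :
    letI := algK f
    Set.range (C.germToFunctionField W) = (regOutside S : Set C.functionField) := by
  letI := algK f
  haveI := fun x => valuationRing_stalk hC x
  ext a
  rw [mem_range_germToFunctionField_iff]
  constructor
  · intro h Q hQ
    obtain ⟨y, rfl⟩ := (closedEquiv hC).surjective Q
    have hy : y.1 ∈ W := (hS y).mpr hQ
    have h1 : a ∈ valSubring y.1 := h y.1 hy
    rw [← closedEquiv_O hC y] at h1
    exact h1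
  · intro h y hy
    by_cases hyη : y = genericPoint C
    · subst hyη
      have : a ∈ valSubring (genericPoint C) := by
        rw [valSubring_genericPoint]; trivial
      exact this
    · have hcl : IsClosed ({y} : Set C) := isClosed_singleton_of_ne hC y hyη
      have hQ : closedEquiv hC ⟨y, hcl⟩ ∉ S := (hS ⟨y, hcl⟩).mp hy
      have h1 : a ∈ (closedEquiv hC ⟨y, hcl⟩).O := h _ hQ
      rw [closedEquiv_O hC ⟨y, hcl⟩] at h1
      exact h1


/-- The structure sheaf is quasi-coherent. -/
theorem isQuasicoherent_structureModule (X : Scheme.{u}) :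
    SheafOfModules.IsQuasicoherent.{u, u, u} (Coh.structureModule X) := by
  have e : SheafOfModules.free (R := X.ringCatSheaf) PUnit.{u+1} ≅
      SheafOfModules.unit X.ringCatSheaf :=
    Limits.coproductUniqueIso (fun _ : PUnit.{u+1} => SheafOfModules.unit X.ringCatSheaf)
  exact (SheafOfModules.isQuasicoherent X.ringCatSheaf).prop_of_iso e
    (inferInstanceAs (SheafOfModules.free (R := X.ringCatSheaf) PUnit.{u+1}).IsQuasicoherent)

/-- the complement of a closed point -/
def complOpen (x : C) (hx : IsClosed ({x} : Set C)) : C.Opens := ⟨{x}ᶜ, hx.isOpen_compl⟩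

theorem mem_complOpen (x : C) (hx : IsClosed ({x} : Set C)) (y : C) :
    y ∈ complOpen x hx ↔ y ≠ x := Iff.rfl

theorem HU_equiv_of_eq_top {X : TopCat.{u}} (F : CohTop.Ab X) (n : ℕ) (W : Opens X) (hW : W = ⊤) :
    Nonempty (CohTop.HU F n W ≃+ CohTop.H F n) := by
  subst hW
  exact ⟨Groth.Agent.Lib.Helper1.HUTopEquivH F n⟩

/-- the image of the Mayer–Vietoris boundary map for the complements of two closed points has
`q^g` elements, `g` the genus of the function field -/
theorem exists_addSubgroup_card (hC : Curve.IsSmoothProperCurve k C f)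
    [GeometricallyIrreducible f] [Finite k] (x₁ x₂ : C) (hx₁ : IsClosed ({x₁} : Set C))
    (hx₂ : IsClosed ({x₂} : Set C)) (hne : x₁ ≠ x₂) :
    letI := algK f
    ∃ R : AddSubgroup (Coh.HH C (Coh.structureModule C) 1),
      Nat.card R = Nat.card k ^ genus k C.functionField ∧
      (IsAffineOpen (complOpen x₁ hx₁) → IsAffineOpen (complOpen x₂ hx₂) → R = ⊤) := by
  letI := algK f
  haveI := fun x => valuationRing_stalk hC x
  have hK := isFunctionField_of_curve hC
  set U := complOpen x₁ hx₁ with hU
  set V := complOpen x₂ hx₂ with hV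
  have hη₁ : genericPoint C ≠ x₁ := (ne_genericPoint_of_isClosed hC x₁ hx₁).symm
  have hη₂ : genericPoint C ≠ x₂ := (ne_genericPoint_of_isClosed hC x₂ hx₂).symm
  haveI : Nonempty U := ⟨⟨genericPoint C, hη₁⟩⟩
  haveI : Nonempty V := ⟨⟨genericPoint C, hη₂⟩⟩
  haveI : Nonempty (U ⊓ V : C.Opens) := ⟨⟨genericPoint C, ⟨hη₁, hη₂⟩⟩⟩
  have hUV : U ⊔ V = ⊤ := by
    rw [eq_top_iff]
    intro y _
    by_cases hy : y = x₁
    · right
      show y ≠ x₂
      rw [hy]; exact hne
    · left; exact hy
  set P₁ := closedEquiv hC ⟨x₁, hx₁⟩ with hP₁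
  set P₂ := closedEquiv hC ⟨x₂, hx₂⟩ with hP₂
  have hPne : P₁ ≠ P₂ := fun h => hne (congrArg Subtype.val ((closedEquiv hC).injective h))
  have hiff : ∀ (y : {x : C // IsClosed ({x} : Set C)}) (z : C) (hz : IsClosed ({z} : Set C)),
      y.1 ≠ z ↔ closedEquiv hC y ≠ closedEquiv hC ⟨z, hz⟩ := fun y z hz =>
    ⟨fun h h' => h (congrArg Subtype.val ((closedEquiv hC).injective h')),
      fun h h' => h (congrArg _ (Subtype.ext h'))⟩
  have hr₁ := range_germToFunctionField hC U {P₁} (fun y => by
    rw [Set.mem_singleton_iff]; exact hiff y x₁ hx₁)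
  have hr₂ := range_germToFunctionField hC V {P₂} (fun y => by
    rw [Set.mem_singleton_iff]; exact hiff y x₂ hx₂)
  have hr₁₂ := range_germToFunctionField hC (U ⊓ V) {P₁, P₂} (fun y => by
    rw [Set.mem_insert_iff, Set.mem_singleton_iff, not_or]
    exact and_congr (hiff y x₁ hx₁) (hiff y x₂ hx₂))
  -- the Mayer–Vietoris boundary map
  let F : CohTop.Ab C.toTopCat := Coh.toAb (Coh.structureModule C)
  obtain ⟨δ, hδker, hδsurj⟩ := Groth.Agent.Lib.Helper67.MVH1.exists_delta F U V
  obtain ⟨e⟩ := HU_equiv_of_eq_top F 1 (U ⊔ V) hUV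
  let δ' : Γ(C, U ⊓ V) →+ Coh.HH C (Coh.structureModule C) 1 := e.toAddMonoidHom.comp δ
  have hδ'0 : ∀ s, δ' s = 0 ↔ δ s = 0 := fun s => e.map_eq_zero_iff
  -- sections as rational functions
  let g₁₂ : Γ(C, U ⊓ V) →+ regOutside ({P₁, P₂} : Set (Place k C.functionField)) :=
    { toFun := fun s => ⟨C.germToFunctionField (U ⊓ V) s, by
        have : (C.germToFunctionField (U ⊓ V)) s ∈ Set.range (C.germToFunctionField (U ⊓ V)) :=
          ⟨s, rfl⟩
        rw [hr₁₂] at this
        exact this⟩
      map_zero' := Subtype.ext (map_zero _)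
      map_add' := fun s t => Subtype.ext (map_add _ s t) }
  have hg₁₂ : Function.Bijective g₁₂ := by
    constructor
    · intro s t hst
      exact C.germToFunctionField_injective (U ⊓ V) (congrArg Subtype.val hst)
    · rintro ⟨a, ha⟩
      have : a ∈ Set.range (C.germToFunctionField (U ⊓ V)) := by rw [hr₁₂]; exact ha
      obtain ⟨s, hs⟩ := this
      exact ⟨s, Subtype.ext hs⟩
  let e₁₂ := AddEquiv.ofBijective g₁₂ hg₁₂
  let ψ : regOutside ({P₁, P₂} : Set (Place k C.functionField)) →+
      Coh.HH C (Coh.structureModule C) 1 := δ'.comp e₁₂.symm.toAddMonoidHom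
  have hres₁ : ∀ a : Γ(C, U), C.germToFunctionField (U ⊓ V)
      ((C.presheaf.map (homOfLE (inf_le_left : U ⊓ V ≤ U)).op).hom a) =
        C.germToFunctionField U a := fun a => germToFunctionField_res _ a
  have hres₂ : ∀ b : Γ(C, V), C.germToFunctionField (U ⊓ V)
      ((C.presheaf.map (homOfLE (inf_le_right : U ⊓ V ≤ V)).op).hom b) =
        C.germToFunctionField V b := fun b => germToFunctionField_res _ b
  have hker : ∀ x, ψ x = 0 ↔ ∃ a ∈ regOutside ({P₁} : Set (Place k C.functionField)),
      ∃ b ∈ regOutside ({P₂} : Set (Place k C.functionField)), (x : C.functionField) = a + b := by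
    intro x
    have hx : (x : C.functionField) = C.germToFunctionField (U ⊓ V) (e₁₂.symm x) :=
      (congrArg Subtype.val (e₁₂.apply_symm_apply x)).symm
    show δ' (e₁₂.symm x) = 0 ↔ _
    rw [hδ'0, hδker]
    constructor
    · rintro ⟨a, b, hab⟩
      refine ⟨C.germToFunctionField U a, ?_, -(C.germToFunctionField V b), ?_, ?_⟩
      · have : (C.germToFunctionField U) a ∈ Set.range (C.germToFunctionField U) := ⟨a, rfl⟩
        rw [hr₁] at this; exact this
      · apply neg_mem
        have : (C.germToFunctionField V) b ∈ Set.range (C.germToFunctionField V) := ⟨b, rfl⟩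
        rw [hr₂] at this; exact this
      · rw [hx, hab]
        have := map_sub (C.germToFunctionField (U ⊓ V)).hom
          ((C.presheaf.map (homOfLE (inf_le_left : U ⊓ V ≤ U)).op).hom a)
          ((C.presheaf.map (homOfLE (inf_le_right : U ⊓ V ≤ V)).op).hom b)
        rw [← sub_eq_add_neg, ← hres₁ a, ← hres₂ b]
        exact this
    · rintro ⟨a', ha', b', hb', hab⟩
      have h1 : a' ∈ Set.range (C.germToFunctionField U) := by rw [hr₁]; exact ha'
      have h2 : b' ∈ Set.range (C.germToFunctionField V) := by rw [hr₂]; exact hb'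
      obtain ⟨a, rfl⟩ := h1
      obtain ⟨b, rfl⟩ := h2
      refine ⟨a, -b, ?_⟩
      apply C.germToFunctionField_injective (U ⊓ V)
      rw [← hx, hab]
      have := map_sub (C.germToFunctionField (U ⊓ V)).hom
        ((C.presheaf.map (homOfLE (inf_le_left : U ⊓ V ≤ U)).op).hom a)
        ((C.presheaf.map (homOfLE (inf_le_right : U ⊓ V ≤ V)).op).hom (-b))
      refine Eq.trans ?_ this.symm
      rw [hres₁ a, hres₂ (-b), map_neg, sub_neg_eq_add]
  have hcard := card_range_eq hK hPne ψ hker
  have hrange : ψ.range = δ'.range := by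
    apply le_antisymm
    · rintro _ ⟨x, rfl⟩; exact ⟨_, rfl⟩
    · rintro _ ⟨s, rfl⟩
      exact ⟨e₁₂ s, by show δ' (e₁₂.symm (e₁₂ s)) = _; rw [e₁₂.symm_apply_apply]⟩
  refine ⟨δ'.range, by rw [← hrange]; exact hcard, fun hUaff hVaff => ?_⟩
  haveI := isQuasicoherent_structureModule C
  have h1 := Groth.Agent.Lib.Helper1.subsingleton_HU_of_isAffineOpen
    (Coh.structureModule C) U hUaff 0
  have h2 := Groth.Agent.Lib.Helper1.subsingleton_HU_of_isAffineOpen
    (Coh.structureModule C) V hVaff 0
  have hsurj := hδsurj h1 h2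
  rw [eq_top_iff]
  rintro y -
  obtain ⟨s, hs⟩ := hsurj (e.symm y)
  exact ⟨s, by show e (δ s) = y; rw [hs, e.apply_symm_apply]⟩

end Groth.Agent.Lib.Helper67.CurveGenus
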