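import Groth.Agent.Lib.Helper67.CurveTors

/-!
# Degrees of invertible modules on integral proper curves and nonzero maps (helper67)
-/

set_option autoImplicit false
set_option linter.style.haveILetI false
universe u
open AlgebraicGeometry CategoryTheory Limits Opposite TopologicalSpace Abelian

namespace Groth.Agent.Lib.Helper67.CurveInv

open Groth.Agent.Lib.Helper67.EulerLES Groth.Agent.Lib.Helper67.CurveCoh
open Groth.Agent.Lib.Helper67.CurveDeg Groth.Agent.Lib.Helper67.CurveTors
open Groth.Agent.Lib.Helper49

variable (k : Type u) [Field k] (X : Scheme.{u}) [X.Over (Spec (CommRingCat.of k))]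
  [IsIntegral X] [IsProper (X ↘ Spec (CommRingCat.of k))] (hdim : topologicalKrullDim X ≤ 1)

include hdim in
/-- **Nonzero maps of rank-one locally free modules on an integral proper curve**: they are
monomorphisms, the Euler characteristic jumps by `h⁰` of the cokernel, and if the jump is zero
the map is an isomorphism. -/
theorem main {N L : X.Modules} (hN : FlatMod.IsFinLocFreeOfRank 1 N)
    (hL : FlatMod.IsFinLocFreeOfRank 1 L) (φ : N ⟶ L) (hφ : φ ≠ 0) :
    Mono φ ∧
      Curv2.euler k X L =
        Curv2.euler k X N + (Module.finrank k (Coh.HH X (cokernel φ) 0) : ℤ) ∧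
      (Module.finrank k (Coh.HH X (cokernel φ) 0) = 0 → IsIso φ) := by
  have hbij := stalkMap_generic_bijective_of_ne_zero hN hL φ hφ
  haveI hmono : Mono φ :=
    mono_of_stalkMap_generic_injective (isFinLocFree_of_rank hN) φ hbij.1
  have hNcoh := isCoh_of_rank hN
  have hLcoh := isCoh_of_rank hL
  have hQcoh : Coh.IsCoh (cokernel φ) :=
    ⟨isQuasicoherent_cokernel φ hNcoh.1 hLcoh.1, isFiniteType_of_epi (cokernel.π φ) hLcoh.2⟩
  have hQξ : Subsingleton ((cokernel φ).presheaf.stalk (genericPoint X)) :=
    (subsingleton_stalk_cokernel_iff φ (genericPoint X)).mpr hbij.2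
  haveI hH1 := subsingleton_HH_one_of_stalk k X hdim (cokernel φ) hQcoh hQξ
  have hS : (ShortComplex.mk φ (cokernel.π φ) (cokernel.condition φ)).ShortExact :=
    ⟨ShortComplex.exact_of_g_is_cokernel _ (cokernelIsCokernel _)⟩
  have hadd := euler_additive_of_coh k X hdim hS hNcoh hLcoh hQcoh
  have hgood := isGood_of_coh k X hdim (cokernel φ) hQcoh
  have hχQ : Curv2.euler k X (cokernel φ) =
      (Module.finrank k (Coh.HH X (cokernel φ) 0) : ℤ) := by
    have h1 : Module.finrank k (Coh.HH X (cokernel φ) 1) = 0 :=
      Module.finrank_zero_of_subsingleton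
    rw [euler_eq k hgood, h1]
    simp
  refine ⟨hmono, ?_, ?_⟩
  · rw [← hχQ]
    exact hadd
  · intro h0
    have hz : IsZero (cokernel φ) := by
      by_contra hne
      haveI := nontrivial_HH_zero_of_stalk k X hdim (cokernel φ) hQcoh hQξ hne
      haveI := hgood.1 0
      have := Module.finrank_pos (R := k) (M := Coh.HH X (cokernel φ) 0)
      omega
    haveI : Epi φ := Preadditive.epi_of_isZero_cokernel φ hz
    exact isIso_of_mono_of_epi φ

end Groth.Agent.Lib.Helper67.CurveInv
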