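import Groth.Agent.Lib.Helper67.CurveInv
import Groth.Agent.Lib.Helper11.GenLocusBasis

/-!
# Sections of invertible modules on integral proper curves (helper67)
-/

set_option autoImplicit false
set_option linter.style.haveILetI false
universe u
open AlgebraicGeometry CategoryTheory Limits Opposite TopologicalSpace Abelian

namespace Groth.Agent.Lib.Helper67.CurveInv

open Groth.Agent.Lib.Helper67.EulerLES Groth.Agent.Lib.Helper67.CurveCoh
open Groth.Agent.Lib.Helper67.CurveDeg Groth.Agent.Lib.Helper67.CurveTors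
open Groth.Agent.Lib.Helper49

section Sections

variable {X : Scheme.{u}}

/-- a nonzero class in `H⁰` gives a nonzero map from the structure sheaf -/
theorem exists_hom_ne_zero_of_nontrivial (L : X.Modules) (h : Nontrivial (Coh.HH X L 0)) :
    ∃ s : Coh.structureModule X ⟶ L, s ≠ 0 := by
  haveI : Nontrivial Γ(L, ⊤) :=
    (Groth.Agent.Lib.Helper17.HZero.hh0Equiv L).symm.toEquiv.nontrivial
  obtain ⟨t, ht⟩ := exists_ne (0 : Γ(L, ⊤))
  refine ⟨Groth.Agent.Lib.Helper11.GenLocus.homOfSection L t, fun h0 => ht ?_⟩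
  have h1 := Groth.Agent.Lib.Helper11.GenLocus.sec_homOfSection L t ⊤
  rw [h0] at h1
  have h2 : mres L (le_refl (⊤ : X.Opens)) t = t := by
    rw [mres_apply]
    have : (homOfLE (le_refl (⊤ : X.Opens))).op = 𝟙 _ := rfl
    rw [this, L.presheaf.map_id]
    rfl
  rw [← h2, ← h1]
  rfl

end Sections

variable (k : Type u) [Field k] (X : Scheme.{u}) [X.Over (Spec (CommRingCat.of k))]
  [IsProper (X ↘ Spec (CommRingCat.of k))] (hdim : topologicalKrullDim X ≤ 1)

include hdim in
/-- `χ = h⁰ - h¹` for coherent modules in dimension `≤ 1` -/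
theorem euler_eq_of_coh (M : X.Modules) (hM : Coh.IsCoh M) :
    Curv2.euler k X M =
      (Module.finrank k (Coh.HH X M 0) : ℤ) - Module.finrank k (Coh.HH X M 1) :=
  euler_eq k (isGood_of_coh k X hdim M hM)

include hdim in
theorem finite_HH_of_coh (M : X.Modules) (hM : Coh.IsCoh M) (i : ℕ) :
    Module.Finite k (Coh.HH X M i) :=
  (isGood_of_coh k X hdim M hM).1 i

variable [IsIntegral X]

include k hdim in
/-- `H¹` vanishing propagates along nonzero maps of rank-one locally free modules -/
theorem subsingleton_HH_one_of_hom {N L : X.Modules} (hN : FlatMod.IsFinLocFreeOfRank 1 N)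
    (hL : FlatMod.IsFinLocFreeOfRank 1 L) (φ : N ⟶ L) (hφ : φ ≠ 0)
    (h1 : Subsingleton (Coh.HH X N 1)) : Subsingleton (Coh.HH X L 1) := by
  have hbij := stalkMap_generic_bijective_of_ne_zero hN hL φ hφ
  haveI hmono : Mono φ :=
    mono_of_stalkMap_generic_injective (isFinLocFree_of_rank hN) φ hbij.1
  have hNcoh := isCoh_of_rank hN
  have hLcoh := isCoh_of_rank hL
  have hQcoh : Coh.IsCoh (cokernel φ) :=
    ⟨isQuasicoherent_cokernel φ hNcoh.1 hLcoh.1, isFiniteType_of_epi (cokernel.π φ) hLcoh.2⟩
  have hQξ : Subsingleton ((cokernel φ).presheaf.stalk (genericPoint X)) :=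
    (subsingleton_stalk_cokernel_iff φ (genericPoint X)).mpr hbij.2
  have hH1 := subsingleton_HH_one_of_stalk k X hdim (cokernel φ) hQcoh hQξ
  have hS : (ShortComplex.mk φ (cokernel.π φ) (cokernel.condition φ)).ShortExact :=
    ⟨ShortComplex.exact_of_g_is_cokernel _ (cokernelIsCokernel _)⟩
  exact Groth.Agent.Lib.Helper1.subsingleton_HH_of_shortExact hS 1 h1 hH1

include hdim in
/-- **generically surjective monomorphisms of coherent modules on an integral proper curve**:
the Euler characteristic jumps by `h⁰` of the cokernel, which vanishes only for isomorphisms -/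
theorem main_mono {E F : X.Modules} (hE : Coh.IsCoh E) (hF : Coh.IsCoh F) (f : E ⟶ F) [Mono f]
    (hgen : Subsingleton ((cokernel f).presheaf.stalk (genericPoint X))) :
    Curv2.euler k X F =
        Curv2.euler k X E + (Module.finrank k (Coh.HH X (cokernel f) 0) : ℤ) ∧
      (Module.finrank k (Coh.HH X (cokernel f) 0) = 0 ↔ IsIso f) := by
  have hQcoh : Coh.IsCoh (cokernel f) :=
    ⟨isQuasicoherent_cokernel f hE.1 hF.1, isFiniteType_of_epi (cokernel.π f) hF.2⟩
  haveI hH1 := subsingleton_HH_one_of_stalk k X hdim (cokernel f) hQcoh hgen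
  have hS : (ShortComplex.mk f (cokernel.π f) (cokernel.condition f)).ShortExact :=
    ⟨ShortComplex.exact_of_g_is_cokernel _ (cokernelIsCokernel _)⟩
  have hadd := euler_additive_of_coh k X hdim hS hE hF hQcoh
  have hgood := isGood_of_coh k X hdim (cokernel f) hQcoh
  have hχQ : Curv2.euler k X (cokernel f) =
      (Module.finrank k (Coh.HH X (cokernel f) 0) : ℤ) := by
    have h1 : Module.finrank k (Coh.HH X (cokernel f) 1) = 0 :=
      Module.finrank_zero_of_subsingleton
    rw [euler_eq k hgood, h1]
    simp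
  refine ⟨?_, ?_, ?_⟩
  · rw [← hχQ]
    exact hadd
  · intro h0
    have hz : IsZero (cokernel f) := by
      by_contra hne
      haveI := nontrivial_HH_zero_of_stalk k X hdim (cokernel f) hQcoh hgen hne
      haveI := hgood.1 0
      have := Module.finrank_pos (R := k) (M := Coh.HH X (cokernel f) 0)
      omega
    haveI : Epi f := Preadditive.epi_of_isZero_cokernel f hz
    exact isIso_of_mono_of_epi f
  · intro hiso
    have hz : IsZero (cokernel f) := isZero_cokernel_of_epi f
    haveI := Groth.Agent.Lib.Helper1.subsingleton_HH_of_isZero hz 0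
    exact Module.finrank_zero_of_subsingleton

end Groth.Agent.Lib.Helper67.CurveInv
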