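import Groth.Agent.Lib.Helper67.ZeroDim
import Groth.Agent.Lib.Helper1.SupportClosed

/-!
# Zero-dimensional supports consist of closed points (helper67)
-/

set_option autoImplicit false
universe u
open AlgebraicGeometry CategoryTheory Limits Opposite TopologicalSpace

namespace Groth.Agent.Lib.Helper67.ZeroDim

/-- in a `T0` space of Krull dimension `≤ 0` all points are closed -/
theorem isClosed_singleton_of_dim_le_zero {T : Type*} [TopologicalSpace T] [T0Space T]
    (hdim : topologicalKrullDim T ≤ 0) (x : T) : IsClosed ({x} : Set T) := by
  have hmax := Order.krullDim_nonpos_iff_forall_isMax.mp hdim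
  rw [← closure_eq_iff_isClosed]
  refine Set.Subset.antisymm (fun y hy => ?_) subset_closure
  let a : IrreducibleCloseds T := ⟨closure {x}, isIrreducible_singleton.closure, isClosed_closure⟩
  let b : IrreducibleCloseds T := ⟨closure {y}, isIrreducible_singleton.closure, isClosed_closure⟩
  have hba : b ≤ a := by
    change closure {y} ⊆ closure {x}
    exact closure_minimal (Set.singleton_subset_iff.mpr hy) isClosed_closure
  have hab : a ≤ b := hmax b hba
  have hxy : x ∈ closure ({y} : Set T) := hab (subset_closure rfl)
  have h1 : x ⤳ y := specializes_iff_mem_closure.mpr hy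
  have h2 : y ⤳ x := specializes_iff_mem_closure.mpr hxy
  exact (h2.antisymm h1).eq

/-- a module of finite type whose support has dimension `≤ 0` is supported at closed points -/
theorem closedSupp_of_dim_support_le_zero {X : Scheme.{u}} (F : X.Modules)
    (hF : SheafOfModules.IsFiniteType (R := X.ringCatSheaf) F)
    (hsupp : topologicalKrullDim (CohB1.support F) ≤ 0) : ClosedSupp F := by
  intro x hx
  have hcl : IsClosed (CohB1.support F) :=
    Groth.Agent.Lib.Helper1.isClosed_support_of_isFiniteType F hF
  have hxS : x ∈ CohB1.support F := hx
  have h1 := isClosed_singleton_of_dim_le_zero hsupp (⟨x, hxS⟩ : CohB1.support F)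
  have h2 := (hcl.isClosedEmbedding_subtypeVal).isClosedMap _ h1
  simpa using h2

end Groth.Agent.Lib.Helper67.ZeroDim
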