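import Groth.Agent.Lib.Helper67.GenCurve6
import Groth.Agent.Lib.Helper67.ZeroDimTop

/-!
# Consequences of the main formula on proper schemes of dimension `≤ 1` (helper67)
-/

set_option autoImplicit false
set_option linter.style.haveILetI false
universe u
open AlgebraicGeometry CategoryTheory Limits Opposite TopologicalSpace Abelian

namespace Groth.Agent.Lib.Helper67.GenCurve

open Groth.Agent.Lib.Helper67.EulerLES Groth.Agent.Lib.Helper67.CurveCoh
open Groth.Agent.Lib.Helper67.CurveDeg Groth.Agent.Lib.Helper67.CurveTors
open Groth.Agent.Lib.Helper67.ZeroDim Groth.Agent.Lib.Helper67.TensExact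
open Groth.Agent.Lib.Helper67.TensZero Groth.Agent.Lib.Helper67.PushUnit
open Groth.Agent.Lib.Helper67.TensRank
open Groth.Agent.Lib.Helper49

variable (k : Type u) [Field k]

/-- `δ_E(O_X) = deg E` -/
theorem delta_structureModule (X : Scheme.{u}) [X.Over (Spec (CommRingCat.of k))]
    (E : X.Modules) (n : ℕ) :
    delta k X E n (Coh.structureModule X) = Curv2.deg k X E n := by
  unfold delta Curv2.deg
  rw [euler_eq_of_iso k (Groth.Agent.Lib.Helper11.GenLocus.unitTensorIso E)]

/-- on a proper scheme of dimension `≤ 0` all degrees vanish -/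
theorem deg_eq_zero_of_dim_le_zero (T : Scheme.{u}) [T.Over (Spec (CommRingCat.of k))]
    [IsProper (T ↘ Spec (CommRingCat.of k))] (hT : topologicalKrullDim T ≤ 0)
    (E : T.Modules) {n : ℕ} (hE : FlatMod.IsFinLocFreeOfRank n E) :
    Curv2.deg k T E n = 0 := by
  rw [← delta_structureModule]
  exact delta_eq_zero_of_closedSupp k T E hE _ (isCoh_structureModule T)
    (fun x _ => isClosed_singleton_of_dim_le_zero hT x)

/-- the length of the stalk of the structure module is the length of the local ring -/
theorem len_structureModule {X : Scheme.{u}} (η : X) :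
    len (Coh.structureModule X) η =
      (Module.length (X.presheaf.stalk η) (X.presheaf.stalk η)).toNat := by
  have hO := stalk_of_rank (rank_one_of_isInvertible
    (Groth.Agent.Lib.Helper11.GenLocus.isInvertible_structureModule X)) η
  haveI := hO.1
  haveI := hO.2.1
  unfold len
  rw [Module.length_of_free_of_finite, hO.2.2]
  simp

/-- the length of the stalk of a locally free module of rank `m` -/
theorem len_of_rank {X : Scheme.{u}} {V : X.Modules} {m : ℕ}
    (hV : FlatMod.IsFinLocFreeOfRank m V) (η : X)
    (hfin : Module.length (X.presheaf.stalk η) (X.presheaf.stalk η) ≠ ⊤) :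
    len V η = m * len (Coh.structureModule X) η := by
  have hO := stalk_of_rank hV η
  haveI := hO.1
  haveI := hO.2.1
  rw [len_structureModule]
  unfold len
  rw [Module.length_of_free_of_finite, hO.2.2, ENat.toNat_mul]
  simp

section DegComp

variable (X : Scheme.{u}) [X.Over (Spec (CommRingCat.of k))]
  [IsProper (X ↘ Spec (CommRingCat.of k))] [IsNoetherian X]
  (E : X.Modules) {n : ℕ} (hE : FlatMod.IsFinLocFreeOfRank n E)

include hE in
/-- the degree on a zero-dimensional component vanishes -/
theorem degComp_eq_zero (Z : irreducibleComponents (X : Type u))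
    (hZ : topologicalKrullDim (Z.1 : Set X) ≤ 0) : degComp k X E n Z = 0 := by
  unfold degComp
  set J := (X.irreducibleComponentIdeal Z.1 Z.2).radical with hJ
  letI : J.subscheme.Over (Spec (CommRingCat.of k)) :=
    ⟨J.subschemeι ≫ (X ↘ Spec (CommRingCat.of k))⟩
  haveI : IsProper (J.subscheme ↘ Spec (CommRingCat.of k)) :=
    inferInstanceAs (IsProper (J.subschemeι ≫ (X ↘ Spec (CommRingCat.of k))))
  have hrange : ∀ t : J.subscheme, J.subschemeι t ∈ Z.1 := by
    intro t
    have : J.subschemeι t ∈ Set.range J.subschemeι := ⟨t, rfl⟩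
    rw [Scheme.IdealSheafData.range_subschemeι] at this
    exact this
  have hind : Topology.IsInducing (fun t : J.subscheme => (⟨J.subschemeι t, hrange t⟩ : Z.1)) :=
    Topology.IsInducing.codRestrict J.subschemeι.isClosedEmbedding.isInducing hrange
  have hT : topologicalKrullDim J.subscheme ≤ 0 := hind.topologicalKrullDim_le.trans hZ
  exact deg_eq_zero_of_dim_le_zero k J.subscheme hT _
    (Groth.Agent.Lib.Helper18.LimFinLocFree.isFinLocFreeOfRank_pullback J.subschemeι E hE)

omit [IsProper (X ↘ Spec (CommRingCat.of k))] in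
/-- `Λ_E(V) = m · Λ_E(O_X)` for `V` locally free of rank `m` -/
theorem Lam_of_rank (n : ℕ) {V : X.Modules} {m : ℕ} (hV : FlatMod.IsFinLocFreeOfRank m V) :
    Lam k X E n V = m * Lam k X E n (Coh.structureModule X) := by
  unfold Lam
  rw [mul_finsum]
  refine finsum_congr fun Z => ?_
  have hη := closure_genericPoint_mem X Z
  haveI := isArtinianRing_stalk _ hη
  rw [len_of_rank hV _ Module.length_ne_top]
  push_cast
  ring

include hE in
/-- **`χ(V ⊗ E) = m · deg E + n · χ(V)`** for `V` locally free of rank `m` -/
theorem euler_tensor_of_rank (hdim : topologicalKrullDim X ≤ 1) {V : X.Modules} {m : ℕ}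
    (hV : FlatMod.IsFinLocFreeOfRank m V) :
    Curv2.euler k X (CohB1.tensorMod V E) = m * Curv2.deg k X E n + n * Curv2.euler k X V := by
  have h1 := main k X hdim E hE V (isCoh_of_rank hV)
  have h2 := main k X hdim E hE (Coh.structureModule X) (isCoh_structureModule X)
  rw [Lam_of_rank k X E n hV, ← h2, delta_structureModule] at h1
  unfold delta at h1
  linarith

end DegComp

end Groth.Agent.Lib.Helper67.GenCurve

namespace Groth.Agent.Lib.Helper67.GenCurve

open Groth.Agent.Lib.Helper67.ZeroDim

theorem le_zero_of_le_one_of_ne_one {d : WithBot ℕ∞} (h1 : d ≤ 1) (h2 : d ≠ 1) : d ≤ 0 := by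
  have hlt : d < 1 := lt_of_le_of_ne h1 h2
  induction d using WithBot.recBotCoe with
  | bot => exact bot_le
  | coe m =>
    have hm : m < 1 := by exact_mod_cast hlt
    have : m = 0 := ENat.lt_one_iff_eq_zero.mp hm
    rw [this]
    rfl

/-- direct images under a closed immersion with zero-dimensional image are supported at closed
points -/
theorem closedSupp_push_of_dim_le_zero {Z X : Scheme.{u}} (i : Z ⟶ X) [IsClosedImmersion i]
    (hdim : topologicalKrullDim (Set.range i : Set X) ≤ 0) (G : Z.Modules) :
    ClosedSupp ((Scheme.Modules.pushforward i).obj G) := by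
  intro x hx
  have hWc : IsClosed (Set.range i) := i.isClosedEmbedding.isClosed_range
  have hxW : x ∈ Set.range i := by
    by_contra h
    apply hx
    apply Groth.Agent.Lib.Helper67.TensZero.subsingleton_stalk_push_of_not_mem i G x
    rw [hWc.closure_eq]
    exact h
  have h1 := isClosed_singleton_of_dim_le_zero hdim (⟨x, hxW⟩ : Set.range i)
  have h2 := (hWc.isClosedEmbedding_subtypeVal).isClosedMap _ h1
  simpa using h2

end Groth.Agent.Lib.Helper67.GenCurve
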