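import Groth.Agent.Lib.Helper67.GenCurve8
import Groth.Agent.Lib.Helper1.IdealMod
import Groth.Agent.Lib.Helper11.AmpleBasis
import Groth.Agent.S7637
import Groth.Agent.Lib.Helper49.SerreGen
import Groth.Agent.Lib.Helper49.FiniteTypeLocal

/-!
# Effective Cartier divisors on proper schemes of dimension `≤ 1` (helper67)

* `isClosed_singleton_of_mem_support`: points of an effective Cartier divisor on a scheme of
  dimension `≤ 1` are closed.
* `isFinite_subscheme`: such a divisor on a proper `k`-scheme is finite over `k`.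
* `deg_of_inverse_idealMod`: `deg O(D) = h⁰(O_D)`.
-/

set_option autoImplicit false
set_option linter.style.haveILetI false
universe u
open AlgebraicGeometry CategoryTheory Limits Opposite TopologicalSpace Abelian

namespace Groth.Agent.Lib.Helper67.EffCart

open Groth.Agent.Lib.Helper67.EulerLES Groth.Agent.Lib.Helper67.CurveCoh
open Groth.Agent.Lib.Helper67.CurveDeg Groth.Agent.Lib.Helper67.CurveTors
open Groth.Agent.Lib.Helper67.TensRank Groth.Agent.Lib.Helper67.GenCurve
open Groth.Agent.Lib.Helper67.ZeroDim Groth.Agent.Lib.Helper67.TensZero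
open Groth.Agent.Lib.Helper49 Groth.Agent.Lib.Helper49.SerreGen

section Top

/-- a Noetherian quasi-sober space all of whose points are closed is finite -/
theorem finite_of_isClosed_singleton {T : Type*} [TopologicalSpace T] [NoetherianSpace T]
    [QuasiSober T] (h : ∀ t : T, IsClosed ({t} : Set T)) : Finite T := by
  have hfin := NoetherianSpace.finite_irreducibleComponents (α := T)
  have hsub : ∀ s ∈ irreducibleComponents T, s.Finite := by
    intro s hs
    have hirr : IsIrreducible s := hs.1
    have hcl : IsClosed s := isClosed_of_mem_irreducibleComponents s hs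
    obtain ⟨t, ht⟩ := QuasiSober.sober hirr hcl
    have : s = {t} := by rw [← ht.def, (h t).closure_eq]
    rw [this]
    exact Set.finite_singleton t
  rw [← Set.finite_univ_iff, ← sUnion_irreducibleComponents]
  exact hfin.sUnion hsub

end Top

section Pts

variable {X : Scheme.{u}}

/-- points of an effective Cartier divisor on a scheme of dimension `≤ 1` are closed -/
theorem isClosed_singleton_of_mem_support (hdim : topologicalKrullDim X ≤ 1)
    (D : X.IdealSheafData) (hD : BlowUp.IsEffCartierIdeal D) (x : X)
    (hx : x ∈ D.support) : IsClosed ({x} : Set X) := by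
  rcases isClosed_singleton_or_mem_irreducibleComponents hdim x with h | h
  · exact h
  · exfalso
    haveI := krullDimLE_zero_stalk x h
    obtain ⟨U, hxU, f, hf, hI⟩ := hD x
    have hnu : ¬ IsUnit (X.presheaf.germ U.1 x hxU f) := by
      rw [← Scheme.mem_basicOpen]
      have h1 := (Scheme.IdealSheafData.mem_support_iff_of_mem (I := D) hxU).mp hx
      rw [Scheme.mem_zeroLocus_iff] at h1
      exact h1 f (by rw [hI]; exact Ideal.subset_span rfl)
    have hnil : IsNilpotent (X.presheaf.germ U.1 x hxU f) :=
      Ring.KrullDimLE.isNilpotent_iff_mem_nonunits.mpr hnu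
    letI := X.presheaf.algebra_section_stalk ⟨x, hxU⟩
    haveI := U.2.isLocalization_stalk ⟨x, hxU⟩
    have hnzd : (X.presheaf.germ U.1 x hxU f) ∈ nonZeroDivisors (X.presheaf.stalk x) :=
      IsLocalization.map_nonZeroDivisors_le (U.2.primeIdealOf ⟨x, hxU⟩).asIdeal.primeCompl
        (X.presheaf.stalk x) (Submonoid.mem_map_of_mem _ hf)
    obtain ⟨m, hm⟩ := hnil
    have h0 : (0 : X.presheaf.stalk x) ∈ nonZeroDivisors (X.presheaf.stalk x) := by
      rw [← hm]
      exact pow_mem hnzd m
    exact zero_notMem_nonZeroDivisors h0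

end Pts

section Fin

variable (k : Type u) [Field k] (X : Scheme.{u}) [X.Over (Spec (CommRingCat.of k))]
  [IsProper (X ↘ Spec (CommRingCat.of k))]

/-- an effective Cartier divisor on a proper scheme of dimension `≤ 1` is finite over `k` -/
theorem isFinite_subscheme (hdim : topologicalKrullDim X ≤ 1)
    (D : X.IdealSheafData) (hD : BlowUp.IsEffCartierIdeal D) :
    IsFinite (D.subschemeι ≫ (X ↘ Spec (CommRingCat.of k))) := by
  haveI : IsProper (D.subschemeι ≫ (X ↘ Spec (CommRingCat.of k))) := inferInstance
  haveI : IsNoetherian D.subscheme :=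
    Groth.Agent.Lib.Helper67.CurveP1.isNoetherian_of_proper k
      (D.subschemeι ≫ (X ↘ Spec (CommRingCat.of k)))
  have hcl : ∀ z : D.subscheme, IsClosed ({z} : Set D.subscheme) := by
    intro z
    have hz : D.subschemeι z ∈ D.support := by
      rw [← SetLike.mem_coe, ← D.range_subschemeι]
      exact ⟨z, rfl⟩
    have h1 := isClosed_singleton_of_mem_support hdim D hD _ hz
    have h2 : ({z} : Set D.subscheme) = D.subschemeι ⁻¹' {D.subschemeι z} := by
      ext w
      simp only [Set.mem_singleton_iff, Set.mem_preimage]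
      exact ⟨fun h => by rw [h], fun h => D.subschemeι.isClosedEmbedding.injective h⟩
    rw [h2]
    exact h1.preimage D.subschemeι.continuous
  haveI : Finite D.subscheme := finite_of_isClosed_singleton hcl
  haveI : LocallyQuasiFinite (D.subschemeι ≫ (X ↘ Spec (CommRingCat.of k))) :=
    LocallyQuasiFinite.of_finite_preimage_singleton _ (fun x => Set.toFinite _)
  exact IsFinite.of_isProper_of_locallyQuasiFinite _

variable {X} in
theorem closedSupp_quotMod (hdim : topologicalKrullDim X ≤ 1)
    (D : X.IdealSheafData) (hD : BlowUp.IsEffCartierIdeal D) :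
    ClosedSupp (ClSub.quotMod D) := by
  intro x hx
  apply isClosed_singleton_of_mem_support hdim D hD x
  by_contra hns
  apply hx
  apply Groth.Agent.Lib.Helper67.TensZero.subsingleton_stalk_push_of_not_mem D.subschemeι _ x
  rw [D.range_subschemeι, D.support.isClosed.closure_eq]
  exact hns

variable {X} in
theorem isCoh_quotMod (D : X.IdealSheafData) : Coh.IsCoh (ClSub.quotMod D) :=
  ⟨Groth.Agent.Lib.Helper1.isQuasicoherent_quotMod D,
    isFiniteType_of_epi (ClSub.toSubscheme D) (isCoh_structureModule X).2⟩

/-- `deg O(D) = h⁰(O_D)` for an effective Cartier divisor `D` -/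
theorem deg_of_inverse_idealMod (hdim : topologicalKrullDim X ≤ 1)
    (D : X.IdealSheafData) (hD : BlowUp.IsEffCartierIdeal D)
    (L : X.Modules) (hL : PicF.IsInvertible L)
    (hLD : ClSub.IsInverseOf L (ClSub.idealMod D)) :
    Curv2.deg k X L 1 = Module.finrank k (Coh.HH X (ClSub.quotMod D) 0) := by
  obtain ⟨e⟩ := hLD
  have hL1 := rank_one_of_isInvertible hL
  have hLfl := isFinLocFree_of_rank hL1
  haveI := Groth.Agent.Lib.Helper67.TensExact.preservesZeroMorphisms_tensR hLfl
  have hS := Groth.Agent.Lib.Helper67.TensExact.shortExact_tensR hLfl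
    (Groth.Agent.Lib.Helper1.idealModComplex_shortExact D)
  have e1 : CohB1.tensorMod (ClSub.idealMod D) L ≅ Coh.structureModule X :=
    Groth.Agent.Lib.Helper11.GenLocus.tensorModBraid _ _ ≪≫ e
  have e2 : CohB1.tensorMod (Coh.structureModule X) L ≅ L :=
    Groth.Agent.Lib.Helper11.GenLocus.unitTensorIso L
  have hQ := isCoh_quotMod D
  have hsupp := closedSupp_quotMod hdim D hD
  have c1 : Coh.IsCoh (CohB1.tensorMod (ClSub.idealMod D) L) :=
    isCoh_of_iso e1.symm (isCoh_structureModule X)
  have c2 : Coh.IsCoh (CohB1.tensorMod (Coh.structureModule X) L) :=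
    isCoh_of_iso e2.symm (isCoh_of_rank hL1)
  have c3 : Coh.IsCoh (CohB1.tensorMod (ClSub.quotMod D) L) :=
    isCoh_tensorMod hQ (isCoh_of_rank hL1)
  have hadd := euler_additive_of_coh k X hdim hS c1 c2 c3
  have h3 := euler_tensor_of_closedSupp k X L hL1 _ hQ hsupp
  have h4 := euler_eq_of_isGood0 k (isGood0_of_closedSupp k X _ hQ hsupp)
  have h5 := euler_eq_of_iso k e1
  have h6 := euler_eq_of_iso k e2
  have hadd' : Curv2.euler k X (CohB1.tensorMod (Coh.structureModule X) L) =
    Curv2.euler k X (CohB1.tensorMod (ClSub.idealMod D) L) +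
      Curv2.euler k X (CohB1.tensorMod (ClSub.quotMod D) L) := hadd
  unfold Curv2.deg
  rw [← h6, hadd', h5, h3, h4]
  push_cast
  ring

end Fin

end Groth.Agent.Lib.Helper67.EffCart
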