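import Groth.Agent.Lib.Helper11.FinFreeAdj
import Groth.Agent.Lib.Helper11.ProjFormulaRq
import Groth.Agent.Lib.Helper17.HZero
import Groth.Prelude.Def_KLin

/-!
# Finite-dimensionality of `Hom(E, F)` for `E` finite locally free (helper67)

For a dual pair `D : DualPair P Q` (e.g. `Q = E` finite locally free, `P = E^∨`) on a scheme over
a field `k`, `Hom(Q, F)` embeds `k`-linearly in `H⁰(X, F ⊗ P)`.
-/

set_option autoImplicit false
set_option linter.style.haveILetI false
universe u
open AlgebraicGeometry CategoryTheory Limits Opposite TopologicalSpace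

namespace Groth.Agent.Lib.Helper67.HomFin

open Groth.Agent.Lib.Helper11.GenLocus Groth.Agent.Lib.Helper11.TensorMap
  Groth.Agent.Lib.Helper11.FinFreeAdj Groth.Agent.Lib.Helper11.TensorFormulas
  Groth.Agent.Lib.Helper11.FinFreeBasis Groth.Agent.Lib.Helper45

variable {X : Scheme.{u}}

/-- a morphism out of the structure module is determined by its global section -/
theorem hom_ext_sec {L : X.Modules} (s t : Coh.structureModule X ⟶ L)
    (h : sec s ⊤ = sec t ⊤) : s = t := by
  refine Scheme.Modules.hom_ext _ _ fun U => ?_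
  ext a
  have h1 := app_eq_smul_sec s U (ofO U a)
  have h2 := app_eq_smul_sec t U (ofO U a)
  rw [toO_ofO] at h1 h2
  have h3 : sec s U = sec t U := by
    rw [← sec_res s (le_top : U ≤ ⊤), ← sec_res t (le_top : U ≤ ⊤), h]
  exact h1.trans ((congrArg _ h3).trans h2.symm)

variable (k : Type u) [Field k] [X.Over (Spec (CommRingCat.of k))]

theorem tensorModMap_smul {A B N : X.Modules} (a : k) (g : A ⟶ B) :
    tensorModMap (a • g) (𝟙 N) = a • tensorModMap g (𝟙 N) := by
  apply hom_ext_tm
  intro W x n
  rw [tensorModMap_tm, KLin.smul_app_apply, KLin.smul_app_apply, tensorModMap_tm, tm_smul_left]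

open Groth.Agent.Lib.Helper11.ProjFormulaRq in
/-- the embedding `Hom(Q, F) → Hom(O, F ⊗ P)` of a dual pair -/
noncomputable def homToUnit {P Q : X.Modules} (D : DualPair P Q) (F : X.Modules) (f : Q ⟶ F) :
    Coh.structureModule X ⟶ CohB1.tensorMod F P :=
  D.eta (Coh.structureModule X) ≫ tensorModMap ((unitTensorIso Q).hom ≫ f) (𝟙 P)

theorem homToUnit_injective {P Q : X.Modules} (D : DualPair P Q) (F : X.Modules) :
    Function.Injective (homToUnit D F) := by
  intro f g h
  have h1 : D.adj.homEquiv (Coh.structureModule X) F ((unitTensorIso Q).hom ≫ f) =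
      D.adj.homEquiv (Coh.structureModule X) F ((unitTensorIso Q).hom ≫ g) := by
    rw [Adjunction.homEquiv_unit, Adjunction.homEquiv_unit]
    exact h
  have h2 := (D.adj.homEquiv (Coh.structureModule X) F).injective h1
  exact (cancel_epi _).mp h2

theorem homToUnit_smul {P Q : X.Modules} (D : DualPair P Q) (F : X.Modules) (a : k) (f : Q ⟶ F) :
    homToUnit D F (a • f) = a • homToUnit D F f := by
  unfold homToUnit
  rw [Linear.comp_smul, tensorModMap_smul, Linear.comp_smul]

theorem homToUnit_add {P Q : X.Modules} (D : DualPair P Q) (F : X.Modules) (f g : Q ⟶ F) :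
    homToUnit D F (f + g) = homToUnit D F f + homToUnit D F g := by
  haveI := Groth.Agent.Lib.Helper11.ProjFormulaRq.additive_tensR D
  have h : tensorModMap ((unitTensorIso Q).hom ≫ (f + g)) (𝟙 P) =
      tensorModMap ((unitTensorIso Q).hom ≫ f) (𝟙 P) +
        tensorModMap ((unitTensorIso Q).hom ≫ g) (𝟙 P) := by
    rw [Preadditive.comp_add]
    exact (tensR P).map_add
  unfold homToUnit
  rw [h, Preadditive.comp_add]

theorem sec_smul {L : X.Modules} (a : k) (s : Coh.structureModule X ⟶ L) :
    sec (a • s) ⊤ =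
      (show Γ(X, ⊤) from Coh.toGlobal (X ↘ Spec (CommRingCat.of k)) a) • sec s ⊤ := by
  unfold sec
  rw [KLin.smul_app_apply]
  congr 1
  change (X.presheaf.map (𝟙 (op (⊤ : X.Opens)))).hom _ = _
  rw [CategoryTheory.Functor.map_id]
  rfl

theorem sec_add {L : X.Modules} (s t : Coh.structureModule X ⟶ L) :
    sec (s + t) ⊤ = sec s ⊤ + sec t ⊤ := rfl

/-- the `k`-linear embedding `Hom(Q, F) → H⁰(X, F ⊗ P)` -/
noncomputable def homToHH {P Q : X.Modules} (D : DualPair P Q) (F : X.Modules) :
    (Q ⟶ F) →ₗ[k] Coh.HH X (CohB1.tensorMod F P) 0 where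
  toFun f := (Groth.Agent.Lib.Helper17.HZero.hh0Equiv (CohB1.tensorMod F P)).symm
    (sec (homToUnit D F f) ⊤)
  map_add' f g := by
    rw [homToUnit_add, sec_add, map_add]
  map_smul' a f := by
    rw [homToUnit_smul, sec_smul, RingHom.id_apply]
    apply (Groth.Agent.Lib.Helper17.HZero.hh0Equiv (CohB1.tensorMod F P)).injective
    rw [AddEquiv.apply_symm_apply]
    have h1 := Groth.Agent.Lib.Helper17.HZero.hh0Equiv_smul (CohB1.tensorMod F P)
      (Coh.toGlobal (X ↘ Spec (CommRingCat.of k)) a)
      ((Groth.Agent.Lib.Helper17.HZero.hh0Equiv (CohB1.tensorMod F P)).symm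
        (sec (homToUnit D F f) ⊤))
    rw [AddEquiv.apply_symm_apply] at h1
    exact h1.symm

theorem homToHH_injective {P Q : X.Modules} (D : DualPair P Q) (F : X.Modules) :
    Function.Injective (homToHH k D F) := by
  intro f g h
  apply homToUnit_injective D F
  apply hom_ext_sec
  exact (Groth.Agent.Lib.Helper17.HZero.hh0Equiv (CohB1.tensorMod F P)).symm.injective h

/-- **`Hom(Q, F)` is finite-dimensional when `H⁰(F ⊗ P)` is** -/
theorem finite_hom {P Q : X.Modules} (D : DualPair P Q) (F : X.Modules)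
    (hfin : Module.Finite k (Coh.HH X (CohB1.tensorMod F P) 0)) : Module.Finite k (Q ⟶ F) :=
  Module.Finite.of_injective (homToHH k D F) (homToHH_injective k D F)

end Groth.Agent.Lib.Helper67.HomFin
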