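import Groth.Agent.Lib.Helper67.CurveInv2
import Groth.Agent.Lib.Helper67.EffCart
import Groth.Agent.Lib.Helper67.HomFin
import Groth.Agent.Lib.Helper67.HHLES
import Groth.Agent.Lib.Helper17.HHLinFunct
import Groth.Agent.Lib.Helper11.GenLocusBasis

/-!
# A duality-free substitute for Serre duality on integral proper curves (helper67)

* `HHlin_smul`: `H^i(a • φ) = a • H^i(φ)`.
* `secLin`: the `k`-linear map `Hom(O, G) → H⁰(G)`; it is bijective.
* `h0_le_genus_of_nontrivial_h1` (**key lemma**): if `G ↪ L` with `L` invertible, `G` coherent and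
  `H¹(G) ≠ 0` then `h⁰(G) ≤ h¹(O)`.
-/

set_option autoImplicit false
set_option linter.style.haveILetI false
universe u
open AlgebraicGeometry CategoryTheory Limits Opposite TopologicalSpace Abelian

namespace Groth.Agent.Lib.Helper67.CurveKL

open Groth.Agent.Lib.Helper67.EulerLES Groth.Agent.Lib.Helper67.CurveCoh
open Groth.Agent.Lib.Helper67.CurveDeg Groth.Agent.Lib.Helper67.CurveTors
open Groth.Agent.Lib.Helper67.CurveInv Groth.Agent.Lib.Helper67.HomFin
open Groth.Agent.Lib.Helper49 Groth.Agent.Lib.Helper11.GenLocus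
open Groth.Agent.Lib.Helper17.HHLinLES

section Lin

variable (k : Type u) [Field k] {X : Scheme.{u}} [X.Over (Spec (CommRingCat.of k))]

theorem HHlin_smulMod (F : X.Modules) (a : k) (i : ℕ) (x : Coh.HH X F i) :
    Canon.HHlin k (Formal.smulMod k F a) i x = a • x := rfl

theorem HHlin_smul {F G : X.Modules} (a : k) (φ : F ⟶ G) (i : ℕ) :
    Canon.HHlin k (a • φ) i = a • Canon.HHlin k φ i := by
  ext x
  rw [KLin.smul_def, HHlin_comp]
  simp only [LinearMap.comp_apply, LinearMap.smul_apply]
  rw [HHlin_smulMod, map_smul]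

/-- the `k`-linear map `Hom(O, G) → H⁰(G)` -/
noncomputable def secLin (G : X.Modules) :
    (Coh.structureModule X ⟶ G) →ₗ[k] Coh.HH X G 0 where
  toFun s := (Groth.Agent.Lib.Helper17.HZero.hh0Equiv G).symm (sec s ⊤)
  map_add' s t := by
    rw [HomFin.sec_add, map_add]
  map_smul' a s := by
    rw [sec_smul, RingHom.id_apply]
    apply (Groth.Agent.Lib.Helper17.HZero.hh0Equiv G).injective
    rw [AddEquiv.apply_symm_apply]
    have h1 := Groth.Agent.Lib.Helper17.HZero.hh0Equiv_smul G
      (Coh.toGlobal (X ↘ Spec (CommRingCat.of k)) a)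
      ((Groth.Agent.Lib.Helper17.HZero.hh0Equiv G).symm (sec s ⊤))
    rw [AddEquiv.apply_symm_apply] at h1
    exact h1.symm

theorem secLin_injective (G : X.Modules) : Function.Injective (secLin k G) := by
  intro s t h
  apply hom_ext_sec
  exact (Groth.Agent.Lib.Helper17.HZero.hh0Equiv G).symm.injective h

theorem secLin_surjective (G : X.Modules) : Function.Surjective (secLin k G) := by
  intro y
  refine ⟨homOfSection G (Groth.Agent.Lib.Helper17.HZero.hh0Equiv G y), ?_⟩
  change (Groth.Agent.Lib.Helper17.HZero.hh0Equiv G).symm (sec (homOfSection G _) ⊤) = y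
  rw [sec_homOfSection]
  have : mres G (le_top : (⊤ : X.Opens) ≤ ⊤) (Groth.Agent.Lib.Helper17.HZero.hh0Equiv G y) =
      Groth.Agent.Lib.Helper17.HZero.hh0Equiv G y := mres_self (F := G) _
  rw [this, AddEquiv.symm_apply_apply]

end Lin

section KL

variable (k : Type u) [Field k] (X : Scheme.{u}) [X.Over (Spec (CommRingCat.of k))]
  [IsIntegral X] [IsProper (X ↘ Spec (CommRingCat.of k))] (hdim : topologicalKrullDim X ≤ 1)

include hdim in
/-- a nonzero section of a coherent subsheaf `G` of an invertible sheaf induces a surjection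
`H¹(O) → H¹(G)` -/
theorem HHlin_one_surjective_of_ne_zero {G L : X.Modules} (hL : PicF.IsInvertible L)
    (j : G ⟶ L) [Mono j] (hG : Coh.IsCoh G) (s : Coh.structureModule X ⟶ G) (hs : s ≠ 0) :
    Function.Surjective (Canon.HHlin k s 1) := by
  have hO1 : FlatMod.IsFinLocFreeOfRank 1 (Coh.structureModule X) :=
    rank_one_of_isInvertible (isInvertible_structureModule X)
  have hL1 := rank_one_of_isInvertible hL
  have hsj : s ≫ j ≠ 0 := fun h => hs ((cancel_mono j).mp (by rw [h, zero_comp]))
  have hbij := stalkMap_generic_bijective_of_ne_zero hO1 hL1 (s ≫ j) hsj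
  haveI : Mono (s ≫ j) :=
    mono_of_stalkMap_generic_injective (isFinLocFree_of_rank hO1) _ hbij.1
  haveI : Mono s := mono_of_mono s j
  have hsurj : Function.Surjective (stalkMap s (genericPoint X)).hom := by
    intro b
    obtain ⟨a, ha⟩ := hbij.2 ((stalkMap j (genericPoint X)).hom b)
    refine ⟨a, stalkMap_injective_of_mono j _ ?_⟩
    rw [← ha, stalkMap_comp_apply']
  have hOcoh := Groth.Agent.Lib.Helper67.GenCurve.isCoh_structureModule X
  have hQcoh : Coh.IsCoh (cokernel s) :=
    ⟨isQuasicoherent_cokernel s hOcoh.1 hG.1, isFiniteType_of_epi (cokernel.π s) hG.2⟩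
  have hQξ := (subsingleton_stalk_cokernel_iff s (genericPoint X)).mpr hsurj
  haveI hH1 := subsingleton_HH_one_of_stalk k X hdim (cokernel s) hQcoh hQξ
  have hS : (ShortComplex.mk s (cokernel.π s) (cokernel.condition s)).ShortExact :=
    ⟨ShortComplex.exact_of_g_is_cokernel _ (cokernelIsCokernel _)⟩
  intro y
  have hy : y ∈ LinearMap.ker (Canon.HHlin k (cokernel.π s) 1) := Subsingleton.elim _ _
  rw [← Groth.Agent.Lib.Helper67.HHLES.range_f_eq_ker_g k hS 1] at hy
  exact hy

include hdim in
/-- **key lemma**: a coherent subsheaf `G` of an invertible sheaf on an integral proper curve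
with `H¹(G) ≠ 0` has `h⁰(G) ≤ h¹(O)` -/
theorem h0_le_genus_of_nontrivial_h1 {G L : X.Modules} (hL : PicF.IsInvertible L)
    (j : G ⟶ L) [Mono j] (hG : Coh.IsCoh G) (h1 : Nontrivial (Coh.HH X G 1)) :
    Module.finrank k (Coh.HH X G 0) ≤ Curv2.genus k X := by
  haveI := finite_HH_of_coh k X hdim _ (Groth.Agent.Lib.Helper67.GenCurve.isCoh_structureModule X) 1
  haveI := finite_HH_of_coh k X hdim G hG 1
  obtain ⟨y, hy⟩ := exists_ne (0 : Coh.HH X G 1)
  obtain ⟨l, hl⟩ : ∃ l : Module.Dual k (Coh.HH X G 1), l y ≠ 0 := by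
    by_contra hcon
    rw [not_exists] at hcon
    exact hy ((Module.forall_dual_apply_eq_zero_iff k y).mp fun l => not_not.mp (hcon l))
  let Φ : (Coh.structureModule X ⟶ G) →ₗ[k]
      Module.Dual k (Coh.HH X (Coh.structureModule X) 1) :=
    { toFun := fun s => l ∘ₗ Canon.HHlin k s 1
      map_add' := fun s t => by rw [HHlin_add, LinearMap.comp_add]
      map_smul' := fun a s => by rw [HHlin_smul, LinearMap.comp_smul]; rfl }
  have hΦ : Function.Injective Φ := by
    rw [injective_iff_map_eq_zero]
    intro s hs0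
    by_contra hs
    obtain ⟨x, hx⟩ := HHlin_one_surjective_of_ne_zero k X hdim hL j hG s hs y
    apply hl
    rw [← hx]
    exact congrArg (fun f => f x) hs0
  have h2 := LinearMap.finrank_le_finrank_of_injective hΦ
  rw [Subspace.dual_finrank_eq] at h2
  have h3 := (LinearEquiv.ofBijective (secLin k G)
    ⟨secLin_injective k G, secLin_surjective k G⟩).finrank_eq
  unfold Curv2.genus
  rw [← h3]
  exact h2

end KL

end Groth.Agent.Lib.Helper67.CurveKL
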