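import Groth.Agent.Lib.Helper67.CurveKL

/-!
# Consequences of the key lemma: vanishing of `H¹` in large degree (helper67)
-/

set_option autoImplicit false
set_option linter.style.haveILetI false
universe u
open AlgebraicGeometry CategoryTheory Limits Opposite TopologicalSpace Abelian

namespace Groth.Agent.Lib.Helper67.CurveKL

open Groth.Agent.Lib.Helper67.EulerLES Groth.Agent.Lib.Helper67.CurveCoh
open Groth.Agent.Lib.Helper67.CurveDeg Groth.Agent.Lib.Helper67.CurveTors
open Groth.Agent.Lib.Helper67.CurveInv Groth.Agent.Lib.Helper67.HomFin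
open Groth.Agent.Lib.Helper67.TensRank Groth.Agent.Lib.Helper67.GenCurve
open Groth.Agent.Lib.Helper49 Groth.Agent.Lib.Helper11.GenLocus
open Groth.Agent.Lib.Helper17.HHLinLES

variable (k : Type u) [Field k] (X : Scheme.{u}) [X.Over (Spec (CommRingCat.of k))]
  [IsIntegral X] [IsProper (X ↘ Spec (CommRingCat.of k))] (hdim : topologicalKrullDim X ≤ 1)

omit [IsProper (X ↘ Spec (CommRingCat.of k))] in
theorem not_isZero_of_rank_pos' {E : X.Modules} {r : ℕ} (hr : 0 < r)
    (hE : FlatMod.IsFinLocFreeOfRank r E) : ¬ IsZero E := by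
  intro hz
  have h : rk E = r := (stalk_of_rank hE (genericPoint X)).2.2
  have hs := (Helper45.isZero_iff_stalk_subsingleton E).mp hz (genericPoint X)
  rw [rk_eq_zero_of_subsingleton hs] at h
  omega

include hdim in
/-- `h⁰(O_X) ≥ 1` -/
theorem h0_structure_pos : 0 < Module.finrank k (Coh.HH X (Coh.structureModule X) 0) := by
  haveI := finite_HH_of_coh k X hdim _ (isCoh_structureModule X) 0
  have hO1 : FlatMod.IsFinLocFreeOfRank 1 (Coh.structureModule X) :=
    rank_one_of_isInvertible (isInvertible_structureModule X)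
  haveI : Nontrivial (Coh.HH X (Coh.structureModule X) 0) := by
    refine ⟨secLin k _ (𝟙 _), 0, fun h => ?_⟩
    have h0 : (𝟙 (Coh.structureModule X)) = 0 :=
      secLin_injective k _ (h.trans (map_zero _).symm)
    exact not_isZero_of_rank_pos' X Nat.one_pos hO1 ((IsZero.iff_id_eq_zero _).mpr h0)
  exact Module.finrank_pos

include hdim in
/-- **`H¹(L) = 0` for `deg L ≥ 2g - 1`** on an integral proper curve -/
theorem subsingleton_h1_of_deg_ge {L : X.Modules} (hL : PicF.IsInvertible L)
    (hdeg : 2 * (Curv2.genus k X : ℤ) - 1 ≤ Curv2.deg k X L 1) :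
    Subsingleton (Coh.HH X L 1) := by
  by_contra hns
  rw [not_subsingleton_iff_nontrivial] at hns
  have hLcoh := isCoh_of_rank (rank_one_of_isInvertible hL)
  have hOcoh := isCoh_structureModule X
  have hKL := h0_le_genus_of_nontrivial_h1 k X hdim hL (𝟙 L) hLcoh hns
  have hχL := euler_eq_of_coh k X hdim L hLcoh
  have hχO := euler_eq_of_coh k X hdim _ hOcoh
  haveI := finite_HH_of_coh k X hdim L hLcoh 1
  have h1pos : 0 < Module.finrank k (Coh.HH X L 1) := Module.finrank_pos
  have h0O := h0_structure_pos k X hdim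
  unfold Curv2.deg at hdeg
  unfold Curv2.genus at hdeg hKL
  rw [hχL, hχO] at hdeg
  push_cast at hdeg
  omega

section Ideal

open Groth.Agent.Lib.Helper67.ZeroDim Groth.Agent.Lib.Helper67.TensZero
open Groth.Agent.Lib.Helper49.SerreGen Groth.Agent.Lib.Helper67.EffCart
open Groth.Agent.Lib.Helper11.FinFreeAdj

variable (Z : X.IdealSheafData)

omit [IsIntegral X] in
theorem isCoh_idealMod [IsLocallyNoetherian X] : Coh.IsCoh (ClSub.idealMod Z) := by
  haveI := Groth.Agent.Lib.Helper1.isQuasicoherent_idealMod Z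
  haveI := (isCoh_structureModule X).1
  exact ⟨Groth.Agent.Lib.Helper1.isQuasicoherent_idealMod Z,
    isFiniteType_of_mono (ClSub.idealModι Z) (isCoh_structureModule X).2⟩

/-- the inclusion `I ⊗ L ⟶ L` -/
noncomputable def twistι (L : X.Modules) : CohB1.tensorMod (ClSub.idealMod Z) L ⟶ L :=
  (tensR L).map (ClSub.idealModι Z) ≫ (unitTensorIso L).hom

omit [IsIntegral X] [IsProper (X ↘ Spec (CommRingCat.of k))] in
theorem mono_twistι {L : X.Modules} (hL : PicF.IsInvertible L) : Mono (twistι X Z L) := by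
  have hLfl := isFinLocFree_of_rank (rank_one_of_isInvertible hL)
  haveI := Groth.Agent.Lib.Helper67.TensExact.preservesZeroMorphisms_tensR hLfl
  have hS := Groth.Agent.Lib.Helper67.TensExact.shortExact_tensR hLfl
    (Groth.Agent.Lib.Helper1.idealModComplex_shortExact Z)
  haveI h1 : Mono ((tensR L).map (ClSub.idealModι Z)) := hS.mono_f
  haveI h2 : Mono (unitTensorIso L).hom := inferInstance
  exact @mono_comp _ _ _ _ _ _ h1 _ h2

omit [IsIntegral X] in
include hdim in
/-- `χ(I_Z ⊗ L) = χ(L) - h⁰(O_Z)` for a closed subscheme of dimension `≤ 0` -/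
theorem euler_idealTwist (hZ : topologicalKrullDim (Z.support : Set X) ≤ 0)
    {L : X.Modules} (hL : PicF.IsInvertible L) :
    Curv2.euler k X (CohB1.tensorMod (ClSub.idealMod Z) L) =
      Curv2.euler k X L - Module.finrank k (Coh.HH X (ClSub.quotMod Z) 0) := by
  haveI : IsNoetherian X :=
    Groth.Agent.Lib.Helper67.CurveP1.isNoetherian_of_proper k (X ↘ Spec (CommRingCat.of k))
  have hL1 := rank_one_of_isInvertible hL
  have hLfl := isFinLocFree_of_rank hL1
  haveI := Groth.Agent.Lib.Helper67.TensExact.preservesZeroMorphisms_tensR hLfl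
  have hS := Groth.Agent.Lib.Helper67.TensExact.shortExact_tensR hLfl
    (Groth.Agent.Lib.Helper1.idealModComplex_shortExact Z)
  have e2 : CohB1.tensorMod (Coh.structureModule X) L ≅ L := unitTensorIso L
  have hQ := isCoh_quotMod Z
  have hsupp : ClosedSupp (ClSub.quotMod Z) := by
    apply closedSupp_push_of_dim_le_zero Z.subschemeι
    rw [Z.range_subschemeι]
    exact hZ
  have hLcoh := isCoh_of_rank hL1
  have c1 : Coh.IsCoh (CohB1.tensorMod (ClSub.idealMod Z) L) :=
    isCoh_tensorMod (isCoh_idealMod X Z) hLcoh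
  have c2 : Coh.IsCoh (CohB1.tensorMod (Coh.structureModule X) L) :=
    isCoh_of_iso e2.symm hLcoh
  have c3 : Coh.IsCoh (CohB1.tensorMod (ClSub.quotMod Z) L) := isCoh_tensorMod hQ hLcoh
  have hadd := euler_additive_of_coh k X hdim hS c1 c2 c3
  have hadd' : Curv2.euler k X (CohB1.tensorMod (Coh.structureModule X) L) =
    Curv2.euler k X (CohB1.tensorMod (ClSub.idealMod Z) L) +
      Curv2.euler k X (CohB1.tensorMod (ClSub.quotMod Z) L) := hadd
  have h3 := euler_tensor_of_closedSupp k X L hL1 _ hQ hsupp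
  have h4 := euler_eq_of_isGood0 k (isGood0_of_closedSupp k X _ hQ hsupp)
  have h6 := euler_eq_of_iso k e2
  rw [← h6, hadd', h3, h4]
  push_cast
  ring

end Ideal

section Twist

open Groth.Agent.Lib.Helper67.ZeroDim Groth.Agent.Lib.Helper67.TensZero
open Groth.Agent.Lib.Helper49.SerreGen Groth.Agent.Lib.Helper67.EffCart

include hdim in
/-- if `H¹(I_Z ⊗ L) ≠ 0` then `deg L ≤ 2g - 2 + deg Z` -/
theorem deg_le_of_nontrivial_h1_twist
    (h0 : Module.finrank k (Coh.HH X (Coh.structureModule X) 0) = 1)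
    (Z : X.IdealSheafData) (hZ : topologicalKrullDim (Z.support : Set X) ≤ 0)
    {L : X.Modules} (hL : PicF.IsInvertible L)
    (h1 : Nontrivial (Coh.HH X (CohB1.tensorMod (ClSub.idealMod Z) L) 1)) :
    Curv2.deg k X L 1 ≤ 2 * (Curv2.genus k X : ℤ) - 2 +
      Module.finrank k (Coh.HH X (ClSub.quotMod Z) 0) := by
  haveI : IsNoetherian X :=
    Groth.Agent.Lib.Helper67.CurveP1.isNoetherian_of_proper k (X ↘ Spec (CommRingCat.of k))
  have hLcoh := isCoh_of_rank (rank_one_of_isInvertible hL)
  have hFcoh : Coh.IsCoh (CohB1.tensorMod (ClSub.idealMod Z) L) :=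
    isCoh_tensorMod (isCoh_idealMod X Z) hLcoh
  haveI := mono_twistι X Z hL
  have hKL := h0_le_genus_of_nontrivial_h1 k X hdim hL (twistι X Z L) hFcoh h1
  have hχF := euler_eq_of_coh k X hdim _ hFcoh
  have hχO := euler_eq_of_coh k X hdim _ (isCoh_structureModule X)
  have htw := euler_idealTwist k X hdim Z hZ hL
  haveI := finite_HH_of_coh k X hdim _ hFcoh 1
  have h1pos : 0 < Module.finrank k (Coh.HH X (CohB1.tensorMod (ClSub.idealMod Z) L) 1) :=
    Module.finrank_pos
  unfold Curv2.deg
  unfold Curv2.genus at hKL ⊢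
  rw [hχO, h0]
  rw [hχF] at htw
  push_cast
  omega

end Twist

end Groth.Agent.Lib.Helper67.CurveKL
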