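import Groth.Agent.Lib.Helper67.CurveKL2
import Groth.Agent.Lib.Helper11.GlobalGen
import Groth.Agent.Lib.Helper18.CoprodFinite

/-!
# Global generation in degree `≥ 2g` on integral proper curves (helper67)
-/

set_option autoImplicit false
set_option linter.style.haveILetI false
universe u
open AlgebraicGeometry CategoryTheory Limits Opposite TopologicalSpace Abelian

namespace Groth.Agent.Lib.Helper67.CurveKL

open Groth.Agent.Lib.Helper67.EulerLES Groth.Agent.Lib.Helper67.CurveCoh
open Groth.Agent.Lib.Helper67.CurveDeg Groth.Agent.Lib.Helper67.CurveTors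
open Groth.Agent.Lib.Helper67.CurveInv Groth.Agent.Lib.Helper67.HomFin
open Groth.Agent.Lib.Helper67.TensRank Groth.Agent.Lib.Helper67.GenCurve
open Groth.Agent.Lib.Helper49 Groth.Agent.Lib.Helper11.GenLocus
open Groth.Agent.Lib.Helper17.HHLinLES

variable (k : Type u) [Field k] (X : Scheme.{u}) [X.Over (Spec (CommRingCat.of k))]
  [IsIntegral X] [IsProper (X ↘ Spec (CommRingCat.of k))] (hdim : topologicalKrullDim X ≤ 1)

include hdim in
/-- `h⁰(G) = h⁰(L)` if every section of `L` factors through the subsheaf `G` -/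
theorem finrank_h0_eq_of_factor {G L : X.Modules} (j : G ⟶ L) [Mono j]
    (hfact : ∀ s : Coh.structureModule X ⟶ L, ∃ s' : Coh.structureModule X ⟶ G, s' ≫ j = s) :
    Module.finrank k (Coh.HH X G 0) = Module.finrank k (Coh.HH X L 0) := by
  have e1 := (LinearEquiv.ofBijective (secLin k G)
    ⟨secLin_injective k G, secLin_surjective k G⟩).finrank_eq
  have e2 := (LinearEquiv.ofBijective (secLin k L)
    ⟨secLin_injective k L, secLin_surjective k L⟩).finrank_eq
  have hR : Function.Bijective (Linear.rightComp k (Coh.structureModule X) j) := by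
    constructor
    · intro a b hab
      exact (cancel_mono j).mp hab
    · intro s
      obtain ⟨s', hs'⟩ := hfact s
      exact ⟨s', hs'⟩
  have e3 := (LinearEquiv.ofBijective _ hR).finrank_eq
  rw [← e1, ← e2, e3]

include hdim in
/-- a map `p : F ⟶ L` from a quasi-coherent module to an invertible module of degree `≥ 2g`
through which all global sections of `L` factor is an epimorphism -/
theorem epi_of_sections_factor {F L : X.Modules} (hL : PicF.IsInvertible L)
    (hdeg : 2 * (Curv2.genus k X : ℤ) ≤ Curv2.deg k X L 1) (p : F ⟶ L)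
    (hFq : F.IsQuasicoherent)
    (hfactp : ∀ s : Coh.structureModule X ⟶ L, ∃ s' : Coh.structureModule X ⟶ F, s' ≫ p = s) :
    Epi p := by
  haveI : IsNoetherian X :=
    Groth.Agent.Lib.Helper67.CurveP1.isNoetherian_of_proper k (X ↘ Spec (CommRingCat.of k))
  have hL1 := rank_one_of_isInvertible hL
  have hLcoh := isCoh_of_rank hL1
  have hOcoh := isCoh_structureModule X
  have hO1 : FlatMod.IsFinLocFreeOfRank 1 (Coh.structureModule X) :=
    rank_one_of_isInvertible (isInvertible_structureModule X)
  have hχL := euler_eq_of_coh k X hdim L hLcoh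
  have hχO := euler_eq_of_coh k X hdim _ hOcoh
  have h0O := h0_structure_pos k X hdim
  -- `h⁰(L) ≥ g + 1`
  have hh0L : (Curv2.genus k X : ℤ) + 1 ≤ Module.finrank k (Coh.HH X L 0) := by
    unfold Curv2.deg at hdeg
    unfold Curv2.genus at hdeg ⊢
    rw [hχL, hχO] at hdeg
    push_cast at hdeg ⊢
    omega
  by_contra hnepi
  have hfac : Abelian.factorThruImage p ≫ Abelian.image.ι p = p := Abelian.image.fac p
  have hCq : (cokernel p).IsQuasicoherent := isQuasicoherent_cokernel p hFq hLcoh.1
  have hGq : (Abelian.image p).IsQuasicoherent := isQuasicoherent_kernel _ hLcoh.1 hCq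
  haveI := hGq
  haveI := hLcoh.1
  have hG : Coh.IsCoh (Abelian.image p) :=
    ⟨hGq, isFiniteType_of_mono (Abelian.image.ι p) hLcoh.2⟩
  have hfact : ∀ s : Coh.structureModule X ⟶ L,
      ∃ s' : Coh.structureModule X ⟶ Abelian.image p, s' ≫ Abelian.image.ι p = s := by
    intro s
    obtain ⟨s', hs'⟩ := hfactp s
    refine ⟨s' ≫ Abelian.factorThruImage p, ?_⟩
    rw [Category.assoc, hfac]
    exact hs'
  have hh0 := finrank_h0_eq_of_factor k X hdim (Abelian.image.ι p) hfact
  -- a nonzero section
  haveI := finite_HH_of_coh k X hdim L hLcoh 0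
  have hpos : 0 < Module.finrank k (Coh.HH X L 0) := by omega
  haveI : Nontrivial (Coh.HH X L 0) := Module.nontrivial_of_finrank_pos hpos
  obtain ⟨s, hs⟩ := exists_hom_ne_zero_of_nontrivial L inferInstance
  obtain ⟨s', hs'⟩ := hfact s
  have hbij := stalkMap_generic_bijective_of_ne_zero hO1 hL1 s hs
  have hgen : Subsingleton
      ((cokernel (Abelian.image.ι p)).presheaf.stalk (genericPoint X)) := by
    rw [subsingleton_stalk_cokernel_iff]
    intro b
    obtain ⟨a, ha⟩ := hbij.2 b
    refine ⟨(stalkMap s' (genericPoint X)).hom a, ?_⟩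
    rw [← stalkMap_comp_apply', hs', ha]
  obtain ⟨hχ, hiso⟩ := main_mono k X hdim hG hLcoh (Abelian.image.ι p) hgen
  have hne : Module.finrank k (Coh.HH X (cokernel (Abelian.image.ι p)) 0) ≠ 0 := by
    intro h0
    haveI := hiso.mp h0
    apply hnepi
    rw [← hfac]
    infer_instance
  have hχG := euler_eq_of_coh k X hdim _ hG
  have hh1 : Nontrivial (Coh.HH X (Abelian.image p) 1) := by
    apply Module.nontrivial_of_finrank_pos (R := k)
    rw [hχL, hχG, hh0] at hχ
    omega
  have hKL := h0_le_genus_of_nontrivial_h1 k X hdim hL (Abelian.image.ι p) hG hh1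
  rw [hh0] at hKL
  omega

include hdim in
/-- **invertible modules of degree `≥ 2g` on an integral proper curve are globally generated** -/
theorem isGloballyGenerated_of_deg_ge {L : X.Modules} (hL : PicF.IsInvertible L)
    (hdeg : 2 * (Curv2.genus k X : ℤ) ≤ Curv2.deg k X L 1) :
    Curv2.IsGloballyGenerated L := by
  have hOcoh := isCoh_structureModule X
  refine ⟨Γ(L, ⊤), Sigma.desc (fun t : Γ(L, ⊤) => homOfSection L t), ?_⟩
  refine epi_of_sections_factor k X hdim hL hdeg _ ?_ ?_
  · haveI : ∀ _ : Γ(L, ⊤), (Coh.structureModule X).IsQuasicoherent := fun _ => hOcoh.1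
    exact Groth.Agent.Lib.Helper18.CoprodLocal.isQuasicoherent_sigma
      (fun _ : Γ(L, ⊤) => Coh.structureModule X)
  · intro s
    have hs : homOfSection L (sec s ⊤) = s := by
      apply hom_ext_sec
      rw [sec_homOfSection]
      exact mres_self (F := L) _
    exact ⟨Sigma.ι (fun _ : Γ(L, ⊤) => Coh.structureModule X) (sec s ⊤),
      (Sigma.ι_desc _ _).trans hs⟩

end Groth.Agent.Lib.Helper67.CurveKL
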