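import Groth.Agent.Lib.Helper67.CurveOD
import Groth.Agent.Lib.Helper49.AffineHom

/-!
# The divisor of an invertible sheaf on a curve; isomorphisms and linear equivalence
-/

set_option autoImplicit false
set_option linter.style.haveILetI false
universe u
open CategoryTheory AlgebraicGeometry IsLocalRing FunFld TopologicalSpace Opposite WithZero

noncomputable section

namespace Groth.Agent.Lib.Helper67.CurveLB

open Groth.Agent.Lib.Helper67 Groth.Agent.Lib.Helper67.CurveFF Groth.Agent.Lib.Helper67.CurveVal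
  Groth.Agent.Lib.Helper67.CurveBasic Groth.Agent.Lib.Helper67.CurveTop Groth.Agent.FF
  Groth.Agent.Lib.Helper67.CurvePoints Groth.Agent.Lib.Helper67.CurvePlaces
  Groth.Agent.Lib.Helper67.CurveGeomIrr Groth.Agent.Lib.Helper67.CurveCount
  Groth.Agent.Lib.Helper67.CurveSections Groth.Agent.Lib.Helper67.FFTwoPoint
  Groth.Agent.Lib.Helper67.FFTwoPointD Groth.Agent.Lib.Helper67.CurveGenus
  Groth.Agent.Lib.Helper67.CurveDiv Groth.Agent.Lib.Helper67.KEmbed
  Groth.Agent.Lib.Helper67.KSubsheaf Groth.Agent.Lib.Helper45 Groth.Agent.Lib.Helper49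
  Groth.Agent.Lib.Helper67.CurveOD

variable {k : Type u} [Field k] {C : Scheme.{u}} [C.Over (Spec (CommRingCat.of k))] [IsIntegral C]

attribute [local instance] algKO



variable (hC : Curve.IsSmoothProperCurve k C (C ↘ Spec (CommRingCat.of k)))
  [GeometricallyIrreducible (C ↘ Spec (CommRingCat.of k))] [PerfectField k]

variable {L : C.Modules}

theorem mem_AW_sub_div (W : C.Opens) (E : Divisor k C.functionField) {c : C.functionField}
    (hc : c ≠ 0) (x : C.functionField) :
    x ∈ AW hC W (E - FunFld.div k c) ↔ c⁻¹ * x ∈ AW hC W E := by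
  have hK := isFunctionField_of_curve hC
  rw [mem_AW_iff, mem_AW_iff]
  refine forall_congr' fun y => forall_congr' fun hy => forall_congr' fun hyW => ?_
  rw [map_mul, map_inv₀, Finsupp.sub_apply, div_apply hK, sub_eq_add_neg, exp_add,
    val_eq_exp_neg_ord _ hc]
  have hpos : (0 : WithZero (Multiplicative ℤ)) < exp (-(plc hC y hy).ord c) := exp_pos
  rw [inv_mul_le_iff₀ hpos, mul_comm]

theorem hasDiv_scale {e : KEmb L} {E : Divisor k C.functionField} (h : HasDiv hC e E)
    (c : C.functionField) (hc : c ≠ 0) : HasDiv hC (e.scale c hc) (E - FunFld.div k c) := by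
  intro W _
  ext x
  rw [SetLike.mem_coe, mem_AW_sub_div hC W E hc]
  constructor
  · rintro ⟨s, rfl⟩
    rw [KEmb.scale_apply, inv_mul_cancel_left₀ hc]
    exact h.mem hC W s
  · intro hx
    obtain ⟨s, hs⟩ := h.exists_eq hC W hx
    exact ⟨s, by rw [KEmb.scale_apply, hs, mul_inv_cancel_left₀ hc]⟩

theorem hasDiv_comp {L' : C.Modules} {e : KEmb L'} {E : Divisor k C.functionField}
    (h : HasDiv hC e E) (ψ : L ≅ L') : HasDiv hC (e.comp ψ) E := by
  intro W _
  rw [KEmb.range_comp]
  exact h W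

/-- comparison of the divisors of two embeddings differing by a constant -/
theorem le_of_eq_mul {e e' : KEmb L} {E E' : Divisor k C.functionField} (h : HasDiv hC e E)
    (h' : HasDiv hC e' E') {c : C.functionField} (hc : c ≠ 0)
    (hcc : ∀ (W : C.Opens) [Nonempty W] (s : Γ(L, W)), e'.ρ W s = c * e.ρ W s)
    (P : Place k C.functionField) : E P - P.ord c ≤ E' P := by
  obtain ⟨y, hy, rfl⟩ := exists_plc_eq hC P
  obtain ⟨V, hyV, t, ht0, htE, htE'⟩ := exists_local_gen hC E y
  haveI : Nonempty V := ⟨⟨y, hyV⟩⟩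
  obtain ⟨τ, hτ⟩ := h.exists_eq hC V htE
  have h1 : c * t ∈ AW hC V E' := by
    rw [← hτ, ← hcc V τ]
    exact h'.mem hC V τ
  have h2 := (mem_AW_iff hC V E' _).mp h1 y hy hyV
  have h3 := (mem_AW_iff hC V (-E) _).mp htE' y hy hyV
  rw [val_le_exp_iff _ (mul_ne_zero hc ht0), ord_mul _ hc ht0] at h2
  rw [val_le_exp_iff _ (inv_ne_zero ht0), ord_inv, Finsupp.neg_apply] at h3
  linarith

/-- the divisor of an embedding scaled by a constant -/
theorem eq_sub_div_of_eq_mul {e e' : KEmb L} {E E' : Divisor k C.functionField}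
    (h : HasDiv hC e E) (h' : HasDiv hC e' E') {c : C.functionField} (hc : c ≠ 0)
    (hcc : ∀ (W : C.Opens) [Nonempty W] (s : Γ(L, W)), e'.ρ W s = c * e.ρ W s) :
    E' = E - FunFld.div k c := by
  have hK := isFunctionField_of_curve hC
  ext P
  rw [Finsupp.sub_apply, div_apply hK]
  have h1 := le_of_eq_mul hC h h' hc hcc P
  have h2 := le_of_eq_mul hC h' h (inv_ne_zero hc) (fun W _ s => by
    rw [hcc W s, inv_mul_cancel_left₀ hc]) P
  rw [ord_inv] at h2
  linarith


/-! ### the divisor of an embedded sheaf with local bases -/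

/-- the key estimate: the value of a section is bounded by that of a local basis -/
theorem val_le_val_basis (e : KEmb L) {W : C.Opens} [Nonempty W] (s : Γ(L, W)) {V' : C.Opens}
    [Nonempty V'] {t' : Γ(L, V')} (ht' : IsBasisOn L V' t') (y : C) (hy : IsClosed ({y} : Set C))
    (hyW : y ∈ W) (hyV' : y ∈ V') :
    (plc hC y hy).1 (e.ρ W s) ≤ (plc hC y hy).1 (e.ρ V' t') := by
  have hZ : W ⊓ V' ≤ W := inf_le_left
  rw [← e.res hZ s, e.eq_coef_mul ht' inf_le_right, map_mul]
  have h1 := germ_mem_AW_zero hC (W ⊓ V')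
    ((coefEquiv ht' (W ⊓ V') inf_le_right).symm (mres L hZ s))
  have h2 := (mem_AW_iff hC _ 0 _).mp h1 y hy ⟨hyW, hyV'⟩
  rw [Finsupp.zero_apply, exp_zero] at h2
  exact mul_le_of_le_one_left' h2

theorem exists_hasDiv (e : KEmb L)
    (hloc : ∀ x : C, ∃ V : C.Opens, x ∈ V ∧ ∃ t : Γ(L, V), IsBasisOn L V t) :
    ∃ E : Divisor k C.functionField, HasDiv hC e E := by
  classical
  have hK := isFunctionField_of_curve hC
  choose Vy hyVy ty hty using hloc
  have hne : ∀ y, Nonempty (Vy y) := fun y => ⟨⟨y, hyVy y⟩⟩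
  let g : C → C.functionField := fun y => @KEmb.ρ _ _ _ e (Vy y) (hne y) (ty y)
  have hg0 : ∀ y, g y ≠ 0 := fun y => by
    haveI := hne y
    exact e.basis_ne_zero (hty y)
  let pt : Place k C.functionField → C := fun P => ((closedEquiv hC).symm P).1
  have hpt : ∀ y hy, pt (plc hC y hy) = y := by
    intro y hy
    simp [pt, plc]
  let Ef : Place k C.functionField → ℤ := fun P => - P.ord (g (pt P))
  have hval : ∀ (y y' : C) (hy : IsClosed ({y} : Set C)), y ∈ Vy y' →
      (plc hC y hy).ord (g y) = (plc hC y hy).ord (g y') := by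
    intro y y' hy hyy'
    haveI := hne y
    haveI := hne y'
    have hle1 := val_le_val_basis hC e (ty y) (hty y') y hy (hyVy y) hyy'
    have hle2 := val_le_val_basis hC e (ty y') (hty y) y hy hyy' (hyVy y)
    have heq : (plc hC y hy).1 (g y) = (plc hC y hy).1 (g y') := le_antisymm hle1 hle2
    rw [val_eq_exp_neg_ord _ (hg0 y), val_eq_exp_neg_ord _ (hg0 y'), exp_inj] at heq
    linarith
  have hsupp : (Function.support Ef).Finite := by
    have h1 : ((Vy (genericPoint C) : Set C)ᶜ).Finite :=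
      CurveFinite.finite_compl hC (Vy (genericPoint C)) (hyVy _)
    have h2 : {P : Place k C.functionField | pt P ∉ Vy (genericPoint C)}.Finite := by
      refine Set.Finite.of_injOn (f := pt) (fun P hP => hP) ?_ h1
      intro P _ Q _ hPQ
      exact (closedEquiv hC).symm.injective (Subtype.ext hPQ)
    have h3 : (Function.support fun P : Place k C.functionField =>
        P.ord (g (genericPoint C))).Finite := finite_support_ord hK _
    refine (h2.union h3).subset ?_
    intro P hP
    by_contra hcon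
    rw [Set.mem_union, not_or] at hcon
    obtain ⟨hc1, hc2⟩ := hcon
    simp only [Set.mem_ofPred_eq, not_not] at hc1
    have hc2' : P.ord (g (genericPoint C)) = 0 := by
      simpa [Function.mem_support] using hc2
    apply hP
    obtain ⟨y, hy, rfl⟩ := exists_plc_eq hC P
    rw [hpt] at hc1
    change -(plc hC y hy).ord (g (pt (plc hC y hy))) = 0
    rw [hpt y hy, hval y _ hy hc1, hc2', neg_zero]
  let E : Divisor k C.functionField := Finsupp.ofSupportFinite Ef hsupp
  have hE : ∀ y hy, exp (E (plc hC y hy)) = (plc hC y hy).1 (g y) := by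
    intro y hy
    change exp (Ef (plc hC y hy)) = _
    simp only [Ef, hpt y hy]
    rw [val_eq_exp_neg_ord _ (hg0 y)]
  refine ⟨E, fun W _ => ?_⟩
  ext c
  constructor
  · rintro ⟨s, rfl⟩
    rw [SetLike.mem_coe, mem_AW_iff]
    intro y hy hyW
    rw [hE y hy]
    haveI := hne y
    exact val_le_val_basis hC e s (hty y) y hy hyW (hyVy y)
  · intro hc
    rw [SetLike.mem_coe, mem_AW_iff] at hc
    have hlocal : ∀ y : W, ∃ (Wy : C.Opens) (_ : y.1 ∈ Wy) (_ : Wy ≤ W) (s : Γ(L, Wy)),
        ∀ hn : Nonempty Wy, @KEmb.ρ _ _ _ e Wy hn s = c := by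
      rintro ⟨y, hyW⟩
      haveI := hne y
      obtain ⟨W₀, hyW₀, b, hb⟩ : ∃ (W₀ : C.Opens) (_ : y ∈ W₀) (b : Γ(C, W₀)),
          ∀ hne : Nonempty W₀, (@Scheme.germToFunctionField C _ W₀ hne) b = c / g y := by
        by_cases hy : IsClosed ({y} : Set C)
        · apply exists_section_of_val_le_one hC y hy
          rw [map_div₀, ← hE y hy]
          exact div_le_one_of_le₀ (hc y hy hyW) zero_le'
        · have : y = genericPoint C := by
            by_contra h
            exact hy (isClosed_singleton_of_ne hC y h)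
          subst this
          exact exists_section_generic _
      haveI : Nonempty W₀ := ⟨⟨y, hyW₀⟩⟩
      refine ⟨W₀ ⊓ (W ⊓ Vy y), ⟨hyW₀, hyW, hyVy y⟩, inf_le_right.trans inf_le_left,
        fres (inf_le_left : W₀ ⊓ (W ⊓ Vy y) ≤ W₀) b •
          mres L ((inf_le_right.trans inf_le_right : W₀ ⊓ (W ⊓ Vy y) ≤ Vy y)) (ty y),
        fun hn => ?_⟩
      rw [e.smul, e.res, germ_fres, hb]
      exact div_mul_cancel₀ _ (hg0 y)
    choose Wy hyWy hWyW sy hsy using hlocal
    have hneW : ∀ y : W, Nonempty (Wy y) := fun y => ⟨⟨y.1, hyWy y⟩⟩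
    have hcompat : TopCat.Presheaf.IsCompatible L.presheaf Wy sy := by
      intro y y'
      haveI := hneW y
      haveI := hneW y'
      apply e.inj (Wy y ⊓ Wy y')
      have h1 := e.res (inf_le_left : Wy y ⊓ Wy y' ≤ Wy y) (sy y)
      have h2 := e.res (inf_le_right : Wy y ⊓ Wy y' ≤ Wy y') (sy y')
      rw [hsy y (hneW y)] at h1
      rw [hsy y' (hneW y')] at h2
      exact h1.trans h2.symm
    obtain ⟨s, hs, -⟩ := TopCat.Sheaf.existsUnique_gluing' ⟨L.presheaf, L.isSheaf⟩ Wy W
      (fun y => homOfLE (hWyW y))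
      (fun x hx => Opens.mem_iSup.mpr ⟨⟨x, hx⟩, hyWy ⟨x, hx⟩⟩) sy hcompat
    obtain ⟨y₀⟩ := ‹Nonempty W›
    haveI := hneW y₀
    refine ⟨s, ?_⟩
    rw [← e.res (hWyW y₀) s]
    have : mres L (hWyW y₀) s = sy y₀ := hs y₀
    rw [this, hsy y₀ (hneW y₀)]

/-- an invertible sheaf on a curve is isomorphic to `O(E)` for a divisor `E` -/
theorem exists_kEmb_hasDiv (hL : PicF.IsInvertible L) :
    ∃ (e : KEmb L) (E : Divisor k C.functionField), HasDiv hC e E := by
  have hloc := fun x => exists_isBasisOn_of_isInvertible hL x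
  obtain ⟨e⟩ := nonempty_kEmb hloc
  obtain ⟨E, hE⟩ := exists_hasDiv hC e hloc
  exact ⟨e, E, hE⟩

/-- isomorphic sheaves `O(E)`, `O(E')` have linearly equivalent divisors -/
theorem exists_eq_sub_div_of_iso {L' : C.Modules} {e : KEmb L} {e' : KEmb L'}
    {E E' : Divisor k C.functionField} (h : HasDiv hC e E) (h' : HasDiv hC e' E')
    (ψ : L ≅ L') : ∃ c : C.functionField, c ≠ 0 ∧ E' = E - FunFld.div k c := by
  obtain ⟨V₀, hη, t₀, ht₀⟩ := exists_isBasisOn_of_hasDiv hC h (genericPoint C)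
  haveI : Nonempty V₀ := ⟨⟨_, hη⟩⟩
  obtain ⟨c, hc, hcc⟩ := KEmb.exists_eq_mul e (e'.comp ψ) ht₀
  exact ⟨c, hc, eq_sub_div_of_eq_mul hC h (hasDiv_comp hC h' ψ) hc hcc⟩

theorem nonempty_iso_OD_iff (E E' : Divisor k C.functionField) :
    Nonempty (OD hC E ≅ OD hC E') ↔ ∃ c : C.functionField, c ≠ 0 ∧ E' = E - FunFld.div k c := by
  constructor
  · rintro ⟨ψ⟩
    exact exists_eq_sub_div_of_iso hC (hasDiv_OD hC E) (hasDiv_OD hC E') ψ
  · rintro ⟨c, hc, rfl⟩
    exact nonempty_iso_OD hC (hasDiv_scale hC (hasDiv_OD hC E) c hc)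

end Groth.Agent.Lib.Helper67.CurveLB
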