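import Groth.Agent.Lib.Helper67.TensZero

/-!
# `χ(F ⊗ E) = n χ(F)` for `F` supported at closed points (helper67)
-/

set_option autoImplicit false
set_option linter.style.haveILetI false
universe u
open AlgebraicGeometry CategoryTheory Limits Opposite TopologicalSpace Abelian

namespace Groth.Agent.Lib.Helper67.TensZero

open Groth.Agent.Lib.Helper67.EulerLES Groth.Agent.Lib.Helper67.CurveCoh
open Groth.Agent.Lib.Helper67.CurveDeg Groth.Agent.Lib.Helper67.CurveTors
open Groth.Agent.Lib.Helper67.ZeroDim Groth.Agent.Lib.Helper67.TensExact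
open Groth.Agent.Lib.Helper49 Groth.Agent.Lib.Helper11.FinFreeBasis
open Groth.Agent.Lib.Helper11.FinFreeAdj

section Basics

variable {X : Scheme.{u}}

theorem isCoh_tensorMod {M E : X.Modules} (hM : Coh.IsCoh M) (hE : Coh.IsCoh E) :
    Coh.IsCoh (CohB1.tensorMod M E) := by
  haveI : M.IsQuasicoherent := hM.1
  haveI : E.IsQuasicoherent := hE.1
  have h := Groth.Agent.Lib.Helper11.TildeTensor.isQuasicoherent_tensorMod M E
  exact ⟨h.1, h.2 hM.2 hE.2⟩

theorem closedSupp_tensorMod {M E : X.Modules} (hM : Coh.IsCoh M) (hE : Coh.IsCoh E)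
    (hsupp : ClosedSupp M) : ClosedSupp (CohB1.tensorMod M E) := by
  haveI : M.IsQuasicoherent := hM.1
  haveI : E.IsQuasicoherent := hE.1
  intro x hx
  apply hsupp x
  intro hsub
  exact hx ((Groth.Agent.Lib.Helper11.SupportTensor.subsingleton_stalk_tensorMod M E hM.2
    hE.2 x).mpr (Or.inl hsub))

end Basics

variable (k : Type u) [Field k] (X : Scheme.{u}) [X.Over (Spec (CommRingCat.of k))]

theorem finrank_HH_eq_of_iso {X : Scheme.{u}} [X.Over (Spec (CommRingCat.of k))]
    {M N : X.Modules} (e : M ≅ N) (i : ℕ) :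
    Module.finrank k (Coh.HH X M i) = Module.finrank k (Coh.HH X N i) := by
  have hlin : Coh.HH X M i ≃ₗ[k] Coh.HH X N i :=
    LinearEquiv.ofLinearMap (Canon.HHlin k e.hom i) (Canon.HHlin k e.inv i)
      (by rw [← Groth.Agent.Lib.Helper17.HHLinLES.HHlin_comp, e.inv_hom_id,
        Groth.Agent.Lib.Helper17.HHLinLES.HHlin_id])
      (by rw [← Groth.Agent.Lib.Helper17.HHLinLES.HHlin_comp, e.hom_inv_id,
        Groth.Agent.Lib.Helper17.HHLinLES.HHlin_id])
  exact hlin.finrank_eq

variable [IsProper (X ↘ Spec (CommRingCat.of k))]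

/-- `h⁰` is additive on short exact sequences of coherent modules supported at closed points -/
theorem finrank_HH_zero_additive {S : ShortComplex X.Modules} (hS : S.ShortExact)
    (h₁ : Coh.IsCoh S.X₁) (h₂ : Coh.IsCoh S.X₂) (h₃ : Coh.IsCoh S.X₃) (hsupp : ClosedSupp S.X₂) :
    Module.finrank k (Coh.HH X S.X₂ 0) =
      Module.finrank k (Coh.HH X S.X₁ 0) + Module.finrank k (Coh.HH X S.X₃ 0) := by
  haveI := hS.mono_f
  haveI := hS.epi_g
  have g1 := isGood0_of_closedSupp k X S.X₁ h₁ (closedSupp_of_mono S.f hsupp)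
  have g2 := isGood0_of_closedSupp k X S.X₂ h₂ hsupp
  have g3 := isGood0_of_closedSupp k X S.X₃ h₃ (closedSupp_of_epi S.g hsupp)
  have hadd := euler_additive k hS (isGood_of_isGood0 k g1) (isGood_of_isGood0 k g2)
    (isGood_of_isGood0 k g3)
  rw [euler_eq_of_isGood0 k g1, euler_eq_of_isGood0 k g2, euler_eq_of_isGood0 k g3] at hadd
  exact_mod_cast hadd

/-- **`h⁰(M ⊗ E) = n · h⁰(M)` for coherent `M` supported at closed points and `E` locally free of
rank `n`, on a proper scheme over a field** -/
theorem finrank_HH_zero_tensor_of_closedSupp (E : X.Modules) {n : ℕ}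
    (hE : FlatMod.IsFinLocFreeOfRank n E) (M : X.Modules) (hM : Coh.IsCoh M)
    (hsupp : ClosedSupp M) :
    Module.finrank k (Coh.HH X (CohB1.tensorMod M E) 0) =
      n * Module.finrank k (Coh.HH X M 0) := by
  haveI : IsNoetherian X := CurveP1.isNoetherian_of_proper k (X ↘ Spec (CommRingCat.of k))
  have hEfl := isFinLocFree_of_rank hE
  have hEcoh := isCoh_of_rank hE
  haveI := preservesZeroMorphisms_tensR hEfl
  by_cases hne : Nonempty X
  swap
  · rw [not_nonempty_iff] at hne
    haveI := Groth.Agent.Lib.Helper1.subsingleton_HH_of_isZero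
      (isZero_of_isEmpty (CohB1.tensorMod M E)) 0
    haveI := Groth.Agent.Lib.Helper1.subsingleton_HH_of_isZero (isZero_of_isEmpty M) 0
    rw [Module.finrank_zero_of_subsingleton, Module.finrank_zero_of_subsingleton, mul_zero]
  revert hsupp
  refine Groth.Agent.S0027.result X (fun M => ClosedSupp M →
    Module.finrank k (Coh.HH X (CohB1.tensorMod M E) 0) =
      n * Module.finrank k (Coh.HH X M 0)) ?_ ?_ ?_ M hM
  · rintro M N ⟨e⟩ hM hN
    have h1 := finrank_HH_eq_of_iso k e 0
    have h2 : Module.finrank k (Coh.HH X (CohB1.tensorMod M E) 0) =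
        Module.finrank k (Coh.HH X (CohB1.tensorMod N E) 0) :=
      finrank_HH_eq_of_iso k ((tensR E).mapIso e) 0
    rw [← h1, ← h2]
    exact hM (closedSupp_of_iso e.symm hN)
  · intro S hS c1 c2 c3 h1 h3 h2
    haveI := hS.mono_f
    haveI := hS.epi_g
    have hST := shortExact_tensR hEfl hS
    have e1 := finrank_HH_zero_additive k X hS c1 c2 c3 h2
    have e2 := finrank_HH_zero_additive k X hST (isCoh_tensorMod c1 hEcoh)
      (isCoh_tensorMod c2 hEcoh) (isCoh_tensorMod c3 hEcoh) (closedSupp_tensorMod c2 hEcoh h2)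
    have e3 := h1 (closedSupp_of_mono S.f h2)
    have e4 := h3 (closedSupp_of_epi S.g h2)
    change Module.finrank k (Coh.HH X (CohB1.tensorMod S.X₂ E) 0) =
      Module.finrank k (Coh.HH X (CohB1.tensorMod S.X₁ E) 0) +
        Module.finrank k (Coh.HH X (CohB1.tensorMod S.X₃ E) 0) at e2
    rw [e2, e3, e4, e1]
    ring
  · intro Z i hi hZ I ι hι hI hsupp
    haveI := hi
    haveI := hZ
    haveI := hι
    haveI : I.IsQuasicoherent := hI
    by_cases hIz : IsZero I
    · have hz : IsZero ((Scheme.Modules.pushforward i).obj I) :=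
        (Scheme.Modules.pushforward i).map_isZero hIz
      have hz' : IsZero (CohB1.tensorMod ((Scheme.Modules.pushforward i).obj I) E) :=
        (tensR E).map_isZero hz
      haveI := Groth.Agent.Lib.Helper1.subsingleton_HH_of_isZero hz 0
      haveI := Groth.Agent.Lib.Helper1.subsingleton_HH_of_isZero hz' 0
      rw [Module.finrank_zero_of_subsingleton, Module.finrank_zero_of_subsingleton, mul_zero]
    letI : Z.Over (Spec (CommRingCat.of k)) := ⟨i ≫ (X ↘ Spec (CommRingCat.of k))⟩
    haveI : IsProper (Z ↘ Spec (CommRingCat.of k)) :=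
      inferInstanceAs (IsProper (i ≫ (X ↘ Spec (CommRingCat.of k))))
    haveI : IsNoetherian Z := CurveP1.isNoetherian_of_proper k (Z ↘ Spec (CommRingCat.of k))
    have hη : IsClosed ({i (genericPoint Z)} : Set X) := by
      apply hsupp
      intro hsub
      exact hIz (isZero_of_subsingleton_stalk_push i I ι hsub)
    have hrange : closure (Set.range i) ⊆ {i (genericPoint Z)} := by
      rw [i.isClosedEmbedding.isClosed_range.closure_eq]
      rintro _ ⟨z, rfl⟩
      have h1 : genericPoint Z ⤳ z := genericPoint_specializes z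
      have h2 : i (genericPoint Z) ⤳ i z := h1.map i.continuous
      have h3 : i z ∈ closure ({i (genericPoint Z)} : Set X) := h2.mem_closure
      rw [hη.closure_eq] at h3
      exact h3
    have hIcoh : Coh.IsCoh I := by
      haveI := isQuasicoherent_structureModule Z
      exact ⟨hI, Groth.Agent.Lib.Helper49.isFiniteType_of_mono ι
        (Groth.Agent.Lib.Helper49.isFiniteType_unit Z)⟩
    have hGcoh : Coh.IsCoh ((Scheme.Modules.pushforward i).obj I) :=
      Groth.Agent.S0019.result i I hIcoh
    have hG0 := isGood0_of_closedSupp k X _ hGcoh hsupp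
    exact finrank_HH_zero_tensor k _ hGcoh E hE (i (genericPoint Z)) hη
      (fun x hx => subsingleton_stalk_push_of_not_mem i I x (fun h => hx (hrange h))) hG0.1

/-- **`χ(M ⊗ E) = n · χ(M)`** for coherent `M` supported at closed points -/
theorem euler_tensor_of_closedSupp (E : X.Modules) {n : ℕ}
    (hE : FlatMod.IsFinLocFreeOfRank n E) (M : X.Modules) (hM : Coh.IsCoh M)
    (hsupp : ClosedSupp M) :
    Curv2.euler k X (CohB1.tensorMod M E) = n * Curv2.euler k X M := by
  have hEcoh := isCoh_of_rank hE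
  have g1 := isGood0_of_closedSupp k X M hM hsupp
  have g2 := isGood0_of_closedSupp k X _ (isCoh_tensorMod hM hEcoh)
    (closedSupp_tensorMod hM hEcoh hsupp)
  rw [euler_eq_of_isGood0 k g1, euler_eq_of_isGood0 k g2,
    finrank_HH_zero_tensor_of_closedSupp k X E hE M hM hsupp]
  push_cast
  ring

end Groth.Agent.Lib.Helper67.TensZero
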