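import Groth.Agent.Lib.Helper67.KEmbed
import Groth.Prelude.Def_MeroSh

/-!
# Subsheaves of the constant sheaf of rational functions on an integral scheme
-/

set_option autoImplicit false
universe u
open CategoryTheory AlgebraicGeometry TopologicalSpace Opposite

noncomputable section

namespace Groth.Agent.Lib.Helper67.KSubsheaf

open Groth.Agent.Lib.Helper45 Groth.Agent.Lib.Helper49 Groth.Agent.Lib.Helper67.CurveSections
  Groth.Agent.Lib.Helper67.KEmbed

/-- a family of groups of rational functions forming a sheaf of modules -/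
structure KSub (C : Scheme.{u}) [IsIntegral C] where
  /-- the sections over an open -/
  A : C.Opens → AddSubgroup C.functionField
  anti : ∀ {V W : C.Opens}, V ≤ W → A W ≤ A V
  smul : ∀ (W : C.Opens) [Nonempty W] (r : Γ(C, W)) {c : C.functionField}, c ∈ A W →
    C.germToFunctionField W r * c ∈ A W
  loc : ∀ (W : C.Opens) (c : C.functionField),
    (∀ x ∈ W, ∃ V : C.Opens, x ∈ V ∧ V ≤ W ∧ c ∈ A V) → c ∈ A W

variable {C : Scheme.{u}} [IsIntegral C]

theorem germ_smul_eq (W : C.Opens) [Nonempty W] (x : C) (hx : x ∈ W) (r : Γ(C, W))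
    (c : C.functionField) :
    (C.presheaf.germ W x hx r) • c = C.germToFunctionField W r * c := by
  rw [Algebra.smul_def, Scheme.algebraMap_germ_eq_germToFunctionField (X := C)]

/-- the local predicate of being a constant function with value in `A U` -/
def KSub.pred (𝒜 : KSub C) : TopCat.LocalPredicate (fun _ : C => (C.functionField : Type u)) where
  pred {U} f := ∃ c : C.functionField, c ∈ 𝒜.A U ∧ ∀ x : U, f x = c
  res {V U} i f := by
    rintro ⟨c, hc, h⟩
    exact ⟨c, 𝒜.anti i.le hc, fun x => h ⟨x.1, i.le x.2⟩⟩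
  locality {U} f h := by
    by_cases hU : Nonempty U
    · have hη : genericPoint C ∈ U := genericPoint_mem U
      have key : ∀ x : U, ∃ V : C.Opens, x.1 ∈ V ∧ V ≤ U ∧ f ⟨genericPoint C, hη⟩ ∈ 𝒜.A V ∧
          f x = f ⟨genericPoint C, hη⟩ := by
        intro x
        obtain ⟨V, hxV, i, c, hc, hf⟩ := h x
        haveI : Nonempty V := ⟨⟨x.1, hxV⟩⟩
        have hηV : genericPoint C ∈ V := genericPoint_mem V
        have h1 : f ⟨genericPoint C, hη⟩ = c := hf ⟨genericPoint C, hηV⟩
        have h2 : f x = c := hf ⟨x.1, hxV⟩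
        exact ⟨V, hxV, i.le, h1 ▸ hc, h2.trans h1.symm⟩
      refine ⟨f ⟨genericPoint C, hη⟩, ?_, fun x => (key x).choose_spec.2.2.2⟩
      apply 𝒜.loc
      intro x hx
      obtain ⟨V, hxV, hVU, hc, -⟩ := key ⟨x, hx⟩
      exact ⟨V, hxV, hVU, hc⟩
    · exact ⟨0, zero_mem _, fun x => (hU ⟨x⟩).elim⟩

instance (𝒜 : KSub C) : Mero.IsModPred 𝒜.pred where
  zero U := ⟨0, zero_mem _, fun _ => rfl⟩
  add U f g := by
    rintro ⟨c, hc, hf⟩ ⟨d, hd, hg⟩
    exact ⟨c + d, add_mem hc hd, fun x => by rw [Pi.add_apply, hf x, hg x]⟩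
  smul U r f := by
    rintro ⟨c, hc, hf⟩
    by_cases hU : Nonempty U
    · refine ⟨C.germToFunctionField U r * c, 𝒜.smul U r hc, fun x => ?_⟩
      change C.presheaf.germ U x.1 x.2 r • f x = _
      rw [hf x, Algebra.smul_def, Scheme.algebraMap_germ_eq_germToFunctionField (X := C)]
    · exact ⟨0, zero_mem _, fun x => (hU ⟨x⟩).elim⟩

/-- the sheaf of modules of a family of groups of rational functions -/
def KSub.sheaf (𝒜 : KSub C) : C.Modules := Mero.modOf 𝒜.pred

/-- the value of a section -/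
def KSub.val (𝒜 : KSub C) (W : C.Opens) [Nonempty W] : Γ(𝒜.sheaf, W) →+ C.functionField where
  toFun s := s.1 ⟨genericPoint C, genericPoint_mem W⟩
  map_zero' := rfl
  map_add' _ _ := rfl

theorem KSub.val_apply (𝒜 : KSub C) (W : C.Opens) [Nonempty W] (s : Γ(𝒜.sheaf, W)) (x : W) :
    s.1 x = 𝒜.val W s := by
  obtain ⟨c, -, hc⟩ := s.2
  exact (hc x).trans (hc ⟨genericPoint C, genericPoint_mem W⟩).symm

theorem KSub.val_mem (𝒜 : KSub C) (W : C.Opens) [Nonempty W] (s : Γ(𝒜.sheaf, W)) :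
    𝒜.val W s ∈ 𝒜.A W := by
  obtain ⟨c, hc, hs⟩ := s.2
  have : 𝒜.val W s = c := hs ⟨genericPoint C, genericPoint_mem W⟩
  rw [this]
  exact hc

/-- the section with a given value -/
def KSub.const (𝒜 : KSub C) (W : C.Opens) (c : C.functionField) (hc : c ∈ 𝒜.A W) : Γ(𝒜.sheaf, W) :=
  ⟨fun _ => c, ⟨c, hc, fun _ => rfl⟩⟩

theorem KSub.val_const (𝒜 : KSub C) (W : C.Opens) [Nonempty W] (c : C.functionField)
    (hc : c ∈ 𝒜.A W) : 𝒜.val W (𝒜.const W c hc) = c := rfl

/-- the tautological embedding of the sheaf into the rational functions -/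
def KSub.kEmb (𝒜 : KSub C) : KEmb 𝒜.sheaf where
  ρ := fun W _ => 𝒜.val W
  res := fun _ _ => rfl
  smul := fun W _ r s => by
    refine (Mero.modOf_smul_apply 𝒜.pred r s ⟨genericPoint C, genericPoint_mem W⟩).trans ?_
    exact germ_smul_eq W (genericPoint C) (genericPoint_mem W) r _
  inj := fun W _ s s' h => by
    apply Subtype.ext
    funext x
    rw [𝒜.val_apply W s x, 𝒜.val_apply W s' x]
    exact h

theorem KSub.range_kEmb (𝒜 : KSub C) (W : C.Opens) [Nonempty W] :
    Set.range (𝒜.kEmb.ρ W) = (𝒜.A W : Set C.functionField) := by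
  ext c
  constructor
  · rintro ⟨s, rfl⟩
    exact 𝒜.val_mem W s
  · intro hc
    exact ⟨𝒜.const W c hc, rfl⟩

variable {L : C.Modules}

section Recognition

variable (e : KEmb L) (𝒜 : KSub C)
  (h : ∀ (W : C.Opens) [Nonempty W] (s : Γ(L, W)), e.ρ W s ∈ 𝒜.A W)

/-- the map on sections induced by an embedding with values in the family -/
def toSubFun (U : C.Opens) : Γ(L, U) →+ Γ(𝒜.sheaf, U) where
  toFun s := ⟨fun x => @KEmb.ρ _ _ _ e U ⟨x⟩ s, by
    by_cases hU : Nonempty U
    · exact ⟨e.ρ U s, h U s, fun _ => rfl⟩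
    · exact ⟨0, zero_mem _, fun x => (hU ⟨x⟩).elim⟩⟩
  map_zero' := Subtype.ext (funext fun x => map_zero (@KEmb.ρ _ _ _ e U ⟨x⟩))
  map_add' s s' := Subtype.ext (funext fun x => map_add (@KEmb.ρ _ _ _ e U ⟨x⟩) s s')

theorem val_toSubFun (U : C.Opens) [Nonempty U] (s : Γ(L, U)) :
    𝒜.val U (toSubFun e 𝒜 h U s) = e.ρ U s := rfl

/-- the morphism of sheaves of modules induced by an embedding with values in the family -/
def toSub : L ⟶ 𝒜.sheaf :=
  ⟨PresheafOfModules.homMk
    { app := fun U => AddCommGrpCat.ofHom (toSubFun e 𝒜 h U.unop)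
      naturality := fun {U V} i => by
        ext m
        refine Subtype.ext (funext fun x => ?_)
        haveI : Nonempty V.unop := ⟨x⟩
        haveI : Nonempty U.unop := ⟨⟨x.1, i.unop.le x.2⟩⟩
        exact e.res i.unop.le m }
    (fun U r m => Subtype.ext <| funext fun x => by
      haveI : Nonempty U.unop := ⟨x⟩
      have h1 := e.smul U.unop (show Γ(C, U.unop) from r) (show Γ(L, U.unop) from m)
      refine h1.trans ?_
      rw [← Scheme.algebraMap_germ_eq_germToFunctionField (X := C) x.2, ← Algebra.smul_def]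
      rfl)⟩

theorem toSub_app (U : C.Opens) (s : Γ(L, U)) :
    (toSub e 𝒜 h).app U s = toSubFun e 𝒜 h U s := rfl

omit [IsIntegral C] in
theorem subsingleton_bot (M : C.Modules) : Subsingleton Γ(M, ⊥) := by
  refine ⟨fun s s' => ?_⟩
  apply TopCat.Sheaf.eq_of_locally_eq' ⟨M.presheaf, M.isSheaf⟩ (fun i : PEmpty.{1} => i.elim) ⊥
    (fun i => i.elim) (fun x hx => hx.elim)
  intro i
  exact i.elim

theorem isIso_toSub (hr : ∀ (W : C.Opens) [Nonempty W], Set.range (e.ρ W) = 𝒜.A W) :
    IsIso (toSub e 𝒜 h) := by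
  rw [Scheme.Modules.Hom.isIso_iff_isIso_app]
  intro U
  rw [ConcreteCategory.isIso_iff_bijective]
  change Function.Bijective (toSubFun e 𝒜 h U)
  by_cases hU : Nonempty U
  · constructor
    · intro s s' hss'
      apply e.inj U
      rw [← val_toSubFun e 𝒜 h U s, ← val_toSubFun e 𝒜 h U s', hss']
    · intro g
      have hg : 𝒜.val U g ∈ Set.range (e.ρ U) := by
        rw [hr U]; exact 𝒜.val_mem U g
      obtain ⟨s, hs⟩ := hg
      refine ⟨s, ?_⟩
      apply (𝒜.kEmb.inj U)
      exact hs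
  · have hbot : U = ⊥ := by
      ext x
      simp only [Opens.coe_bot, Set.mem_empty_iff_false, iff_false]
      exact fun hx => hU ⟨⟨x, hx⟩⟩
    subst hbot
    haveI := subsingleton_bot L
    haveI := subsingleton_bot 𝒜.sheaf
    exact ⟨fun _ _ _ => Subsingleton.elim _ _, fun g => ⟨0, Subsingleton.elim _ _⟩⟩

end Recognition

/-- a sheaf of modules embedded in the rational functions with sections the given family is
isomorphic to the sheaf of the family -/
theorem nonempty_iso_of_range_eq (e : KEmb L) (𝒜 : KSub C)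
    (hr : ∀ (W : C.Opens) [Nonempty W], Set.range (e.ρ W) = 𝒜.A W) : Nonempty (L ≅ 𝒜.sheaf) := by
  have h : ∀ (W : C.Opens) [Nonempty W] (s : Γ(L, W)), e.ρ W s ∈ 𝒜.A W := fun W _ s => by
    have : e.ρ W s ∈ Set.range (e.ρ W) := ⟨s, rfl⟩
    rw [hr W] at this
    exact this
  haveI := isIso_toSub e 𝒜 h hr
  exact ⟨asIso (toSub e 𝒜 h)⟩

end Groth.Agent.Lib.Helper67.KSubsheaf
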