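import Groth.Agent.Lib.Helper67.CurveDiv
import Groth.Agent.Lib.Helper67.KSubsheaf
import Groth.Agent.Lib.Helper67.CurveFinite
import Groth.Agent.Lib.Helper11.TensorBasis

/-!
# The sheaf `O(E)` of a divisor on a curve, and divisors of embedded invertible sheaves
-/

set_option autoImplicit false
set_option linter.style.haveILetI false
universe u
open CategoryTheory AlgebraicGeometry IsLocalRing FunFld TopologicalSpace Opposite WithZero

noncomputable section

namespace Groth.Agent.Lib.Helper67.CurveOD

open Groth.Agent.Lib.Helper67 Groth.Agent.Lib.Helper67.CurveFF Groth.Agent.Lib.Helper67.CurveVal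
  Groth.Agent.Lib.Helper67.CurveBasic Groth.Agent.Lib.Helper67.CurveTop Groth.Agent.FF
  Groth.Agent.Lib.Helper67.CurvePoints Groth.Agent.Lib.Helper67.CurvePlaces
  Groth.Agent.Lib.Helper67.CurveGeomIrr Groth.Agent.Lib.Helper67.CurveCount
  Groth.Agent.Lib.Helper67.CurveSections Groth.Agent.Lib.Helper67.FFTwoPoint
  Groth.Agent.Lib.Helper67.FFTwoPointD Groth.Agent.Lib.Helper67.CurveGenus
  Groth.Agent.Lib.Helper67.CurveDiv Groth.Agent.Lib.Helper67.KEmbed
  Groth.Agent.Lib.Helper67.KSubsheaf Groth.Agent.Lib.Helper45 Groth.Agent.Lib.Helper49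

variable {k : Type u} [Field k] {C : Scheme.{u}} [C.Over (Spec (CommRingCat.of k))] [IsIntegral C]

attribute [local instance] algKO

variable (hC : Curve.IsSmoothProperCurve k C (C ↘ Spec (CommRingCat.of k)))
  [GeometricallyIrreducible (C ↘ Spec (CommRingCat.of k))] [PerfectField k]

/-- the family of groups of sections of `O(E)` -/
def odSub (E : Divisor k C.functionField) : KSub C where
  A W := (AW hC W E).toAddSubgroup
  anti h := AW_mono hC h E
  smul W _ r c hc := mul_mem_AW_zero_left hC W (germ_mem_AW_zero hC W r) hc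
  loc W c h := by
    change c ∈ AW hC W E
    rw [mem_AW_iff]
    intro y hy hyW
    obtain ⟨V, hyV, -, hcV⟩ := h y hyW
    exact (mem_AW_iff hC V E c).mp hcV y hy hyV

/-- the sheaf `O(E)` of a divisor -/
def OD (E : Divisor k C.functionField) : C.Modules := (odSub hC E).sheaf

variable {L : C.Modules}

/-- the embedding `e` identifies the sections of `L` with those of `O(E)` -/
def HasDiv (e : KEmb L) (E : Divisor k C.functionField) : Prop :=
  ∀ (W : C.Opens) [Nonempty W], Set.range (e.ρ W) = (AW hC W E : Set C.functionField)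

theorem HasDiv.mem {e : KEmb L} {E : Divisor k C.functionField} (h : HasDiv hC e E)
    (W : C.Opens) [Nonempty W] (s : Γ(L, W)) : e.ρ W s ∈ AW hC W E := by
  have : e.ρ W s ∈ Set.range (e.ρ W) := ⟨s, rfl⟩
  rw [h W] at this
  exact this

theorem HasDiv.exists_eq {e : KEmb L} {E : Divisor k C.functionField} (h : HasDiv hC e E)
    (W : C.Opens) [Nonempty W] {c : C.functionField} (hc : c ∈ AW hC W E) :
    ∃ s : Γ(L, W), e.ρ W s = c := by
  have : c ∈ Set.range (e.ρ W) := by rw [h W]; exact hc
  exact this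

theorem hasDiv_OD (E : Divisor k C.functionField) : HasDiv hC (odSub hC E).kEmb E :=
  fun W _ => (odSub hC E).range_kEmb W

theorem nonempty_iso_OD {e : KEmb L} {E : Divisor k C.functionField} (h : HasDiv hC e E) :
    Nonempty (L ≅ OD hC E) :=
  nonempty_iso_of_range_eq e (odSub hC E) (fun W _ => h W)

/-! ### local bases -/

theorem exists_isBasisOn_of_hasDiv {e : KEmb L} {E : Divisor k C.functionField}
    (h : HasDiv hC e E) (x : C) : ∃ V : C.Opens, x ∈ V ∧ ∃ τ : Γ(L, V), IsBasisOn L V τ := by
  obtain ⟨V, hxV, t, ht0, htE, htE'⟩ := exists_local_gen hC E x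
  haveI : Nonempty V := ⟨⟨x, hxV⟩⟩
  obtain ⟨τ, hτ⟩ := h.exists_eq hC V htE
  refine ⟨V, hxV, τ, fun W hW => ?_⟩
  by_cases hne : Nonempty W
  · have hρ : ∀ r : Γ(C, W), e.ρ W (r • mres L hW τ) = C.germToFunctionField W r * t := by
      intro r
      rw [e.smul, e.res, hτ]
    constructor
    · intro r r' hrr'
      have h1 := congrArg (e.ρ W) hrr'
      simp only [hρ] at h1
      exact C.germToFunctionField_injective W (mul_right_cancel₀ ht0 h1)
    · intro s
      have h1 : e.ρ W s * t⁻¹ ∈ AW hC W 0 := by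
        have := mul_mem_AW hC W (h.mem hC W s) (AW_mono hC hW _ htE')
        rwa [add_neg_cancel] at this
      obtain ⟨r, hr⟩ := exists_germ_eq_of_mem_AW_zero hC W h1
      refine ⟨r, e.inj W ?_⟩
      change e.ρ W (r • mres L hW τ) = e.ρ W s
      rw [hρ, hr, inv_mul_cancel_right₀ ht0]
  · have hbot : W = ⊥ := by
      ext y
      simp only [Opens.coe_bot, Set.mem_empty_iff_false, iff_false]
      exact fun hy => hne ⟨⟨y, hy⟩⟩
    subst hbot
    haveI := subsingleton_bot L
    exact ⟨fun _ _ _ => Subsingleton.elim _ _, fun s => ⟨0, Subsingleton.elim _ _⟩⟩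

theorem isInvertible_of_hasDiv {e : KEmb L} {E : Divisor k C.functionField}
    (h : HasDiv hC e E) : PicF.IsInvertible L :=
  Groth.Agent.Lib.Helper11.GenLocus.isInvertible_of_forall_exists_isBasisOn
    (exists_isBasisOn_of_hasDiv hC h)

theorem isInvertible_OD (E : Divisor k C.functionField) : PicF.IsInvertible (OD hC E) :=
  isInvertible_of_hasDiv hC (hasDiv_OD hC E)

end Groth.Agent.Lib.Helper67.CurveOD
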