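import Mathlib
import Groth.Agent.S0219
import Groth.Agent.S1640
import Groth.Agent.Lib.Helper24.CurveTop
import Groth.Agent.Lib.Helper38.NormSch

/-!
# Integral curves: a rational function with poles exactly outside a given affine open
-/

set_option autoImplicit false
universe u
open CategoryTheory CategoryTheory.Limits AlgebraicGeometry TopologicalSpace

namespace Groth.Agent.Lib.Helper67.CurveP1

section Alg

theorem isFractionRing_range {R K : Type*} [CommRing R] [Field K] [Algebra R K]
    [IsFractionRing R K] : IsFractionRing (algebraMap R K).range K := by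
  apply IsFractionRing.of_field
  intro z
  obtain ⟨x, y, -, rfl⟩ := IsFractionRing.div_surjective (A := R) z
  exact ⟨⟨algebraMap R K x, x, rfl⟩, ⟨algebraMap R K y, y, rfl⟩, rfl⟩

/-- the range of an injective ring map is isomorphic to the source -/
noncomputable def rangeEquiv {R K : Type*} [CommRing R] [Field K] [Algebra R K]
    [IsFractionRing R K] : R ≃+* (algebraMap R K).range :=
  RingEquiv.ofBijective (algebraMap R K).rangeRestrict
    ⟨fun a b h => IsFractionRing.injective R K (congrArg Subtype.val h),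
      (algebraMap R K).rangeRestrict_surjective⟩

theorem rangeEquiv_apply {R K : Type*} [CommRing R] [Field K] [Algebra R K]
    [IsFractionRing R K] (a : R) : ((rangeEquiv (R := R) (K := K) a : (algebraMap R K).range) : K) =
      algebraMap R K a := rfl

end Alg

variable {Z : Scheme.{u}} [IsIntegral Z]

theorem eq_or_eq_genericPoint_of_specializes (hdim : topologicalKrullDim Z ≤ 1) {y z : Z}
    (h : y ⤳ z) : y = z ∨ y = genericPoint Z := by
  by_contra hne
  push Not at hne
  exact Groth.Agent.S0219.no_chain_of_dim_le_one Z hdim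
    (Groth.Agent.S0219.lt_of_specializes_of_ne h hne.1)
    (Groth.Agent.S0219.lt_of_specializes_of_ne (genericPoint_specializes y) (Ne.symm hne.2))

theorem isSeparated_of_over (k : Type u) [Field k] (q : Z ⟶ Spec (CommRingCat.of k))
    [IsSeparated q] : Z.IsSeparated := by
  constructor
  rw [← terminal.comp_from q]
  infer_instance

/-- **separatedness**: on a separated integral scheme of dimension `≤ 1`, the functions on an affine
open `U` together with the local ring of a point outside `U` generate the function field -/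
theorem sup_range_eq_top [Z.IsSeparated] (hdim : topologicalKrullDim Z ≤ 1) (U : Z.Opens)
    (hU : IsAffineOpen U) [Nonempty U] (z : Z) (hz : z ∉ U) :
    (algebraMap Γ(Z, U) Z.functionField).range ⊔
      (algebraMap (Z.presheaf.stalk z) Z.functionField).range = ⊤ := by
  set R : Subring Z.functionField := (algebraMap Γ(Z, U) Z.functionField).range ⊔
      (algebraMap (Z.presheaf.stalk z) Z.functionField).range with hR
  have hξU : genericPoint Z ∈ U :=
    ((genericPoint_spec Z).mem_open_set_iff U.isOpen).mpr (by simpa using ‹Nonempty U›)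
  let iA : Γ(Z, U) →+* R := (algebraMap Γ(Z, U) Z.functionField).codRestrict R
    (fun a => (le_sup_left : _ ≤ R) ⟨a, rfl⟩)
  let iB : Z.presheaf.stalk z →+* R := (algebraMap (Z.presheaf.stalk z) Z.functionField).codRestrict R
    (fun a => (le_sup_right : _ ≤ R) ⟨a, rfl⟩)
  let j : R →+* Z.functionField := R.subtype
  let g₁ : Spec (CommRingCat.of R) ⟶ Z := Spec.map (CommRingCat.ofHom iA) ≫ hU.fromSpec
  let g₂ : Spec (CommRingCat.of R) ⟶ Z := Spec.map (CommRingCat.ofHom iB) ≫ Z.fromSpecStalk z
  let ι : Spec Z.functionField ⟶ Spec (CommRingCat.of R) := Spec.map (CommRingCat.ofHom j)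
  have h1 : ι ≫ g₁ = Z.fromSpecStalk (genericPoint Z) := by
    rw [← hU.fromSpecStalk_eq_fromSpecStalk hξU]
    change Spec.map _ ≫ Spec.map _ ≫ _ = _
    rw [← Spec.map_comp_assoc]
    rfl
  have h2 : ι ≫ g₂ = Z.fromSpecStalk (genericPoint Z) := by
    rw [← Scheme.SpecMap_stalkSpecializes_fromSpecStalk (genericPoint_specializes z)]
    change Spec.map _ ≫ Spec.map _ ≫ _ = _
    rw [← Spec.map_comp_assoc]
    rfl
  haveI : IsDominant ι := by
    constructor
    change DenseRange (PrimeSpectrum.comap j)
    rw [PrimeSpectrum.denseRange_comap_iff_ker_le_nilRadical]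
    intro a ha
    have : a = 0 := Subtype.ext ha
    rw [this]
    exact Submodule.zero_mem _
  have hg : g₁ = g₂ := ext_of_isDominant ι (h1.trans h2.symm)
  -- every point of `Spec R` maps to the generic point
  have hpt : ∀ t : Spec (CommRingCat.of R), g₁ t = genericPoint Z := by
    intro t
    have hU1 : g₁ t ∈ U := by
      have : g₁ t ∈ Set.range hU.fromSpec := ⟨_, rfl⟩
      rwa [hU.range_fromSpec] at this
    have h3 : g₁ t ⤳ z := by
      have : g₂ t ∈ Set.range (Z.fromSpecStalk z) := ⟨_, rfl⟩
      rw [Scheme.range_fromSpecStalk] at this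
      rw [hg]
      exact this
    rcases eq_or_eq_genericPoint_of_specializes hdim h3 with h | h
    · exact absurd (h ▸ hU1) hz
    · exact h
  -- nonzero functions on `U` are units of `R`
  have hunit : ∀ a : Γ(Z, U), a ≠ 0 → IsUnit (iA a) := by
    intro a ha
    by_contra hnu
    obtain ⟨p, hp, hap⟩ := exists_max_ideal_of_mem_nonunits (show iA a ∈ nonunits R from hnu)
    let t : Spec (CommRingCat.of R) := ⟨p, hp.isPrime⟩
    have ht := hpt t
    have h4 : hU.fromSpec (Spec.map (CommRingCat.ofHom iA) t) = genericPoint Z := ht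
    have h5 : hU.fromSpec (hU.primeIdealOf ⟨genericPoint Z, hξU⟩) = genericPoint Z :=
      hU.fromSpec_primeIdealOf ⟨genericPoint Z, hξU⟩
    have h6 : Spec.map (CommRingCat.ofHom iA) t = hU.primeIdealOf ⟨genericPoint Z, hξU⟩ :=
      hU.fromSpec.isOpenEmbedding.injective (h4.trans h5.symm)
    rw [hU.primeIdealOf_genericPoint, genericPoint_eq_bot_of_affine] at h6
    have h7 : a ∈ (Spec.map (CommRingCat.ofHom iA) t).asIdeal := hap
    rw [h6] at h7
    exact ha h7
  rw [eq_top_iff]
  intro y _
  haveI := functionField_isFractionRing_of_isAffineOpen Z U hU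
  obtain ⟨x, s, hs, rfl⟩ := IsFractionRing.div_surjective (A := Γ(Z, U)) y
  have hs0 : s ≠ 0 := nonZeroDivisors.ne_zero hs
  obtain ⟨u, hu⟩ := (hunit s hs0).exists_right_inv
  have hu' : algebraMap Γ(Z, U) Z.functionField s * (u : Z.functionField) = 1 :=
    congrArg Subtype.val hu
  have hinv : (algebraMap Γ(Z, U) Z.functionField s)⁻¹ = (u : Z.functionField) :=
    inv_eq_of_mul_eq_one_right hu'
  rw [div_eq_mul_inv, hinv]
  exact R.mul_mem (iA x).2 u.2

theorem ringKrullDim_stalk_eq_one (hdim : topologicalKrullDim Z ≤ 1) (z : Z)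
    (hz : z ≠ genericPoint Z) : ringKrullDim (Z.presheaf.stalk z) = 1 := by
  apply le_antisymm
  · exact (Groth.Agent.S0220.ringKrullDim_stalk_le_topologicalKrullDim Z z).trans hdim
  · rw [ringKrullDim_stalk_eq_coheight]
    have hlt : z < genericPoint Z :=
      Groth.Agent.S0219.lt_of_specializes_of_ne (genericPoint_specializes z) (Ne.symm hz)
    have h1 : Order.coheight (genericPoint Z) + 1 ≤ Order.coheight z :=
      Order.coheight_add_one_le hlt
    have h2 : (1 : ℕ∞) ≤ Order.coheight z := le_trans (by simp) h1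
    exact_mod_cast h2

theorem exists_mem_maximalIdeal_of_jacobson (w : Z) (y : Z.functionField)
    (hy : y ∈ (algebraMap (Z.presheaf.stalk w) Z.functionField).range)
    (hjac : (⟨y, hy⟩ : (algebraMap (Z.presheaf.stalk w) Z.functionField).range) ∈
      (⊥ : Ideal (algebraMap (Z.presheaf.stalk w) Z.functionField).range).jacobson) :
    ∃ s ∈ IsLocalRing.maximalIdeal (Z.presheaf.stalk w),
      algebraMap (Z.presheaf.stalk w) Z.functionField s = y := by
  obtain ⟨s, hs⟩ := hy
  refine ⟨s, ?_, hs⟩
  let ε := rangeEquiv (R := Z.presheaf.stalk w) (K := Z.functionField)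
  haveI : IsLocalRing (algebraMap (Z.presheaf.stalk w) Z.functionField).range :=
    RingEquiv.isLocalRing ε
  rw [IsLocalRing.jacobson_eq_maximalIdeal _ bot_ne_top, IsLocalRing.mem_maximalIdeal,
    mem_nonunits_iff] at hjac
  rw [IsLocalRing.mem_maximalIdeal, mem_nonunits_iff]
  intro hu
  apply hjac
  have h1 : ε s = ⟨y, ⟨s, hs⟩⟩ := Subtype.ext hs
  rw [← h1]
  exact hu.map ε

/-- **existence of a function with poles exactly outside `U`** -/
theorem exists_pole_function [Z.IsSeparated] [IsLocallyNoetherian Z]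
    (hdim : topologicalKrullDim Z ≤ 1) (U : Z.Opens) (hU : IsAffineOpen U) [Nonempty U]
    (hfin : ((U : Set Z)ᶜ).Finite) :
    ∃ x : Z.functionField, x ≠ 0 ∧ x ∈ (algebraMap Γ(Z, U) Z.functionField).range ∧
      ∀ z : Z, z ∉ U → ∃ s ∈ IsLocalRing.maximalIdeal (Z.presheaf.stalk z),
        algebraMap (Z.presheaf.stalk z) Z.functionField s = x⁻¹ := by
  classical
  have hξU : genericPoint Z ∈ U :=
    ((genericPoint_spec Z).mem_open_set_iff U.isOpen).mpr (by simpa using ‹Nonempty U›)
  haveI : Finite {z : Z // z ∉ U} := hfin.to_subtype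
  let e := Finite.equivFin {z : Z // z ∉ U}
  let zs : Fin (Nat.card {z : Z // z ∉ U}) → Z := fun i => (e.symm i).1
  have hzs : ∀ i, zs i ∉ U := fun i => (e.symm i).2
  have hzs' : ∀ i, zs i ≠ genericPoint Z := fun i h => hzs i (h ▸ hξU)
  haveI := functionField_isFractionRing_of_isAffineOpen Z U hU
  let A : Subring Z.functionField := (algebraMap Γ(Z, U) Z.functionField).range
  let B : Fin (Nat.card {z : Z // z ∉ U}) → Subring Z.functionField := fun i =>
    (algebraMap (Z.presheaf.stalk (zs i)) Z.functionField).range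
  haveI : IsFractionRing A Z.functionField := isFractionRing_range
  haveI : ∀ i, IsFractionRing (B i) Z.functionField := fun i => isFractionRing_range
  haveI : ∀ i, IsNoetherianRing (B i) := fun i =>
    isNoetherianRing_of_ringEquiv (Z.presheaf.stalk (zs i)) rangeEquiv
  haveI hloc : ∀ i, IsLocalRing (B i) := fun i =>
    RingEquiv.isLocalRing (rangeEquiv (R := Z.presheaf.stalk (zs i)) (K := Z.functionField))
  have hd : ∀ i, ringKrullDim (B i) = 1 := fun i => by
    rw [← ringKrullDim_eq_of_ringEquiv
      (rangeEquiv (R := Z.presheaf.stalk (zs i)) (K := Z.functionField))]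
    exact ringKrullDim_stalk_eq_one hdim (zs i) (hzs' i)
  have hsl : ∀ i, Finite (MaximalSpectrum (B i)) := fun i => inferInstance
  have hgen : ∀ i, A ⊔ B i = ⊤ := fun i => sup_range_eq_top hdim U hU (zs i) (hzs i)
  obtain ⟨x, hxA, hx0, hx⟩ := Groth.Agent.S1640.result Z.functionField A _ B hd hsl hgen
  refine ⟨x, hx0, hxA, ?_⟩
  intro z hz
  obtain ⟨hxB, hjac⟩ := hx (e ⟨z, hz⟩)
  have hzi : zs (e ⟨z, hz⟩) = z := by
    change (e.symm (e ⟨z, hz⟩)).1 = z
    rw [Equiv.symm_apply_apply]
  have key := exists_mem_maximalIdeal_of_jacobson (zs (e ⟨z, hz⟩)) x⁻¹ hxB hjac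
  rw [hzi] at key
  exact key

end Groth.Agent.Lib.Helper67.CurveP1
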