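import Groth.Agent.Lib.Helper67.CurveP1a
import Groth.Agent.Lib.Helper17.UPExist

/-!
# Integral curves: the morphism to the projective line attached to a rational function
-/

set_option autoImplicit false
set_option linter.unusedSectionVars false
universe u
open CategoryTheory CategoryTheory.Limits AlgebraicGeometry TopologicalSpace Opposite MvPolynomial

namespace Groth.Agent.Lib.Helper67.CurveP1

open Groth.Agent.Lib.Helper49 Groth.Agent.Lib.Helper17.UPFromRing Groth.Agent.Lib.Helper17.UPChart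
  Groth.Agent.Lib.Helper17.UPExist Groth.Agent.Lib.Helper17.OFrac
  Groth.Agent.Lib.Helper17.ProjGlobal

theorem ringHom_twist_mv {σ : Type*} {R B : Type*} [CommRing R] [CommRing B]
    (ρ ρ' : MvPolynomial σ R →+* B) (c : B)
    (hC : ∀ a, ρ (C a) = ρ' (C a))
    (hX : ∀ i, ρ (X i) = c * ρ' (X i)) {n : ℕ} {s : MvPolynomial σ R}
    (hs : s.IsHomogeneous n) : ρ s = c ^ n * ρ' s := by
  classical
  have hmono : ∀ (d : σ →₀ ℕ) (a : R), ρ (monomial d a) = c ^ d.degree * ρ' (monomial d a) := by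
    intro d a
    rw [MvPolynomial.monomial_eq, map_mul, map_mul, hC, Finsupp.prod, map_prod, map_prod]
    simp only [map_pow, hX, mul_pow]
    rw [Finset.prod_mul_distrib, Finset.prod_pow_eq_pow_sum]
    have : d.degree = ∑ i ∈ d.support, d i := rfl
    rw [this]
    ring
  have h1 : ρ s = ∑ d ∈ s.support, ρ (monomial d (coeff d s)) := by
    conv_lhs => rw [s.as_sum]
    rw [map_sum]
  have h2 : ρ' s = ∑ d ∈ s.support, ρ' (monomial d (coeff d s)) := by
    conv_lhs => rw [s.as_sum]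
    rw [map_sum]
  rw [h1, h2, Finset.mul_sum]
  refine Finset.sum_congr rfl fun d hd => ?_
  rw [hmono, hs.degree_eq_sum_deg_support hd]
  rfl

variable {k : Type u} [Field k] {Z : Scheme.{u}} (q : Z ⟶ Spec (CommRingCat.of k))

/-- the grading of `k[T₀, T₁]` -/
noncomputable abbrev PG (k : Type u) [Field k] := CohB1.polyGrading 1 k

theorem X_mem (i : Fin 2) : (X i : MvPolynomial (Fin 2) k) ∈ PG k 1 := isHomogeneous_X k i

/-- the ring map `k[T₀, T₁] → Γ(Z, W)`, `T₀ ↦ a`, `T₁ ↦ b` -/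
noncomputable def rho (W : Z.Opens) (a b : Γ(Z, W)) : MvPolynomial (Fin 2) k →+* Γ(Z, W) :=
  eval₂Hom (algW q W) ![a, b]

@[simp] theorem rho_C (W : Z.Opens) (a b : Γ(Z, W)) (c : k) : rho q W a b (C c) = algW q W c :=
  eval₂Hom_C _ _ _

@[simp] theorem rho_X0 (W : Z.Opens) (a b : Γ(Z, W)) : rho q W a b (X 0) = a := by
  unfold rho; rw [eval₂Hom_X']; rfl

@[simp] theorem rho_X1 (W : Z.Opens) (a b : Γ(Z, W)) : rho q W a b (X 1) = b := by
  unfold rho; rw [eval₂Hom_X']; rfl

theorem rho_restrict {W W' : Z.Opens} (h : W' ≤ W) (a b : Γ(Z, W)) :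
    (Z.presheaf.map (homOfLE h).op).hom.comp (rho q W a b) =
      rho q W' (fres h a) (fres h b) := by
  apply MvPolynomial.ringHom_ext
  · intro c
    rw [RingHom.comp_apply, rho_C, rho_C]
    exact fres_algW q h c
  · intro i
    fin_cases i
    · rw [RingHom.comp_apply]
      change (Z.presheaf.map (homOfLE h).op).hom (rho q W a b (X 0)) = rho q W' _ _ (X 0)
      rw [rho_X0, rho_X0]; rfl
    · rw [RingHom.comp_apply]
      change (Z.presheaf.map (homOfLE h).op).hom (rho q W a b (X 1)) = rho q W' _ _ (X 1)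
      rw [rho_X1, rho_X1]; rfl

theorem fromRing_congr_rho {W : Z.Opens} {ρ ρ' : MvPolynomial (Fin 2) k →+* Γ(Z, W)} (h : ρ = ρ')
    (i : Fin 2) (hu : IsUnit (ρ (X i))) (hu' : IsUnit (ρ' (X i))) :
    fromRing (PG k) W ρ (X_mem i) one_pos hu = fromRing (PG k) W ρ' (X_mem i) one_pos hu' := by
  subst h
  rfl

/-- the morphism `W ⟶ P¹`, `z ↦ [1 : f(z)]` -/
noncomputable def mor0 (W : Z.Opens) (f : Γ(Z, W)) : W.toScheme ⟶ Proj (PG k) :=
  fromRing (PG k) W (rho q W 1 f) (X_mem 0) one_pos (by rw [rho_X0]; exact isUnit_one)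

/-- the morphism `W ⟶ P¹`, `z ↦ [g(z) : 1]` -/
noncomputable def mor1 (W : Z.Opens) (g : Γ(Z, W)) : W.toScheme ⟶ Proj (PG k) :=
  fromRing (PG k) W (rho q W g 1) (X_mem 1) one_pos (by rw [rho_X1]; exact isUnit_one)

theorem mor0_restrict {W W' : Z.Opens} (h : W' ≤ W) (f : Γ(Z, W)) :
    Z.homOfLE h ≫ mor0 q W f = mor0 q W' (fres h f) := by
  unfold mor0
  rw [fromRing_restrict]
  have h1 : (Z.presheaf.map (homOfLE h).op).hom.comp (rho q W 1 f) = rho q W' 1 (fres h f) := by
    rw [rho_restrict, map_one]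
  exact fromRing_congr_rho h1 0 _ _

theorem mor1_restrict {W W' : Z.Opens} (h : W' ≤ W) (g : Γ(Z, W)) :
    Z.homOfLE h ≫ mor1 q W g = mor1 q W' (fres h g) := by
  unfold mor1
  rw [fromRing_restrict]
  have h1 : (Z.presheaf.map (homOfLE h).op).hom.comp (rho q W g 1) = rho q W' (fres h g) 1 := by
    rw [rho_restrict, map_one]
  exact fromRing_congr_rho h1 1 _ _

/-- the two kinds of charts agree when `f * g = 1` -/
theorem mor0_eq_mor1 (W : Z.Opens) (f g : Γ(Z, W)) (hfg : f * g = 1) :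
    mor0 q W f = mor1 q W g := by
  unfold mor0 mor1
  have hg : IsUnit g := IsUnit.of_mul_eq_one f (by rw [mul_comm]; exact hfg)
  have hu10 : IsUnit (rho q W g 1 (X 0)) := by rw [rho_X0]; exact hg
  have htw : ∀ (n : ℕ) (s : MvPolynomial (Fin 2) k), s ∈ PG k n →
      rho q W g 1 s = g ^ n * rho q W 1 f s := by
    intro n s hs
    refine ringHom_twist_mv _ _ g ?_ ?_ hs
    · intro a; rw [rho_C, rho_C]
    · intro i
      fin_cases i
      · change rho q W g 1 (X 0) = g * rho q W 1 f (X 0)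
        rw [rho_X0, rho_X0, mul_one]
      · change rho q W g 1 (X 1) = g * rho q W 1 f (X 1)
        rw [rho_X1, rho_X1, mul_comm, hfg]
  calc fromRing (PG k) W (rho q W 1 f) (X_mem 0) one_pos _
      = fromRing (PG k) W (rho q W g 1) (X_mem 0) one_pos hu10 :=
        (fromRing_twist (PG k) W (rho q W 1 f) (X_mem 0) one_pos _ (rho q W g 1) g hg htw hu10).symm
    _ = fromRing (PG k) W (rho q W g 1) (X_mem 1) one_pos _ :=
        fromRing_indep (PG k) W (rho q W g 1) (X_mem 0) one_pos hu10 (X_mem 1) one_pos _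

section Charts

variable (r : Z ⟶ Proj (PG k)) (W : Z.Opens) (ρ : MvPolynomial (Fin 2) k →+* Γ(Z, W)) (i : Fin 2)
  (hu : IsUnit (ρ (X i))) (hr : W.ι ≫ r = fromRing (PG k) W ρ (X_mem i) one_pos hu)

include hr in
theorem le_preimage_of_fromRing : W ≤ r ⁻¹ᵁ Proj.basicOpen (PG k) (X i) := by
  intro x hx
  have h1 : (⟨x, hx⟩ : W.toScheme) ∈
      fromRing (PG k) W ρ (X_mem i) one_pos hu ⁻¹ᵁ Proj.basicOpen (PG k) (X i) := by
    rw [fromRing_preimage]
    trivial
  rw [← hr] at h1
  exact h1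

include hr in
theorem appLE_of_fromRing {n : ℕ} {s : MvPolynomial (Fin 2) k} (hs : s ∈ PG k n) :
    (r.appLE (Proj.basicOpen (PG k) (X i)) W (le_preimage_of_fromRing r W ρ i hu hr)).hom
      (dehom (PG k) (X_mem i) s) * ρ (X i) ^ n = ρ s := by
  have h1 := fromRing_appLE (PG k) W ρ (X_mem i) hu hs
  rw [← h1]
  have h2 := appLE_of_ι_comp r W _ hr (Proj.basicOpen (PG k) (X i))
    (le_preimage_of_fromRing r W ρ i hu hr)
    (fromRing_preimage (PG k) W ρ (X_mem i) one_pos hu).ge
  rw [← congrArg (fun φ => (CommRingCat.Hom.hom φ) (dehom (PG k) (X_mem i) s)) h2]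
  rfl

end Charts

section Glue

variable [IsIntegral Z]

theorem germ_fres' {W W' : Z.Opens} [Nonempty W] [Nonempty W'] (h : W' ≤ W) (s : Γ(Z, W)) :
    Z.germToFunctionField W' (fres h s) = Z.germToFunctionField W s :=
  Z.presheaf.germ_res_apply (homOfLE h) _ _ s

/-- sections with the same image in the function field are equal -/
theorem eq_of_germ_eq {W : Z.Opens} (s t : Γ(Z, W))
    (h : ∀ _ : Nonempty W, Z.germToFunctionField W s = Z.germToFunctionField W t) : s = t := by
  by_cases hne : Nonempty W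
  · exact Z.germToFunctionField_injective W (h hne)
  · have hbot : W = ⊥ := by
      ext z
      simp only [Opens.coe_bot, Set.mem_empty_iff_false, iff_false]
      exact fun hz => hne ⟨⟨z, hz⟩⟩
    subst hbot
    exact Subsingleton.elim _ _

/-- **the morphism to `P¹` defined by a rational function** which is regular on `U` and whose
inverse is regular near every point outside `U` -/
theorem exists_morphism_of_pole_data (x : Z.functionField) (hx : x ≠ 0) (U : Z.Opens)
    [Nonempty U] (f : Γ(Z, U)) (hf : Z.germToFunctionField U f = x)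
    (W : {z : Z // z ∉ U} → Z.Opens) (hW : ∀ z, z.1 ∈ W z) (g : ∀ z, Γ(Z, W z))
    (hg : ∀ z, @Scheme.germToFunctionField Z _ (W z) ⟨⟨z.1, hW z⟩⟩ (g z) = x⁻¹)
    (z₁ : {z : Z // z ∉ U}) (hz₁ : z₁.1 ∉ Z.basicOpen (g z₁)) :
    ∃ r : Z ⟶ Proj (PG k), r ≫ strMap (PG k) = q ∧ r z₁.1 ≠ r (genericPoint Z) := by
  classical
  let Ucov : Option {z : Z // z ∉ U} → Z.Opens := fun i => match i with
    | none => U
    | some z => W z
  have hcov : ∀ y : Z, ∃ i, y ∈ Ucov i := by
    intro y
    by_cases hy : y ∈ U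
    · exact ⟨none, hy⟩
    · exact ⟨some ⟨y, hy⟩, hW ⟨y, hy⟩⟩
  let gmor : ∀ i, (Ucov i).toScheme ⟶ Proj (PG k) := fun i => match i with
    | none => mor0 q U f
    | some z => mor1 q (W z) (g z)
  -- compatibility of charts
  have h01 : ∀ z : {z : Z // z ∉ U},
      Z.homOfLE (inf_le_left : U ⊓ W z ≤ U) ≫ mor0 q U f =
        Z.homOfLE (inf_le_right : U ⊓ W z ≤ W z) ≫ mor1 q (W z) (g z) := by
    intro z
    rw [mor0_restrict, mor1_restrict]
    apply mor0_eq_mor1
    apply eq_of_germ_eq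
    intro hne
    haveI := hne
    haveI : Nonempty (W z) := ⟨⟨z.1, hW z⟩⟩
    rw [map_mul, map_one, germ_fres', germ_fres', hf]
    rw [hg z]
    exact mul_inv_cancel₀ hx
  have h10 : ∀ z : {z : Z // z ∉ U},
      Z.homOfLE (inf_le_left : W z ⊓ U ≤ W z) ≫ mor1 q (W z) (g z) =
        Z.homOfLE (inf_le_right : W z ⊓ U ≤ U) ≫ mor0 q U f := by
    intro z
    rw [mor0_restrict, mor1_restrict]
    symm
    apply mor0_eq_mor1
    apply eq_of_germ_eq
    intro hne
    haveI := hne
    haveI : Nonempty (W z) := ⟨⟨z.1, hW z⟩⟩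
    rw [map_mul, map_one, germ_fres', germ_fres', hf]
    rw [hg z]
    exact mul_inv_cancel₀ hx
  have h11 : ∀ z z' : {z : Z // z ∉ U},
      Z.homOfLE (inf_le_left : W z ⊓ W z' ≤ W z) ≫ mor1 q (W z) (g z) =
        Z.homOfLE (inf_le_right : W z ⊓ W z' ≤ W z') ≫ mor1 q (W z') (g z') := by
    intro z z'
    rw [mor1_restrict, mor1_restrict]
    congr 1
    apply eq_of_germ_eq
    intro hne
    haveI := hne
    haveI : Nonempty (W z) := ⟨⟨z.1, hW z⟩⟩
    haveI : Nonempty (W z') := ⟨⟨z'.1, hW z'⟩⟩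
    rw [germ_fres', germ_fres', hg z, hg z']
  have hcompat : ∀ i j, Z.homOfLE (inf_le_left : Ucov i ⊓ Ucov j ≤ Ucov i) ≫ gmor i =
      Z.homOfLE (inf_le_right : Ucov i ⊓ Ucov j ≤ Ucov j) ≫ gmor j := by
    intro i j
    match i, j with
    | none, none => rfl
    | none, some z => exact h01 z
    | some z, none => exact h10 z
    | some z, some z' => exact h11 z z'
  obtain ⟨r, hr⟩ := Groth.Agent.Lib.Helper17.UPGlueHom.exists_glue Ucov hcov gmor hcompat
  have hr0 : U.ι ≫ r = fromRing (PG k) U (rho q U 1 f) (X_mem 0) one_pos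
      (by rw [rho_X0]; exact isUnit_one) := hr none
  have hr1 : ∀ z : {z : Z // z ∉ U}, (W z).ι ≫ r = fromRing (PG k) (W z) (rho q (W z) (g z) 1)
      (X_mem 1) one_pos (by rw [rho_X1]; exact isUnit_one) := fun z => hr (some z)
  refine ⟨r, ?_, ?_⟩
  · -- `r` is a morphism over `Spec k`
    apply ext_of_isAffine
    have key : gHom (r ≫ strMap (PG k)) = gHom q := by
      apply CommRingCat.hom_ext
      apply RingHom.ext
      intro a
      refine fres_ext Ucov (fun _ => le_top) ?_ _ _ ?_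
      · intro y _
        obtain ⟨i, hi⟩ := hcov y
        exact Opens.mem_iSup.mpr ⟨i, hi⟩
      · intro i
        have hCa : (algebraMap k (MvPolynomial (Fin 2) k) a) ∈ PG k 0 :=
          SetLike.algebraMap_mem_graded (PG k) a
        match i with
        | none =>
          have h1 := appLE_dehom_algebraMap (PG k) (X_mem 0) r U
            (le_preimage_of_fromRing r U _ 0 _ hr0) a
          have h2 := appLE_of_fromRing r U _ 0 _ hr0 hCa
          rw [pow_zero, mul_one] at h2
          rw [h2] at h1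
          refine h1.symm.trans ?_
          rw [MvPolynomial.algebraMap_eq, rho_C]
          rfl
        | some z =>
          have h1 := appLE_dehom_algebraMap (PG k) (X_mem 1) r (W z)
            (le_preimage_of_fromRing r (W z) _ 1 _ (hr1 z)) a
          have h2 := appLE_of_fromRing r (W z) _ 1 _ (hr1 z) hCa
          rw [pow_zero, mul_one] at h2
          rw [h2] at h1
          refine h1.symm.trans ?_
          rw [MvPolynomial.algebraMap_eq, rho_C]
          rfl
    unfold gHom at key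
    exact (cancel_epi (Scheme.ΓSpecIso (CommRingCat.of k)).inv).mp key
  · -- `r` is not constant
    intro heq
    have hξU : genericPoint Z ∈ U :=
      ((genericPoint_spec Z).mem_open_set_iff U.isOpen).mpr (by simpa using ‹Nonempty U›)
    have hξ0 : r (genericPoint Z) ∈ Proj.basicOpen (PG k) (X 0) :=
      le_preimage_of_fromRing r U _ 0 _ hr0 hξU
    have hz0 : r z₁.1 ∈ Proj.basicOpen (PG k) (X 0) := heq ▸ hξ0
    have hz1 : r z₁.1 ∈ Proj.basicOpen (PG k) (X 1) :=
      le_preimage_of_fromRing r (W z₁) _ 1 _ (hr1 z₁) (hW z₁)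
    have h2 := appLE_of_fromRing r (W z₁) _ 1 _ (hr1 z₁) (X_mem (k := k) 0)
    simp only [rho_X1, one_pow, mul_one, rho_X0] at h2
    have h3 := Scheme.basicOpen_appLE r (W z₁) (Proj.basicOpen (PG k) (X 1))
      (le_preimage_of_fromRing r (W z₁) _ 1 _ (hr1 z₁)) (dehom (PG k) (X_mem 1) (X 0))
    rw [h2, dehom_of_mem (PG k) (X_mem 1) (X_mem (k := k) 0),
      basicOpen_oFrac (PG k) (good_chart (PG k) (X_mem 1) (X_mem (k := k) 0))] at h3
    apply hz₁
    rw [h3]
    exact ⟨hW z₁, hz1, hz0⟩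

end Glue

end Groth.Agent.Lib.Helper67.CurveP1
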