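import Groth.Agent.Lib.Helper67.FFFin
import Groth.Agent.FunFld.RR
import Groth.Agent.FunFld.Elliptic
import Groth.Agent.FunFld.Adele
import Groth.Agent.S10973
import Groth.Prelude.Def_W4bk4goldsch45
import Mathlib.Algebra.GroupWithZero.Units.Fintype
import Mathlib.FieldTheory.Finiteness

/-!
# Divisor classes of a function field over a finite field: finiteness of the class number and
the number of effective divisors in a class
-/

set_option autoImplicit false

open FunFld Polynomial WithZero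

namespace Groth.Agent.Lib.Helper67.FFClass

open Groth.Agent.FF Groth.Agent.Lib.Helper67.FFFin

universe u v
variable {k : Type u} {K : Type v} [Field k] [Field K] [Algebra k K]

lemma degHom_apply (D : Divisor k K) : FunFld.degHom k K D = D.deg := by
  unfold FunFld.degHom Divisor.deg
  rw [Finsupp.liftAddHom_apply]
  rfl

lemma mem_ker_degHom (D : Divisor k K) : D ∈ (FunFld.degHom k K).ker ↔ D.deg = 0 := by
  rw [AddMonoidHom.mem_ker, degHom_apply]

lemma div_zero' (hK : IsFunctionField k K) : FunFld.div k (0 : K) = 0 := by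
  ext P
  rw [div_apply hK, ord_zero, Finsupp.zero_apply]

/-- principal divisors are exactly the divisors of nonzero elements -/
lemma mem_prinDivs_iff (hK : IsFunctionField k K) (D : Divisor k K) :
    D ∈ FunFld.prinDivs k K ↔ ∃ x : K, x ≠ 0 ∧ D = FunFld.div k x := by
  constructor
  · intro h
    unfold FunFld.prinDivs at h
    induction h using AddSubgroup.closure_induction with
    | mem D hD =>
      obtain ⟨x, rfl⟩ := hD
      by_cases hx : x = 0
      · exact ⟨1, one_ne_zero, by rw [hx, div_zero' hK, div_one hK]⟩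
      · exact ⟨x, hx, rfl⟩
    | zero => exact ⟨1, one_ne_zero, (div_one hK).symm⟩
    | add D E _ _ hD hE =>
      obtain ⟨x, hx, rfl⟩ := hD
      obtain ⟨y, hy, rfl⟩ := hE
      exact ⟨x * y, mul_ne_zero hx hy, (div_mul hK hx hy).symm⟩
    | neg D _ hD =>
      obtain ⟨x, hx, rfl⟩ := hD
      exact ⟨x⁻¹, inv_ne_zero hx, (div_inv hK x).symm⟩
  · rintro ⟨x, _, rfl⟩
    exact AddSubgroup.subset_closure ⟨x, rfl⟩

/-- the group of divisor classes of degree zero -/
abbrev Cl0 (k K : Type*) [Field k] [Field K] [Algebra k K] : Type _ :=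
  (FunFld.degHom k K).ker ⧸ (FunFld.prinDivs k K).addSubgroupOf (FunFld.degHom k K).ker

/-- the class of a degree zero divisor -/
noncomputable def cls (E : Divisor k K) (hE : E.deg = 0) : Cl0 k K :=
  QuotientAddGroup.mk ⟨E, (mem_ker_degHom E).mpr hE⟩

lemma cls_eq_iff (hK : IsFunctionField k K) {E F : Divisor k K} (hE : E.deg = 0)
    (hF : F.deg = 0) :
    cls E hE = cls F hF ↔ ∃ x : K, x ≠ 0 ∧ F = E + FunFld.div k x := by
  unfold cls
  rw [QuotientAddGroup.eq, AddSubgroup.mem_addSubgroupOf]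
  have : (((-⟨E, (mem_ker_degHom E).mpr hE⟩ + ⟨F, (mem_ker_degHom F).mpr hF⟩ :
      (FunFld.degHom k K).ker) : (FunFld.degHom k K).ker) : Divisor k K) = -E + F := rfl
  rw [this, mem_prinDivs_iff hK]
  constructor
  · rintro ⟨x, hx, h⟩
    exact ⟨x, hx, by rw [← h]; abel⟩
  · rintro ⟨x, hx, h⟩
    exact ⟨x, hx, by rw [h]; abel⟩

lemma cls_surjective (c : Cl0 k K) : ∃ (E : Divisor k K) (hE : E.deg = 0), cls E hE = c := by
  obtain ⟨⟨E, hE⟩, rfl⟩ := QuotientAddGroup.mk_surjective c
  exact ⟨E, (mem_ker_degHom E).mp hE, rfl⟩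

/-- Over a finite field the class number is finite. -/
theorem finite_Cl0 [Finite k] (hK : IsFunctionField k K) : Finite (Cl0 k K) := by
  classical
  obtain ⟨P₀⟩ := exists_place hK
  set g := genus k K with hg
  set D₀ : Divisor k K := Finsupp.single P₀ (g : ℤ) with hD₀
  set n₀ : ℕ := g * P₀.deg with hn₀
  have hdegD₀ : D₀.deg = (n₀ : ℤ) := by
    rw [hD₀, deg_single, hn₀]; push_cast; ring
  have hfin : Finite {D : Divisor k K // 0 ≤ D ∧ D.deg = n₀} :=
    (finite_effective_deg_eq hK n₀).to_subtype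
  let Φ : {D : Divisor k K // 0 ≤ D ∧ D.deg = n₀} → Cl0 k K := fun D =>
    cls (D.1 - D₀) (by rw [deg_sub, D.2.2, hdegD₀, sub_self])
  refine Finite.of_surjective Φ ?_
  intro c
  obtain ⟨E, hE, rfl⟩ := cls_surjective c
  have hdeg : (E + D₀).deg = (n₀ : ℤ) := by rw [deg_add, hE, hdegD₀, zero_add]
  have hell : 0 < ell (E + D₀) := by
    have h1 := delta_le_genus hK (E + D₀)
    unfold delta at h1
    rw [hdeg] at h1
    have h2 : (g : ℤ) ≤ n₀ := by
      have := deg_pos hK P₀
      rw [hn₀]; push_cast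
      have h3 : (1 : ℤ) ≤ P₀.deg := by exact_mod_cast this
      nlinarith [Int.natCast_nonneg g]
    have h3 : (0 : ℤ) < ell (E + D₀) := by linarith
    exact_mod_cast h3
  obtain ⟨z, hz0, hz⟩ := exists_ne_zero_mem_L hell
  have hD : 0 ≤ E + D₀ + FunFld.div k z := (mem_L_iff_div hK _ hz0).mp hz
  refine ⟨⟨E + D₀ + FunFld.div k z, hD, ?_⟩, ?_⟩
  · rw [deg_add, deg_div_eq_zero hK, hdeg, add_zero]
  · show cls _ _ = cls _ _
    rw [cls_eq_iff hK]
    refine ⟨z⁻¹, inv_ne_zero hz0, ?_⟩
    rw [div_inv hK]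
    show E = (E + D₀ + FunFld.div k z - D₀) + -FunFld.div k z
    rw [add_sub_right_comm, add_sub_cancel_right, add_neg_cancel_right]

end Groth.Agent.Lib.Helper67.FFClass
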