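import Groth.Agent.Lib.Helper67.FFSchmidt

/-!
# Rationality of the zeta function of a function field over a finite field
-/

set_option autoImplicit false

open FunFld PowerSeries

namespace Groth.Agent.Lib.Helper67.FFRational

open Groth.Agent.FF Groth.Agent.Lib.Helper67.FFSchmidt Groth.Agent.Lib.Helper67.FFCount

universe u v
variable {k : Type u} {K : Type v} [Field k] [Field K] [Algebra k K]

/-- there is a divisor of degree one -/
theorem exists_deg_one [Finite k] (hK : IsFunctionField k K) :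
    ∃ D : Divisor k K, D.deg = 1 := by
  obtain ⟨δ, hδ, hD₀, hdvd⟩ := exists_degGen hK
  have h1 := degGen_eq_one hK δ hδ hD₀ hdvd
  subst h1
  simpa using hD₀

/-- the formula for the number of effective divisors of large degree -/
theorem effDivCount_eq [Finite k] (hK : IsFunctionField k K) (n : ℕ)
    (hn : 2 * genus k K ≤ n + 1) :
    ((Nat.card k : ℤ) - 1) * (effDivCount k K n : ℤ) =
      (classNum k K : ℤ) * ((Nat.card k : ℤ) ^ (n + 1 - genus k K) - 1) := by
  obtain ⟨D₀, hD₀⟩ := exists_deg_one hK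
  refine effDivCount_formula hK n hn ((n : ℤ) • D₀) ?_
  rw [deg_zsmul, hD₀, mul_one]

lemma numerZ_eq : numerZ k K =
    zetaZ k K - C ((1 : ℤ) + Nat.card k) * (X * zetaZ k K) +
      C (Nat.card k : ℤ) * (X * (X * zetaZ k K)) := by
  unfold numerZ
  rw [map_add, map_one]
  ring

lemma coeff_zetaZ (n : ℕ) : coeff n (zetaZ k K) = (effDivCount k K n : ℤ) := by
  unfold zetaZ
  rw [coeff_mk]

lemma coeff_numerZ_add_two (n : ℕ) : coeff (n + 2) (numerZ k K) =
    (effDivCount k K (n + 2) : ℤ) - (1 + (Nat.card k : ℤ)) * (effDivCount k K (n + 1) : ℤ) +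
      (Nat.card k : ℤ) * (effDivCount k K n : ℤ) := by
  rw [numerZ_eq, map_add, map_sub, coeff_C_mul, coeff_C_mul, coeff_succ_X_mul,
    coeff_succ_X_mul, coeff_succ_X_mul, coeff_zetaZ, coeff_zetaZ, coeff_zetaZ]

lemma coeff_numerZ_one : coeff 1 (numerZ k K) =
    (effDivCount k K 1 : ℤ) - (1 + (Nat.card k : ℤ)) * (effDivCount k K 0 : ℤ) := by
  rw [numerZ_eq, map_add, map_sub, coeff_C_mul, coeff_C_mul, coeff_succ_X_mul,
    coeff_succ_X_mul, coeff_zetaZ, coeff_zetaZ]
  have : coeff 0 (X * zetaZ k K) = 0 := by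
    rw [coeff_zero_eq_constantCoeff_apply, map_mul, constantCoeff_X, zero_mul]
  rw [this, mul_zero, add_zero]

/-- the coefficients of the numerator vanish beyond degree `2g` -/
theorem coeff_numerZ_eq_zero [Finite k] (hK : IsFunctionField k K) (n : ℕ)
    (hn : 2 * genus k K < n) : coeff n (numerZ k K) = 0 := by
  have hq := two_le_card (k := k)
  have hq2 : (2 : ℤ) ≤ (Nat.card k : ℤ) := by exact_mod_cast hq
  by_cases hn1 : n = 1
  · subst hn1
    have hg0 : genus k K = 0 := by omega
    rw [coeff_numerZ_one]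
    have h0 := effDivCount_eq hK 0 (by omega)
    have h1 := effDivCount_eq hK 1 (by omega)
    rw [hg0] at h0 h1
    set q : ℤ := (Nat.card k : ℤ) with hqdef
    have hq1 : q - 1 ≠ 0 := by omega
    apply mul_left_cancel₀ hq1
    rw [mul_zero]
    have : (q - 1) * ((effDivCount k K 1 : ℤ) - (1 + q) * (effDivCount k K 0 : ℤ)) =
        (q - 1) * (effDivCount k K 1 : ℤ) - (1 + q) * ((q - 1) * (effDivCount k K 0 : ℤ)) := by
      ring
    rw [this, h0, h1]
    ring
  obtain ⟨m, rfl⟩ : ∃ m, n = m + 2 := ⟨n - 2, by omega⟩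
  rw [coeff_numerZ_add_two]
  have h0 := effDivCount_eq hK m (by omega)
  have h1 := effDivCount_eq hK (m + 1) (by omega)
  have h2 := effDivCount_eq hK (m + 2) (by omega)
  set g := genus k K with hg
  obtain ⟨N, hN⟩ : ∃ N, m + 1 - g = N := ⟨_, rfl⟩
  have e1 : m + 1 + 1 - g = N + 1 := by omega
  have e2 : m + 2 + 1 - g = N + 2 := by omega
  rw [hN] at h0
  rw [e1] at h1
  rw [e2] at h2
  set q : ℤ := (Nat.card k : ℤ) with hqdef
  have hq1 : q - 1 ≠ 0 := by omega
  apply mul_left_cancel₀ hq1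
  rw [mul_zero]
  have : (q - 1) * ((effDivCount k K (m + 2) : ℤ) - (1 + q) * (effDivCount k K (m + 1) : ℤ) +
      q * (effDivCount k K m : ℤ)) =
      (q - 1) * (effDivCount k K (m + 2) : ℤ) - (1 + q) * ((q - 1) * (effDivCount k K (m + 1) : ℤ))
        + q * ((q - 1) * (effDivCount k K m : ℤ)) := by ring
  rw [this, h0, h1, h2]
  ring

/-- rationality: the numerator of the zeta function is a polynomial -/
theorem exists_polynomial [Finite k] (hK : IsFunctionField k K) :
    ∃ p : Polynomial ℤ, (p : PowerSeries ℤ) = numerZ k K := by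
  refine ⟨(numerZ k K).trunc (2 * genus k K + 1), ?_⟩
  ext n
  rw [Polynomial.coeff_coe, coeff_trunc]
  split_ifs with h
  · rfl
  · exact (coeff_numerZ_eq_zero hK n (by omega)).symm

end Groth.Agent.Lib.Helper67.FFRational
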