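import Groth.Agent.Lib.Helper67.CurveRR
import Groth.Agent.Lib.Helper67.FFClass
import Groth.Agent.Lib.Helper67.FFRational
import Groth.Agent.FunFld.DegUpper

/-!
# The Picard sets `Pic^m` of a curve over a finite field and the divisor class group
-/

set_option autoImplicit false
set_option linter.style.haveILetI false
universe u
open CategoryTheory AlgebraicGeometry IsLocalRing FunFld TopologicalSpace Opposite WithZero

noncomputable section

namespace Groth.Agent.Lib.Helper67.CurvePic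

open Groth.Agent.Lib.Helper67 Groth.Agent.Lib.Helper67.CurveFF Groth.Agent.Lib.Helper67.CurveVal
  Groth.Agent.Lib.Helper67.CurveBasic Groth.Agent.Lib.Helper67.CurveTop Groth.Agent.FF
  Groth.Agent.Lib.Helper67.CurvePoints Groth.Agent.Lib.Helper67.CurvePlaces
  Groth.Agent.Lib.Helper67.CurveGeomIrr Groth.Agent.Lib.Helper67.CurveCount
  Groth.Agent.Lib.Helper67.CurveDiv Groth.Agent.Lib.Helper67.KEmbed
  Groth.Agent.Lib.Helper67.KSubsheaf Groth.Agent.Lib.Helper45 Groth.Agent.Lib.Helper49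
  Groth.Agent.Lib.Helper67.CurveOD Groth.Agent.Lib.Helper67.CurveLB
  Groth.Agent.Lib.Helper67.CurveRR Groth.Agent.Lib.Helper67.FFClass

variable {k : Type u} [Field k] {C : Scheme.{u}} [C.Over (Spec (CommRingCat.of k))] [IsIntegral C]

attribute [local instance] algKO

variable (hC : Curve.IsSmoothProperCurve k C (C ↘ Spec (CommRingCat.of k)))
  [GeometricallyIrreducible (C ↘ Spec (CommRingCat.of k))] [Finite k]

omit [IsIntegral C] in
theorem cl_eq_iff (L L' : C.Modules) : PicF.cl L = PicF.cl L' ↔ Nonempty (L ≅ L') := by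
  have heq : Equivalence (fun L L' : C.Modules => Nonempty (L ≅ L')) :=
    ⟨fun L => ⟨Iso.refl L⟩, fun ⟨e⟩ => ⟨e.symm⟩, fun ⟨e⟩ ⟨e'⟩ => ⟨e.trans e'⟩⟩
  have h1 : PicF.cl L = PicF.cl L' ↔
      Relation.EqvGen (fun L L' : C.Modules => Nonempty (L ≅ L')) L L' := Quot.eq
  rw [h1]
  exact heq.eqvGen_iff

theorem cl_OD_eq_iff (E E' : Divisor k C.functionField) :
    PicF.cl (OD hC E) = PicF.cl (OD hC E') ↔
      ∃ c : C.functionField, c ≠ 0 ∧ E' = E - FunFld.div k c := by
  rw [cl_eq_iff, nonempty_iso_OD_iff]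

/-- the classes of invertible sheaves of degree `m` -/
abbrev PicM (k : Type u) [Field k] (C : Scheme.{u}) [C.Over (Spec (CommRingCat.of k))] (m : ℤ) :
    Type (u + 1) :=
  {c : PicF.Cl C // ∃ L : C.Modules, PicF.cl L = c ∧ PicF.IsInvertible L ∧
    Curv2.deg k C L 1 = m}

/-- the class of `O(E)` -/
def clOD (m : ℤ) (E : Divisor k C.functionField) (hE : E.deg = m) : PicM k C m :=
  ⟨PicF.cl (OD hC E), OD hC E, rfl, isInvertible_OD hC E, (deg_OD hC E).trans hE⟩

theorem exists_div_of_mem (m : ℤ) (c : PicM k C m) :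
    ∃ E : Divisor k C.functionField, E.deg = m ∧ c.1 = PicF.cl (OD hC E) := by
  obtain ⟨c, L, rfl, hL, hdeg⟩ := c
  obtain ⟨e, E, hE⟩ := exists_kEmb_hasDiv hC hL
  refine ⟨E, ?_, ?_⟩
  · rw [← hdeg, deg_eq hC hE]
  · exact (cl_eq_iff L _).mpr (nonempty_iso_OD hC hE)

include hC in
theorem exists_deg_eq (m : ℤ) : ∃ E₀ : Divisor k C.functionField, E₀.deg = m := by
  have hK := isFunctionField_of_curve hC
  obtain ⟨D, hD⟩ := Groth.Agent.Lib.Helper67.FFRational.exists_deg_one hK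
  refine ⟨m • D, ?_⟩
  rw [← FFClass.degHom_apply, map_zsmul, FFClass.degHom_apply, hD, smul_eq_mul, mul_one]

include hC in
/-- `Pic^m` is in bijection with the group of divisor classes of degree zero -/
theorem nonempty_equiv (m : ℤ) : Nonempty (PicM k C m ≃ Cl0 k C.functionField) := by
  have hK := isFunctionField_of_curve hC
  obtain ⟨E₀, hE₀⟩ := exists_deg_eq hC m
  choose Ec hEcdeg hEc using exists_div_of_mem hC m
  have hdeg0 : ∀ c, (Ec c - E₀).deg = 0 := fun c => by rw [deg_sub, hEcdeg, hE₀, sub_self]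
  let Φ : PicM k C m → Cl0 k C.functionField := fun c => cls (Ec c - E₀) (hdeg0 c)
  refine ⟨Equiv.ofBijective Φ ⟨?_, ?_⟩⟩
  · intro c c' hcc'
    obtain ⟨x, hx, hxe⟩ := (cls_eq_iff hK (hdeg0 c) (hdeg0 c')).mp hcc'
    apply Subtype.ext
    rw [hEc c, hEc c', cl_OD_eq_iff]
    refine ⟨x⁻¹, inv_ne_zero hx, ?_⟩
    rw [div_inv hK, sub_neg_eq_add]
    have : Ec c' = (Ec c' - E₀) + E₀ := by abel
    rw [this, hxe]
    abel
  · intro γ
    obtain ⟨D, hD, rfl⟩ := cls_surjective γ
    have hdeg : (D + E₀).deg = m := by rw [deg_add, hD, hE₀, zero_add]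
    refine ⟨clOD hC m (D + E₀) hdeg, ?_⟩
    have h1 : PicF.cl (OD hC (D + E₀)) = PicF.cl (OD hC (Ec (clOD hC m (D + E₀) hdeg))) :=
      hEc (clOD hC m (D + E₀) hdeg)
    obtain ⟨x, hx, hxe⟩ := (cl_OD_eq_iff hC _ _).mp h1
    symm
    rw [cls_eq_iff hK hD (hdeg0 _)]
    refine ⟨x⁻¹, inv_ne_zero hx, ?_⟩
    rw [hxe, div_inv hK]
    abel

include hC in
theorem finite_picM (m : ℤ) : Finite (PicM k C m) := by
  have hK := isFunctionField_of_curve hC
  obtain ⟨e⟩ := nonempty_equiv hC m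
  haveI := finite_Cl0 hK
  exact Finite.of_equiv _ e.symm

include hC in
theorem nonempty_picM (m : ℤ) : Nonempty (PicM k C m) := by
  obtain ⟨e⟩ := nonempty_equiv hC m
  exact ⟨e.symm 0⟩

include hC in
theorem card_picM (m : ℤ) : Nat.card (PicM k C m) = classNum k C.functionField := by
  obtain ⟨e⟩ := nonempty_equiv hC m
  exact Nat.card_congr e

end Groth.Agent.Lib.Helper67.CurvePic
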