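import Groth.Agent.Lib.Helper67.CurvePoints
import Groth.Agent.FunFld.PlaceExt

/-!
# Points of a curve and places of its function field
-/

set_option autoImplicit false
universe u
open CategoryTheory AlgebraicGeometry IsLocalRing FunFld

namespace Groth.Agent.Lib.Helper67.CurvePlaces

open Groth.Agent.Lib.Helper67 Groth.Agent.Lib.Helper67.CurveFF Groth.Agent.Lib.Helper67.CurveVal
  Groth.Agent.Lib.Helper67.CurveBasic Groth.Agent.Lib.Helper67.CurveTop Groth.Agent.FF

variable {k : Type u} [Field k] {C : Scheme.{u}} (f : C ⟶ Spec (CommRingCat.of k)) [IsIntegral C]

/-- the `k`-algebra structure of the function field -/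
@[reducible] noncomputable def algK : Algebra k C.functionField :=
  (stalkHom f (genericPoint C)).toAlgebra

theorem valSubring_genericPoint [ValuationRing (C.presheaf.stalk (genericPoint C))] :
    valSubring (genericPoint C) = ⊤ := by
  rw [eq_top_iff]
  intro a _
  refine ⟨a, ?_⟩
  rw [algebraMap_stalk_eq]
  have : C.presheaf.stalkSpecializes (specializes_refl (genericPoint C)) = 𝟙 _ :=
    TopCat.Presheaf.stalkSpecializes_refl _ _
  exact congrArg (fun ψ => ψ.hom a) this

section Bij

variable [hval : ∀ x : C, ValuationRing (C.presheaf.stalk x)]

theorem exists_place (hK : letI := algK f; IsFunctionField k C.functionField) (x : C)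
    (hx : x ≠ genericPoint C) :
    letI := algK f
    ∃ P : Place k C.functionField, P.O = valSubring x := by
  letI := algK f
  exact exists_place_of_valuationSubring (valSubring x) (stalkHom_mem_valSubring f x) hK
    (valSubring_ne_top x hx)

theorem exists_point (hex : ValuativeCriterion.Existence f)
    (P : letI := algK f; Place k C.functionField) :
    letI := algK f
    ∃ x : C, x ≠ genericPoint C ∧ P.O = valSubring x := by
  letI := algK f
  obtain ⟨x, hx⟩ := exists_valSubring_eq f hex P.O (fun c => P.2.1 c)
  refine ⟨x, ?_, hx.symm⟩
  rintro rfl
  rw [valSubring_genericPoint] at hx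
  exact place_O_ne_top P hx.symm

/-- the place of a point other than the generic point -/
noncomputable def placeOf (hK : letI := algK f; IsFunctionField k C.functionField) (x : C)
    (hx : x ≠ genericPoint C) : letI := algK f; Place k C.functionField :=
  letI := algK f
  Classical.choose (exists_place f hK x hx)

theorem placeOf_O (hK : letI := algK f; IsFunctionField k C.functionField) (x : C)
    (hx : x ≠ genericPoint C) :
    letI := algK f
    (placeOf f hK x hx).O = valSubring x := by
  letI := algK f
  exact Classical.choose_spec (exists_place f hK x hx)

theorem placeOf_bijective (hK : letI := algK f; IsFunctionField k C.functionField)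
    (hex : ValuativeCriterion.Existence f) (huniq : ValuativeCriterion.Uniqueness f) :
    letI := algK f
    Function.Bijective (fun x : {x : C // x ≠ genericPoint C} => placeOf f hK x.1 x.2) := by
  letI := algK f
  constructor
  · rintro ⟨x, hx⟩ ⟨y, hy⟩ hxy
    apply Subtype.ext
    apply valSubring_injective f huniq x y
    rw [← placeOf_O f hK x hx, ← placeOf_O f hK y hy]
    exact congrArg (fun P : Place k C.functionField => P.O) hxy
  · intro P
    obtain ⟨x, hx, hPx⟩ := exists_point f hex P
    refine ⟨⟨x, hx⟩, ?_⟩
    apply place_ext_of_O_eq
    rw [hPx]
    exact placeOf_O f hK x hx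

end Bij

/-- the degree of a place is the residue degree of its centre -/
theorem deg_eq_residueDegree (x : C) [ValuationRing (C.presheaf.stalk x)]
    (P : letI := algK f; Place k C.functionField)
    (h : letI := algK f; P.O = valSubring x) :
    letI := algK f
    P.deg = EGA4loc.residueDegree f x := by
  letI := algK f
  rw [← finrank_strHom]
  let φ : C.presheaf.stalk x →+* P.O := toValSubring x P.O h.symm
  have hφ : Function.Bijective φ := toValSubring_bijective x P.O h.symm
  let e : C.presheaf.stalk x ≃+* P.O := RingEquiv.ofBijective φ hφ
  let ē : C.residueField x ≃+* IsLocalRing.ResidueField P.O :=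
    (IsLocalRing.ResidueField.mapEquiv e : IsLocalRing.ResidueField (C.presheaf.stalk x) ≃+* _)
  letI a1 : Algebra k (C.residueField x) := (strHom f x).toAlgebra
  have hcomm : ∀ c : k, ē (strHom f x c) = algebraMap k (IsLocalRing.ResidueField P.O) c := by
    intro c
    have h1 : strHom f x c = (C.residue x).hom (stalkHom f x c) := by
      have := congrArg (fun ψ => ψ c) (residue_comp_stalkHom f x)
      exact this.symm
    rw [h1]
    have h2 : ē ((C.residue x).hom (stalkHom f x c)) =
        IsLocalRing.residue _ (e (stalkHom f x c)) := rfl
    rw [h2]
    have h3 : e (stalkHom f x c) = algebraMap k P.O c := by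
      apply Subtype.ext
      show algebraMap (C.presheaf.stalk x) C.functionField (stalkHom f x c) =
        stalkHom f (genericPoint C) c
      rw [algebraMap_stalk_eq, ← stalkSpecializes_comp_stalkHom f
        ((genericPoint_spec C).specializes trivial)]
      rfl
    rw [h3]
    rfl
  let L : C.residueField x ≃ₗ[k] IsLocalRing.ResidueField P.O :=
    { ē.toAddEquiv with
      map_smul' := fun c z => by
        show ē (c • z) = c • ē z
        rw [Algebra.smul_def, Algebra.smul_def, map_mul]
        congr 1
        exact hcomm c }
  exact L.finrank_eq.symm

end Groth.Agent.Lib.Helper67.CurvePlaces
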