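import Mathlib.Topology.KrullDimension
import Mathlib.Topology.Sober
import Mathlib.Topology.Separation.Basic

/-!
# Points of an irreducible sober space of dimension one
-/

set_option autoImplicit false

namespace Groth.Agent.Lib.Helper67.CurveTop

open TopologicalSpace

variable {X : Type*} [TopologicalSpace X]

/-- in an irreducible `T0` space of dimension at most one, every point other than a generic point
is closed -/
theorem isClosed_singleton_of_not_dense [T0Space X] [IrreducibleSpace X]
    (hdim : topologicalKrullDim X ≤ 1) (x : X)
    (hx : closure ({x} : Set X) ≠ Set.univ) : IsClosed ({x} : Set X) := by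
  by_contra hcl
  have hne : closure ({x} : Set X) ≠ {x} := fun h => hcl (h ▸ isClosed_closure)
  obtain ⟨y, hy, hyx⟩ : ∃ y ∈ closure ({x} : Set X), y ≠ x := by
    by_contra hno
    push Not at hno
    apply hne
    ext z
    constructor
    · intro hz; exact hno z hz
    · rintro rfl; exact subset_closure rfl
  let s0 : IrreducibleCloseds X := ⟨closure {y}, isIrreducible_singleton.closure, isClosed_closure⟩
  let s1 : IrreducibleCloseds X := ⟨closure {x}, isIrreducible_singleton.closure, isClosed_closure⟩
  let s2 : IrreducibleCloseds X := ⟨Set.univ, IrreducibleSpace.isIrreducible_univ X, isClosed_univ⟩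
  have h01 : s0 < s1 := by
    refine lt_of_le_of_ne ?_ ?_
    · show closure ({y} : Set X) ⊆ closure {x}
      exact closure_minimal (Set.singleton_subset_iff.mpr hy) isClosed_closure
    · intro h
      have h' : closure ({y} : Set X) = closure {x} := congrArg IrreducibleCloseds.carrier h
      have hinsep : Inseparable y x := inseparable_iff_closure_eq.mpr h'
      exact hyx hinsep.eq
  have h12 : s1 < s2 := by
    refine lt_of_le_of_ne ?_ ?_
    · show closure ({x} : Set X) ⊆ Set.univ
      exact Set.subset_univ _
    · intro h
      exact hx (congrArg IrreducibleCloseds.carrier h)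
  let l : LTSeries (IrreducibleCloseds X) :=
    LTSeries.mk 2 ![s0, s1, s2] (by
      intro i j hij
      fin_cases i <;> fin_cases j <;> first | exact absurd hij (by decide) | skip
      · exact h01
      · exact h01.trans h12
      · exact h12)
  have hl : l.length = 2 := rfl
  have h2 : ((2 : ℕ) : WithBot ℕ∞) ≤ topologicalKrullDim X := by
    rw [← hl]
    exact Order.LTSeries.length_le_krullDim l
  have := h2.trans hdim
  norm_cast at this

/-- a space of dimension one is not a single point -/
theorem not_subsingleton_of_dim_eq_one (hdim : topologicalKrullDim X = 1) :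
    ¬ Subsingleton X := by
  intro hsub
  have h0 : topologicalKrullDim X ≤ 0 := by
    unfold topologicalKrullDim
    haveI : Subsingleton (IrreducibleCloseds X) := ⟨fun a b => by
      apply IrreducibleCloseds.ext
      ext z
      obtain ⟨za, hza⟩ := a.isIrreducible'.nonempty
      obtain ⟨zb, hzb⟩ := b.isIrreducible'.nonempty
      constructor
      · intro _; rw [Subsingleton.elim z zb]; exact hzb
      · intro _; rw [Subsingleton.elim z za]; exact hza⟩
    exact Order.krullDim_nonpos_of_subsingleton
  rw [hdim] at h0
  norm_cast at h0

end Groth.Agent.Lib.Helper67.CurveTop
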