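import Groth.Agent.Lib.Helper67.FFClassNum

/-!
# The functional equation of the zeta function of a function field over a finite field
-/

set_option autoImplicit false

open FunFld PowerSeries

namespace Groth.Agent.Lib.Helper67.FFFunEq

open Groth.Agent.FF Groth.Agent.Lib.Helper67.FFSchmidt Groth.Agent.Lib.Helper67.FFCount
  Groth.Agent.Lib.Helper67.FFClass Groth.Agent.Lib.Helper67.FFRational

universe u v
variable {k : Type u} {K : Type v} [Field k] [Field K] [Algebra k K]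

/-- a representative of a degree zero divisor class -/
noncomputable def rep (c : Cl0 k K) : Divisor k K := Classical.choose (cls_surjective c)

lemma deg_rep (c : Cl0 k K) : (rep c).deg = 0 :=
  Classical.choose (Classical.choose_spec (cls_surjective c))

lemma cls_rep (c : Cl0 k K) : cls (rep c) (deg_rep c) = c :=
  Classical.choose_spec (Classical.choose_spec (cls_surjective c))

lemma cls_sub (A B : Divisor k K) (hA : A.deg = 0) (hB : B.deg = 0) :
    cls (A - B) (by rw [deg_sub, hA, hB, sub_self]) = cls A hA - cls B hB := rfl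

/-- `ℓ` only depends on the linear equivalence class -/
lemma ell_eq_of_cls_eq (hK : IsFunctionField k K) {A B : Divisor k K} (hA : A.deg = 0)
    (hB : B.deg = 0) (h : cls A hA = cls B hB) (D : Divisor k K) :
    ell (B + D) = ell (A + D) := by
  obtain ⟨x, hx, hBA⟩ := (cls_eq_iff hK hA hB).mp h
  rw [hBA, add_right_comm, ell_add_div hK _ hx]

variable [Fintype (Cl0 k K)]

/-- `S(n) = ∑_{classes of degree n} q^ℓ` -/
noncomputable def S (D₁ : Divisor k K) (n : ℤ) : ℚ :=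
  ∑ c : Cl0 k K, (Nat.card k : ℚ) ^ (ell (rep c + n • D₁))

lemma deg_rep_add (D₁ : Divisor k K) (hD₁ : D₁.deg = 1) (c : Cl0 k K) (n : ℤ) :
    (rep c + n • D₁).deg = n := by
  rw [deg_add, deg_rep, deg_zsmul, hD₁, zero_add, mul_one]

lemma classNum_eq_card : classNum k K = Fintype.card (Cl0 k K) := by
  unfold classNum
  exact Nat.card_eq_fintype_card

/-- `S(n) = h` for `n < 0` -/
lemma S_of_neg (hK : IsFunctionField k K) (D₁ : Divisor k K) (hD₁ : D₁.deg = 1) (n : ℤ)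
    (hn : n < 0) : S D₁ n = (classNum k K : ℚ) := by
  unfold S
  have : ∀ c : Cl0 k K, (Nat.card k : ℚ) ^ (ell (rep c + n • D₁)) = 1 := by
    intro c
    rw [ell_eq_zero_of_deg_neg hK _ (by rw [deg_rep_add D₁ hD₁]; exact hn), pow_zero]
  rw [Finset.sum_congr rfl (fun c _ => this c), Finset.sum_const, Finset.card_univ,
    classNum_eq_card]
  simp

/-- `(q - 1) a(n) = S(n) - h` -/
lemma S_of_nonneg [Finite k] (hK : IsFunctionField k K) (D₁ : Divisor k K) (hD₁ : D₁.deg = 1)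
    (n : ℕ) : ((Nat.card k : ℚ) - 1) * (effDivCount k K n : ℚ) =
      S D₁ (n : ℤ) - (classNum k K : ℚ) := by
  classical
  have hq := two_le_card (k := k)
  have hD₁' : ((n : ℤ) • D₁).deg = n := by rw [deg_zsmul, hD₁, mul_one]
  have hfinE : Finite (Eff k K n) :=
    (Groth.Agent.Lib.Helper67.FFFin.finite_effective_deg_eq hK n).to_subtype
  have hcard : effDivCount k K n =
      ∑ c : Cl0 k K, Nat.card (LinSys (rep c + (n : ℤ) • D₁)) := by
    show Nat.card (Eff k K n) = _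
    rw [← Nat.card_congr (Equiv.sigmaFiberEquiv (clsRel ((n : ℤ) • D₁) hD₁')), Nat.card_sigma]
    refine Finset.sum_congr rfl fun c _ => ?_
    exact Nat.card_congr ((Equiv.subtypeEquivRight (fun D => by rw [cls_rep c])).trans
      (fibreEquiv hK ((n : ℤ) • D₁) hD₁' (rep c) (deg_rep c)))
  rw [hcard]
  unfold S
  push_cast
  rw [Finset.mul_sum]
  have hterm : ∀ c : Cl0 k K, ((Nat.card k : ℚ) - 1) * (Nat.card (LinSys (rep c + (n : ℤ) • D₁)) : ℚ)
      = (Nat.card k : ℚ) ^ (ell (rep c + (n : ℤ) • D₁)) - 1 := by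
    intro c
    have h1 := card_linSys_mul hK (rep c + (n : ℤ) • D₁)
    have h2 : ((Nat.card (LinSys (rep c + (n : ℤ) • D₁)) * (Nat.card k - 1) : ℕ) : ℚ) =
        ((Nat.card k ^ ell (rep c + (n : ℤ) • D₁) - 1 : ℕ) : ℚ) := by rw [h1]
    have hpow : 1 ≤ Nat.card k ^ ell (rep c + (n : ℤ) • D₁) := Nat.one_le_pow _ _ (by omega)
    rw [Nat.cast_mul, Nat.cast_sub (by omega : 1 ≤ Nat.card k), Nat.cast_sub hpow] at h2
    push_cast at h2
    linarith
  rw [Finset.sum_congr rfl (fun c _ => hterm c), Finset.sum_sub_distrib, Finset.sum_const,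
    Finset.card_univ, classNum_eq_card]
  simp

end Groth.Agent.Lib.Helper67.FFFunEq

namespace Groth.Agent.Lib.Helper67.FFFunEq

open Groth.Agent.FF Groth.Agent.Lib.Helper67.FFSchmidt Groth.Agent.Lib.Helper67.FFCount
  Groth.Agent.Lib.Helper67.FFClass Groth.Agent.Lib.Helper67.FFRational

universe u v
variable {k : Type u} {K : Type v} [Field k] [Field K] [Algebra k K] [Fintype (Cl0 k K)]

/-- Riemann–Roch symmetry: `S(n) = q^(n+1-g) S(2g-2-n)` -/
lemma S_symm [Finite k] (hK : IsFunctionField k K) (D₁ : Divisor k K) (hD₁ : D₁.deg = 1)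
    (n : ℤ) : S D₁ n = (Nat.card k : ℚ) ^ (n + 1 - (genus k K : ℤ)) *
      S D₁ (2 * (genus k K : ℤ) - 2 - n) := by
  classical
  have hq := two_le_card (k := k)
  have hq0 : (Nat.card k : ℚ) ≠ 0 := by
    have : (0 : ℚ) < (Nat.card k : ℚ) := by exact_mod_cast (by omega : 0 < Nat.card k)
    exact this.ne'
  obtain ⟨W, hW⟩ := exists_isCanonical hK
  set g := genus k K with hg
  set m : ℤ := 2 * (g : ℤ) - 2 - n with hm
  have hdegW : (W - (2 * (g : ℤ) - 2) • D₁).deg = 0 := by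
    rw [deg_sub, deg_canonical hK hW, deg_zsmul, hD₁]; ring
  set w : Cl0 k K := cls (W - (2 * (g : ℤ) - 2) • D₁) hdegW with hw
  have hterm : ∀ c : Cl0 k K, (Nat.card k : ℚ) ^ (ell (rep c + n • D₁)) =
      (Nat.card k : ℚ) ^ (n + 1 - (g : ℤ)) * (Nat.card k : ℚ) ^ (ell (rep (w - c) + m • D₁)) := by
    intro c
    have hrr := riemann_roch hK hW (rep c + n • D₁)
    rw [deg_rep_add D₁ hD₁] at hrr
    have hA : (W - (2 * (g : ℤ) - 2) • D₁ - rep c).deg = 0 := by
      rw [deg_sub, hdegW, deg_rep, sub_self]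
    have hcls : cls (rep (w - c)) (deg_rep (w - c)) = cls (W - (2 * (g : ℤ) - 2) • D₁ - rep c) hA := by
      rw [cls_rep, cls_sub _ _ hdegW (deg_rep c), cls_rep]
    have hell := ell_eq_of_cls_eq hK (deg_rep (w - c)) hA hcls (m • D₁)
    have hdiv : W - (rep c + n • D₁) = W - (2 * (g : ℤ) - 2) • D₁ - rep c + m • D₁ := by
      have hmD : m • D₁ = (2 * (g : ℤ) - 2) • D₁ - n • D₁ := by rw [hm, ← sub_smul]
      rw [hmD]
      generalize (2 * (g : ℤ) - 2) • D₁ = X
      generalize n • D₁ = Y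
      abel
    rw [hdiv, hell] at hrr
    rw [← zpow_natCast, hrr, zpow_add₀ hq0, zpow_natCast]
  unfold S
  rw [Finset.sum_congr rfl (fun c _ => hterm c), ← Finset.mul_sum]
  congr 1
  exact Equiv.sum_comp (Equiv.subLeft w)
    (fun c => (Nat.card k : ℚ) ^ (ell (rep c + m • D₁)))

end Groth.Agent.Lib.Helper67.FFFunEq

namespace Groth.Agent.Lib.Helper67.FFFunEq

open Groth.Agent.FF Groth.Agent.Lib.Helper67.FFSchmidt Groth.Agent.Lib.Helper67.FFCount
  Groth.Agent.Lib.Helper67.FFClass Groth.Agent.Lib.Helper67.FFRational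

universe u v
variable {k : Type u} {K : Type v} [Field k] [Field K] [Algebra k K] [Fintype (Cl0 k K)]

/-- `T(n) = S(n) - (1+q) S(n-1) + q S(n-2)` -/
noncomputable def T (D₁ : Divisor k K) (n : ℤ) : ℚ :=
  S D₁ n - (1 + (Nat.card k : ℚ)) * S D₁ (n - 1) + (Nat.card k : ℚ) * S D₁ (n - 2)

lemma effDivCount_zero [Finite k] (hK : IsFunctionField k K) : effDivCount k K 0 = 1 := by
  rw [Groth.Agent.Lib.Helper67.FFZetaSeries.effDivCount_eq_cnt,
    Groth.Agent.Lib.Helper67.DegCount.cnt_zero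
      (Groth.Agent.Lib.Helper67.FFConstExt.admissible_deg hK)]

lemma coeff_numerZ_zero : coeff 0 (numerZ k K) = (effDivCount k K 0 : ℤ) := by
  rw [numerZ_eq, map_add, map_sub, coeff_C_mul, coeff_C_mul, coeff_zetaZ]
  have h1 : coeff 0 (X * zetaZ k K) = 0 := by
    rw [coeff_zero_eq_constantCoeff_apply, map_mul, constantCoeff_X, zero_mul]
  have h2 : coeff 0 (X * (X * zetaZ k K)) = 0 := by
    rw [coeff_zero_eq_constantCoeff_apply, map_mul, constantCoeff_X, zero_mul]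
  rw [h1, h2, mul_zero, mul_zero, sub_zero, add_zero]

/-- `(q - 1) Lₙ = T(n)` -/
lemma coeff_numerZ_eq_T [Finite k] (hK : IsFunctionField k K) (D₁ : Divisor k K)
    (hD₁ : D₁.deg = 1) (n : ℕ) :
    ((Nat.card k : ℚ) - 1) * ((coeff n (numerZ k K) : ℤ) : ℚ) = T D₁ (n : ℤ) := by
  unfold T
  match n with
  | 0 =>
    rw [coeff_numerZ_zero, S_of_neg hK D₁ hD₁ (((0 : ℕ) : ℤ) - 1) (by simp),
      S_of_neg hK D₁ hD₁ (((0 : ℕ) : ℤ) - 2) (by simp)]
    have h0 := S_of_nonneg hK D₁ hD₁ 0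
    push_cast at h0 ⊢
    linarith
  | 1 =>
    rw [coeff_numerZ_one, S_of_neg hK D₁ hD₁ (((1 : ℕ) : ℤ) - 2) (by simp)]
    have h0 := S_of_nonneg hK D₁ hD₁ 0
    have h1 := S_of_nonneg hK D₁ hD₁ 1
    have e : (((1 : ℕ) : ℤ) - 1) = ((0 : ℕ) : ℤ) := by simp
    rw [e]
    push_cast at h0 h1 ⊢
    linear_combination h1 - (1 + (Nat.card k : ℚ)) * h0
  | m + 2 =>
    rw [coeff_numerZ_add_two]
    have h0 := S_of_nonneg hK D₁ hD₁ m
    have h1 := S_of_nonneg hK D₁ hD₁ (m + 1)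
    have h2 := S_of_nonneg hK D₁ hD₁ (m + 2)
    have e1 : (((m + 2 : ℕ) : ℤ) - 1) = ((m + 1 : ℕ) : ℤ) := by push_cast; ring
    have e2 : (((m + 2 : ℕ) : ℤ) - 2) = ((m : ℕ) : ℤ) := by push_cast; ring
    rw [e1, e2]
    push_cast at h0 h1 h2 ⊢
    linear_combination h2 - (1 + (Nat.card k : ℚ)) * h1 + (Nat.card k : ℚ) * h0

/-- `T(2g - i) = q^(g-i) T(i)` -/
lemma T_symm [Finite k] (hK : IsFunctionField k K) (D₁ : Divisor k K) (hD₁ : D₁.deg = 1)
    (i : ℤ) : T D₁ (2 * (genus k K : ℤ) - i) =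
      (Nat.card k : ℚ) ^ ((genus k K : ℤ) - i) * T D₁ i := by
  have hq := two_le_card (k := k)
  have hq0 : (Nat.card k : ℚ) ≠ 0 := by
    have : (0 : ℚ) < (Nat.card k : ℚ) := by exact_mod_cast (by omega : 0 < Nat.card k)
    exact this.ne'
  unfold T
  set g : ℤ := (genus k K : ℤ) with hg
  rw [S_symm hK D₁ hD₁ (2 * g - i), S_symm hK D₁ hD₁ (2 * g - i - 1),
    S_symm hK D₁ hD₁ (2 * g - i - 2)]
  have e1 : 2 * g - 2 - (2 * g - i) = i - 2 := by ring
  have e2 : 2 * g - 2 - (2 * g - i - 1) = i - 1 := by ring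
  have e3 : 2 * g - 2 - (2 * g - i - 2) = i := by ring
  have p1 : (Nat.card k : ℚ) ^ (2 * g - i + 1 - g) = (Nat.card k : ℚ) ^ (g - i) * (Nat.card k : ℚ) := by
    rw [show 2 * g - i + 1 - g = (g - i) + 1 by ring, zpow_add₀ hq0, zpow_one]
  have p2 : (Nat.card k : ℚ) ^ (2 * g - i - 1 + 1 - g) = (Nat.card k : ℚ) ^ (g - i) := by
    rw [show 2 * g - i - 1 + 1 - g = (g - i) by ring]
  have p3 : (Nat.card k : ℚ) ^ (2 * g - i - 2 + 1 - g) * (Nat.card k : ℚ) =
      (Nat.card k : ℚ) ^ (g - i) := by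
    rw [show g - i = (2 * g - i - 2 + 1 - g) + 1 by ring, zpow_add₀ hq0, zpow_one]
  rw [e1, e2, e3, p1, p2]
  rw [← p3]
  ring

/-- the functional equation for the coefficients of the numerator of the zeta function -/
theorem coeff_numerZ_symm [Finite k] (hK : IsFunctionField k K) (i : ℕ)
    (hi : i ≤ 2 * genus k K) :
    (((coeff (2 * genus k K - i) (numerZ k K) : ℤ)) : ℚ) =
      (Nat.card k : ℚ) ^ ((genus k K : ℤ) - i) * (((coeff i (numerZ k K) : ℤ)) : ℚ) := by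
  have hq := two_le_card (k := k)
  have hq1 : (Nat.card k : ℚ) - 1 ≠ 0 := by
    have : (2 : ℚ) ≤ (Nat.card k : ℚ) := by exact_mod_cast hq
    intro h
    linarith
  obtain ⟨D₁, hD₁⟩ := exists_deg_one hK
  have h1 := coeff_numerZ_eq_T hK D₁ hD₁ (2 * genus k K - i)
  have h2 := coeff_numerZ_eq_T hK D₁ hD₁ i
  have e : ((2 * genus k K - i : ℕ) : ℤ) = 2 * (genus k K : ℤ) - i := by
    rw [Nat.cast_sub hi]; push_cast; ring
  rw [e, T_symm hK D₁ hD₁, ← h2] at h1
  apply mul_left_cancel₀ hq1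
  rw [h1]
  ring

end Groth.Agent.Lib.Helper67.FFFunEq
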