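import Mathlib.RingTheory.Polynomial.ScaleRoots
import Mathlib.Algebra.Polynomial.Splits
import Mathlib.Algebra.Polynomial.Reverse
import Mathlib.FieldTheory.IsAlgClosed.Basic
import Mathlib.Analysis.Complex.Polynomial.Basic
import Mathlib.RingTheory.IntegralClosure.IsIntegral.Basic
import Mathlib.Tactic

/-!
# Pairing the reciprocal roots of a self-reciprocal polynomial
-/

set_option autoImplicit false

namespace Groth.Agent.Lib.Helper67.PairRoots

/-- Decomposition of a multiset invariant under an involution into pairs and fixed points. -/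
theorem exists_pair_decomp {A : Type*} [DecidableEq A] (σ : A → A) (hσ : Function.Involutive σ) :
    ∀ (n : ℕ) (M : Multiset A), M.card = n → M.map σ = M →
      ∃ L F : Multiset A, M = L + L.map σ + F ∧ ∀ x ∈ F, σ x = x := by
  intro n
  induction n using Nat.strong_induction_on with
  | _ n ih =>
    intro M hM hinv
    by_cases h : ∀ x ∈ M, σ x = x
    · exact ⟨0, M, by simp, h⟩
    · push Not at h
      obtain ⟨x, hx, hne⟩ := h
      have hσx : σ x ∈ M := by
        rw [← hinv]
        exact Multiset.mem_map_of_mem σ hx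
      have hσx' : σ x ∈ M.erase x := (Multiset.mem_erase_of_ne hne).mpr hσx
      have hMeq : M = x ::ₘ σ x ::ₘ (M.erase x).erase (σ x) := by
        rw [Multiset.cons_erase hσx', Multiset.cons_erase hx]
      have hcard : ((M.erase x).erase (σ x)).card + 2 = n := by
        rw [← hM]
        conv_rhs => rw [hMeq]
        simp
      have hinv' : ((M.erase x).erase (σ x)).map σ = (M.erase x).erase (σ x) := by
        rw [Multiset.map_erase _ hσ.injective, Multiset.map_erase _ hσ.injective, hinv, hσ x,
          Multiset.erase_comm]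
      obtain ⟨L, F, hLF, hF⟩ := ih _ (by omega) _ rfl hinv'
      refine ⟨x ::ₘ L, F, ?_, hF⟩
      conv_lhs => rw [hMeq, hLF]
      simp [Multiset.map_cons, add_assoc]
      exact Multiset.cons_swap _ _ _

/-- `x ↦ q / x` is an involution. -/
lemma involutive_div {F : Type*} [Field F] (q : F) (hq : q ≠ 0) :
    Function.Involutive (fun x : F => q / x) := by
  intro x
  by_cases hx : x = 0
  · simp [hx]
  · show q / (q / x) = x
    field_simp

/-- A multiset of nonzero elements of a field, invariant under `x ↦ q / x`, of even cardinality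
`2g` and product `q^g`, splits into a multiset and its image under `x ↦ q / x`. -/
theorem exists_half {F : Type*} [Field F] [DecidableEq F] (h2 : (-1 : F) ≠ 1)
    (q s : F) (hs : s * s = q) (hq : q ≠ 0) (g : ℕ) (A : Multiset F) (h0 : (0 : F) ∉ A)
    (hinv : A.map (fun x => q / x) = A) (hcard : A.card = 2 * g) (hprod : A.prod = q ^ g) :
    ∃ L : Multiset F, A = L + L.map (fun x => q / x) := by
  obtain ⟨L, Fx, hLF, hFx⟩ := exists_pair_decomp _ (involutive_div q hq) _ A rfl hinv
  have hs0 : s ≠ 0 := by
    rintro rfl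
    exact hq (by rw [← hs, mul_zero])
  have hns : -s ≠ s := by
    intro h
    apply h2
    have : (-1 : F) * s = 1 * s := by rw [neg_one_mul, one_mul, h]
    exact mul_right_cancel₀ hs0 this
  have hσs : q / s = s := by rw [← hs]; field_simp
  have hσns : q / (-s) = -s := by rw [div_neg, hσs]
  have hLA : ∀ x ∈ L, x ≠ 0 := by
    intro x hx h
    apply h0
    rw [hLF, ← h]
    exact Multiset.mem_add.mpr (Or.inl (Multiset.mem_add.mpr (Or.inl hx)))
  have hFA : ∀ x ∈ Fx, x = s ∨ x = -s := by
    intro x hx
    have hx0 : x ≠ 0 := by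
      intro h
      apply h0
      rw [hLF, ← h]
      exact Multiset.mem_add.mpr (Or.inr hx)
    have h1 : q / x = x := hFx x hx
    have h3 : (x - s) * (x + s) = 0 := by
      rw [div_eq_iff hx0] at h1
      rw [← hs] at h1
      linear_combination -h1
    rcases mul_eq_zero.mp h3 with h | h
    · left; linear_combination h
    · right; linear_combination h
  set a := Fx.count s with ha
  set b := Fx.count (-s) with hb
  have hFeq : Fx = Multiset.replicate a s + Multiset.replicate b (-s) := by
    ext y
    rw [Multiset.count_add, Multiset.count_replicate, Multiset.count_replicate]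
    by_cases hy1 : y = s
    · subst hy1
      rw [if_pos rfl, if_neg hns, add_zero]
    · by_cases hy2 : y = -s
      · subst hy2
        rw [if_neg (Ne.symm hy1), if_pos rfl, zero_add]
      · rw [if_neg (Ne.symm hy1), if_neg (Ne.symm hy2), add_zero]
        apply Multiset.count_eq_zero_of_notMem
        intro hy
        rcases hFA y hy with h | h
        · exact hy1 h
        · exact hy2 h
  have hLprod : L.prod * (L.map (fun x => q / x)).prod = q ^ L.card := by
    have h1 : L.prod * (L.map (fun x => q / x)).prod = (L.map (fun x => x * (q / x))).prod := by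
      rw [Multiset.prod_map_mul, Multiset.map_id']
    rw [h1]
    have h3 : L.map (fun x => x * (q / x)) = L.map (fun _ => q) := by
      apply Multiset.map_congr rfl
      intro x hx
      have := hLA x hx
      field_simp
    rw [h3, Multiset.map_const', Multiset.prod_replicate]
  have hc : 2 * g = 2 * L.card + a + b := by
    rw [← hcard, hLF, hFeq]
    simp
    ring
  have hp : q ^ L.card * (s ^ a * (-s) ^ b) = q ^ g := by
    rw [← hprod, hLF, hFeq]
    rw [Multiset.prod_add, Multiset.prod_add, Multiset.prod_add, hLprod, Multiset.prod_replicate,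
      Multiset.prod_replicate]
  have hgc : L.card ≤ g := by omega
  have hab : a + b = 2 * (g - L.card) := by omega
  have hsab : s ^ (a + b) = q ^ (g - L.card) := by
    rw [hab, pow_mul, pow_two, hs]
  have hneg : (-1 : F) ^ b = 1 := by
    have h1 : q ^ g * (-1 : F) ^ b = q ^ g := by
      have h3 : q ^ g = q ^ L.card * q ^ (g - L.card) := by
        rw [← pow_add]; congr 1; omega
      calc q ^ g * (-1 : F) ^ b = q ^ L.card * (s ^ (a + b)) * (-1 : F) ^ b := by
            rw [hsab, ← h3]
        _ = q ^ L.card * (s ^ a * (-s) ^ b) := by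
            rw [neg_pow s b, pow_add]; ring
        _ = q ^ g := hp
    have hqg : q ^ g ≠ 0 := pow_ne_zero _ hq
    exact mul_left_cancel₀ hqg (by rw [h1, mul_one])
  have hbe : Even b := (neg_one_pow_eq_one_iff_even h2).mp hneg
  obtain ⟨b', hb'⟩ := hbe
  have hae : Even a := by
    rw [Nat.even_iff]
    omega
  obtain ⟨a', ha'⟩ := hae
  refine ⟨L + Multiset.replicate a' s + Multiset.replicate b' (-s), ?_⟩
  rw [hLF, hFeq, Multiset.map_add, Multiset.map_add, Multiset.map_replicate,
    Multiset.map_replicate, hσs, hσns, ha', hb', Multiset.replicate_add, Multiset.replicate_add]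
  abel

/-- Number the elements of `L + L.map (q / ·)` so that `αᵢ α_{2g-1-i} = q`. -/
theorem exists_numbering {F : Type*} [Field F] (q : F) (hq : q ≠ 0) (g : ℕ) (L : Multiset F)
    (hL : L.card = g) (hL0 : ∀ x ∈ L, x ≠ 0) :
    ∃ α : Fin (2 * g) → F, (∀ i, α i ∈ L + L.map (fun x => q / x)) ∧
      (∀ {M : Type*} [CommMonoid M] (f : F → M),
        ∏ i, f (α i) = ((L + L.map (fun x => q / x)).map f).prod) ∧
      ∀ i, α i * α (Fin.rev i) = q := by
  set σ : F → F := fun x => q / x with hσ
  have hinv : Function.Involutive σ := involutive_div q hq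
  set l := L.toList with hl
  have hlL : (l : Multiset F) = L := Multiset.coe_toList L
  have hlen : l.length = g := by rw [hl, Multiset.length_toList, hL]
  set l' := l ++ (l.map σ).reverse with hl'
  have hlen' : l'.length = 2 * g := by
    rw [hl', List.length_append, List.length_reverse, List.length_map, hlen]; ring
  have hl'L : (l' : Multiset F) = L + L.map σ := by
    rw [hl', ← Multiset.coe_add, Multiset.coe_reverse, ← Multiset.map_coe, hlL]
  have hpal : l'.reverse = l'.map σ := by
    rw [hl', List.reverse_append, List.reverse_reverse, List.map_append, List.map_reverse,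
      List.map_map]
    congr 2
    rw [hinv.comp_self, List.map_id]
  have hmem0 : ∀ x ∈ l', x ≠ 0 := by
    intro x hx
    have hx' : x ∈ (l' : Multiset F) := hx
    rw [hl'L, Multiset.mem_add, Multiset.mem_map] at hx'
    rcases hx' with h | ⟨y, hy, rfl⟩
    · exact hL0 x h
    · exact div_ne_zero hq (hL0 y hy)
  refine ⟨fun i => l'[i.1]'(by rw [hlen']; exact i.2), ?_, ?_, ?_⟩
  · intro i
    rw [← hl'L]
    exact List.getElem_mem _
  · intro M _ f
    rw [← hl'L, Multiset.map_coe, Multiset.prod_coe, ← Fin.prod_univ_fun_getElem]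
    exact Fintype.prod_equiv (finCongr hlen'.symm) _ _ (fun i => rfl)
  · intro i
    have hi : i.1 < l'.length := by rw [hlen']; exact i.2
    have hri : (Fin.rev i).1 < l'.length := by rw [hlen']; exact (Fin.rev i).2
    have hri' : i.1 < l'.reverse.length := by rw [List.length_reverse]; exact hi
    have h1 : l'[(Fin.rev i).1]'hri = l'.reverse[i.1]'hri' := by
      rw [List.getElem_reverse]
      congr 1
      rw [Fin.val_rev, hlen']
      omega
    have hri'' : i.1 < (l'.map σ).length := by rw [List.length_map]; exact hi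
    have h2 : l'.reverse[i.1]'hri' = (l'.map σ)[i.1]'hri'' := List.getElem_of_eq hpal _
    show l'[i.1]'hi * l'[(Fin.rev i).1]'hri = q
    rw [h1, h2, List.getElem_map]
    have := hmem0 _ (List.getElem_mem hi)
    show l'[i.1] * (q / l'[i.1]) = q
    field_simp

open Polynomial

lemma one_sub_C_mul_X_eq {F : Type*} [Field F] (a : F) (ha : a ≠ 0) :
    (1 - C a * X : F[X]) = C (-a) * (X - C a⁻¹) := by
  rw [mul_sub, ← C_mul, neg_mul, mul_inv_cancel₀ ha, C_neg, C_neg, C_1]
  ring

lemma one_sub_C_mul_X_ne_zero {F : Type*} [Field F] (a : F) : (1 - C a * X : F[X]) ≠ 0 := by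
  intro h
  have := congrArg (fun p => coeff p 0) h
  simp at this

/-- the roots of `∏ (1 - a X)` are the inverses of the `a` -/
lemma roots_prod_one_sub {F : Type*} [Field F] (A : Multiset F) (h0 : (0 : F) ∉ A) :
    ((A.map fun a => (1 - C a * X : F[X])).prod).roots = A.map (·⁻¹) := by
  induction A using Multiset.induction_on with
  | empty => simp
  | cons a A ih =>
    have ha : a ≠ 0 := fun h => h0 (by rw [h]; exact Multiset.mem_cons_self _ _)
    have hA : (0 : F) ∉ A := fun h => h0 (Multiset.mem_cons_of_mem h)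
    rw [Multiset.map_cons, Multiset.prod_cons, Multiset.map_cons]
    have hne : (1 - C a * X : F[X]) * (A.map fun a => (1 - C a * X : F[X])).prod ≠ 0 := by
      apply mul_ne_zero (one_sub_C_mul_X_ne_zero a)
      apply Multiset.prod_ne_zero
      intro h
      obtain ⟨b, _, hb⟩ := Multiset.mem_map.mp h
      exact one_sub_C_mul_X_ne_zero b hb
    rw [roots_mul hne, ih hA, one_sub_C_mul_X_eq a ha, roots_C_mul _ (neg_ne_zero.mpr ha),
      roots_X_sub_C]
    rfl

lemma reverse_one' {F : Type*} [Field F] : (1 : F[X]).reverse = 1 := by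
  rw [← C_1, reverse_C]

lemma reverse_X' {F : Type*} [Field F] : (X : F[X]).reverse = 1 := by
  have := reverse_X_mul (1 : F[X])
  rwa [mul_one, reverse_one'] at this

/-- the reverse of `∏ (X - a)` is `∏ (1 - a X)` -/
lemma reverse_prod_X_sub_C {F : Type*} [Field F] (A : Multiset F) :
    ((A.map fun a => (X - C a : F[X])).prod).reverse = (A.map fun a => (1 - C a * X : F[X])).prod := by
  induction A using Multiset.induction_on with
  | empty => simp [reverse_one']
  | cons a A ih =>
    rw [Multiset.map_cons, Multiset.prod_cons, Multiset.map_cons, Multiset.prod_cons,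
      reverse_mul_of_domain, ih]
    congr 1
    have h1 : (X - C a : F[X]) = X + C (-a) := by rw [C_neg]; ring
    rw [h1, reverse_add_C, natDegree_X, reverse_X', C_neg]
    ring

/-- A polynomial with integer coefficients, constant term `1`, degree `2g`, satisfying the
functional equation `a_{2g-i} qⁱ = q^g aᵢ` factors over `ℂ` as `∏ (1 - αᵢ X)` with algebraic
integers `αᵢ` numbered so that `αᵢ α_{2g-1-i} = q`. -/
theorem exists_paired_roots (p : ℤ[X]) (g : ℕ) (q : ℤ) (hq : q ≠ 0) (hdeg : p.natDegree = 2 * g)
    (h0 : p.coeff 0 = 1)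
    (hFE : ∀ i ≤ 2 * g, p.coeff (2 * g - i) * q ^ i = q ^ g * p.coeff i) :
    ∃ α : Fin (2 * g) → ℂ, (∀ i, IsIntegral ℤ (α i)) ∧
      p.map (Int.castRingHom ℂ) = ∏ i, (1 - C (α i) * X) ∧
      ∀ i, α i * α (Fin.rev i) = (q : ℂ) := by
  classical
  set f := Int.castRingHom ℂ with hf
  have hfinj : Function.Injective f := Int.cast_injective
  have hqC : (q : ℂ) ≠ 0 := by exact_mod_cast hq
  have hp0 : p ≠ 0 := by
    intro h
    rw [h] at h0
    simp at h0
  -- the reversed integer polynomial
  set r := p.reverse with hr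
  have hntd : p.natTrailingDegree = 0 := by
    rw [natTrailingDegree_eq_zero]
    right
    rw [h0]
    exact one_ne_zero
  have hrmonic : r.Monic := by
    show r.leadingCoeff = 1
    rw [hr, reverse_leadingCoeff, trailingCoeff_eq_coeff_zero (by rw [h0]; exact one_ne_zero), h0]
  have hrdeg : r.natDegree = 2 * g := by
    rw [hr, reverse_natDegree, hntd, hdeg, Nat.sub_zero]
  have hlead : p.coeff (2 * g) = q ^ g := by
    have := hFE 0 (Nat.zero_le _)
    rw [Nat.sub_zero, pow_zero, mul_one, h0, mul_one] at this
    exact this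
  have hr0 : r.coeff 0 = q ^ g := by
    rw [hr, coeff_zero_reverse, leadingCoeff, hdeg, hlead]
  -- over ℂ
  set P := p.map f with hP
  set R := r.map f with hR
  have hRmonic : R.Monic := hrmonic.map f
  have hRdeg : R.natDegree = 2 * g := by rw [hR, hrmonic.natDegree_map, hrdeg]
  have hPdeg : P.natDegree = 2 * g := by rw [hP, natDegree_map_eq_of_injective hfinj, hdeg]
  have hRP : R = P.reverse := by
    rw [hR, hr, reverse, reverse, ← reflect_map, hPdeg, hdeg]
  have hPR : P = R.reverse := by
    rw [reverse, hRdeg, hRP, reverse, hPdeg, reflect_reflect]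
  have hsplit : R.Splits := IsAlgClosed.splits R
  set A := R.roots with hA
  have hReq : R = (A.map fun a => (X - C a : ℂ[X])).prod := hsplit.eq_prod_roots_of_monic hRmonic
  have hAcard : A.card = 2 * g := by rw [hA, ← hsplit.natDegree_eq_card_roots, hRdeg]
  have hR0 : R.coeff 0 = (q : ℂ) ^ g := by
    rw [hR, coeff_map, hr0]
    simp [hf]
  have hA0 : (0 : ℂ) ∉ A := by
    intro h
    rw [hA, mem_roots hRmonic.ne_zero, IsRoot, ← coeff_zero_eq_eval_zero, hR0] at h
    exact pow_ne_zero _ hqC h
  have hAprod : A.prod = (q : ℂ) ^ g := by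
    have := hsplit.coeff_zero_eq_prod_roots_of_monic hRmonic
    rw [hR0, hRdeg, pow_mul] at this
    rw [this, hA]
    simp
  have hPeq : P = (A.map fun a => (1 - C a * X : ℂ[X])).prod := by
    rw [hPR, hReq, reverse_prod_X_sub_C]
  have hProots : P.roots = A.map (·⁻¹) := by
    rw [hPeq, roots_prod_one_sub A hA0]
  -- the functional equation
  have hscale : P.scaleRoots (q : ℂ) = C ((q : ℂ) ^ g) * R := by
    ext i
    rw [coeff_scaleRoots, coeff_C_mul, hRP, coeff_reverse, hPdeg]
    by_cases hi : i ≤ 2 * g
    · rw [revAt_le hi, hP, coeff_map, coeff_map]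
      have := hFE (2 * g - i) (Nat.sub_le _ _)
      rw [Nat.sub_sub_self hi] at this
      have h2 := congrArg f this
      simp only [hf, map_mul, map_pow, eq_intCast] at h2 ⊢
      exact h2
    · push Not at hi
      rw [revAt_eq_self_of_lt hi, coeff_eq_zero_of_natDegree_lt (by rw [hPdeg]; exact hi),
        zero_mul, mul_zero]
  have hinv : A.map (fun x => (q : ℂ) / x) = A := by
    have h1 := roots_scaleRoots P (isUnit_iff_ne_zero.mpr hqC)
    rw [hscale, roots_C_mul _ (pow_ne_zero _ hqC), hProots, Multiset.map_map] at h1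
    rw [← hA] at h1
    have h3 : A.map (fun x => (q : ℂ) / x) = A.map ((fun x => (q : ℂ) * x) ∘ fun x => x⁻¹) := by
      apply Multiset.map_congr rfl
      intro x _
      simp [div_eq_mul_inv]
    rw [h3]
    exact h1.symm
  obtain ⟨s, hs⟩ := IsAlgClosed.exists_eq_mul_self (q : ℂ)
  have h2 : (-1 : ℂ) ≠ 1 := by norm_num
  obtain ⟨L, hL⟩ := exists_half h2 (q : ℂ) s hs.symm hqC g A hA0 hinv hAcard hAprod
  have hLcard : L.card = g := by
    have := hAcard
    rw [hL, Multiset.card_add, Multiset.card_map] at this
    omega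
  have hL0 : ∀ x ∈ L, x ≠ 0 := by
    intro x hx h
    apply hA0
    rw [hL, ← h]
    exact Multiset.mem_add.mpr (Or.inl hx)
  obtain ⟨α, hα1, hα2, hα3⟩ := exists_numbering (q : ℂ) hqC g L hLcard hL0
  refine ⟨α, ?_, ?_, hα3⟩
  · intro i
    have hi := hα1 i
    rw [← hL, hA, mem_roots hRmonic.ne_zero, IsRoot, hR, eval_map] at hi
    exact ⟨r, hrmonic, hi⟩
  · rw [hPeq, hL]
    exact (hα2 (fun a => (1 - C a * X : ℂ[X]))).symm

end Groth.Agent.Lib.Helper67.PairRoots
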