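import Groth.Agent.Lib.Helper67.RHMain
import Groth.Agent.Lib.Helper67.DegCountDiv
import Groth.Agent.S11040

/-!
# Places of every large prime degree
-/

set_option autoImplicit false

open FunFld

namespace Groth.Agent.Lib.Helper67.RHPrimeDeg

open Groth.Agent.Lib.Helper67.DegCount

variable {k K : Type*} [Field k] [Finite k] [Field K] [Algebra k K]

/-- the Hasse–Weil bound in all degrees -/
theorem norm_npts_sub_le (hK : IsFunctionField k K) (m : ℕ) (hm : 1 ≤ m) :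
    ‖(npts (fun P : Place k K => P.deg) m : ℂ) - ((Nat.card k : ℂ) ^ m + 1)‖ ≤
      2 * (genus k K : ℝ) * Real.sqrt (Nat.card k : ℝ) ^ m := by
  classical
  obtain ⟨α, -, hα, hpair⟩ := Groth.Agent.S11040.result k K hK
  have hnorm := fun i => Groth.Agent.Lib.Helper67.RHMain.norm_eq_sqrt hK α hα hpair i
  obtain ⟨n, rfl⟩ : ∃ n, m = n + 1 := ⟨m - 1, by omega⟩
  have h1 := Groth.Agent.Lib.Helper67.FFNumer.npts_eq_of_numer ℂ hK α hα n
  have h2 : (npts (fun P : Place k K => P.deg) (n + 1) : ℂ) - ((Nat.card k : ℂ) ^ (n + 1) + 1) =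
      -∑ i, α i ^ (n + 1) := by
    rw [h1]; ring
  rw [h2, norm_neg]
  calc ‖∑ i, α i ^ (n + 1)‖ ≤ ∑ i, ‖α i ^ (n + 1)‖ := norm_sum_le _ _
    _ = ∑ _i : Fin (2 * genus k K), Real.sqrt (Nat.card k : ℝ) ^ (n + 1) :=
        Finset.sum_congr rfl (fun i _ => by rw [norm_pow, hnorm i])
    _ = 2 * (genus k K : ℝ) * Real.sqrt (Nat.card k : ℝ) ^ (n + 1) := by
        rw [Finset.sum_const, Finset.card_univ, Fintype.card_fin, nsmul_eq_mul]
        push_cast
        ring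

/-- for a prime `ℓ`, `N_ℓ = N_1 + ℓ B_ℓ` -/
theorem npts_prime (hK : IsFunctionField k K) {l : ℕ} (hl : l.Prime) :
    npts (fun P : Place k K => P.deg) l =
      npts (fun P : Place k K => P.deg) 1 + l * Nat.card {P : Place k K // P.deg = l} := by
  have hadm := Groth.Agent.Lib.Helper67.FFConstExt.admissible_deg hK
  rw [npts_eq_sum_divisors hadm hl.one_lt.le, npts_one hadm, hl.divisors,
    Finset.sum_pair hl.one_lt.ne, one_mul]

/-- there are places of every sufficiently large prime degree -/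
theorem exists_place_deg_prime (hK : IsFunctionField k K) :
    ∃ N : ℕ, ∀ l : ℕ, l.Prime → N ≤ l → ∃ P : Place k K, P.deg = l := by
  have hq2 : 2 ≤ Nat.card k := Finite.one_lt_card
  set q : ℝ := (Nat.card k : ℝ) with hq
  have hq2' : (2 : ℝ) ≤ q := by rw [hq]; exact_mod_cast hq2
  set s : ℝ := Real.sqrt q with hs
  have hs1 : 1 < s := by
    rw [hs, Real.lt_sqrt (by norm_num)]
    linarith
  have hss : s ^ 2 = q := Real.sq_sqrt (by linarith)
  set g : ℝ := (genus k K : ℝ) with hg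
  have hg0 : 0 ≤ g := Nat.cast_nonneg _
  obtain ⟨N, hN⟩ := Filter.eventually_atTop.mp
    ((tendsto_pow_atTop_atTop_of_one_lt hs1).eventually_ge_atTop (4 * g + s ^ 2))
  refine ⟨max N 1, fun l hl hNl => ?_⟩
  by_contra hno
  have hempty : IsEmpty {P : Place k K // P.deg = l} := ⟨fun P => hno ⟨P.1, P.2⟩⟩
  have hB : Nat.card {P : Place k K // P.deg = l} = 0 := Nat.card_eq_zero.mpr (Or.inl hempty)
  have h1 := npts_prime hK hl
  rw [hB, mul_zero, add_zero] at h1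
  have hb1 := norm_npts_sub_le hK 1 le_rfl
  have hbl := norm_npts_sub_le hK l hl.one_lt.le
  rw [h1] at hbl
  -- `q^l - q` is small
  have hdiff : ‖((Nat.card k : ℂ) ^ l + 1) - ((Nat.card k : ℂ) ^ 1 + 1)‖ ≤
      2 * g * s ^ l + 2 * g * s ^ 1 := by
    calc ‖((Nat.card k : ℂ) ^ l + 1) - ((Nat.card k : ℂ) ^ 1 + 1)‖
        = ‖((npts (fun P : Place k K => P.deg) 1 : ℂ) - ((Nat.card k : ℂ) ^ 1 + 1)) -
            ((npts (fun P : Place k K => P.deg) 1 : ℂ) - ((Nat.card k : ℂ) ^ l + 1))‖ := by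
          congr 1; ring
      _ ≤ ‖(npts (fun P : Place k K => P.deg) 1 : ℂ) - ((Nat.card k : ℂ) ^ 1 + 1)‖ +
            ‖(npts (fun P : Place k K => P.deg) 1 : ℂ) - ((Nat.card k : ℂ) ^ l + 1)‖ :=
          norm_sub_le _ _
      _ ≤ 2 * g * s ^ l + 2 * g * s ^ 1 := by linarith
  have hreal : ((Nat.card k : ℂ) ^ l + 1) - ((Nat.card k : ℂ) ^ 1 + 1) =
      ((q ^ l - q : ℝ) : ℂ) := by
    rw [hq]; push_cast; ring
  rw [hreal, Complex.norm_real, Real.norm_eq_abs] at hdiff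
  have hl1 : 1 ≤ l := hl.one_lt.le
  have hsl : 4 * g + s ^ 2 ≤ s ^ l := hN l (le_of_max_le_left hNl)
  have hsl1 : s ^ 1 ≤ s ^ l := pow_le_pow_right₀ hs1.le hl1
  have hql : q ^ l = s ^ l * s ^ l := by
    rw [← hss, ← pow_mul, ← pow_add]; congr 1; ring
  have hspos : 0 < s ^ l := pow_pos (by linarith) l
  have h3 : q ^ l - q ≤ |q ^ l - q| := le_abs_self _
  have h4 : s ^ l * (4 * g + s ^ 2) ≤ s ^ l * s ^ l := mul_le_mul_of_nonneg_left hsl hspos.le
  have h5 : 1 < s ^ l := one_lt_pow₀ hs1 (by omega)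
  have h6 : s ^ 2 < s ^ l * s ^ 2 := by
    have : 0 < s ^ 2 := by positivity
    nlinarith
  have h7 : 2 * g * s ^ 1 ≤ 2 * g * s ^ l := mul_le_mul_of_nonneg_left hsl1 (by positivity)
  nlinarith

/-- two places of coprime degrees -/
theorem exists_places_coprime (hK : IsFunctionField k K) :
    ∃ P Q : Place k K, Nat.Coprime P.deg Q.deg := by
  obtain ⟨N, hN⟩ := exists_place_deg_prime hK
  obtain ⟨l₁, hl₁N, hl₁⟩ := Nat.exists_infinite_primes N
  obtain ⟨l₂, hl₂N, hl₂⟩ := Nat.exists_infinite_primes (l₁ + 1)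
  obtain ⟨P, hP⟩ := hN l₁ hl₁ hl₁N
  obtain ⟨Q, hQ⟩ := hN l₂ hl₂ (by omega)
  refine ⟨P, Q, ?_⟩
  rw [hP, hQ]
  exact (Nat.coprime_primes hl₁ hl₂).mpr (by omega)

end Groth.Agent.Lib.Helper67.RHPrimeDeg
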