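import Mathlib
import Groth.Agent.Lib.Helper67.ZetaPts
import Groth.Agent.Lib.Helper67.PtFunSpec
import Groth.Prelude.Def_W4c1zetahwZeta
import Groth.Prelude.Def_SgaExt

/-!
# Counting points with values in a finite extension by closed points and degrees (helper67)
-/

set_option autoImplicit false
universe u
open CategoryTheory AlgebraicGeometry

namespace Groth.Agent.Lib.Helper67

section

variable {k : Type u} [Field k] {X : Scheme.{u}} (f : X ⟶ Spec (CommRingCat.of k))

/-- The `k`-algebra structure map of the residue field at a point of a `k`-scheme. -/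
noncomputable def strHom (x : X) : k →+* X.residueField x :=
  (Spec.preimage (X.fromSpecResidueField x ≫ f)).hom

theorem specMap_strHom (x : X) :
    Spec.map (CommRingCat.ofHom (strHom f x)) = X.fromSpecResidueField x ≫ f := by
  unfold strHom
  rw [CommRingCat.ofHom_hom]
  exact Spec.map_preimage _

/-- evaluation `k → κ(y)` on `Spec k`, as a morphism of `CommRingCat` -/
noncomputable def evCat (y : Spec (CommRingCat.of k)) :
    CommRingCat.of k ⟶ (Spec (CommRingCat.of k)).residueField y :=
  (Scheme.ΓSpecIso (CommRingCat.of k)).inv ≫ (Spec (CommRingCat.of k)).Γevaluation y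

theorem evCat_hom (y : Spec (CommRingCat.of k)) : (evCat y).hom = ev k y := rfl

theorem specMap_evCat (y : Spec (CommRingCat.of k)) :
    Spec.map (evCat y) = (Spec (CommRingCat.of k)).fromSpecResidueField y := by
  rw [← Scheme.Spec.map_residueFieldIso_inv_eq_fromSpecResidueField, ← Spec.map_comp]
  congr 1
  exact (Scheme.Spec.algebraMap_residueFieldIso_inv (CommRingCat.of k) y).symm

theorem evCat_bijective (y : Spec (CommRingCat.of k)) : Function.Bijective (evCat y).hom := by
  rw [evCat_hom]
  haveI : y.asIdeal.IsMaximal := by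
    have : y.asIdeal = ⊥ := Ideal.eq_bot_of_prime _
    rw [this]
    exact Ideal.bot_isMaximal
  refine ⟨(ev k y).injective, fun ξ => ?_⟩
  obtain ⟨a, ha⟩ := y.asIdeal.algebraMap_residueField_surjective
    ((Scheme.Spec.residueFieldIso (CommRingCat.of k) y).hom ξ)
  refine ⟨a, ?_⟩
  rw [ev_eq, ha]
  exact ConcreteCategory.congr_hom (Scheme.Spec.residueFieldIso (CommRingCat.of k) y).hom_inv_id ξ

theorem strHom_eq (x : X) :
    CommRingCat.ofHom (strHom f x) = evCat (f x) ≫ f.residueFieldMap x := by
  apply Spec.map_injective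
  rw [specMap_strHom, Spec.map_comp, specMap_evCat,
    Scheme.Hom.SpecMap_residueFieldMap_fromSpecResidueField]

theorem finrank_strHom (x : X) :
    @Module.finrank k (X.residueField x) _ _ (strHom f x).toAlgebra.toModule =
      EGA4loc.residueDegree f x := by
  unfold EGA4loc.residueDegree
  refine @Algebra.finrank_eq_of_equiv_equiv k (X.residueField x) _ _ (strHom f x).toAlgebra
    ((Spec (CommRingCat.of k)).residueField (f x)) (X.residueField x) _ _
    (f.residueFieldMap x).hom.toAlgebra
    (RingEquiv.ofBijective (evCat (f x)).hom (evCat_bijective (f x))) (RingEquiv.refl _) ?_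
  ext a
  have h := ConcreteCategory.congr_hom (strHom_eq f x) a
  exact h.symm

/-- A `k'`-point `g` of `X` is a `k`-morphism iff the associated embedding `κ(x) → k'` is
`k`-linear. -/
theorem comp_eq_iff (k' : Type u) [Field k'] [Algebra k k'] (x : X)
    (φ : X.residueField x ⟶ CommRingCat.of k') :
    (Spec.map φ ≫ X.fromSpecResidueField x) ≫ f =
        Spec.map (CommRingCat.ofHom (algebraMap k k')) ↔
      φ.hom.comp (strHom f x) = algebraMap k k' := by
  rw [Category.assoc, ← specMap_strHom, ← Spec.map_comp, Spec.map_injective.eq_iff]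
  constructor
  · intro h
    have := congrArg CommRingCat.Hom.hom h
    exact this
  · intro h
    ext a
    exact DFunLike.congr_fun h a

end

section count

variable {k : Type u} [Field k] [Finite k] {X : Scheme.{u}}
  (f : X ⟶ Spec (CommRingCat.of k)) [LocallyOfFiniteType f] [QuasiCompact f]
  (k' : Type u) [Field k'] [Algebra k k'] [Finite k']

/-- `k`-linear embeddings `κ(x) → k'`, in terms of `strHom`. -/
abbrev QSet (x : X) : Type u :=
  {φ : X.residueField x →+* k' // φ.comp (strHom f x) = algebraMap k k'}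

/-- `QSet` is the set of `k`-algebra homomorphisms. -/
noncomputable def qSetEquiv (x : X) :
    QSet f k' x ≃ (letI := (strHom f x).toAlgebra; X.residueField x →ₐ[k] k') :=
  letI := (strHom f x).toAlgebra
  { toFun := fun q => { q.1 with commutes' := fun a => DFunLike.congr_fun q.2 a }
    invFun := fun ψ => ⟨ψ.toRingHom, RingHom.ext ψ.commutes⟩
    left_inv := fun q => by ext; rfl
    right_inv := fun ψ => by ext; rfl }

theorem dvd_of_qSet (x : X) (q : QSet f k' x) :
    EGA4loc.residueDegree f x ∣ Module.finrank k k' := by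
  letI := (strHom f x).toAlgebra
  rw [← finrank_strHom f x]
  exact FiniteField.nonempty_algHom_iff_finrank_dvd.mp ⟨qSetEquiv f k' x q⟩

theorem natCard_qSet (x : X) (h : EGA4loc.residueDegree f x ∣ Module.finrank k k') :
    Nat.card (QSet f k' x) = EGA4loc.residueDegree f x := by
  letI := (strHom f x).toAlgebra
  rw [Nat.card_congr (qSetEquiv f k' x), ← finrank_strHom f x]
  rw [← finrank_strHom f x] at h
  exact FiniteField.natCard_algHom_of_finrank_dvd h

theorem pointCount_eq_nPts :
    SgaExt.pointCount f k' = Zeta.nPts f (Module.finrank k k') := by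
  classical
  haveI : JacobsonSpace X := LocallyOfFiniteType.jacobsonSpace f
  have hr0 : Module.finrank k k' ≠ 0 := (Module.finrank_pos (R := k) (M := k')).ne'
  set r := Module.finrank k k' with hr
  let P := {g : Spec (CommRingCat.of k') ⟶ X //
    g ≫ f = Spec.map (CommRingCat.ofHom (algebraMap k k'))}
  let D : ℕ → Type u :=
    fun e => {x : X // IsClosed ({x} : Set X) ∧ EGA4loc.residueDegree f x = e}
  haveI hDfin : ∀ e : r.divisors, Finite (D e.1) :=
    fun e => finite_degPts f e.1 (Nat.pos_of_mem_divisors e.2)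
  haveI : ∀ e : r.divisors, Fintype (D e.1) := fun e => Fintype.ofFinite _
  let Ω := Σ e : r.divisors, D e.1
  let Q : Ω → Type u := fun w => QSet f k' w.2.1
  have hQcard : ∀ w : Ω, Nat.card (Q w) = w.1.1 := by
    intro w
    have h1 : EGA4loc.residueDegree f w.2.1 = w.1.1 := w.2.2.2
    have h2 : EGA4loc.residueDegree f w.2.1 ∣ r := by
      rw [h1]; exact Nat.dvd_of_mem_divisors w.1.2
    rw [← h1]
    exact natCard_qSet f k' w.2.1 h2
  haveI hQfin : ∀ w : Ω, Finite (Q w) := by
    intro w
    apply Nat.finite_of_card_ne_zero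
    rw [hQcard w]
    exact (Nat.pos_of_mem_divisors w.1.2).ne'
  -- the comparison map
  let Ψ : (Σ w : Ω, Q w) → P := fun p =>
    ⟨Spec.map (CommRingCat.ofHom p.2.1) ≫ X.fromSpecResidueField p.1.2.1,
      (comp_eq_iff f k' p.1.2.1 (CommRingCat.ofHom p.2.1)).mpr p.2.2⟩
  have hΨinj : Function.Injective Ψ := by
    rintro ⟨⟨⟨e, he⟩, ⟨x, hx⟩⟩, ⟨φ, hφ⟩⟩ ⟨⟨⟨e', he'⟩, ⟨x', hx'⟩⟩, ⟨φ', hφ'⟩⟩ h
    have h1 : (Scheme.SpecToEquivOfField k' X).symm ⟨x, CommRingCat.ofHom φ⟩ =
        (Scheme.SpecToEquivOfField k' X).symm ⟨x', CommRingCat.ofHom φ'⟩ :=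
      congrArg Subtype.val h
    have h2 := (Scheme.SpecToEquivOfField k' X).symm.injective h1
    obtain ⟨rfl, h3⟩ := Sigma.mk.inj_iff.mp h2
    have h4 : CommRingCat.ofHom φ = CommRingCat.ofHom φ' := eq_of_heq h3
    have h5 : φ = φ' := congrArg CommRingCat.Hom.hom h4
    subst h5
    have h6 : e = e' := hx.2.symm.trans hx'.2
    subst h6
    rfl
  have hΨsurj : Function.Surjective Ψ := by
    rintro ⟨g, hg⟩
    obtain ⟨⟨x, ψ⟩, hxψ⟩ : ∃ p, (Scheme.SpecToEquivOfField k' X).symm p = g :=
      ⟨Scheme.SpecToEquivOfField k' X g, Equiv.symm_apply_apply _ _⟩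
    have hg' : Spec.map ψ ≫ X.fromSpecResidueField x = g := hxψ
    have hq : ψ.hom.comp (strHom f x) = algebraMap k k' := by
      rw [← comp_eq_iff f k' x ψ, hg']; exact hg
    -- closedness
    have hcl : IsClosed ({x} : Set X) := by
      haveI : LocallyOfFiniteType (g ≫ f) := by
        rw [hg]
        refine (HasRingHomProperty.Spec_iff (P := @LocallyOfFiniteType)).mpr ?_
        exact RingHom.finiteType_algebraMap.mpr inferInstance
      haveI : LocallyOfFiniteType g := locallyOfFiniteType_of_comp g f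
      have h1 := g.closePoints_subset_preimage_closedPoints
        (IsLocalRing.isClosed_singleton_closedPoint k')
      have h2 : g (IsLocalRing.closedPoint k') = x := by
        rw [← hg', Scheme.Hom.comp_apply]
        exact Scheme.fromSpecResidueField_apply _ _
      rw [← h2]
      exact h1
    have hdvd : EGA4loc.residueDegree f x ∣ r := dvd_of_qSet f k' x ⟨ψ.hom, hq⟩
    have hmem : EGA4loc.residueDegree f x ∈ r.divisors := Nat.mem_divisors.mpr ⟨hdvd, hr0⟩
    refine ⟨⟨⟨⟨EGA4loc.residueDegree f x, hmem⟩, ⟨x, hcl, rfl⟩⟩, ⟨ψ.hom, hq⟩⟩, ?_⟩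
    apply Subtype.ext
    change Spec.map (CommRingCat.ofHom ψ.hom) ≫ X.fromSpecResidueField x = g
    rw [CommRingCat.ofHom_hom]
    exact hg'
  have h1 : SgaExt.pointCount f k' = Nat.card (Σ w : Ω, Q w) :=
    (Nat.card_congr (Equiv.ofBijective Ψ ⟨hΨinj, hΨsurj⟩)).symm
  rw [h1, Nat.card_sigma]
  simp only [hQcard]
  have h2 : ∑ w : Ω, (w.1.1 : ℕ) = ∑ e : r.divisors, ∑ _x : D e.1, (e.1 : ℕ) :=
    Fintype.sum_sigma (fun w : Ω => (w.1.1 : ℕ))
  rw [h2]
  unfold Zeta.nPts Zeta.degCount
  rw [← Finset.sum_coe_sort r.divisors]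
  refine Fintype.sum_congr _ _ fun e => ?_
  rw [Finset.sum_const, Finset.card_univ, smul_eq_mul, Nat.card_eq_fintype_card, mul_comm]

end count

end Groth.Agent.Lib.Helper67
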