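import Groth.Agent.Lib.Helper67.CurveGenus
import Groth.Agent.Lib.Helper67.RHPrimeDeg
import Groth.Agent.S13050

/-!
# The Hasse–Weil bound for a curve over a finite field
-/

set_option autoImplicit false
universe u
open CategoryTheory AlgebraicGeometry IsLocalRing FunFld TopologicalSpace Opposite

namespace Groth.Agent.Lib.Helper67.CurveWeil

open Groth.Agent.Lib.Helper67 Groth.Agent.Lib.Helper67.CurveFF Groth.Agent.Lib.Helper67.CurveVal
  Groth.Agent.Lib.Helper67.CurveBasic Groth.Agent.Lib.Helper67.CurveTop Groth.Agent.FF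
  Groth.Agent.Lib.Helper67.CurvePoints Groth.Agent.Lib.Helper67.CurvePlaces
  Groth.Agent.Lib.Helper67.CurveGeomIrr Groth.Agent.Lib.Helper67.CurveCount
  Groth.Agent.Lib.Helper67.CurveGenus Groth.Agent.Lib.Helper67.DegCount

variable {k : Type u} [Field k] {C : Scheme.{u}} {f : C ⟶ Spec (CommRingCat.of k)} [IsIntegral C]

/-- two distinct closed points -/
theorem exists_two_closed (hC : Curve.IsSmoothProperCurve k C f)
    [GeometricallyIrreducible f] [Finite k] :
    ∃ x₁ x₂ : C, IsClosed ({x₁} : Set C) ∧ IsClosed ({x₂} : Set C) ∧ x₁ ≠ x₂ := by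
  letI := algK f
  have hK := isFunctionField_of_curve hC
  obtain ⟨N, hN⟩ := Groth.Agent.Lib.Helper67.RHPrimeDeg.exists_place_deg_prime hK
  obtain ⟨l₁, hl₁N, hl₁⟩ := Nat.exists_infinite_primes N
  obtain ⟨l₂, hl₂N, hl₂⟩ := Nat.exists_infinite_primes (l₁ + 1)
  obtain ⟨P, hP⟩ := hN l₁ hl₁ hl₁N
  obtain ⟨Q, hQ⟩ := hN l₂ hl₂ (by omega)
  obtain ⟨x, rfl⟩ := (closedEquiv hC).surjective P
  obtain ⟨y, rfl⟩ := (closedEquiv hC).surjective Q
  refine ⟨x.1, y.1, x.2, y.2, fun h => ?_⟩
  have : x = y := Subtype.ext h
  rw [this, hQ] at hP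
  omega

/-- the genus of the function field is at most the genus of the curve -/
theorem genus_le (hC : Curve.IsSmoothProperCurve k C f)
    [GeometricallyIrreducible f] [Finite k] (g : ℕ)
    (hg : Nat.card (Coh.HH C (Coh.structureModule C) 1) = Nat.card k ^ g) :
    letI := algK f
    genus k C.functionField ≤ g := by
  letI := algK f
  obtain ⟨x₁, x₂, hx₁, hx₂, hne⟩ := exists_two_closed hC
  obtain ⟨R, hR, -⟩ := exists_addSubgroup_card hC x₁ x₂ hx₁ hx₂ hne
  have hq : 2 ≤ Nat.card k := Finite.one_lt_card
  have hfin : Finite (Coh.HH C (Coh.structureModule C) 1) := by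
    apply Nat.finite_of_card_ne_zero
    rw [hg]
    exact (pow_pos (by omega) g).ne'
  have hle : Nat.card R ≤ Nat.card (Coh.HH C (Coh.structureModule C) 1) :=
    Nat.card_le_card_of_injective _ Subtype.val_injective
  rw [hR, hg] at hle
  exact (Nat.pow_le_pow_iff_right (by omega)).mp hle

/-- the genus of the function field is the genus of the curve if complements of points are
affine -/
theorem genus_eq_of_isAffineOpen (hC : Curve.IsSmoothProperCurve k C f)
    [GeometricallyIrreducible f] [Finite k] (g : ℕ)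
    (hg : Nat.card (Coh.HH C (Coh.structureModule C) 1) = Nat.card k ^ g)
    (haff : ∀ (x : C) (hx : IsClosed ({x} : Set C)), IsAffineOpen (complOpen x hx)) :
    letI := algK f
    genus k C.functionField = g := by
  letI := algK f
  obtain ⟨x₁, x₂, hx₁, hx₂, hne⟩ := exists_two_closed hC
  obtain ⟨R, hR, htop⟩ := exists_addSubgroup_card hC x₁ x₂ hx₁ hx₂ hne
  have hq : 2 ≤ Nat.card k := Finite.one_lt_card
  rw [htop (haff x₁ hx₁) (haff x₂ hx₂)] at hR
  have : Nat.card (Coh.HH C (Coh.structureModule C) 1) = Nat.card k ^ genus k C.functionField := by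
    rw [← hR]
    exact (Nat.card_congr (Equiv.Set.univ _)).symm
  rw [hg] at this
  exact (Nat.pow_right_injective hq this).symm

/-- the number of points over an extension of the base field -/
theorem pointCount_eq_npts (hC : Curve.IsSmoothProperCurve k C f)
    [GeometricallyIrreducible f] [Finite k]
    (k' : Type u) [Field k'] [Algebra k k'] [Finite k'] :
    letI := algK f
    SgaExt.pointCount f k' =
      npts (fun P : Place k C.functionField => P.deg) (Module.finrank k k') := by
  letI := algK f
  have hprop : IsProper f := hC.1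
  rw [Groth.Agent.S13050.result f k']
  haveI : Module.Finite k k' := Module.Finite.of_finite
  exact nPts_eq_npts hC Module.finrank_pos

end Groth.Agent.Lib.Helper67.CurveWeil
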