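import Groth.Agent.Lib.Helper67.CurveLB
import Groth.Agent.Lib.Helper67.CurveWeil
import Groth.Agent.Lib.Helper67.CurveAffine
import Groth.Agent.Lib.Helper1.MVVanishing
import Groth.Agent.Lib.Helper17.HZero

/-!
# Cohomology of invertible sheaves on a curve over a finite field (Riemann–Roch)
-/

set_option autoImplicit false
set_option linter.style.haveILetI false
universe u
open CategoryTheory AlgebraicGeometry IsLocalRing FunFld TopologicalSpace Opposite WithZero

noncomputable section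

namespace Groth.Agent.Lib.Helper67.CurveRR

open Groth.Agent.Lib.Helper67 Groth.Agent.Lib.Helper67.CurveFF Groth.Agent.Lib.Helper67.CurveVal
  Groth.Agent.Lib.Helper67.CurveBasic Groth.Agent.Lib.Helper67.CurveTop Groth.Agent.FF
  Groth.Agent.Lib.Helper67.CurvePoints Groth.Agent.Lib.Helper67.CurvePlaces
  Groth.Agent.Lib.Helper67.CurveGeomIrr Groth.Agent.Lib.Helper67.CurveCount
  Groth.Agent.Lib.Helper67.CurveSections Groth.Agent.Lib.Helper67.FFTwoPoint
  Groth.Agent.Lib.Helper67.FFTwoPointD Groth.Agent.Lib.Helper67.CurveGenus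
  Groth.Agent.Lib.Helper67.CurveDiv Groth.Agent.Lib.Helper67.KEmbed
  Groth.Agent.Lib.Helper67.KSubsheaf Groth.Agent.Lib.Helper45 Groth.Agent.Lib.Helper49
  Groth.Agent.Lib.Helper67.CurveOD Groth.Agent.Lib.Helper67.CurveLB
  Groth.Agent.Lib.Helper67.CurveWeil Groth.Agent.Lib.Helper67.CurveAffine

variable {k : Type u} [Field k] {C : Scheme.{u}} [C.Over (Spec (CommRingCat.of k))] [IsIntegral C]

attribute [local instance] algKO

variable (hC : Curve.IsSmoothProperCurve k C (C ↘ Spec (CommRingCat.of k)))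
  [GeometricallyIrreducible (C ↘ Spec (CommRingCat.of k))]

variable {L : C.Modules}

instance nonempty_top : Nonempty ((⊤ : C.Opens)) := ⟨⟨genericPoint C, trivial⟩⟩

/-- global sections -/
theorem card_HH_zero [Finite k] {e : KEmb L} {E : Divisor k C.functionField} (h : HasDiv hC e E) :
    Nat.card (Coh.HH C L 0) = Nat.card k ^ ell E := by
  have hK := isFunctionField_of_curve hC
  rw [← card_L hK E, Nat.card_congr (Groth.Agent.Lib.Helper17.HZero.hh0Equiv L).toEquiv]
  have hr := h ⊤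
  rw [AW_top] at hr
  refine Nat.card_congr (Equiv.ofBijective (fun s => ⟨e.ρ ⊤ s, ?_⟩) ⟨?_, ?_⟩)
  · have : e.ρ ⊤ s ∈ Set.range (e.ρ ⊤) := ⟨s, rfl⟩
    rw [hr] at this
    exact this
  · intro s s' hss'
    exact e.inj ⊤ (congrArg Subtype.val hss')
  · rintro ⟨c, hc⟩
    have : c ∈ Set.range (e.ρ ⊤) := by rw [hr]; exact hc
    obtain ⟨s, hs⟩ := this
    exact ⟨s, Subtype.ext hs⟩

include hC in
theorem isAffineOpen_inf {U V : C.Opens} (hU : IsAffineOpen U) (hV : IsAffineOpen V) :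
    IsAffineOpen (U ⊓ V) := by
  haveI : IsProper (C ↘ Spec (CommRingCat.of k)) := hC.1
  have h : IsAffineHom (Limits.pullback.diagonal (C ↘ Spec (CommRingCat.of k))) := inferInstance
  exact isAffineHom_diagonal_iff.mp h ⊤ (isAffineOpen_top _) U (by simp) V (by simp) hU hV


section TwoPoints

variable [Finite k] (x₁ x₂ : C) (hx₁ : IsClosed ({x₁} : Set C)) (hx₂ : IsClosed ({x₂} : Set C))

include hC in
theorem complOpen_sup (hne : x₁ ≠ x₂) : complOpen x₁ hx₁ ⊔ complOpen x₂ hx₂ = ⊤ := by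
  rw [eq_top_iff]
  intro y _
  by_cases hy : y = x₁
  · right
    change y ≠ x₂
    rw [hy]; exact hne
  · left; exact hy

instance nonempty_complOpen (x : C) (hx : IsClosed ({x} : Set C)) [hne : Fact (genericPoint C ≠ x)] :
    Nonempty (complOpen x hx) := ⟨⟨genericPoint C, hne.out⟩⟩

/-- the first cohomology group -/
theorem card_HH_one {e : KEmb L} {E : Divisor k C.functionField} (h : HasDiv hC e E)
    [L.IsQuasicoherent] :
    ∃ i : ℕ, (i : ℤ) = (ell E : ℤ) - E.deg - 1 + genus k C.functionField ∧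
      Nat.card (Coh.HH C L 1) = Nat.card k ^ i := by
  have hK := isFunctionField_of_curve hC
  obtain ⟨x₁, x₂, hx₁, hx₂, hne⟩ := exists_two_closed hC
  set U := complOpen x₁ hx₁ with hU
  set V := complOpen x₂ hx₂ with hV
  have hη₁ : genericPoint C ≠ x₁ := (ne_genericPoint_of_isClosed hC x₁ hx₁).symm
  have hη₂ : genericPoint C ≠ x₂ := (ne_genericPoint_of_isClosed hC x₂ hx₂).symm
  haveI : Nonempty U := ⟨⟨genericPoint C, hη₁⟩⟩
  haveI : Nonempty V := ⟨⟨genericPoint C, hη₂⟩⟩
  have hUV : U ⊔ V = ⊤ := complOpen_sup hC x₁ x₂ hx₁ hx₂ hne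
  set P₁ := plc hC x₁ hx₁ with hP₁
  set P₂ := plc hC x₂ hx₂ with hP₂
  have hPne : P₁ ≠ P₂ := fun h => hne (plc_injective hC hx₁ hx₂ h)
  have hiff : ∀ (y z : C) (hy : IsClosed ({y} : Set C)) (hz : IsClosed ({z} : Set C)),
      y ≠ z ↔ plc hC y hy ≠ plc hC z hz := fun y z hy hz =>
    ⟨fun h h' => h (plc_injective hC hy hz h'), fun h h' => h (by subst h'; rfl)⟩
  have hA₁ : AW hC U E = LOut {P₁} E := AW_eq_LOut hC U {P₁} (fun y hy => by
    rw [Set.mem_singleton_iff]; exact hiff y x₁ hy hx₁) E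
  have hA₂ : AW hC V E = LOut {P₂} E := AW_eq_LOut hC V {P₂} (fun y hy => by
    rw [Set.mem_singleton_iff]; exact hiff y x₂ hy hx₂) E
  have hA₁₂ : AW hC (U ⊓ V) E = LOut {P₁, P₂} E := AW_eq_LOut hC (U ⊓ V) {P₁, P₂} (fun y hy => by
    rw [Set.mem_insert_iff, Set.mem_singleton_iff, not_or]
    exact and_congr (hiff y x₁ hy hx₁) (hiff y x₂ hy hx₂)) E
  -- the Mayer–Vietoris boundary map
  let F : CohTop.Ab C.toTopCat := Coh.toAb L
  obtain ⟨δ, hδker, hδsurj⟩ := Groth.Agent.Lib.Helper67.MVH1.exists_delta F U V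
  obtain ⟨eq⟩ := HU_equiv_of_eq_top F 1 (U ⊔ V) hUV
  let δ' : Γ(L, U ⊓ V) →+ Coh.HH C L 1 := eq.toAddMonoidHom.comp δ
  have hδ'0 : ∀ s, δ' s = 0 ↔ δ s = 0 := fun s => eq.map_eq_zero_iff
  -- sections as rational functions
  let g₁₂ : Γ(L, U ⊓ V) →+ LOut ({P₁, P₂} : Set (Place k C.functionField)) E :=
    { toFun := fun s => ⟨e.ρ (U ⊓ V) s, by rw [← hA₁₂]; exact h.mem hC (U ⊓ V) s⟩
      map_zero' := Subtype.ext (map_zero _)
      map_add' := fun s t => Subtype.ext (map_add _ s t) }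
  have hg₁₂ : Function.Bijective g₁₂ := by
    constructor
    · intro s t hst
      exact e.inj (U ⊓ V) (congrArg Subtype.val hst)
    · rintro ⟨a, ha⟩
      rw [← hA₁₂] at ha
      obtain ⟨s, hs⟩ := h.exists_eq hC (U ⊓ V) ha
      exact ⟨s, Subtype.ext hs⟩
  let e₁₂ := AddEquiv.ofBijective g₁₂ hg₁₂
  let ψ : LOut ({P₁, P₂} : Set (Place k C.functionField)) E →+ Coh.HH C L 1 :=
    δ'.comp e₁₂.symm.toAddMonoidHom
  have hres₁ : ∀ a : Γ(L, U), e.ρ (U ⊓ V) (mres L (inf_le_left : U ⊓ V ≤ U) a) = e.ρ U a :=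
    fun a => e.res _ a
  have hres₂ : ∀ b : Γ(L, V), e.ρ (U ⊓ V) (mres L (inf_le_right : U ⊓ V ≤ V) b) = e.ρ V b :=
    fun b => e.res _ b
  have hker : ∀ x, ψ x = 0 ↔ ∃ a ∈ LOut ({P₁} : Set (Place k C.functionField)) E,
      ∃ b ∈ LOut ({P₂} : Set (Place k C.functionField)) E, (x : C.functionField) = a + b := by
    intro x
    have hx : (x : C.functionField) = e.ρ (U ⊓ V) (e₁₂.symm x) :=
      (congrArg Subtype.val (e₁₂.apply_symm_apply x)).symm
    change δ' (e₁₂.symm x) = 0 ↔ _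
    rw [hδ'0, hδker]
    constructor
    · rintro ⟨a, b, hab⟩
      refine ⟨e.ρ U a, ?_, -(e.ρ V b), ?_, ?_⟩
      · rw [← hA₁]; exact h.mem hC U a
      · apply neg_mem
        rw [← hA₂]; exact h.mem hC V b
      · rw [hx, hab, ← sub_eq_add_neg, ← hres₁ a, ← hres₂ b]
        exact map_sub (e.ρ (U ⊓ V)) (mres L (inf_le_left : U ⊓ V ≤ U) a)
          (mres L (inf_le_right : U ⊓ V ≤ V) b)
    · rintro ⟨a', ha', b', hb', hab⟩
      rw [← hA₁] at ha'
      rw [← hA₂] at hb'
      obtain ⟨a, rfl⟩ := h.exists_eq hC U ha'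
      obtain ⟨b, rfl⟩ := h.exists_eq hC V hb'
      refine ⟨a, -b, ?_⟩
      apply e.inj (U ⊓ V)
      rw [← hx, hab]
      have := map_sub (e.ρ (U ⊓ V)) (mres L (inf_le_left : U ⊓ V ≤ U) a)
        (mres L (inf_le_right : U ⊓ V ≤ V) (-b))
      refine Eq.trans ?_ this.symm
      rw [hres₁ a, hres₂ (-b), map_neg, sub_neg_eq_add]
  obtain ⟨i, hi, hcard⟩ := card_range_eq_D hK hPne E ψ hker
  have hrange : ψ.range = δ'.range := by
    apply le_antisymm
    · rintro _ ⟨x, rfl⟩; exact ⟨_, rfl⟩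
    · rintro _ ⟨s, rfl⟩
      exact ⟨e₁₂ s, by change δ' (e₁₂.symm (e₁₂ s)) = _; rw [e₁₂.symm_apply_apply]⟩
  have hUaff : IsAffineOpen U := isAffineOpen_complOpen hC x₁ hx₁
  have hVaff : IsAffineOpen V := isAffineOpen_complOpen hC x₂ hx₂
  have h1 := Groth.Agent.Lib.Helper1.subsingleton_HU_of_isAffineOpen L U hUaff 0
  have h2 := Groth.Agent.Lib.Helper1.subsingleton_HU_of_isAffineOpen L V hVaff 0
  have hsurj := hδsurj h1 h2
  have htop : δ'.range = ⊤ := by
    rw [eq_top_iff]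
    rintro y -
    obtain ⟨s, hs⟩ := hsurj (eq.symm y)
    exact ⟨s, by change eq (δ s) = y; rw [hs, eq.apply_symm_apply]⟩
  refine ⟨i, hi, ?_⟩
  rw [← hcard, hrange, htop]
  exact (Nat.card_congr (Equiv.Set.univ _)).symm

include hC in
/-- higher cohomology vanishes -/
theorem subsingleton_HH_of_two_le (L : C.Modules) [L.IsQuasicoherent] (n : ℕ) (hn : 2 ≤ n) :
    Subsingleton (Coh.HH C L n) := by
  obtain ⟨x₁, x₂, hx₁, hx₂, hne⟩ := exists_two_closed hC
  set U := complOpen x₁ hx₁ with hU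
  set V := complOpen x₂ hx₂ with hV
  have hUV : U ⊔ V = ⊤ := complOpen_sup hC x₁ x₂ hx₁ hx₂ hne
  have hUaff : IsAffineOpen U := isAffineOpen_complOpen hC x₁ hx₁
  have hVaff : IsAffineOpen V := isAffineOpen_complOpen hC x₂ hx₂
  have hUVaff : IsAffineOpen (U ⊓ V) := isAffineOpen_inf hC hUaff hVaff
  obtain ⟨m, rfl⟩ : ∃ m, n = m + 2 := ⟨n - 2, by omega⟩
  let F : CohTop.Ab C.toTopCat := Coh.toAb L
  have h1 := Groth.Agent.Lib.Helper1.subsingleton_HU_of_isAffineOpen L U hUaff (m + 1)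
  have h2 := Groth.Agent.Lib.Helper1.subsingleton_HU_of_isAffineOpen L V hVaff (m + 1)
  have h3 := Groth.Agent.Lib.Helper1.subsingleton_HU_of_isAffineOpen L (U ⊓ V) hUVaff m
  have h4 := Groth.Agent.Lib.Helper1.subsingleton_HU_sup F U V (m + 1) h1 h2 h3
  obtain ⟨eq⟩ := HU_equiv_of_eq_top F (m + 2) (U ⊔ V) hUV
  exact @Equiv.subsingleton _ _ eq.symm.toEquiv h4

end TwoPoints


section Euler

variable [Finite k]

theorem finrank_eq_of_card {H : Type u} [AddCommGroup H] [Module k H] {i : ℕ}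
    (h : Nat.card H = Nat.card k ^ i) : Module.finrank k H = i := by
  have hq : 2 ≤ Nat.card k := Finite.one_lt_card
  haveI : Finite H := by
    apply Nat.finite_of_card_ne_zero
    rw [h]
    exact (pow_pos (by omega) i).ne'
  haveI : Module.Finite k H := Module.Finite.of_finite
  have h1 : Nat.card H = Nat.card k ^ Module.finrank k H := Module.natCard_eq_pow_finrank
  rw [h] at h1
  exact (Nat.pow_right_injective hq h1).symm

/-- Riemann–Roch: the Euler characteristic of an embedded sheaf with divisor `E` -/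
theorem euler_eq {e : KEmb L} {E : Divisor k C.functionField} (h : HasDiv hC e E) :
    Curv2.euler k C L = E.deg + 1 - (genus k C.functionField : ℤ) := by
  haveI : L.IsQuasicoherent := isQuasicoherent_of_isInvertible (isInvertible_of_hasDiv hC h)
  have h0 := finrank_eq_of_card (card_HH_zero hC h)
  obtain ⟨i, hi, hcard⟩ := card_HH_one hC h
  have h1 := finrank_eq_of_card hcard
  unfold Curv2.euler
  rw [finsum_eq_sum_of_support_subset (s := {0, 1})]
  · rw [Finset.sum_pair (by norm_num), h0, h1, hi]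
    ring
  · intro n hn
    rw [Function.mem_support] at hn
    by_contra hcon
    apply hn
    have h2 : 2 ≤ n := by
      simp only [Finset.coe_insert, Finset.coe_singleton, Set.mem_insert_iff,
        Set.mem_singleton_iff, not_or] at hcon
      omega
    haveI := subsingleton_HH_of_two_le hC L n h2
    rw [Module.finrank_zero_of_subsingleton, Nat.cast_zero, mul_zero]

/-- an embedding normalised by a global basis has divisor `0` -/
theorem hasDiv_zero_of_basis_top (e : KEmb L) {t₀ : Γ(L, ⊤)} (ht₀ : IsBasisOn L ⊤ t₀)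
    (h1 : e.ρ ⊤ t₀ = 1) : HasDiv hC e 0 := by
  intro W _
  rw [← range_germ_eq_AW_zero hC W]
  have key : ∀ r : Γ(C, W), e.ρ W (r • mres L le_top t₀) = C.germToFunctionField W r := by
    intro r
    rw [e.smul, e.res, h1, mul_one]
  ext c
  constructor
  · rintro ⟨s, rfl⟩
    obtain ⟨r, hr⟩ := (ht₀ W le_top).2 s
    have hr' : r • mres L le_top t₀ = s := hr
    exact ⟨r, by rw [← hr', key]⟩
  · rintro ⟨r, rfl⟩
    exact ⟨_, key r⟩

include hC in
theorem exists_kEmb_structureModule :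
    ∃ e : KEmb (Coh.structureModule C), HasDiv hC e 0 := by
  have ht₀ := Groth.Agent.Lib.Helper11.GenLocus.isBasisOn_one (X := C) ⊤
  have hloc : ∀ x : C, ∃ V : C.Opens, x ∈ V ∧ ∃ t : Γ(Coh.structureModule C, V),
      IsBasisOn (Coh.structureModule C) V t := fun x => ⟨⊤, trivial, _, ht₀⟩
  obtain ⟨e⟩ := nonempty_kEmb hloc
  have h0 := e.basis_ne_zero ht₀
  refine ⟨e.scale (e.ρ ⊤ _)⁻¹ (inv_ne_zero h0), hasDiv_zero_of_basis_top hC _ ht₀ ?_⟩
  rw [KEmb.scale_apply, inv_mul_cancel₀ h0]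

include hC in
theorem euler_structureModule :
    Curv2.euler k C (Coh.structureModule C) = 1 - (genus k C.functionField : ℤ) := by
  obtain ⟨e, he⟩ := exists_kEmb_structureModule hC
  rw [euler_eq hC he, deg_zero, zero_add]

include hC in
/-- the genus of the curve is the genus of its function field -/
theorem genus_eq : Curv2.genus k C = genus k C.functionField := by
  have hK := isFunctionField_of_curve hC
  obtain ⟨e, he⟩ := exists_kEmb_structureModule hC
  haveI : (Coh.structureModule C).IsQuasicoherent :=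
    isQuasicoherent_of_isInvertible (isInvertible_of_hasDiv hC he)
  obtain ⟨i, hi, hcard⟩ := card_HH_one hC he
  have h1 := finrank_eq_of_card hcard
  unfold Curv2.genus
  rw [h1]
  rw [deg_zero, ell_zero hK] at hi
  have : (i : ℤ) = genus k C.functionField := by rw [hi]; ring
  exact_mod_cast this

/-- the degree of an embedded sheaf with divisor `E` is the degree of `E` -/
theorem deg_eq {e : KEmb L} {E : Divisor k C.functionField} (h : HasDiv hC e E) :
    Curv2.deg k C L 1 = E.deg := by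
  unfold Curv2.deg
  rw [euler_eq hC h, euler_structureModule hC]
  push_cast
  ring

theorem deg_OD (E : Divisor k C.functionField) : Curv2.deg k C (OD hC E) 1 = E.deg :=
  deg_eq hC (hasDiv_OD hC E)

end Euler

end Groth.Agent.Lib.Helper67.CurveRR
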