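import Groth.Agent.Lib.Helper67.CurveDeg
import Groth.Agent.Lib.Helper49.StalkKerCoker
import Groth.Agent.Lib.Helper45.ModulesBasic
import Groth.Prelude.Def_Pic
import Groth.Agent.Lib.Helper24.CurveTop
import Groth.Agent.Lib.Helper17.HHIso
import Groth.Agent.Lib.Helper49.QCohLocal
import Groth.Agent.Lib.Helper49.FiniteTypeLocal

/-!
# Maps of invertible modules on integral curves (helper67)

Torsion-freeness of locally free modules on integral schemes, nonzero maps of invertible modules
are monomorphisms with torsion cokernel.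
-/

set_option autoImplicit false
set_option linter.style.haveILetI false
universe u
open AlgebraicGeometry CategoryTheory Limits Opposite TopologicalSpace Abelian

namespace Groth.Agent.Lib.Helper67.CurveTors

open Groth.Agent.Lib.Helper67.EulerLES Groth.Agent.Lib.Helper67.CurveCoh
open Groth.Agent.Lib.Helper67.CurveDeg
open Groth.Agent.Lib.Helper49

section Inv

variable {X : Scheme.{u}}

/-- an invertible module is locally free of rank one -/
theorem rank_one_of_isInvertible {L : X.Modules} (hL : PicF.IsInvertible L) :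
    FlatMod.IsFinLocFreeOfRank 1 L := by
  intro x
  obtain ⟨U, hxU, ⟨e⟩⟩ := hL x
  exact ⟨U, hxU, ⟨e ≪≫ (Limits.coproductUniqueIso
    (fun _ : Fin 1 => Coh.structureModule (U : Scheme.{u}))).symm⟩⟩

end Inv

section TorsionFree

variable {X : Scheme.{u}} [IsIntegral X]

attribute [local instance] Helper45.stalkModuleSections in
/-- on an affine open of an integral scheme over which `L` is free, germs are injective -/
theorem germ_eq_zero_of_free {L : X.Modules} [L.IsQuasicoherent] {V : X.Opens}
    (hV : IsAffineOpen V) {n : ℕ} (e' : Γ(L, V) ≃ₗ[Γ(X, V)] (Fin n → Γ(X, V))) (y : V)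
    (m : Γ(L, V)) (hm : L.presheaf.germ V (y : X) y.2 m = 0) : m = 0 := by
  haveI : Nonempty V := ⟨y⟩
  haveI : IsDomain Γ(X, V) := inferInstance
  have hloc := Helper45.isLocalizedModule_germₗ hV L y
  have h0 : Helper45.germₗ L y m = 0 := hm
  obtain ⟨c, hc⟩ := (IsLocalizedModule.eq_zero_iff
    (hV.primeIdealOf y).asIdeal.primeCompl (Helper45.germₗ L y)).mp h0
  have hc0 : (c : Γ(X, V)) ≠ 0 := by
    intro h
    exact c.2 (h ▸ Ideal.zero_mem _)
  have h1 : (c : Γ(X, V)) • e' m = 0 := by
    rw [← map_smul]
    have : (c : Γ(X, V)) • m = 0 := hc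
    rw [this, map_zero]
  have h2 : e' m = 0 := by
    funext j
    have := congrFun h1 j
    simp only [Pi.smul_apply, smul_eq_mul, Pi.zero_apply, mul_eq_zero] at this
    exact this.resolve_left hc0
  exact e'.map_eq_zero_iff.mp h2

/-- sections of a locally free module on an integral scheme inject into the generic stalk -/
theorem germ_injective_of_isFinLocFree {L : X.Modules} (hL : FlatMod.IsFinLocFree L)
    (U : X.Opens) (hξ : genericPoint X ∈ U) :
    Function.Injective (L.presheaf.germ U (genericPoint X) hξ) := by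
  haveI := isQuasicoherent_of_isFinLocFree L hL
  rw [injective_iff_map_eq_zero]
  intro s hs
  refine Helper45.section_ext_germ L U s 0 fun x hx => ?_
  rw [map_zero]
  obtain ⟨U', n, hxU', ⟨e⟩⟩ := hL x
  obtain ⟨_, ⟨V, hV : IsAffineOpen V, rfl⟩, hxV, hVU⟩ :=
    X.isBasis_affineOpens.exists_subset_of_mem_open (⟨hx, hxU'⟩ : x ∈ ((U ⊓ U' : X.Opens) : Set X))
      (U ⊓ U').2
  have hVU1 : V ≤ U := fun y hy => (hVU hy).1
  have hVU2 : V ≤ U' := fun y hy => (hVU hy).2
  let e' : Γ(L, V) ≃ₗ[Γ(X, V)] (Fin n → Γ(X, V)) :=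
    sectionsEquivOfIsoFree L n (isoFreeOfLE hVU2 L n e)
  have hξV : genericPoint X ∈ V :=
    ((genericPoint_spec X).mem_open_set_iff V.2).mpr ⟨x, trivial, hxV⟩
  have hres : L.presheaf.map (homOfLE hVU1).op s = 0 :=
    germ_eq_zero_of_free hV e' ⟨genericPoint X, hξV⟩ _
      ((TopCat.Presheaf.germ_res_apply L.presheaf (homOfLE hVU1) _ hξV s).trans hs)
  rw [← TopCat.Presheaf.germ_res_apply L.presheaf (homOfLE hVU1) x hxV s, hres, map_zero]

theorem eq_of_genericPoint_not_mem {M : X.Modules} (U : X.Opens) (hξ : genericPoint X ∉ U)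
    (s t : Γ(M, U)) : s = t := by
  refine Helper45.section_ext_germ M U s t fun x hx => ?_
  exact absurd (((genericPoint_spec X).mem_open_set_iff U.2).mpr ⟨x, trivial, hx⟩) hξ

variable {N L : X.Modules}

/-- a map into a locally free module vanishing on the generic stalk is zero -/
theorem eq_zero_of_stalkMap_generic_eq_zero (hL : FlatMod.IsFinLocFree L) (φ : N ⟶ L)
    (h : ∀ a, (stalkMap φ (genericPoint X)).hom a = 0) : φ = 0 := by
  apply Scheme.Modules.hom_ext
  intro U
  ext s
  by_cases hξ : genericPoint X ∈ U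
  · apply germ_injective_of_isFinLocFree hL U hξ
    rw [← stalkMap_germ, h]
    simp
  · exact eq_of_genericPoint_not_mem U hξ _ _

/-- a map from a locally free module injective on the generic stalk is a monomorphism -/
theorem mono_of_stalkMap_generic_injective (hN : FlatMod.IsFinLocFree N) (φ : N ⟶ L)
    (h : Function.Injective (stalkMap φ (genericPoint X)).hom) : Mono φ := by
  refine mono_of_app_injective φ fun U => ?_
  by_cases hξ : genericPoint X ∈ U
  · intro s t hst
    apply germ_injective_of_isFinLocFree hN U hξ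
    apply h
    rw [stalkMap_germ, stalkMap_germ, hst]
  · intro s t _
    exact eq_of_genericPoint_not_mem U hξ _ _

/-- a nonzero map between locally free modules of rank one on an integral scheme is bijective
on the generic stalk -/
theorem stalkMap_generic_bijective_of_ne_zero (hN : FlatMod.IsFinLocFreeOfRank 1 N)
    (hL : FlatMod.IsFinLocFreeOfRank 1 L) (φ : N ⟶ L) (hφ : φ ≠ 0) :
    Function.Bijective (stalkMap φ (genericPoint X)).hom := by
  obtain ⟨f1, g1, r1⟩ := stalk_of_rank hN (genericPoint X)
  obtain ⟨f2, g2, r2⟩ := stalk_of_rank hL (genericPoint X)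
  letI : Field (X.presheaf.stalk (genericPoint X)) :=
    inferInstanceAs (Field X.functionField)
  have hne : ∃ a, (stalkMap φ (genericPoint X)).hom a ≠ 0 := by
    by_contra hcon
    push Not at hcon
    exact hφ (eq_zero_of_stalkMap_generic_eq_zero (isFinLocFree_of_rank hL) φ hcon)
  obtain ⟨a, ha⟩ := hne
  obtain ⟨v, hv0, hv⟩ := finrank_eq_one_iff'.mp r1
  have hv' : stalkMapLinear φ (genericPoint X) v ≠ 0 := by
    intro h0
    obtain ⟨c, rfl⟩ := hv a
    apply ha
    change stalkMapLinear φ (genericPoint X) (c • v) = 0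
    rw [map_smul, h0, smul_zero]
  have hinj : Function.Injective (stalkMapLinear φ (genericPoint X)) := by
    rw [injective_iff_map_eq_zero]
    intro w hw
    obtain ⟨c, rfl⟩ := hv w
    rw [map_smul, smul_eq_zero] at hw
    rcases hw with hc | h0
    · rw [hc, zero_smul]
    · exact absurd h0 hv'
  have hsurj : Function.Surjective (stalkMapLinear φ (genericPoint X)) :=
    (LinearMap.injective_iff_surjective_of_finrank_eq_finrank (r1.trans r2.symm)).mp hinj
  exact ⟨hinj, hsurj⟩

end TorsionFree

section PushStalk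

variable {X Z : Scheme.{u}} [IsIntegral Z] (i : Z ⟶ X) [IsClosedImmersion i]

theorem isFinLocFree_structureModule (Z : Scheme.{u}) :
    FlatMod.IsFinLocFree (Coh.structureModule Z) := fun _ =>
  ⟨⊤, 1, trivial, ⟨Scheme.Modules.restrictUnitIso (⊤ : Z.Opens).ι ≪≫
    (Limits.coproductUniqueIso (fun _ : Fin 1 => Coh.structureModule _)).symm⟩⟩

/-- a subsheaf of `O_Z` (`Z` integral) whose direct image under a closed immersion has zero stalk
at the image of the generic point is zero -/
theorem isZero_of_subsingleton_stalk_push (I : Z.Modules) (ι : I ⟶ Coh.structureModule Z)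
    [Mono ι]
    (h : Subsingleton (((Scheme.Modules.pushforward i).obj I).presheaf.stalk
      (i (genericPoint Z)))) : IsZero I := by
  rw [Helper45.isZero_iff_sections_subsingleton]
  intro V
  refine ⟨fun s t => ?_⟩
  by_cases hζ : genericPoint Z ∈ V
  swap
  · exact eq_of_genericPoint_not_mem V hζ s t
  suffices H : ∀ s : Γ(I, V), s = 0 by rw [H s, H t]
  intro s
  obtain ⟨U, rfl⟩ := Devissage.exists_preimage_eq i V
  have hxU : i (genericPoint Z) ∈ U := hζ
  let s' : Γ((Scheme.Modules.pushforward i).obj I, U) := s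
  have hgerm : ((Scheme.Modules.pushforward i).obj I).presheaf.germ U _ hxU s' =
      ((Scheme.Modules.pushforward i).obj I).presheaf.germ U _ hxU 0 := h.elim _ _
  obtain ⟨W, hxW, iU, iU', hW⟩ := TopCat.Presheaf.germ_eq _ _ hxU hxU _ _ hgerm
  rw [map_zero] at hW
  have hζW : genericPoint Z ∈ i ⁻¹ᵁ W := hxW
  have hWU : i ⁻¹ᵁ W ≤ i ⁻¹ᵁ U := fun z hz => iU.le hz
  have hres : I.presheaf.map (homOfLE hWU).op s = 0 := hW
  have hg0 : I.presheaf.germ (i ⁻¹ᵁ U) (genericPoint Z) hζ s = 0 := by
    rw [← TopCat.Presheaf.germ_res_apply I.presheaf (homOfLE hWU) _ hζW s, hres, map_zero]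
  have hιs : ι.app (i ⁻¹ᵁ U) s = 0 := by
    apply germ_injective_of_isFinLocFree (isFinLocFree_structureModule Z) (i ⁻¹ᵁ U) hζ
    rw [← stalkMap_germ, hg0, map_zero, map_zero]
  exact app_injective_of_mono ι _ (hιs.trans (map_zero _).symm)

end PushStalk

section Vanish

variable (k : Type u) [Field k] (X : Scheme.{u}) [X.Over (Spec (CommRingCat.of k))]
  [IsIntegral X] [IsProper (X ↘ Spec (CommRingCat.of k))] (hdim : topologicalKrullDim X ≤ 1)

include hdim in
/-- an integral closed subscheme of dimension one of an integral scheme of dimension one contains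
the generic point -/
theorem map_genericPoint_of_dim_one {Z : Scheme.{u}} [IsIntegral Z] (i : Z ⟶ X)
    [IsClosedImmersion i] (hZ : topologicalKrullDim Z = 1) :
    i (genericPoint Z) = genericPoint X := by
  by_contra hne
  have hcl : closure ({i (genericPoint Z)} : Set X) ≠ Set.univ := by
    intro h
    exact hne (IsGenericPoint.eq (show IsGenericPoint (i (genericPoint Z)) Set.univ from h)
      (genericPoint_spec X))
  have h1 := Groth.Agent.Lib.Helper24.closure_singleton_eq_of_dim_le_one hdim _ hcl
  have h2 : closure ({i (genericPoint Z)} : Set X) = Set.range i := by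
    rw [← Set.image_singleton, i.isClosedEmbedding.closure_image_eq,
      (genericPoint_spec Z).def, Set.image_univ]
  have hsub : Subsingleton Z := by
    refine ⟨fun z z' => i.isClosedEmbedding.injective ?_⟩
    have hz : i z ∈ ({i (genericPoint Z)} : Set X) := by
      rw [← h1, h2]; exact ⟨z, rfl⟩
    have hz' : i z' ∈ ({i (genericPoint Z)} : Set X) := by
      rw [← h1, h2]; exact ⟨z', rfl⟩
    exact hz.trans hz'.symm
  have := topologicalKrullDim_zero_of_discreteTopology Z
  rw [hZ] at this
  exact absurd this (by norm_num)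

/-- an integral proper scheme over a field of dimension `≤ 1` but not `1` is finite over the field -/
theorem isFinite_of_dim_ne_one (Z : Scheme.{u}) [Z.Over (Spec (CommRingCat.of k))]
    [IsIntegral Z] [IsProper (Z ↘ Spec (CommRingCat.of k))] (hdimZ : topologicalKrullDim Z ≤ 1)
    (h1 : topologicalKrullDim Z ≠ 1) : IsFinite (Z ↘ Spec (CommRingCat.of k)) := by
  refine Groth.Agent.S0219.result k Z (Spec (CommRingCat.of k)) (Z ↘ Spec (CommRingCat.of k))
    (𝟙 _) (Z ↘ Spec (CommRingCat.of k)) (Category.comp_id _) hdimZ ?_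
  intro C hC hCdim
  exfalso
  rw [irreducibleComponents_eq_singleton, Set.mem_singleton_iff] at hC
  subst hC
  apply h1
  rw [← hCdim]
  exact ((Homeomorph.Set.univ Z).isHomeomorph.topologicalKrullDim_eq _).symm

include k hdim in
/-- **vanishing of `H¹` for torsion coherent modules on an integral proper curve** -/
theorem subsingleton_HH_one_of_stalk (M : X.Modules) (hM : Coh.IsCoh M)
    (hξ : Subsingleton (M.presheaf.stalk (genericPoint X))) :
    Subsingleton (Coh.HH X M 1) := by
  haveI : IsNoetherian X := CurveP1.isNoetherian_of_proper k (X ↘ Spec (CommRingCat.of k))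
  revert hξ
  refine Groth.Agent.S0027.result X
    (fun M => Subsingleton (M.presheaf.stalk (genericPoint X)) → Subsingleton (Coh.HH X M 1))
    ?_ ?_ ?_ M hM
  · rintro M N ⟨e⟩ hM hN
    have hMs : Subsingleton (M.presheaf.stalk (genericPoint X)) := by
      refine ⟨fun a b => ?_⟩
      haveI : Mono e.hom := inferInstance
      exact stalkMap_injective_of_mono e.hom _ (hN.elim _ _)
    haveI := hM hMs
    exact Groth.Agent.Lib.Helper17.HHIso.subsingleton_of_iso e 1
  · intro S hS _ _ _ h1 h3 h2
    haveI := hS.mono_f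
    haveI := hS.epi_g
    have h1s : Subsingleton (S.X₁.presheaf.stalk (genericPoint X)) :=
      ⟨fun a b => stalkMap_injective_of_mono S.f _ (h2.elim _ _)⟩
    have h3s : Subsingleton (S.X₃.presheaf.stalk (genericPoint X)) := by
      refine ⟨fun a b => ?_⟩
      obtain ⟨a', rfl⟩ := stalkMap_surjective_of_epi S.g (genericPoint X) a
      obtain ⟨b', rfl⟩ := stalkMap_surjective_of_epi S.g (genericPoint X) b
      rw [h2.elim a' b']
    exact Groth.Agent.Lib.Helper1.subsingleton_HH_of_shortExact hS 1 (h1 h1s) (h3 h3s)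
  · intro Z i hi hZ I ι hι hI hstalk
    haveI := hi
    haveI := hZ
    haveI := hι
    haveI : I.IsQuasicoherent := hI
    letI : Z.Over (Spec (CommRingCat.of k)) := ⟨i ≫ (X ↘ Spec (CommRingCat.of k))⟩
    haveI : IsProper (Z ↘ Spec (CommRingCat.of k)) :=
      inferInstanceAs (IsProper (i ≫ (X ↘ Spec (CommRingCat.of k))))
    have hdimZ : topologicalKrullDim Z ≤ 1 :=
      le_trans i.isClosedEmbedding.isInducing.topologicalKrullDim_le hdim
    by_cases h1 : topologicalKrullDim Z = 1
    · have hgen := map_genericPoint_of_dim_one X hdim i h1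
      rw [← hgen] at hstalk
      have hz := isZero_of_subsingleton_stalk_push i I ι hstalk
      exact Groth.Agent.Lib.Helper1.subsingleton_HH_of_isZero
        ((Scheme.Modules.pushforward i).map_isZero hz) 1
    · haveI := isFinite_of_dim_ne_one k Z hdimZ h1
      haveI : IsAffine Z := isAffine_of_isAffineHom (Z ↘ Spec (CommRingCat.of k))
      haveI := Groth.Agent.S0007.result Z I 1 Nat.one_pos
      exact (AffPush.pushEdge_bijective i I 1).injective.subsingleton

end Vanish

section AffineSections

variable {Z : Scheme.{u}}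

attribute [local instance] Helper45.stalkModuleSections in
/-- a nonzero quasi-coherent module on an affine scheme has a nonzero global section -/
theorem nontrivial_sections_top [IsAffine Z] (F : Z.Modules) [F.IsQuasicoherent]
    (hF : ¬ IsZero F) : Nontrivial Γ(F, ⊤) := by
  by_contra hnt
  rw [not_nontrivial_iff_subsingleton] at hnt
  apply hF
  rw [Helper45.isZero_iff_stalk_subsingleton]
  intro y
  obtain ⟨y', rfl⟩ : ∃ y' : (⊤ : Z.Opens), (y' : Z) = y := ⟨⟨y, trivial⟩, rfl⟩
  have hloc := Helper45.isLocalizedModule_germₗ (isAffineOpen_top Z) F y'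
  refine ⟨fun a b => ?_⟩
  suffices H : ∀ a : ↑(F.presheaf.stalk (y' : Z)), a = 0 by rw [H a, H b]
  intro a
  obtain ⟨⟨m, c⟩, hmc⟩ := IsLocalizedModule.mk'_surjective
    ((isAffineOpen_top Z).primeIdealOf y').asIdeal.primeCompl (Helper45.germₗ F y') a
  rw [← hmc]
  simp only [Function.uncurry_apply_pair]
  rw [hnt.elim m 0, IsLocalizedModule.mk'_zero]

end AffineSections

section HZero

variable (k : Type u) [Field k] (X : Scheme.{u}) [X.Over (Spec (CommRingCat.of k))]
  [IsIntegral X] [IsProper (X ↘ Spec (CommRingCat.of k))] (hdim : topologicalKrullDim X ≤ 1)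

include k hdim in
/-- a nonzero torsion coherent module on an integral proper curve has a nonzero global section -/
theorem nontrivial_HH_zero_of_stalk (M : X.Modules) (hM : Coh.IsCoh M)
    (hξ : Subsingleton (M.presheaf.stalk (genericPoint X))) (hne : ¬ IsZero M) :
    Nontrivial (Coh.HH X M 0) := by
  haveI : IsNoetherian X := CurveP1.isNoetherian_of_proper k (X ↘ Spec (CommRingCat.of k))
  obtain ⟨Z, i, hi, hZ, I, ι, hι, hI, hIne, a, ha⟩ := Devissage.exists_mono_push_ideal M hM hne
  haveI := hi
  haveI := hZ
  haveI := hι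
  haveI := ha
  haveI : I.IsQuasicoherent := hI
  letI : Z.Over (Spec (CommRingCat.of k)) := ⟨i ≫ (X ↘ Spec (CommRingCat.of k))⟩
  haveI : IsProper (Z ↘ Spec (CommRingCat.of k)) :=
    inferInstanceAs (IsProper (i ≫ (X ↘ Spec (CommRingCat.of k))))
  have hdimZ : topologicalKrullDim Z ≤ 1 :=
    le_trans i.isClosedEmbedding.isInducing.topologicalKrullDim_le hdim
  have hstalk : Subsingleton (((Scheme.Modules.pushforward i).obj I).presheaf.stalk
      (genericPoint X)) :=
    ⟨fun x y => stalkMap_injective_of_mono a _ (hξ.elim _ _)⟩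
  have h1 : topologicalKrullDim Z ≠ 1 := by
    intro h1
    have hgen := map_genericPoint_of_dim_one X hdim i h1
    rw [← hgen] at hstalk
    exact hIne (isZero_of_subsingleton_stalk_push i I ι hstalk)
  haveI := isFinite_of_dim_ne_one k Z hdimZ h1
  haveI : IsAffine Z := isAffine_of_isAffineHom (Z ↘ Spec (CommRingCat.of k))
  haveI := nontrivial_sections_top I hIne
  haveI : Nontrivial (Coh.HH Z I 0) :=
    (Groth.Agent.Lib.Helper17.HZero.hh0Equiv I).toEquiv.nontrivial
  haveI : Nontrivial (Coh.HH X ((Scheme.Modules.pushforward i).obj I) 0) :=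
    (AffPush.pushEdge_bijective i I 0).surjective.nontrivial
  have hS : (ShortComplex.mk a (cokernel.π a) (cokernel.condition a)).ShortExact :=
    ⟨ShortComplex.exact_of_g_is_cokernel _ (cokernelIsCokernel _)⟩
  exact (HHLES.HHlin_f_zero_injective k hS).nontrivial

end HZero


end Groth.Agent.Lib.Helper67.CurveTors
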