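import Groth.Agent.Lib.Helper67.CurveFF
import Mathlib.AlgebraicGeometry.ValuativeCriterion
import Mathlib.RingTheory.Valuation.ValuationSubring

/-!
# Points of an integral scheme with valuation ring stalks and valuation subrings of the
function field
-/

set_option autoImplicit false
universe u
open CategoryTheory AlgebraicGeometry IsLocalRing

namespace Groth.Agent.Lib.Helper67.CurveVal

open Groth.Agent.Lib.Helper67 Groth.Agent.Lib.Helper67.CurveFF

variable {k : Type u} [Field k] {C : Scheme.{u}} (f : C ⟶ Spec (CommRingCat.of k)) [IsIntegral C]

/-- the valuation subring of the function field given by a point whose local ring is a valuation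
ring -/
noncomputable def valSubring (x : C) [ValuationRing (C.presheaf.stalk x)] :
    ValuationSubring C.functionField where
  toSubring := (algebraMap (C.presheaf.stalk x) C.functionField).range
  mem_or_inv_mem' a := by
    rcases ValuationRing.isInteger_or_isInteger (C.presheaf.stalk x) a with ⟨s, hs⟩ | ⟨s, hs⟩
    · exact Or.inl ⟨s, hs⟩
    · exact Or.inr ⟨s, hs⟩

theorem mem_valSubring_iff (x : C) [ValuationRing (C.presheaf.stalk x)] (a : C.functionField) :
    a ∈ valSubring x ↔ ∃ s, algebraMap (C.presheaf.stalk x) C.functionField s = a := Iff.rfl

theorem algebraMap_stalk_eq (x : C) :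
    algebraMap (C.presheaf.stalk x) C.functionField =
      (C.presheaf.stalkSpecializes ((genericPoint_spec C).specializes trivial)).hom := rfl

/-- the constants lie in every such valuation subring -/
theorem stalkHom_mem_valSubring (x : C) [ValuationRing (C.presheaf.stalk x)] (c : k) :
    stalkHom f (genericPoint C) c ∈ valSubring x := by
  refine ⟨stalkHom f x c, ?_⟩
  rw [algebraMap_stalk_eq, ← stalkSpecializes_comp_stalkHom f
    ((genericPoint_spec C).specializes trivial)]
  rfl

/-- the valuation subring of a point other than the generic point is proper -/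
theorem valSubring_ne_top (x : C) [ValuationRing (C.presheaf.stalk x)]
    (hx : x ≠ genericPoint C) : valSubring x ≠ ⊤ := by
  intro htop
  apply hx
  -- the local ring at `x` is a field
  have hsurj : Function.Surjective (algebraMap (C.presheaf.stalk x) C.functionField) := by
    intro a
    have : a ∈ valSubring x := by rw [htop]; trivial
    exact this
  have hbij : Function.Bijective (algebraMap (C.presheaf.stalk x) C.functionField) :=
    ⟨IsFractionRing.injective _ _, hsurj⟩
  have hfield : IsField (C.presheaf.stalk x) :=
    (RingEquiv.ofBijective _ hbij).toMulEquiv.isField (Field.toIsField C.functionField)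
  letI := hfield.toField
  have hsub : Subsingleton (Spec (C.presheaf.stalk x)) :=
    inferInstanceAs (Subsingleton (PrimeSpectrum (C.presheaf.stalk x)))
  have h1 : x ∈ Set.range (C.fromSpecStalk x) := by
    rw [Scheme.range_fromSpecStalk]; exact specializes_rfl
  have h2 : genericPoint C ∈ Set.range (C.fromSpecStalk x) := by
    rw [Scheme.range_fromSpecStalk]; exact (genericPoint_spec C).specializes trivial
  obtain ⟨a, ha⟩ := h1
  obtain ⟨b, hb⟩ := h2
  rw [← ha, ← hb, Subsingleton.elim a b]

section Center

variable (V : ValuationSubring C.functionField)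
  (hkV : ∀ c : k, stalkHom f (genericPoint C) c ∈ V)

/-- the structure map `k → V` -/
noncomputable def toV : k →+* V := (stalkHom f (genericPoint C)).codRestrict V hkV

/-- the valuative square of a valuation subring of the function field containing the constants -/
noncomputable def valSq : ValuativeCommSq f where
  R := V
  K := C.functionField
  i₁ := C.fromSpecStalk (genericPoint C)
  i₂ := Spec.map (CommRingCat.ofHom (toV f V hkV))
  commSq := ⟨by
    rw [← specMap_stalkHom, ← Spec.map_comp]
    rfl⟩

include hkV in
/-- existence of the centre of a valuation subring containing the constants -/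
theorem exists_center (hf : ValuativeCriterion.Existence f) :
    ∃ (x : C) (φ : C.presheaf.stalk x →+* V), IsLocalHom φ ∧
      ∀ s, ((φ s : V) : C.functionField) = algebraMap (C.presheaf.stalk x) C.functionField s := by
  obtain ⟨l, hl₁, hl₂⟩ := (hf (valSq f V hkV)).exists_lift
  have hl₁' : Spec.map (CommRingCat.ofHom (algebraMap V C.functionField)) ≫ l =
      C.fromSpecStalk (genericPoint C) := hl₁
  let x : C := l (closedPoint V)
  let φ : C.presheaf.stalk x ⟶ CommRingCat.of V := Scheme.stalkClosedPointTo l
  have hφ : Spec.map φ ≫ C.fromSpecStalk x = l := Scheme.Spec_stalkClosedPointTo_fromSpecStalk l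
  have hsp : genericPoint C ⤳ x := (genericPoint_spec C).specializes trivial
  have hcomp : φ ≫ CommRingCat.ofHom (algebraMap V C.functionField) =
      C.presheaf.stalkSpecializes hsp := by
    apply Spec.map_injective
    rw [← cancel_mono (C.fromSpecStalk x), Spec.map_comp, Category.assoc, hφ, hl₁',
      Scheme.SpecMap_stalkSpecializes_fromSpecStalk]
  refine ⟨x, φ.hom, Scheme.isLocalHom_stalkClosedPointTo' l, fun s => ?_⟩
  exact congrArg (fun ψ => ψ.hom s) hcomp

end Center

/-- a valuation ring stalk dominated by a valuation subring equals it -/
theorem valSubring_eq_of_dominates (x : C) [ValuationRing (C.presheaf.stalk x)]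
    (V : ValuationSubring C.functionField) (φ : C.presheaf.stalk x →+* V) [IsLocalHom φ]
    (hφ : ∀ s, ((φ s : V) : C.functionField) = algebraMap (C.presheaf.stalk x) C.functionField s) :
    valSubring x = V := by
  apply le_antisymm
  · rintro _ ⟨s, rfl⟩
    rw [← hφ]
    exact (φ s).2
  · intro a ha
    by_contra hna
    have ha0 : a ≠ 0 := by
      rintro rfl
      exact hna (valSubring x).zero_mem
    obtain ⟨s, hs⟩ : a⁻¹ ∈ valSubring x := ((valSubring x).mem_or_inv_mem a).resolve_left hna
    -- `s` is not a unit
    have hsu : ¬ IsUnit s := by
      intro hu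
      apply hna
      obtain ⟨u, rfl⟩ := hu
      refine ⟨((u⁻¹ : (C.presheaf.stalk x)ˣ) : C.presheaf.stalk x), ?_⟩
      have h1 : algebraMap (C.presheaf.stalk x) C.functionField ((u⁻¹ : (C.presheaf.stalk x)ˣ) : _) *
          algebraMap (C.presheaf.stalk x) C.functionField (u : _) = 1 := by
        rw [← map_mul, Units.inv_mul, map_one]
      rw [hs] at h1
      calc algebraMap (C.presheaf.stalk x) C.functionField ((u⁻¹ : (C.presheaf.stalk x)ˣ) : _)
          = algebraMap (C.presheaf.stalk x) C.functionField ((u⁻¹ : (C.presheaf.stalk x)ˣ) : _) *
            (a⁻¹ * a) := by rw [inv_mul_cancel₀ ha0, mul_one]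
        _ = a := by rw [← mul_assoc, h1, one_mul]
    -- but `φ s` is a unit of `V`
    have hφu : IsUnit (φ s) := by
      have hval : ((φ s : V) : C.functionField) = a⁻¹ := by rw [hφ, hs]
      refine ⟨⟨φ s, ⟨a, ha⟩, ?_, ?_⟩, rfl⟩
      · apply Subtype.ext
        show ((φ s : V) : C.functionField) * a = 1
        rw [hval, inv_mul_cancel₀ ha0]
      · apply Subtype.ext
        show a * ((φ s : V) : C.functionField) = 1
        rw [hval, mul_inv_cancel₀ ha0]
    exact hsu (isUnit_of_map_unit φ s hφu)

/-- over a proper base every valuation subring containing the constants is a stalk, provided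
all stalks are valuation rings -/
theorem exists_valSubring_eq (hf : ValuativeCriterion.Existence f)
    [hval : ∀ x : C, ValuationRing (C.presheaf.stalk x)]
    (V : ValuationSubring C.functionField)
    (hkV : ∀ c : k, stalkHom f (genericPoint C) c ∈ V) : ∃ x : C, valSubring x = V := by
  obtain ⟨x, φ, hloc, hφ⟩ := exists_center f V hkV hf
  exact ⟨x, valSubring_eq_of_dominates x V φ hφ⟩

section Unique

/-- the isomorphism `O_x → V` when `V` is the valuation subring of `x` -/
noncomputable def toValSubring (x : C) [ValuationRing (C.presheaf.stalk x)]
    (V : ValuationSubring C.functionField) (h : valSubring x = V) : C.presheaf.stalk x →+* V :=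
  (algebraMap (C.presheaf.stalk x) C.functionField).codRestrict V (fun s => h ▸ ⟨s, rfl⟩)

theorem toValSubring_bijective (x : C) [ValuationRing (C.presheaf.stalk x)]
    (V : ValuationSubring C.functionField) (h : valSubring x = V) :
    Function.Bijective (toValSubring x V h) := by
  constructor
  · intro a b hab
    apply IsFractionRing.injective (C.presheaf.stalk x) C.functionField
    exact congrArg Subtype.val hab
  · rintro ⟨a, ha⟩
    rw [← h] at ha
    obtain ⟨s, rfl⟩ := ha
    exact ⟨s, rfl⟩

theorem isLocalHom_toValSubring (x : C) [ValuationRing (C.presheaf.stalk x)]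
    (V : ValuationSubring C.functionField) (h : valSubring x = V) :
    IsLocalHom (toValSubring x V h) := by
  have : toValSubring x V h =
      ((RingEquiv.ofBijective _ (toValSubring_bijective x V h)) : C.presheaf.stalk x →+* V) := rfl
  rw [this]
  infer_instance

/-- the morphism `Spec V → C` given by a point with valuation subring `V` -/
noncomputable def specVTo (x : C) [ValuationRing (C.presheaf.stalk x)]
    (V : ValuationSubring C.functionField) (h : valSubring x = V) :
    Spec (CommRingCat.of V) ⟶ C :=
  Spec.map (CommRingCat.ofHom (toValSubring x V h)) ≫ C.fromSpecStalk x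

theorem specVTo_closedPoint (x : C) [ValuationRing (C.presheaf.stalk x)]
    (V : ValuationSubring C.functionField) (h : valSubring x = V) :
    specVTo x V h (closedPoint V) = x := by
  haveI := isLocalHom_toValSubring x V h
  haveI : IsLocalHom (CommRingCat.ofHom (toValSubring x V h)).hom := this
  unfold specVTo
  rw [Scheme.Hom.comp_apply]
  have h1 : Spec.map (CommRingCat.ofHom (toValSubring x V h)) (closedPoint V) =
      closedPoint (C.presheaf.stalk x) :=
    Spec_closedPoint (R := C.presheaf.stalk x) (S := CommRingCat.of V)
      (f := CommRingCat.ofHom (toValSubring x V h))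
  rw [h1, Scheme.fromSpecStalk_closedPoint]

/-- the lift structure given by a point with valuation subring `V` -/
noncomputable def liftOf (x : C) [ValuationRing (C.presheaf.stalk x)]
    (V : ValuationSubring C.functionField) (h : valSubring x = V)
    (hkV : ∀ c : k, stalkHom f (genericPoint C) c ∈ V) :
    (valSq f V hkV).commSq.LiftStruct where
  l := specVTo x V h
  fac_left := by
    have hsp : genericPoint C ⤳ x := (genericPoint_spec C).specializes trivial
    have h1 : CommRingCat.ofHom (toValSubring x V h) ≫
        CommRingCat.ofHom (algebraMap V C.functionField) = C.presheaf.stalkSpecializes hsp := rfl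
    show Spec.map (CommRingCat.ofHom (algebraMap V C.functionField)) ≫ specVTo x V h =
      C.fromSpecStalk (genericPoint C)
    unfold specVTo
    rw [← Spec.map_comp_assoc, h1, Scheme.SpecMap_stalkSpecializes_fromSpecStalk]
  fac_right := by
    show specVTo x V h ≫ f = Spec.map (CommRingCat.ofHom (toV f V hkV))
    unfold specVTo
    rw [Category.assoc, ← specMap_stalkHom, ← Spec.map_comp]
    congr 1
    ext c
    have hsp : genericPoint C ⤳ x := (genericPoint_spec C).specializes trivial
    have := congrArg (fun ψ => ψ c) (stalkSpecializes_comp_stalkHom f hsp)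
    exact this

/-- distinct points have distinct valuation subrings, over a separated base -/
theorem valSubring_injective (hf : ValuativeCriterion.Uniqueness f) (x y : C)
    [ValuationRing (C.presheaf.stalk x)] [ValuationRing (C.presheaf.stalk y)]
    (h : valSubring x = valSubring y) : x = y := by
  have hkV : ∀ c : k, stalkHom f (genericPoint C) c ∈ valSubring y :=
    fun c => stalkHom_mem_valSubring f y c
  have hsub := hf (valSq f (valSubring y) hkV)
  have h1 : liftOf f x (valSubring y) h hkV = liftOf f y (valSubring y) rfl hkV :=
    Subsingleton.elim _ _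
  have h2 : specVTo x (valSubring y) h = specVTo y (valSubring y) rfl :=
    congrArg CommSq.LiftStruct.l h1
  rw [← specVTo_closedPoint x (valSubring y) h, h2, specVTo_closedPoint]

end Unique

end Groth.Agent.Lib.Helper67.CurveVal
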