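import Groth.Agent.Lib.Helper67.FFRational

/-!
# `L(1) = h`
-/

set_option autoImplicit false

open FunFld PowerSeries

namespace Groth.Agent.Lib.Helper67.FFRational

open Groth.Agent.FF Groth.Agent.Lib.Helper67.FFSchmidt Groth.Agent.Lib.Helper67.FFCount

lemma sum_coeff_one_sub_mul {R : Type*} [CommRing R] (W : R⟦X⟧) (M : ℕ) :
    ∑ i ∈ Finset.range (M + 1), coeff i ((1 - X) * W) = coeff M W := by
  have hsucc : ∀ n, coeff (n + 1) ((1 - X) * W) = coeff (n + 1) W - coeff n W := by
    intro n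
    rw [sub_mul, one_mul, map_sub, coeff_succ_X_mul]
  induction M with
  | zero =>
    rw [Finset.sum_range_one, coeff_zero_eq_constantCoeff_apply, map_mul, map_sub, map_one,
      constantCoeff_X, sub_zero, one_mul, coeff_zero_eq_constantCoeff_apply]
  | succ M ih =>
    rw [Finset.sum_range_succ, ih, hsucc]
    ring

universe u v
variable {k : Type u} {K : Type v} [Field k] [Field K] [Algebra k K]

lemma coeff_one_sub_q_mul_zetaZ (M : ℕ) :
    coeff (M + 1) ((1 - C (Nat.card k : ℤ) * X) * zetaZ k K) =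
      (effDivCount k K (M + 1) : ℤ) - (Nat.card k : ℤ) * (effDivCount k K M : ℤ) := by
  rw [sub_mul, one_mul, map_sub, mul_assoc, coeff_C_mul, coeff_succ_X_mul, coeff_zetaZ,
    coeff_zetaZ]

/-- `L(1) = h` -/
theorem eval_one_eq_classNum [Finite k] (hK : IsFunctionField k K) (p : Polynomial ℤ)
    (hp : (p : PowerSeries ℤ) = numerZ k K) : p.eval 1 = (classNum k K : ℤ) := by
  set g := genus k K with hg
  set M := p.natDegree + 2 * g + 1 with hM
  have h1 : p.eval 1 = ∑ i ∈ Finset.range (M + 1 + 1), coeff i (numerZ k K) := by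
    rw [Polynomial.eval_eq_sum_range' (n := M + 1 + 1) (by omega)]
    refine Finset.sum_congr rfl fun i _ => ?_
    rw [one_pow, mul_one, ← hp, Polynomial.coeff_coe]
  have h2 : numerZ k K = (1 - X) * ((1 - C (Nat.card k : ℤ) * X) * zetaZ k K) := by
    unfold numerZ
    ring
  rw [h1, h2, sum_coeff_one_sub_mul, coeff_one_sub_q_mul_zetaZ]
  have hq := two_le_card (k := k)
  have hq2 : (2 : ℤ) ≤ (Nat.card k : ℤ) := by exact_mod_cast hq
  have e0 := effDivCount_eq hK M (by omega)
  have e1 := effDivCount_eq hK (M + 1) (by omega)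
  obtain ⟨N, hN⟩ : ∃ N, M + 1 - g = N := ⟨_, rfl⟩
  have hN1 : M + 1 + 1 - g = N + 1 := by omega
  rw [← hg, hN] at e0
  rw [← hg, hN1] at e1
  set q : ℤ := (Nat.card k : ℤ) with hqdef
  have hq1 : q - 1 ≠ 0 := by omega
  apply mul_left_cancel₀ hq1
  have : (q - 1) * ((effDivCount k K (M + 1) : ℤ) - q * (effDivCount k K M : ℤ)) =
      (q - 1) * (effDivCount k K (M + 1) : ℤ) - q * ((q - 1) * (effDivCount k K M : ℤ)) := by ring
  rw [this, e0, e1]
  ring

end Groth.Agent.Lib.Helper67.FFRational
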