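import Groth.Agent.Lib.Helper66.LogDeriv
import Mathlib.RingTheory.PowerSeries.Basic
import Mathlib.Tactic

/-!
# Geometric series and logarithmic derivatives of linear factors
-/

set_option autoImplicit false

open PowerSeries

namespace Groth.Agent.Lib.Helper67.GeomSeries

open Groth.Agent.Lib.Helper66

variable {F : Type*} [Field F]

/-- the geometric series `∑ aⁿ Xⁿ` -/
noncomputable def G (a : F) : F⟦X⟧ := PowerSeries.mk fun n => a ^ n

lemma coeff_G (a : F) (n : ℕ) : coeff n (G a) = a ^ n := coeff_mk _ _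

lemma constantCoeff_G (a : F) : constantCoeff (G a) = 1 := by
  rw [← coeff_zero_eq_constantCoeff_apply, coeff_G, pow_zero]

lemma one_sub_mul_G (a : F) : (1 - C a * X) * G a = 1 := by
  ext n
  rw [sub_mul, one_mul, map_sub, mul_assoc]
  cases n with
  | zero =>
    rw [coeff_zero_eq_constantCoeff_apply, coeff_zero_eq_constantCoeff_apply, map_mul, map_mul,
      constantCoeff_X, zero_mul, mul_zero, sub_zero, constantCoeff_G, coeff_zero_eq_constantCoeff_apply,
      map_one]
  | succ n =>
    rw [coeff_C_mul, coeff_succ_X_mul, coeff_G, coeff_G, coeff_one, if_neg (Nat.succ_ne_zero n),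
      pow_succ]
    ring

lemma coeff_C_mul_G (a : F) (n : ℕ) : coeff n (C a * G a) = a ^ (n + 1) := by
  rw [coeff_C_mul, coeff_G, pow_succ, mul_comm]

lemma isLogDeriv_one_sub (a : F) : IsLogDeriv (1 - C a * X) (-(C a * G a)) := by
  unfold IsLogDeriv
  have h1 : d⁄dX F (1 - C a * X : F⟦X⟧) = -C a := by
    rw [map_sub, Derivation.leibniz, derivative_C, derivative_X]
    simp
  rw [h1, neg_mul, mul_assoc, mul_comm (G a), one_sub_mul_G, mul_one]

lemma isLogDeriv_G (a : F) : IsLogDeriv (G a) (C a * G a) := by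
  unfold IsLogDeriv
  ext n
  rw [coeff_derivative, coeff_G, mul_assoc, coeff_C_mul, coeff_mul]
  have : ∀ p ∈ Finset.antidiagonal n, coeff p.1 (G a) * coeff p.2 (G a) = a ^ n := by
    intro p hp
    rw [Finset.mem_antidiagonal] at hp
    rw [coeff_G, coeff_G, ← pow_add, hp]
  rw [Finset.sum_congr rfl this, Finset.sum_const, Finset.Nat.card_antidiagonal, nsmul_eq_mul,
    pow_succ]
  push_cast
  ring

/-- the logarithmic derivative of a series with nonzero constant term is unique -/
lemma eq_of_isLogDeriv {W D₁ D₂ : F⟦X⟧} (h1 : IsLogDeriv W D₁) (h2 : IsLogDeriv W D₂)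
    (hW : constantCoeff W ≠ 0) : D₁ = D₂ := by
  unfold IsLogDeriv at h1 h2
  have h3 : D₁ * W = D₂ * W := h1.symm.trans h2
  have hW0 : W ≠ 0 := by
    rintro rfl
    exact hW (map_zero _)
  exact mul_right_cancel₀ hW0 h3

end Groth.Agent.Lib.Helper67.GeomSeries
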