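import Groth.Agent.Lib.Helper67.FFZetaSeries
import Groth.Agent.Lib.Helper67.GeomSeries
import Mathlib.RingTheory.PowerSeries.Basic
import Mathlib.Analysis.Complex.Basic

/-!
# The numerator of the zeta function and point counts
-/

set_option autoImplicit false

open FunFld PowerSeries

namespace Groth.Agent.Lib.Helper67.FFNumer

open Groth.Agent.FF Groth.Agent.Lib.Helper67.DegCount Groth.Agent.Lib.Helper67.FFConstExt
  Groth.Agent.Lib.Helper66 Groth.Agent.Lib.Helper67.FFZetaSeries
  Groth.Agent.Lib.Helper67.GeomSeries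

universe u v
variable {k : Type u} {K : Type v} [Field k] [Field K] [Algebra k K]
variable (F : Type*) [Field F]

theorem map_zetaZ : PowerSeries.map (Int.castRingHom F) (zetaZ k K) = ZF k K F := by
  ext n
  unfold zetaZ ZF
  rw [coeff_map, coeff_mk, coeff_mk]
  simp

theorem map_numerZ : PowerSeries.map (Int.castRingHom F) (numerZ k K) =
    (1 - C (1 : F) * X) * (1 - C (Nat.card k : F) * X) * ZF k K F := by
  unfold numerZ
  rw [map_mul, map_mul, map_sub, map_sub, map_mul, map_one, map_X, map_C, map_zetaZ]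
  simp

/-- the product of linear factors, as a power series -/
theorem coe_prod_linear {g : ℕ} (α : Fin g → F) :
    ((∏ i, (1 - Polynomial.C (α i) * Polynomial.X) : Polynomial F) : F⟦X⟧) =
      ∏ i, (1 - C (α i) * X) := by
  rw [← Polynomial.coeToPowerSeries.ringHom_apply, map_prod]
  refine Finset.prod_congr rfl fun i _ => ?_
  rw [Polynomial.coeToPowerSeries.ringHom_apply]
  simp

theorem isLogDeriv_prod_linear {g : ℕ} (α : Fin g → F) :
    IsLogDeriv (∏ i, (1 - C (α i) * X)) (∑ i, -(C (α i) * G (α i))) :=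
  IsLogDeriv.prod Finset.univ _ _ fun i _ => isLogDeriv_one_sub (α i)

theorem constantCoeff_prod_linear {g : ℕ} (α : Fin g → F) :
    constantCoeff (∏ i, (1 - C (α i) * X)) = 1 := by
  rw [map_prod]
  refine Finset.prod_eq_one fun i _ => ?_
  simp

/-- `N_m = 1 + q^m - ∑ αᵢ^m` -/
theorem npts_eq_of_numer [Finite k] (hK : IsFunctionField k K) {g : ℕ} (α : Fin g → F)
    (hα : PowerSeries.map (Int.castRingHom F) (numerZ k K) =
      ((∏ i, (1 - Polynomial.C (α i) * Polynomial.X) : Polynomial F) : F⟦X⟧)) (m : ℕ) :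
    (npts (fun P : Place k K => P.deg) (m + 1) : F) =
      1 + (Nat.card k : F) ^ (m + 1) - ∑ i, α i ^ (m + 1) := by
  rw [map_numerZ, coe_prod_linear] at hα
  have h1 : IsLogDeriv ((1 - C (1 : F) * X) * (1 - C (Nat.card k : F) * X) * ZF k K F)
      (-(C (1 : F) * G 1) + -(C (Nat.card k : F) * G (Nat.card k : F)) + DF k K F) :=
    ((isLogDeriv_one_sub (1 : F)).mul (isLogDeriv_one_sub (Nat.card k : F))).mul
      (isLogDeriv_ZF F hK)
  have h2 := isLogDeriv_prod_linear F α
  rw [← hα] at h2
  have hW : constantCoeff ((1 - C (1 : F) * X) * (1 - C (Nat.card k : F) * X) * ZF k K F) ≠ 0 := by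
    rw [hα, constantCoeff_prod_linear]
    exact one_ne_zero
  have h3 := eq_of_isLogDeriv h1 h2 hW
  have h4 := congrArg (coeff m) h3
  rw [map_add, map_add, map_neg, map_neg, coeff_C_mul_G, coeff_C_mul_G, map_sum] at h4
  simp only [map_neg, coeff_C_mul_G] at h4
  unfold DF at h4
  rw [coeff_mk, one_pow, Finset.sum_neg_distrib] at h4
  linear_combination h4

end Groth.Agent.Lib.Helper67.FFNumer
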