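import Mathlib
import Groth.Agent.Lib.Helper67.ZetaPts
import Groth.Agent.Lib.Helper66.LogDeriv
import Groth.Prelude.Def_W4c1zetahwZeta

/-!
# Multiplicativity of the zeta function over a partition of the closed points (helper67)
-/

set_option autoImplicit false
universe u
open CategoryTheory AlgebraicGeometry

namespace Groth.Agent.Lib.Helper67

theorem residueFieldMap_bijective_of_surjectiveOnStalks {X Y : Scheme.{u}} (g : Y ⟶ X)
    [SurjectiveOnStalks g] (y : Y) : Function.Bijective (g.residueFieldMap y).hom := by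
  refine ⟨(g.residueFieldMap y).hom.injective, ?_⟩
  intro ξ
  obtain ⟨s, rfl⟩ := Y.residue_surjective y ξ
  obtain ⟨t, rfl⟩ := g.stalkMap_surjective y s
  refine ⟨X.residue (g y) t, ?_⟩
  exact ConcreteCategory.congr_hom (Scheme.residue_residueFieldMap g y) t

theorem residueDegree_comp_of_surjectiveOnStalks {X Y S : Scheme.{u}} (g : Y ⟶ X)
    [SurjectiveOnStalks g] (f : X ⟶ S) (y : Y) :
    EGA4loc.residueDegree (g ≫ f) y = EGA4loc.residueDegree f (g y) := by
  unfold EGA4loc.residueDegree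
  symm
  refine @Algebra.finrank_eq_of_equiv_equiv (S.residueField (f (g y))) (X.residueField (g y)) _ _
    (f.residueFieldMap (g y)).hom.toAlgebra (S.residueField ((g ≫ f) y)) (Y.residueField y) _ _
    ((g ≫ f).residueFieldMap y).hom.toAlgebra (RingEquiv.refl _)
    (RingEquiv.ofBijective (g.residueFieldMap y).hom
      (residueFieldMap_bijective_of_surjectiveOnStalks g y)) ?_
  ext a
  have h := ConcreteCategory.congr_hom (Scheme.residueFieldMap_comp g f y) a
  exact h

theorem isClosed_singleton_image_of_isImmersion {X Y : Scheme.{u}} (g : Y ⟶ X) [IsImmersion g]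
    [JacobsonSpace X] (y : Y) (hy : IsClosed ({y} : Set Y)) : IsClosed ({g y} : Set X) := by
  apply isClosed_singleton_of_isLocallyClosed_singleton
  rw [← Set.image_singleton]
  exact hy.isLocallyClosed.image g.isEmbedding.isInducing g.isLocallyClosed_range

theorem isClosed_singleton_of_image {X Y : Scheme.{u}} (g : Y ⟶ X) [IsPreimmersion g]
    (y : Y) (hy : IsClosed ({g y} : Set X)) : IsClosed ({y} : Set Y) := by
  have : ({y} : Set Y) = g ⁻¹' {g y} := by
    ext z
    simp only [Set.mem_singleton_iff, Set.mem_preimage]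
    exact ⟨fun h => by rw [h], fun h => g.isEmbedding.injective h⟩
  rw [this]
  exact hy.preimage g.continuous

section partition

variable {k : Type u} [Field k] [Finite k] {X : Scheme.{u}}
  (f : X ⟶ Spec (CommRingCat.of k)) [LocallyOfFiniteType f] [QuasiCompact f]
  {ι : Type u} [Fintype ι] (Y : ι → Scheme.{u}) (g : ∀ i, Y i ⟶ X) [∀ i, IsImmersion (g i)]

include f in
theorem jacobsonSpace_of_finiteType_field : JacobsonSpace X :=
  LocallyOfFiniteType.jacobsonSpace f

theorem degCount_eq_sum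
    (hpart : ∀ x : X, IsClosed ({x} : Set X) → ∃! i, x ∈ Set.range (g i).base)
    (e : ℕ) (he : 1 ≤ e) :
    Zeta.degCount f e = ∑ i, Zeta.degCount (g i ≫ f) e := by
  classical
  haveI : JacobsonSpace X := jacobsonSpace_of_finiteType_field f
  unfold Zeta.degCount
  set S := {x : X // IsClosed ({x} : Set X) ∧ EGA4loc.residueDegree f x = e} with hS
  let T : ι → Type u := fun i =>
    {y : Y i // IsClosed ({y} : Set (Y i)) ∧ EGA4loc.residueDegree (g i ≫ f) y = e}
  haveI hSfin : Finite S := finite_degPts f e he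
  let Φ : (Σ i, T i) → S := fun p =>
    ⟨g p.1 p.2.1, isClosed_singleton_image_of_isImmersion (g p.1) p.2.1 p.2.2.1, by
      rw [← residueDegree_comp_of_surjectiveOnStalks]; exact p.2.2.2⟩
  have hΦinj : Function.Injective Φ := by
    rintro ⟨i, y⟩ ⟨i', y'⟩ h
    have h1 : g i y.1 = g i' y'.1 := congrArg Subtype.val h
    have hcl : IsClosed ({g i y.1} : Set X) :=
      isClosed_singleton_image_of_isImmersion (g i) y.1 y.2.1
    obtain ⟨i₀, -, huniq⟩ := hpart _ hcl
    have e1 : i = i₀ := huniq i ⟨y.1, rfl⟩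
    have e2 : i' = i₀ := huniq i' ⟨y'.1, h1.symm⟩
    obtain rfl : i = i' := e1.trans e2.symm
    have : y.1 = y'.1 := (g i).isEmbedding.injective h1
    rw [Subtype.ext this]
  have hΦsurj : Function.Surjective Φ := by
    rintro ⟨x, hx1, hx2⟩
    obtain ⟨i, ⟨y, hy⟩, -⟩ := hpart x hx1
    have hy' : g i y = x := hy
    refine ⟨⟨i, ⟨y, isClosed_singleton_of_image (g i) y (by rw [hy']; exact hx1), ?_⟩⟩, ?_⟩
    · rw [residueDegree_comp_of_surjectiveOnStalks, hy']; exact hx2
    · exact Subtype.ext hy'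
  haveI hTfin : ∀ i, Finite (T i) := by
    intro i
    refine Finite.of_injective (fun y : T i => Φ ⟨i, y⟩) ?_
    intro y y' h
    have := hΦinj h
    simpa using this
  have h1 : Nat.card S = Nat.card (Σ i, T i) :=
    (Nat.card_congr (Equiv.ofBijective Φ ⟨hΦinj, hΦsurj⟩)).symm
  rw [h1, Nat.card_sigma]

theorem nPts_eq_sum
    (hpart : ∀ x : X, IsClosed ({x} : Set X) → ∃! i, x ∈ Set.range (g i).base) (m : ℕ) :
    Zeta.nPts f m = ∑ i, Zeta.nPts (g i ≫ f) m := by
  unfold Zeta.nPts
  rw [Finset.sum_comm]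
  refine Finset.sum_congr rfl fun e he => ?_
  have he1 : 1 ≤ e := Nat.pos_of_mem_divisors he
  rw [degCount_eq_sum f Y g hpart e he1, Finset.mul_sum]

theorem logZeta_eq_sum
    (hpart : ∀ x : X, IsClosed ({x} : Set X) → ∃! i, x ∈ Set.range (g i).base) :
    Zeta.logZeta f = ∑ i, Zeta.logZeta (g i ≫ f) := by
  ext m
  rw [map_sum]
  unfold Zeta.logZeta
  simp only [PowerSeries.coeff_mk]
  rw [nPts_eq_sum f Y g hpart m, Nat.cast_sum, Finset.sum_div]

theorem constantCoeff_logZeta {k : Type u} [Field k] {X : Scheme.{u}}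
    (f : X ⟶ Spec (CommRingCat.of k)) : PowerSeries.constantCoeff (Zeta.logZeta f) = 0 := by
  rw [← PowerSeries.coeff_zero_eq_constantCoeff_apply]
  unfold Zeta.logZeta
  simp

theorem zetaFun_eq_prod
    (hpart : ∀ x : X, IsClosed ({x} : Set X) → ∃! i, x ∈ Set.range (g i).base) :
    Zeta.zetaFun f = ∏ i, Zeta.zetaFun (g i ≫ f) := by
  open Groth.Agent.Lib.Helper66 in
  have hF : IsLogDeriv (Zeta.zetaFun f) (PowerSeries.derivative ℚ (Zeta.logZeta f)) :=
    isLogDeriv_exp_subst (K := ℚ) _ (constantCoeff_logZeta f)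
  open Groth.Agent.Lib.Helper66 in
  have hG : IsLogDeriv (∏ i, Zeta.zetaFun (g i ≫ f))
      (∑ i, PowerSeries.derivative ℚ (Zeta.logZeta (g i ≫ f))) :=
    IsLogDeriv.prod Finset.univ _ _ fun i _ =>
      isLogDeriv_exp_subst (K := ℚ) _ (constantCoeff_logZeta (g i ≫ f))
  rw [← map_sum, ← logZeta_eq_sum f Y g hpart] at hG
  have hF0 : PowerSeries.constantCoeff (Zeta.zetaFun f) = 1 :=
    Groth.Agent.Lib.Helper66.constantCoeff_exp_subst (K := ℚ) _ (constantCoeff_logZeta f)
  have hG0 : PowerSeries.constantCoeff (∏ i, Zeta.zetaFun (g i ≫ f)) = 1 := by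
    rw [map_prod]
    exact Finset.prod_eq_one fun i _ =>
      Groth.Agent.Lib.Helper66.constantCoeff_exp_subst (K := ℚ) _
        (constantCoeff_logZeta (g i ≫ f))
  exact hF.unique hG (hF0.trans hG0.symm) (by rw [hG0]; exact one_ne_zero)

end partition

end Groth.Agent.Lib.Helper67
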