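import Groth.Agent.Lib.Helper67.CurvePic
import Groth.Agent.Lib.Helper67.FFNumer
import Groth.Agent.Lib.Helper67.FFClassNum
import Groth.Agent.Lib.Helper67.ZetaMult

/-!
# The zeta function of a curve over a finite field is the zeta function of its function field
-/

set_option autoImplicit false
set_option linter.style.haveILetI false
universe u
open CategoryTheory AlgebraicGeometry FunFld PowerSeries

noncomputable section

namespace Groth.Agent.Lib.Helper67.CurveZeta

open Groth.Agent.Lib.Helper67 Groth.Agent.FF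
  Groth.Agent.Lib.Helper67.CurveGeomIrr Groth.Agent.Lib.Helper67.CurveCount
  Groth.Agent.Lib.Helper67.CurveDiv Groth.Agent.Lib.Helper67.CurveRR
  Groth.Agent.Lib.Helper67.FFClass Groth.Agent.Lib.Helper67.FFNumer
  Groth.Agent.Lib.Helper67.FFZetaSeries Groth.Agent.Lib.Helper66
  Groth.Agent.Lib.Helper67.FFRational Groth.Agent.Lib.Helper67.DegCount

variable {k : Type u} [Field k] {C : Scheme.{u}} [C.Over (Spec (CommRingCat.of k))] [IsIntegral C]

attribute [local instance] algKO

variable (hC : Curve.IsSmoothProperCurve k C (C ↘ Spec (CommRingCat.of k)))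
  [GeometricallyIrreducible (C ↘ Spec (CommRingCat.of k))] [Finite k]

include hC in
theorem zetaFun_eq_ZF :
    Zeta.zetaFun (C ↘ Spec (CommRingCat.of k)) = ZF k C.functionField ℚ := by
  have hK := isFunctionField_of_curve hC
  have hL0 := Groth.Agent.Lib.Helper67.constantCoeff_logZeta (C ↘ Spec (CommRingCat.of k))
  have hF : IsLogDeriv (Zeta.zetaFun (C ↘ Spec (CommRingCat.of k)))
      (PowerSeries.derivative ℚ (Zeta.logZeta (C ↘ Spec (CommRingCat.of k)))) :=
    isLogDeriv_exp_subst (K := ℚ) _ hL0
  have hD : PowerSeries.derivative ℚ (Zeta.logZeta (C ↘ Spec (CommRingCat.of k))) =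
      DF k C.functionField ℚ := by
    ext m
    rw [coeff_derivative]
    unfold Zeta.logZeta DF
    rw [coeff_mk, coeff_mk, nPts_eq_npts hC (Nat.le_add_left 1 m)]
    have : ((m : ℚ) + 1) ≠ 0 := by positivity
    push_cast
    field_simp
  rw [hD] at hF
  refine hF.unique (isLogDeriv_ZF ℚ hK) ?_ ?_
  · rw [constantCoeff_ZF ℚ hK]
    exact constantCoeff_exp_subst (K := ℚ) _ hL0
  · rw [constantCoeff_ZF ℚ hK]
    exact one_ne_zero

include hC in
/-- the zeta function times `(1 - t)(1 - qt)` is the numerator polynomial -/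
theorem exists_numerator :
    ∃ P : Polynomial ℤ, P.natDegree ≤ 2 * Curv2.genus k C ∧ P.coeff 0 = 1 ∧
      P.eval 1 = (classNum k C.functionField : ℤ) ∧
      Zeta.zetaFun (C ↘ Spec (CommRingCat.of k)) *
          ((1 - PowerSeries.X) * (1 - PowerSeries.C (Nat.card k : ℚ) * PowerSeries.X)) =
        ((P.map (Int.castRingHom ℚ) : Polynomial ℚ) : PowerSeries ℚ) := by
  have hK := isFunctionField_of_curve hC
  obtain ⟨P, hP⟩ := exists_polynomial hK
  have hcoeff : ∀ n, P.coeff n = coeff n (numerZ k C.functionField) := fun n => by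
    rw [← hP, Polynomial.coeff_coe]
  refine ⟨P, ?_, ?_, eval_one_eq_classNum hK P hP, ?_⟩
  · rw [genus_eq hC, Polynomial.natDegree_le_iff_coeff_eq_zero]
    intro n hn
    rw [hcoeff]
    exact coeff_numerZ_eq_zero hK n (by omega)
  · rw [hcoeff, coeff_zero_eq_constantCoeff_apply]
    unfold numerZ
    rw [map_mul, map_mul, map_sub, map_sub, map_mul, map_one, constantCoeff_X,
      mul_zero, sub_zero]
    rw [one_mul, one_mul, ← coeff_zero_eq_constantCoeff_apply,
      coeff_zetaZ, effDivCount_eq_cnt, cnt_zero (Groth.Agent.Lib.Helper67.FFConstExt.admissible_deg hK),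
      Nat.cast_one]
  · have h1 : ((P.map (Int.castRingHom ℚ) : Polynomial ℚ) : PowerSeries ℚ) =
        PowerSeries.map (Int.castRingHom ℚ) (P : PowerSeries ℤ) := by
      ext n
      rw [Polynomial.coeff_coe, Polynomial.coeff_map, coeff_map, Polynomial.coeff_coe]
    rw [h1, hP, map_numerZ, zetaFun_eq_ZF hC]
    simp only [map_one, one_mul]
    ring

end Groth.Agent.Lib.Helper67.CurveZeta
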