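import Mathlib.RingTheory.DiscreteValuationRing.Basic
import Mathlib.RingTheory.TensorProduct.Basic
import Mathlib.RingTheory.Localization.FractionRing
import Mathlib.RingTheory.Flat.Basic
import Mathlib.Tactic

/-!
Clearing denominators in `K ⊗[R] M` for a discrete valuation ring `R` with fraction field `K`.
-/

namespace Groth.Agent.Lib.Helper67

open scoped TensorProduct

section
variable {R : Type*} [CommRing R] [IsDomain R] [IsDiscreteValuationRing R]
  {K : Type*} [Field K] [Algebra R K] [IsFractionRing R K]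

/-- clearing denominators in `K ⊗ M` -/
lemma exists_pow_smul_eq_one_tmul' {ϖ : R} (hϖ : Irreducible ϖ) {M : Type*} [AddCommGroup M]
    [Module R M] (y : K ⊗[R] M) : ∃ (n : ℕ) (z : M), (ϖ ^ n) • y = (1 : K) ⊗ₜ[R] z := by
  induction y using TensorProduct.induction_on with
  | zero => exact ⟨0, 0, by simp⟩
  | tmul k m =>
    obtain ⟨r, s, hs, rfl⟩ := IsFractionRing.div_surjective (A := R) k
    have hs0 : s ≠ 0 := nonZeroDivisors.ne_zero hs
    obtain ⟨n, u, hu⟩ := IsDiscreteValuationRing.eq_unit_mul_pow_irreducible hs0 hϖ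
    refine ⟨n, (r * ((u⁻¹ : Rˣ) : R)) • m, ?_⟩
    have hsK : algebraMap R K s ≠ 0 := by
      simpa using (IsFractionRing.injective R K).ne hs0
    have key : (ϖ ^ n) • (algebraMap R K r / algebraMap R K s) =
        (r * ((u⁻¹ : Rˣ) : R)) • (1 : K) := by
      rw [Algebra.smul_def, Algebra.smul_def, mul_one, eq_comm, ← mul_div_assoc,
        eq_div_iff hsK, hu]
      simp only [map_mul, map_pow]
      have : algebraMap R K ((u⁻¹ : Rˣ) : R) * algebraMap R K (u : R) = 1 := by
        rw [← map_mul]; simp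
      calc algebraMap R K r * algebraMap R K ((u⁻¹ : Rˣ) : R) *
            (algebraMap R K (u : R) * algebraMap R K ϖ ^ n)
          = algebraMap R K r * (algebraMap R K ((u⁻¹ : Rˣ) : R) * algebraMap R K (u : R)) *
            algebraMap R K ϖ ^ n := by ring
        _ = algebraMap R K ϖ ^ n * algebraMap R K r := by rw [this]; ring
    rw [TensorProduct.smul_tmul', key, TensorProduct.smul_tmul]
  | add y1 y2 h1 h2 =>
    obtain ⟨n1, z1, h1⟩ := h1
    obtain ⟨n2, z2, h2⟩ := h2
    refine ⟨n1 + n2, ϖ ^ n2 • z1 + ϖ ^ n1 • z2, ?_⟩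
    have e1 : ϖ ^ (n1 + n2) • y1 = ϖ ^ n2 • (ϖ ^ n1 • y1) := by
      rw [smul_smul, pow_add, mul_comm]
    have e2 : ϖ ^ (n1 + n2) • y2 = ϖ ^ n1 • (ϖ ^ n2 • y2) := by rw [smul_smul, pow_add]
    rw [smul_add, e1, e2, h1, h2, TensorProduct.tmul_add, TensorProduct.tmul_smul,
      TensorProduct.tmul_smul]

lemma eq_zero_of_smul_eq_zero_tensorK {M : Type*} [AddCommGroup M] [Module R M] {r : R}
    (hr : r ≠ 0) {y : K ⊗[R] M} (h : r • y = 0) : y = 0 := by
  have hrK : algebraMap R K r ≠ 0 := by simpa using (IsFractionRing.injective R K).ne hr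
  have h1 : algebraMap R K r • y = 0 := by rw [algebraMap_smul]; exact h
  rw [← inv_smul_smul₀ hrK y, h1, smul_zero]

end

end Groth.Agent.Lib.Helper67
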