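import Groth.Agent.Lib.Helper67.DegCount
import Groth.Agent.Lib.Helper66.LogDeriv

/-!
# Generating series of weighted multiset counts; rescaling the degrees
-/

set_option autoImplicit false

open PowerSeries

namespace Groth.Agent.Lib.Helper67.DegCount

open Groth.Agent.Lib.Helper66

variable {ι : Type*} (d : ι → ℕ) (F : Type*) [Field F]

/-- `∑ cnt n Xⁿ` -/
noncomputable def cntSeries : F⟦X⟧ := PowerSeries.mk fun n => (cnt d n : F)

/-- `∑ npts (m+1) X^m` -/
noncomputable def nptsSeries : F⟦X⟧ := PowerSeries.mk fun m => (npts d (m + 1) : F)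

variable {d}

theorem constantCoeff_cntSeries (h : Admissible d) : constantCoeff (cntSeries d F) = 1 := by
  rw [← coeff_zero_eq_constantCoeff_apply]
  unfold cntSeries
  rw [coeff_mk, cnt_zero h, Nat.cast_one]

theorem isLogDeriv_cntSeries (h : Admissible d) :
    IsLogDeriv (cntSeries d F) (nptsSeries d F) := by
  unfold IsLogDeriv
  ext n
  rw [coeff_derivative, coeff_mul, Finset.Nat.sum_antidiagonal_eq_sum_range_succ_mk]
  unfold cntSeries nptsSeries
  simp only [coeff_mk]
  have h1 := mul_cnt_eq h (n + 1)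
  have h' : ((n + 1 : ℕ) : F) * (cnt d (n + 1) : F) =
      ∑ m ∈ Finset.range (n + 1), (npts d (m + 1) : F) * (cnt d (n + 1 - (m + 1)) : F) := by
    exact_mod_cast congrArg (Nat.cast (R := F)) h1
  rw [mul_comm, ← Nat.cast_succ, h']
  refine Finset.sum_congr rfl fun m _ => ?_
  rw [Nat.add_sub_add_right]

variable {d₂ : ι → ℕ} {c : ℕ}

lemma wt_scale (hd : ∀ i, d i = c * d₂ i) (E : ι →₀ ℕ) : wt d E = c * wt d₂ E := by
  unfold wt Finsupp.sum
  rw [Finset.mul_sum]
  refine Finset.sum_congr rfl fun i _ => ?_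
  show E i * d i = c * (E i * d₂ i)
  rw [hd i]
  ring

theorem admissible_scale (hd : ∀ i, d i = c * d₂ i) (h : Admissible d) :
    Admissible d₂ := by
  refine ⟨fun i => ?_, fun n => ?_⟩
  · have := h.pos i
    rw [hd i] at this
    exact Nat.pos_of_mul_pos_left (Nat.lt_of_lt_of_le Nat.zero_lt_one this)
  · refine (h.fin (c * n)).subset ?_
    intro i hi
    rw [Set.mem_ofPred_eq] at hi ⊢
    rw [hd i]
    exact Nat.mul_le_mul_left _ hi

theorem cnt_scale (hc : 0 < c) (hd : ∀ i, d i = c * d₂ i) (n : ℕ) :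
    cnt d₂ n = cnt d (c * n) := by
  unfold cnt
  refine Nat.card_congr (Equiv.subtypeEquivRight fun E => ?_)
  rw [wt_scale hd]
  constructor
  · intro h; rw [h]
  · intro h; exact Nat.eq_of_mul_eq_mul_left hc h

theorem npts_scale (hc : 0 < c) (hd : ∀ i, d i = c * d₂ i) (h₂ : Admissible d₂) (m : ℕ)
    (hm : 1 ≤ m) : c * npts d₂ m = npts d (c * m) := by
  unfold npts
  rw [mul_finsum']
  · refine finsum_congr fun i => ?_
    rw [hd i]
    by_cases hi : d₂ i ∣ m
    · rw [if_pos hi, if_pos (Nat.mul_dvd_mul_left c hi)]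
    · rw [if_neg hi, if_neg (fun h => hi ((Nat.mul_dvd_mul_iff_left hc).mp h)), mul_zero]
  · refine (h₂.fin m).subset ?_
    intro i hi
    rw [Function.mem_support] at hi
    rw [Set.mem_ofPred_eq]
    by_cases hdvd : d₂ i ∣ m
    · exact Nat.le_of_dvd (by omega) hdvd
    · rw [if_neg hdvd] at hi
      exact absurd rfl hi

end Groth.Agent.Lib.Helper67.DegCount
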