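import Mathlib
import Groth.Agent.Lib.Helper49.AssMono
import Groth.Agent.Lib.Helper49.SupportSplit2
import Groth.Agent.Lib.Helper49.StalkKerCoker
import Groth.Agent.Lib.Helper49.CohNoeth

/-!
# Dévissage of coherent modules, local part

For a nonzero coherent module `F` on a Noetherian scheme there are an affine open `W`, a point
`x ∈ W` and a monomorphism `O_Z|_W ⟶ F|_W`, where `Z` is the reduced closure of `x`.
-/

set_option autoImplicit false
set_option linter.style.haveILetI false
universe u
open CategoryTheory CategoryTheory.Limits AlgebraicGeometry TopologicalSpace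

namespace Groth.Agent.Lib.Helper67.Devissage

open Groth.Agent.Lib.Helper49 Groth.Agent.Lib.Helper49.AssMono

variable {X : Scheme.{u}}

/-- a nonzero module has a nonzero section over some affine open -/
theorem exists_affine_nontrivial (F : X.Modules) (hF : ¬ IsZero F) :
    ∃ W : X.Opens, IsAffineOpen W ∧ Nontrivial Γ(F, W) := by
  by_contra hcon
  apply hF
  rw [Helper45.isZero_iff_stalk_subsingleton]
  intro y
  have key : ∀ a : ↑(F.presheaf.stalk y), a = 0 := by
    intro a
    obtain ⟨V, hyV, s, rfl⟩ := TopCat.Presheaf.exists_germ_eq F.presheaf a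
    obtain ⟨W, hW, hyW, hWV'⟩ := exists_isAffineOpen_mem_and_subset (x := y) (U := V) hyV
    have hWV : W ≤ V := hWV'
    have hsub : Subsingleton Γ(F, W) := by
      by_contra hns
      exact hcon ⟨W, hW, not_subsingleton_iff_nontrivial.mp hns⟩
    rw [← TopCat.Presheaf.germ_res_apply F.presheaf (homOfLE hWV) y hyW s]
    have h0 : F.presheaf.map (homOfLE hWV).op s = 0 := hsub.elim _ _
    rw [h0, map_zero]
  exact ⟨fun a b => (key a).trans (key b).symm⟩

/-- a nonzero quasi-coherent module on a Noetherian scheme has a section over an affine open whose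
annihilator is the prime ideal of a point -/
theorem exists_ann_eq [IsLocallyNoetherian X] (F : X.Modules) (hF : ¬ IsZero F) :
    ∃ (W : X.Opens) (hW : IsAffineOpen W) (x : W) (m : Γ(F, W)),
      ∀ r : Γ(X, W), r • m = 0 ↔ r ∈ (hW.primeIdealOf x).asIdeal := by
  obtain ⟨W, hW, hnt⟩ := exists_affine_nontrivial F hF
  haveI := IsLocallyNoetherian.component_noetherian ⟨W, hW⟩
  obtain ⟨p, hp⟩ := associatedPrimes.nonempty Γ(X, W) Γ(F, W)
  obtain ⟨hprime, m, hm⟩ := (isAssociatedPrime_iff).mp hp
  obtain ⟨x, hx⟩ := Helper45.exists_primeIdealOf_eq hW ⟨p, hprime⟩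
  refine ⟨W, hW, x, m, fun r => ?_⟩
  rw [hx]
  change _ ↔ r ∈ p
  rw [hm, Submodule.mem_colon_singleton, Submodule.mem_bot]

/-- the local monomorphism `O_Z|_W ⟶ F|_W` attached to a section with prime annihilator -/
theorem exists_mono_of_ann [IsLocallyNoetherian X] (F : X.Modules) [F.IsQuasicoherent]
    {W : X.Opens} (hW : IsAffineOpen W) (x : W) (m : Γ(F, W))
    (hm : ∀ r : Γ(X, W), r • m = 0 ↔ r ∈ (hW.primeIdealOf x).asIdeal) :
    ∃ φ₀ : (OZ (x : X)).restrict W.ι ⟶ F.restrict W.ι, Mono φ₀ := by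
  let g : Γ(X, W) →ₗ[Γ(X, W)] Γ(OZ (x : X), W) := LinearMap.toSpanSingleton _ _ (oneOZ (x : X) W)
  let k : Γ(X, W) →ₗ[Γ(X, W)] Γ(F, W) := LinearMap.toSpanSingleton _ _ m
  have hg : Function.Surjective g := fun s => exists_eq_smul_oneOZ hW (x : X) s
  have hk : LinearMap.ker g = LinearMap.ker k := by
    ext r
    simp only [LinearMap.mem_ker, g, k, LinearMap.toSpanSingleton_apply]
    rw [smul_oneOZ_eq_zero_iff hW x, hm]
  obtain ⟨h, hinj, -⟩ := exists_injective_factor g hg k hk
  obtain ⟨φ₀, hφ₀⟩ := exists_hom_restrict_of_linearMap hW (OZ (x : X)) F h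
  have hinj' : Function.Injective (φ₀.app ⊤) := by
    intro s t hst
    have hs := map_map_id (OZ (x : X)) (eqToHom W.ι_image_top) (eqToHom W.ι_image_top.symm) s
    have ht := map_map_id (OZ (x : X)) (eqToHom W.ι_image_top) (eqToHom W.ι_image_top.symm) t
    rw [← hs, ← ht] at hst ⊢
    rw [hφ₀, hφ₀] at hst
    have h3 := hinj (map_injective_of_eq F _ W.ι_image_top hst)
    rw [h3]
  have hmono : Mono φ₀ := by
    haveI : ((OZ (x : X)).restrict W.ι).IsQuasicoherent :=
      Scheme.Modules.isQuasicoherent_restrictFunctor _ _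
    haveI : (F.restrict W.ι).IsQuasicoherent :=
      Scheme.Modules.isQuasicoherent_restrictFunctor _ _
    haveI : IsAffine (↑W : Scheme.{u}) := hW
    refine mono_of_stalkMap_injective φ₀ fun y => ?_
    exact stalkMap_injective_of_app_injective φ₀ (isAffineOpen_top (↑W : Scheme.{u}))
      ⟨y, trivial⟩ hinj'
  exact ⟨φ₀, hmono⟩

attribute [local instance] Helper45.stalkModuleSections in
/-- the germ at `x` of a section whose annihilator is the prime of `x` is nonzero -/
theorem germ_ne_zero_of_ann (F : X.Modules) [F.IsQuasicoherent]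
    {W : X.Opens} (hW : IsAffineOpen W) (x : W) (m : Γ(F, W))
    (hm : ∀ r : Γ(X, W), r • m = 0 ↔ r ∈ (hW.primeIdealOf x).asIdeal) :
    F.presheaf.germ W x x.2 m ≠ 0 := by
  intro h0
  haveI := Helper45.isLocalizedModule_germₗ hW F x
  have h1 : Helper45.germₗ F x m = 0 := h0
  rw [IsLocalizedModule.eq_zero_iff (hW.primeIdealOf x).asIdeal.primeCompl] at h1
  obtain ⟨c, hc⟩ := h1
  have h2 : (c : Γ(X, W)) ∈ (hW.primeIdealOf x).asIdeal := (hm c).mp hc
  exact c.2 h2

end Groth.Agent.Lib.Helper67.Devissage
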