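import Groth.Agent.FunFld.Residue
import Groth.Agent.FunFld.DivDeg
import Groth.Agent.FunFld.DegDiv
import Mathlib.FieldTheory.Minpoly.Field
import Mathlib.FieldTheory.Finite.Basic

/-!
# Function fields over a finite constant field: finitely many places of bounded degree,
finitely many effective divisors of given degree
-/

set_option autoImplicit false

open FunFld Polynomial WithZero

namespace Groth.Agent.Lib.Helper67.FFFin

open Groth.Agent.FF

universe u v
variable {k : Type u} {K : Type v} [Field k] [Field K] [Algebra k K]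

instance isScalarTower_O (P : Place k K) : IsScalarTower k P.O K :=
  IsScalarTower.of_algebraMap_eq (fun _ => rfl)

instance isScalarTower_res (P : Place k K) :
    IsScalarTower k P.O (IsLocalRing.ResidueField P.O) :=
  IsScalarTower.of_algebraMap_eq (fun _ => rfl)

set_option backward.isDefEq.respectTransparency false in
/-- At a place `P` where `x` is integral, some monic polynomial `p` over `k` of degree at most
`deg P` has `p(x)` in the maximal ideal. -/
lemma exists_monic_val_lt_one (hK : IsFunctionField k K) (P : Place k K) {x : K}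
    (hx : P.1 x ≤ 1) :
    ∃ p : k[X], p.Monic ∧ p.natDegree ≤ P.deg ∧ P.1 (aeval x p) < 1 := by
  have := finite_residueField hK P
  set xb : IsLocalRing.ResidueField P.O := res P ⟨x, hx⟩ with hxb
  have hint : IsIntegral k xb := IsIntegral.of_finite k xb
  refine ⟨minpoly k xb, minpoly.monic hint, minpoly.natDegree_le xb, ?_⟩
  have h1 : ((aeval (⟨x, hx⟩ : P.O) (minpoly k xb) : P.O) : K) = aeval x (minpoly k xb) := by
    have := Polynomial.aeval_algHom_apply (IsScalarTower.toAlgHom k P.O K)
      (⟨x, hx⟩ : P.O) (minpoly k xb)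
    exact this.symm
  rw [← h1, ← res_eq_zero_iff]
  have h2 : res P (aeval (⟨x, hx⟩ : P.O) (minpoly k xb)) = aeval xb (minpoly k xb) := by
    have := Polynomial.aeval_algHom_apply (IsScalarTower.toAlgHom k P.O
      (IsLocalRing.ResidueField P.O)) (⟨x, hx⟩ : P.O) (minpoly k xb)
    exact this.symm
  rw [h2, minpoly.aeval]

/-- Over a finite constant field there are only finitely many places of degree at most `n`. -/
theorem finite_places_deg_le [Finite k] (hK : IsFunctionField k K) (n : ℕ) :
    {P : Place k K | P.deg ≤ n}.Finite := by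
  classical
  have hK' : IsFunctionField k K := hK
  obtain ⟨⟨x, hx, _⟩, _⟩ := hK
  -- the finite set of monic polynomials of degree ≤ n
  have hfinpoly : {p : k[X] | p.natDegree ≤ n}.Finite := by
    have : {p : k[X] | p.natDegree ≤ n} ⊆ (Polynomial.degreeLT k (n + 1) : Set k[X]) := by
      intro p hp
      simp only [Set.mem_ofPred_eq] at hp
      rw [SetLike.mem_coe, Polynomial.mem_degreeLT]
      exact lt_of_le_of_lt (Polynomial.degree_le_natDegree)
        (by exact_mod_cast Nat.lt_succ_of_le hp)
    refine Set.Finite.subset ?_ this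
    have : Finite (Polynomial.degreeLT k (n + 1)) :=
      Finite.of_equiv _ (Polynomial.degreeLTEquiv k (n + 1)).symm.toEquiv
    exact Set.toFinite _
  have hzeros : ∀ p : k[X], p ≠ 0 → {P : Place k K | P.1 (aeval x p) < 1}.Finite := by
    intro p hp
    have hne : aeval x p ≠ 0 := fun h => hx ⟨p, hp, h⟩
    refine (finite_support_ord hK' (aeval x p)).subset ?_
    intro P hP
    simp only [Set.mem_ofPred_eq] at hP
    rw [val_lt_one_iff P hne] at hP
    rw [Function.mem_support]
    omega
  have hpoles : {P : Place k K | 1 < P.1 x}.Finite := by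
    have hx0 : x ≠ 0 := by rintro rfl; exact hx isAlgebraic_zero
    refine (finite_support_ord hK' x).subset ?_
    intro P hP
    simp only [Set.mem_ofPred_eq] at hP
    rw [Function.mem_support]
    intro h0
    have := (val_eq_one_iff P hx0).mpr h0
    rw [this] at hP
    exact lt_irrefl _ hP
  have hunion : {P : Place k K | P.deg ≤ n} ⊆
      {P : Place k K | 1 < P.1 x} ∪
        ⋃ p ∈ {p : k[X] | p.natDegree ≤ n ∧ p ≠ 0}, {P : Place k K | P.1 (aeval x p) < 1} := by
    intro P hP
    simp only [Set.mem_ofPred_eq] at hP
    by_cases hPx : P.1 x ≤ 1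
    · right
      obtain ⟨p, hpm, hpd, hpv⟩ := exists_monic_val_lt_one hK' P hPx
      simp only [Set.mem_iUnion, Set.mem_ofPred_eq]
      exact ⟨p, ⟨hpd.trans hP, hpm.ne_zero⟩, hpv⟩
    · left
      exact not_le.mp hPx
  refine Set.Finite.subset (hpoles.union ?_) hunion
  refine Set.Finite.biUnion (hfinpoly.subset fun p hp => hp.1) ?_
  intro p hp
  exact hzeros p hp.2

end Groth.Agent.Lib.Helper67.FFFin

namespace Groth.Agent.Lib.Helper67.FFFin

open Groth.Agent.FF

universe u v
variable {k : Type u} {K : Type v} [Field k] [Field K] [Algebra k K]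

/-- each term of the degree of an effective divisor is bounded by the degree -/
lemma coeff_mul_deg_le {D : Divisor k K} (hD : 0 ≤ D) (P : Place k K) :
    D P * (P.deg : ℤ) ≤ D.deg := by
  classical
  by_cases hP : P ∈ D.support
  · unfold Divisor.deg Finsupp.sum
    refine Finset.single_le_sum (f := fun P => D P * (P.deg : ℤ)) (fun Q _ => ?_) hP
    exact mul_nonneg (hD Q) (Int.natCast_nonneg _)
  · rw [Finsupp.notMem_support_iff.mp hP, zero_mul]
    exact deg_nonneg_of_nonneg hD

/-- Over a finite constant field there are finitely many effective divisors of degree `n`. -/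
theorem finite_effective_deg_eq [Finite k] (hK : IsFunctionField k K) (n : ℕ) :
    {D : Divisor k K | 0 ≤ D ∧ D.deg = n}.Finite := by
  classical
  set S : Finset (Place k K) := (finite_places_deg_le hK n).toFinset with hS
  refine Set.Finite.subset (Finset.finite_toSet (S.finsupp (fun _ => Finset.Icc (0 : ℤ) n))) ?_
  rintro D ⟨hD0, hDn⟩
  rw [Finset.mem_coe, Finset.mem_finsupp_iff]
  have key : ∀ P : Place k K, D P ≠ 0 → P.deg ≤ n ∧ D P ≤ n := by
    intro P hP
    have h1 := coeff_mul_deg_le hD0 P
    rw [hDn] at h1
    have h2 : 0 ≤ D P := hD0 P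
    have h3 : 1 ≤ D P := by omega
    have h4 : 0 < P.deg := deg_pos hK P
    have h5 : (1 : ℤ) ≤ (P.deg : ℤ) := by exact_mod_cast h4
    constructor
    · have : (P.deg : ℤ) ≤ n := by nlinarith
      exact_mod_cast this
    · nlinarith
  constructor
  · intro P hP
    rw [Finsupp.mem_support_iff] at hP
    rw [hS, Set.Finite.mem_toFinset]
    exact (key P hP).1
  · intro P _
    rw [Finset.mem_Icc]
    refine ⟨hD0 P, ?_⟩
    by_cases hP : D P = 0
    · rw [hP]; exact Int.natCast_nonneg n
    · exact (key P hP).2

end Groth.Agent.Lib.Helper67.FFFin
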