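import Mathlib.FieldTheory.Finite.Basic
import Mathlib.RingTheory.Adjoin.Basic
import Mathlib.FieldTheory.Finiteness
import Mathlib.LinearAlgebra.Dimension.Constructions

/-!
# Degree of a compositum of finite fields

If a finite field `F` is generated by subfields of degrees `d` and `r` over the finite field `k`,
then `[F : k] = lcm d r`.
-/

set_option autoImplicit false

namespace Groth.Agent.Lib.Helper67.FinFieldLcm

variable {k F₁ k' F : Type*} [Field k] [Finite k] [Field F₁] [Field k'] [Field F]
  [Algebra k F₁] [Algebra k k'] [Algebra k F] [Algebra F₁ F] [IsScalarTower k F₁ F]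
  [Finite F]

/-- every element of a finite extension `E` of degree dividing `ℓ`, mapped to `F`, is fixed by
`x ↦ x ^ (q ^ ℓ)` -/
lemma pow_card_pow_eq_of_dvd {E : Type*} [Field E] [Algebra k E] [Finite E] (ψ : E →+* F)
    {ℓ : ℕ} (hℓ : Module.finrank k E ∣ ℓ) (y : E) :
    ψ y ^ (Nat.card k ^ ℓ) = ψ y := by
  classical
  have := Fintype.ofFinite k
  have := Fintype.ofFinite E
  obtain ⟨j, rfl⟩ := hℓ
  have hcard : Nat.card k ^ Module.finrank k E = Fintype.card E := by
    rw [Nat.card_eq_fintype_card]
    exact Module.card_eq_pow_finrank.symm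
  rw [pow_mul, hcard, ← map_pow, FiniteField.pow_card_pow]

theorem finrank_eq_lcm (ψ : k' →ₐ[k] F) [Finite F₁] [Finite k']
    (hgen : Algebra.adjoin F₁ (Set.range ψ) = ⊤) :
    Module.finrank k F = Nat.lcm (Module.finrank k F₁) (Module.finrank k k') := by
  classical
  have := Fintype.ofFinite k
  have hfinF : Module.Finite k F := Module.Finite.of_finite
  have hfinF₁ : Module.Finite k F₁ := Module.Finite.of_finite
  have hfink' : Module.Finite k k' := Module.Finite.of_finite
  set ℓ := Nat.lcm (Module.finrank k F₁) (Module.finrank k k') with hℓ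
  -- both degrees divide `[F : k]`
  have h1 : Module.finrank k F₁ ∣ Module.finrank k F := by
    have : Module.Finite F₁ F := Module.Finite.of_finite
    exact Dvd.intro _ (Module.finrank_mul_finrank k F₁ F)
  have h2 : Module.finrank k k' ∣ Module.finrank k F := by
    letI : Algebra k' F := ψ.toRingHom.toAlgebra
    haveI : IsScalarTower k k' F := IsScalarTower.of_algebraMap_eq fun c => (ψ.commutes c).symm
    have : Module.Finite k' F := Module.Finite.of_finite
    exact Dvd.intro _ (Module.finrank_mul_finrank k k' F)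
  have hdvd : ℓ ∣ Module.finrank k F := Nat.lcm_dvd h1 h2
  -- every element of `F` is fixed by the `ℓ`-th power of Frobenius
  let S : Subalgebra F₁ F :=
    { carrier := {x | x ^ (Nat.card k ^ ℓ) = x}
      mul_mem' := by
        intro a b ha hb
        rw [Set.mem_ofPred_eq] at ha hb ⊢
        rw [mul_pow, ha, hb]
      one_mem' := by rw [Set.mem_ofPred_eq, one_pow]
      add_mem' := by
        intro a b ha hb
        rw [Set.mem_ofPred_eq] at ha hb ⊢
        have hφ : ∀ x : F, ((FiniteField.frobeniusAlgHom k F) ^ ℓ) x = x ^ (Nat.card k ^ ℓ) := by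
          intro x
          rw [AlgHom.coe_pow, FiniteField.coe_frobeniusAlgHom, pow_iterate,
            Nat.card_eq_fintype_card]
        rw [← hφ, map_add, hφ, hφ, ha, hb]
      zero_mem' := by
        rw [Set.mem_ofPred_eq, zero_pow]
        exact pow_ne_zero _ (Nat.card_pos).ne'
      algebraMap_mem' := by
        intro y
        rw [Set.mem_ofPred_eq]
        exact pow_card_pow_eq_of_dvd (algebraMap F₁ F) (Nat.dvd_lcm_left _ _) y }
  have hS : (⊤ : Subalgebra F₁ F) ≤ S := by
    rw [← hgen]
    apply Algebra.adjoin_le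
    rintro _ ⟨c, rfl⟩
    show ψ c ^ (Nat.card k ^ ℓ) = ψ c
    exact pow_card_pow_eq_of_dvd (ψ : k' →+* F) (Nat.dvd_lcm_right _ _) c
  have hall : ∀ x : F, x ^ (Nat.card k ^ ℓ) = x := fun x => hS (Algebra.mem_top)
  have hpow : (FiniteField.frobeniusAlgHom k F) ^ ℓ = 1 := by
    apply AlgHom.ext
    intro x
    rw [AlgHom.coe_pow, FiniteField.coe_frobeniusAlgHom, pow_iterate, AlgHom.one_apply,
      ← Nat.card_eq_fintype_card]
    exact hall x
  have hord := orderOf_dvd_of_pow_eq_one hpow
  rw [FiniteField.orderOf_frobeniusAlgHom] at hord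
  exact Nat.dvd_antisymm hord hdvd

end Groth.Agent.Lib.Helper67.FinFieldLcm
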