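import Groth.Agent.FunFld.ConstSepExt
import Groth.Agent.FunFld.ConstField
import Groth.Agent.FunFld.SumEF
import Groth.Agent.Lib.Helper67.FinFieldLcm
import Groth.Agent.Lib.Helper67.FFFin
import Mathlib.RingTheory.Valuation.Extension

/-!
# Places in constant field extensions of function fields over finite fields
-/

set_option autoImplicit false
set_option linter.unusedSectionVars false

open FunFld WithZero

namespace Groth.Agent.Lib.Helper67.FFConstExt

open Groth.Agent.FF Groth.Agent.FF.Ext

variable {k k' K K' : Type*} [Field k] [Field k'] [Field K] [Field K']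
  [Algebra k k'] [Algebra k K] [Algebra K K'] [Algebra k' K'] [Algebra k K']
  [IsScalarTower k k' K'] [IsScalarTower k K K']

/-- a place over `k'` as a place over `k` -/
def placeDown (Q : Place k' K') : Place k K' :=
  ⟨Q.1, ⟨fun c => by
    rw [IsScalarTower.algebraMap_apply k k' K']
    exact Q.2.1 _, Q.2.2⟩⟩

lemma val_const_le_one [Algebra.IsAlgebraic k k'] (Q : Place k K') (c : k') :
    Q.1 (algebraMap k' K' c) ≤ 1 :=
  val_le_one_of_isAlgebraic Q ((Algebra.IsAlgebraic.isAlgebraic c).algebraMap)

/-- a place over `k` as a place over the algebraic extension `k'` -/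
def placeUp [Algebra.IsAlgebraic k k'] (Q : Place k K') : Place k' K' :=
  ⟨Q.1, ⟨fun c => val_const_le_one Q c, Q.2.2⟩⟩

lemma placeDown_placeUp [Algebra.IsAlgebraic k k'] (Q : Place k K') :
    placeDown (placeUp (k' := k') Q) = Q := rfl

lemma placeUp_placeDown [Algebra.IsAlgebraic k k'] (Q : Place k' K') :
    placeUp (placeDown (k := k) Q) = Q := rfl

/-- the equivalence between places over `k'` and over `k` -/
def placeEquiv [Algebra.IsAlgebraic k k'] : Place k' K' ≃ Place k K' where
  toFun := placeDown
  invFun := placeUp
  left_inv := placeUp_placeDown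
  right_inv := placeDown_placeUp

/-- degrees over `k` and over `k'` -/
lemma deg_placeDown (Q : Place k' K') :
    (placeDown (k := k) Q).deg = Module.finrank k k' * Q.deg := by
  letI : Algebra k' (IsLocalRing.ResidueField (placeDown (k := k) Q).O) :=
    (Place.algRes Q : Algebra k' (IsLocalRing.ResidueField Q.O))
  have htower : IsScalarTower k k' (IsLocalRing.ResidueField (placeDown (k := k) Q).O) := by
    apply IsScalarTower.of_algebraMap_eq
    intro c
    show IsLocalRing.residue _ _ = IsLocalRing.residue _ _
    congr 1
    apply Subtype.ext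
    exact IsScalarTower.algebraMap_apply k k' K' c
  have h := (@Module.finrank_mul_finrank k k' (IsLocalRing.ResidueField (placeDown (k := k) Q).O)
    _ _ _ _ _ _ htower _ _ _ _).symm
  exact h

end Groth.Agent.Lib.Helper67.FFConstExt

namespace Groth.Agent.Lib.Helper67.FFConstExt

open Groth.Agent.FF Groth.Agent.FF.Ext

variable {k k' K K' : Type*} [Field k] [Field k'] [Field K] [Field K']
  [Algebra k k'] [Algebra k K] [Algebra K K'] [Algebra k' K'] [Algebra k K']
  [IsScalarTower k k' K'] [IsScalarTower k K K']

lemma hasExtension_of_isOverWith {P : Place k K} {Q : Place k K'} {e : ℕ}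
    (he : IsOverWith Q P e) : P.1.HasExtension Q.1 := by
  refine ⟨?_⟩
  rw [Valuation.isEquiv_iff_val_le_one]
  intro x
  rw [Valuation.comap_apply]
  exact (le_one_iff he x).symm

set_option backward.isDefEq.respectTransparency false in
/-- the degree over `k` of a place of a constant field extension of finite fields -/
theorem deg_eq_lcm [Finite k] [Finite k']
    (hsurj : Function.Surjective (Algebra.TensorProduct.productMap
      (IsScalarTower.toAlgHom k k' K') (IsScalarTower.toAlgHom k K K')))
    (hK : IsFunctionField k K) {P : Place k K} {Q : Place k K'} {e : ℕ}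
    (he : IsOverWith Q P e) :
    Q.deg = Nat.lcm P.deg (Module.finrank k k') := by
  classical
  have hfd : FiniteDimensional k k' := Module.Finite.of_finite
  have hsep : Algebra.IsSeparable k k' := inferInstance
  have halg : Algebra.IsAlgebraic k k' := inferInstance
  have hfdK : FiniteDimensional K K' := finiteDimensional_of_productMap_surjective hsurj
  haveI hext : P.1.HasExtension Q.1 := hasExtension_of_isOverWith he
  letI : Algebra P.O K' := ((algebraMap K K').comp (algebraMap P.O K)).toAlgebra
  haveI : IsScalarTower P.O K K' := IsScalarTower.of_algebraMap_eq (fun _ => rfl)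
  have hns := constSep_integralClosure hsurj hK P
  have hk' : ∀ c : k', Q.1 (algebraMap k' K' c) ≤ 1 := fun c => val_const_le_one Q c
  have hgen := residue_adjoin_eq_top (k' := k') hK P (congrArg Subalgebra.toSubring hns) Q hk'
  have htower : IsScalarTower k (IsLocalRing.ResidueField P.O) (IsLocalRing.ResidueField Q.O) := by
    apply IsScalarTower.of_algebraMap_eq
    intro c
    show IsLocalRing.residue Q.O (algebraMap k Q.O c) =
      IsLocalRing.residue Q.O (algebraMap P.O Q.O (algebraMap k P.O c))
    congr 1
    apply Subtype.ext
    show algebraMap k K' c = algebraMap K K' (algebraMap k K c)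
    exact IsScalarTower.algebraMap_apply k K K' c
  have hfP : FiniteDimensional k (IsLocalRing.ResidueField P.O) := finite_residueField hK P
  have hfQ : FiniteDimensional k (IsLocalRing.ResidueField Q.O) := finite_residueField_ext hK Q
  have hFinP : Finite (IsLocalRing.ResidueField P.O) := Module.finite_of_finite k
  have hFinQ : Finite (IsLocalRing.ResidueField Q.O) := Module.finite_of_finite k
  let ψ : k' →ₐ[k] IsLocalRing.ResidueField Q.O :=
    { toRingHom := (IsLocalRing.residue Q.O).comp ((algebraMap k' K').codRestrict Q.O hk')
      commutes' := by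
        intro c
        show IsLocalRing.residue Q.O _ = IsLocalRing.residue Q.O (algebraMap k Q.O c)
        congr 1
        apply Subtype.ext
        show algebraMap k' K' (algebraMap k k' c) = algebraMap k K' c
        exact (IsScalarTower.algebraMap_apply k k' K' c).symm }
  have hrange : Set.range ψ =
      Set.range fun c : k' => IsLocalRing.residue Q.O ⟨algebraMap k' K' c, hk' c⟩ := rfl
  have := Groth.Agent.Lib.Helper67.FinFieldLcm.finrank_eq_lcm ψ (hrange ▸ hgen)
  exact this

end Groth.Agent.Lib.Helper67.FFConstExt

namespace Groth.Agent.Lib.Helper67.FFConstExt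

open Groth.Agent.FF Groth.Agent.FF.Ext

variable {k k' K K' : Type*} [Field k] [Field k'] [Field K] [Field K']
  [Algebra k k'] [Algebra k K] [Algebra K K'] [Algebra k' K'] [Algebra k K']
  [IsScalarTower k k' K'] [IsScalarTower k K K']

open TensorProduct in
/-- `[k' ⊗ K : K] = [k' : k]` -/
theorem finrank_eq_of_productMap_bijective [FiniteDimensional k k']
    (h : Function.Bijective (Algebra.TensorProduct.productMap
      (IsScalarTower.toAlgHom k k' K') (IsScalarTower.toAlgHom k K K'))) :
    Module.finrank K K' = Module.finrank k k' := by
  let φ : K ⊗[k] k' →ₐ[K] K' :=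
    Algebra.TensorProduct.productLeftAlgHom (Algebra.ofId K K') (IsScalarTower.toAlgHom k k' K')
  have hφ : ∀ t : k' ⊗[k] K, φ (TensorProduct.comm k k' K t) =
      Algebra.TensorProduct.productMap (IsScalarTower.toAlgHom k k' K')
        (IsScalarTower.toAlgHom k K K') t := by
    intro t
    induction t using TensorProduct.induction_on with
    | zero => simp
    | tmul a c =>
      rw [TensorProduct.comm_tmul, Algebra.TensorProduct.productMap_apply_tmul]
      show (Algebra.ofId K K') c * (IsScalarTower.toAlgHom k k' K') a = _
      rw [mul_comm]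
      rfl
    | add s t hs ht => rw [map_add, map_add, map_add, hs, ht]
  have hbij : Function.Bijective φ.toLinearMap := by
    constructor
    · intro a b hab
      obtain ⟨a', rfl⟩ := (TensorProduct.comm k k' K).surjective a
      obtain ⟨b', rfl⟩ := (TensorProduct.comm k k' K).surjective b
      have : φ (TensorProduct.comm k k' K a') = φ (TensorProduct.comm k k' K b') := hab
      rw [hφ, hφ] at this
      rw [h.1 this]
    · intro y
      obtain ⟨t, rfl⟩ := h.2 y
      exact ⟨TensorProduct.comm k k' K t, hφ t⟩
  rw [← (LinearEquiv.ofBijective φ.toLinearMap hbij).finrank_eq, Module.finrank_baseChange]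

/-- the number of places above `P` in a constant field extension of finite fields -/
theorem card_isOver_eq_gcd [Finite k] [Finite k']
    (hbij : Function.Bijective (Algebra.TensorProduct.productMap
      (IsScalarTower.toAlgHom k k' K') (IsScalarTower.toAlgHom k K K')))
    (hK : IsFunctionField k K) (P : Place k K) (Qs : Finset (Place k K'))
    (hQs : ∀ Q, Q ∈ Qs ↔ IsOver Q P) :
    Qs.card = Nat.gcd P.deg (Module.finrank k k') := by
  classical
  have hfd : FiniteDimensional k k' := Module.Finite.of_finite
  have hsep : Algebra.IsSeparable k k' := inferInstance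
  have hfdK : FiniteDimensional K K' := finiteDimensional_of_productMap_surjective hbij.2
  have hsum := sum_ramIdx_mul_deg_eq hK P Qs hQs
  have hterm : ∀ Q ∈ Qs, ramIdx Q P * Q.deg = Nat.lcm P.deg (Module.finrank k k') := by
    intro Q hQ
    obtain ⟨e, he⟩ := (hQs Q).mp hQ
    have he1 : e = 1 := constSep_unramified hbij.2 he
    subst he1
    rw [ramIdx_eq he, one_mul, deg_eq_lcm hbij.2 hK he]
  rw [Finset.sum_congr rfl hterm, Finset.sum_const, smul_eq_mul] at hsum
  have hrank : Module.finrank K K' = Module.finrank k k' := finrank_eq_of_productMap_bijective hbij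
  rw [hrank] at hsum
  have hpos : 0 < Nat.lcm P.deg (Module.finrank k k') :=
    Nat.lcm_pos (deg_pos hK P) Module.finrank_pos
  have h2 := Nat.gcd_mul_lcm P.deg (Module.finrank k k')
  have h3 : Qs.card * Nat.lcm P.deg (Module.finrank k k') =
      Nat.gcd P.deg (Module.finrank k k') * Nat.lcm P.deg (Module.finrank k k') := by
    rw [hsum, h2, mul_comm]
  exact Nat.eq_of_mul_eq_mul_right hpos h3

end Groth.Agent.Lib.Helper67.FFConstExt
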