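import Groth.Agent.Lib.Helper67.FFIsConstExt
import Groth.Agent.FunFld.ScalarExt
import Groth.Agent.FunFld.Perfect
import Mathlib.FieldTheory.Finite.Extension
import Mathlib.FieldTheory.PrimitiveElement
import Mathlib.RingTheory.AdjoinRoot

/-!
# Existence of constant field extensions of every degree over a finite field
-/

set_option autoImplicit false

open FunFld Polynomial

namespace Groth.Agent.Lib.Helper67.FFConstExt

open Groth.Agent.FF

universe u v

/-- over a finite field there are monic irreducible polynomials of every positive degree -/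
theorem exists_irreducible_natDegree (k : Type u) [Field k] [Finite k] (r : ℕ) (hr : 0 < r) :
    ∃ φ : k[X], Irreducible φ ∧ φ.Monic ∧ φ.natDegree = r := by
  obtain ⟨p, hp⟩ := CharP.exists k
  haveI : Fact p.Prime := ⟨CharP.char_is_prime k p⟩
  haveI : NeZero r := ⟨hr.ne'⟩
  let E := FiniteField.Extension k p r
  obtain ⟨α, hα⟩ := Field.exists_primitive_element k E
  have hint : IsIntegral k α := IsIntegral.of_finite k α
  refine ⟨minpoly k α, minpoly.irreducible hint, minpoly.monic hint, ?_⟩
  rw [← IntermediateField.adjoin.finrank hint, hα, IntermediateField.finrank_top',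
    FiniteField.finrank_extension]

variable {k : Type u} {K : Type v} [Field k] [Finite k] [Field K] [Algebra k K]

/-- Constant field extensions of every positive degree exist, in the same universes. -/
theorem exists_constExt (hK : IsFunctionField k K) (r : ℕ) (hr : 0 < r) :
    ∃ (k' : Type u) (K' : Type v) (_ : Field k') (_ : Field K') (_ : Algebra k k')
      (_ : Algebra k K') (_ : Algebra K K') (_ : Algebra k' K') (_ : IsScalarTower k k' K')
      (_ : IsScalarTower k K K') (_ : Finite k'),
      Module.finrank k k' = r ∧
      Function.Bijective (Algebra.TensorProduct.productMap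
        (IsScalarTower.toAlgHom k k' K') (IsScalarTower.toAlgHom k K K')) ∧
      IsFunctionField k' K' := by
  classical
  obtain ⟨φ, hφ, hmonic, hdeg⟩ := exists_irreducible_natDegree k r hr
  haveI : Fact (Irreducible φ) := ⟨hφ⟩
  have hφK : Irreducible (φ.map (algebraMap k K)) :=
    irreducible_map_of_algClosedIn hK.2 hφ hmonic
  haveI : Fact (Irreducible (φ.map (algebraMap k K))) := ⟨hφK⟩
  letI : Algebra (AdjoinRoot φ) (AdjoinRoot (φ.map (algebraMap k K))) :=
    (AdjoinRoot.map (algebraMap k K) φ (φ.map (algebraMap k K)) dvd_rfl).toAlgebra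
  have htower : IsScalarTower k (AdjoinRoot φ) (AdjoinRoot (φ.map (algebraMap k K))) := by
    apply IsScalarTower.of_algebraMap_eq
    intro c
    show _ = AdjoinRoot.map (algebraMap k K) φ (φ.map (algebraMap k K)) dvd_rfl
      (AdjoinRoot.of φ c)
    rw [AdjoinRoot.map, AdjoinRoot.lift_of]
    rfl
  have hfink' : Module.finrank k (AdjoinRoot φ) = r := by
    rw [(AdjoinRoot.powerBasis hφ.ne_zero).finrank]
    exact hdeg
  have hfd : FiniteDimensional k (AdjoinRoot φ) := (AdjoinRoot.powerBasis hφ.ne_zero).finite
  have hFin : Finite (AdjoinRoot φ) := Module.finite_of_finite k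
  have hrankK : Module.finrank K (AdjoinRoot (φ.map (algebraMap k K))) =
      Module.finrank k (AdjoinRoot φ) := by
    rw [hfink', (AdjoinRoot.powerBasis hφK.ne_zero).finrank]
    show (φ.map (algebraMap k K)).natDegree = r
    rw [natDegree_map, hdeg]
  have hgen : Algebra.adjoin K (Set.range (algebraMap (AdjoinRoot φ)
      (AdjoinRoot (φ.map (algebraMap k K))))) = ⊤ := by
    rw [eq_top_iff, ← AdjoinRoot.adjoinRoot_eq_top]
    apply Algebra.adjoin_mono
    rintro _ rfl
    refine ⟨AdjoinRoot.root φ, ?_⟩
    show AdjoinRoot.map (algebraMap k K) φ (φ.map (algebraMap k K)) dvd_rfl (AdjoinRoot.root φ) = _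
    rw [AdjoinRoot.map, AdjoinRoot.lift_root]
  have hbij := productMap_bijective (k := k) (k' := AdjoinRoot φ) (K := K)
    (K' := AdjoinRoot (φ.map (algebraMap k K))) hgen hrankK
  have hg : IsGeometric k K := isGeometric_of_perfectField hK
  have hK' := isFunctionField_scalar_extension hbij hK hg
  exact ⟨AdjoinRoot φ, AdjoinRoot (φ.map (algebraMap k K)), inferInstance, inferInstance,
    inferInstance, inferInstance, inferInstance, inferInstance, htower, inferInstance, hFin,
    hfink', hbij, hK'⟩

end Groth.Agent.Lib.Helper67.FFConstExt
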