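import Groth.Agent.Lib.Helper67.FFClass
import Groth.Agent.FunFld.LFinite
import Mathlib.RingTheory.Finiteness.Cardinality
import Mathlib.SetTheory.Cardinal.Finite

/-!
# Counting effective divisors in a linear equivalence class over a finite field
-/

set_option autoImplicit false

open FunFld Polynomial WithZero

namespace Groth.Agent.Lib.Helper67.FFCount

open Groth.Agent.FF Groth.Agent.Lib.Helper67.FFFin Groth.Agent.Lib.Helper67.FFClass

universe u v
variable {k : Type u} {K : Type v} [Field k] [Field K] [Algebra k K]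

/-- a map between finite types all of whose fibres have `m` elements -/
lemma natCard_eq_mul_of_fiber {α β : Type*} [Finite α] [Finite β] (f : α → β) (m : ℕ)
    (h : ∀ b, Nat.card {a // f a = b} = m) : Nat.card α = Nat.card β * m := by
  classical
  have := Fintype.ofFinite β
  rw [← Nat.card_congr (Equiv.sigmaFiberEquiv f), Nat.card_sigma]
  simp only [h, Finset.sum_const, Finset.card_univ, smul_eq_mul, Nat.card_eq_fintype_card]

lemma natCard_ne_zero_subtype {V : Type*} [Zero V] [Finite V] :
    Nat.card {x : V // x ≠ 0} = Nat.card V - 1 := by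
  classical
  have := Fintype.ofFinite V
  rw [Nat.card_eq_fintype_card, Nat.card_eq_fintype_card, Fintype.card_subtype_compl,
    Fintype.card_subtype_eq]

/-- the complete linear system of `C`: effective divisors linearly equivalent to `C` -/
abbrev LinSys (C : Divisor k K) : Type _ :=
  {D : Divisor k K // 0 ≤ D ∧ ∃ x : K, x ≠ 0 ∧ D = C + FunFld.div k x}

lemma div_smul (hK : IsFunctionField k K) {c : k} (hc : c ≠ 0) (x : K) :
    FunFld.div k (c • x) = FunFld.div k x := by
  ext P
  rw [div_apply hK, div_apply hK, ord_smul P hc]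

/-- The number of effective divisors in the class of `C`, times `q - 1`, is `q^ℓ(C) - 1`. -/
theorem card_linSys_mul [Finite k] (hK : IsFunctionField k K) (C : Divisor k K) :
    Nat.card (LinSys C) * (Nat.card k - 1) = Nat.card k ^ ell C - 1 := by
  classical
  have hfd : FiniteDimensional k (L C) := finite_L hK C
  have hfinV : Finite (L C) := Module.finite_of_finite k
  have hcardV : Nat.card (L C) = Nat.card k ^ ell C := Module.natCard_eq_pow_finrank
  let ψ : {x : L C // x ≠ 0} → LinSys C := fun x =>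
    ⟨C + FunFld.div k (x.1 : K),
      (mem_L_iff_div hK C (fun h => x.2 (Subtype.ext h))).mp x.1.2,
      ⟨(x.1 : K), fun h => x.2 (Subtype.ext h), rfl⟩⟩
  have hψsurj : Function.Surjective ψ := by
    rintro ⟨D, hD0, x, hx, rfl⟩
    exact ⟨⟨⟨x, (mem_L_iff_div hK C hx).mpr hD0⟩, fun h => hx (congrArg Subtype.val h)⟩, rfl⟩
  have hfinT : Finite (LinSys C) := Finite.of_surjective ψ hψsurj
  have hfib : ∀ t : LinSys C, Nat.card {a // ψ a = t} = Nat.card k - 1 := by
    intro t
    obtain ⟨a₀, ha₀⟩ := hψsurj t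
    have hx₀ : (a₀.1 : K) ≠ 0 := fun h => a₀.2 (Subtype.ext h)
    rw [← Nat.card_units]
    symm
    let e : kˣ → {a // ψ a = t} := fun c =>
      ⟨⟨(c : k) • a₀.1, smul_ne_zero c.ne_zero a₀.2⟩, by
        rw [← ha₀]
        apply Subtype.ext
        show C + FunFld.div k (((c : k) • a₀.1 : L C) : K) = C + FunFld.div k (a₀.1 : K)
        rw [Submodule.coe_smul, div_smul hK c.ne_zero]⟩
    refine Nat.card_congr (Equiv.ofBijective e ⟨?_, ?_⟩)
    · intro c c' h
      have h1 : ((c : k) • a₀.1 : L C) = (c' : k) • a₀.1 := congrArg (fun a => a.1.1) h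
      exact Units.ext (smul_left_injective k a₀.2 h1)
    · rintro ⟨a, ha⟩
      have hx : (a.1 : K) ≠ 0 := fun h => a.2 (Subtype.ext h)
      have hdiv : FunFld.div k (a.1 : K) = FunFld.div k (a₀.1 : K) := by
        have h1 := congrArg Subtype.val (ha.trans ha₀.symm)
        exact add_left_cancel h1
      have hord : ∀ P : Place k K, P.ord (a.1 : K) = P.ord (a₀.1 : K) := by
        intro P
        rw [← div_apply hK, ← div_apply hK, hdiv]
      obtain ⟨c, hc⟩ := Groth.Agent.S10973.result k K hK _ _ hx hx₀ hord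
      have hc0 : c ≠ 0 := by
        rintro rfl
        rw [zero_smul] at hc
        exact hx hc
      refine ⟨Units.mk0 c hc0, ?_⟩
      apply Subtype.ext
      apply Subtype.ext
      apply Subtype.ext
      show ((c • a₀.1 : L C) : K) = (a.1 : K)
      rw [Submodule.coe_smul, hc]
  have hcount := natCard_eq_mul_of_fiber ψ (Nat.card k - 1) hfib
  rw [← hcount, natCard_ne_zero_subtype, hcardV]

end Groth.Agent.Lib.Helper67.FFCount

namespace Groth.Agent.Lib.Helper67.FFCount

open Groth.Agent.FF Groth.Agent.Lib.Helper67.FFFin Groth.Agent.Lib.Helper67.FFClass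

universe u v
variable {k : Type u} {K : Type v} [Field k] [Field K] [Algebra k K]

/-- effective divisors of degree `n` -/
abbrev Eff (k K : Type*) [Field k] [Field K] [Algebra k K] (n : ℕ) : Type _ :=
  {D : Divisor k K // 0 ≤ D ∧ D.deg = n}

/-- the class of an effective divisor of degree `n` relative to a base divisor of degree `n` -/
noncomputable def clsRel {n : ℕ} (D₁ : Divisor k K) (hD₁ : D₁.deg = n) (D : Eff k K n) :
    Cl0 k K :=
  cls (D.1 - D₁) (by rw [deg_sub, D.2.2, hD₁, sub_self])

/-- the fibre of `clsRel` over the class of `E` is the complete linear system of `E + D₁` -/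
noncomputable def fibreEquiv (hK : IsFunctionField k K) {n : ℕ} (D₁ : Divisor k K)
    (hD₁ : D₁.deg = n) (E : Divisor k K) (hE : E.deg = 0) :
    {D : Eff k K n // clsRel D₁ hD₁ D = cls E hE} ≃ LinSys (E + D₁) where
  toFun D := ⟨D.1.1, D.1.2.1, by
    have h := D.2
    unfold clsRel at h
    obtain ⟨x, hx, hD⟩ := (cls_eq_iff hK hE _).mp h.symm
    refine ⟨x, hx, ?_⟩
    rw [add_right_comm, ← hD, sub_add_cancel]⟩
  invFun D := ⟨⟨D.1, D.2.1, by
      obtain ⟨x, _, hD⟩ := D.2.2
      rw [hD, deg_add, deg_add, deg_div_eq_zero hK, hE, hD₁]; ring⟩, by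
    obtain ⟨x, hx, hD⟩ := D.2.2
    unfold clsRel
    symm
    rw [cls_eq_iff hK]
    refine ⟨x, hx, ?_⟩
    show D.1 - D₁ = E + FunFld.div k x
    rw [hD, add_right_comm, add_sub_cancel_right]⟩
  left_inv D := rfl
  right_inv D := rfl

/-- `(q - 1) a(n) = h (q^(n+1-g) - 1)` when `n ≥ 2g - 1` is the degree of some divisor. -/
theorem effDivCount_formula [Finite k] (hK : IsFunctionField k K) (n : ℕ)
    (hn : 2 * genus k K ≤ n + 1) (D₁ : Divisor k K) (hD₁ : D₁.deg = n) :
    ((Nat.card k : ℤ) - 1) * (effDivCount k K n : ℤ) =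
      (classNum k K : ℤ) * ((Nat.card k : ℤ) ^ (n + 1 - genus k K) - 1) := by
  classical
  have hq : 2 ≤ Nat.card k := by
    have := Fintype.ofFinite k
    rw [Nat.card_eq_fintype_card]
    exact Fintype.one_lt_card
  have hfinG : Finite (Cl0 k K) := finite_Cl0 hK
  have hfinE : Finite (Eff k K n) := (finite_effective_deg_eq hK n).to_subtype
  set ℓ' := n + 1 - genus k K with hℓ'
  set m := (Nat.card k ^ ℓ' - 1) / (Nat.card k - 1) with hm
  have hfib : ∀ c : Cl0 k K, Nat.card {D : Eff k K n // clsRel D₁ hD₁ D = c} = m := by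
    intro c
    obtain ⟨E, hE, rfl⟩ := cls_surjective c
    rw [Nat.card_congr (fibreEquiv hK D₁ hD₁ E hE), hm]
    have h1 := card_linSys_mul hK (E + D₁)
    have hdeg : (E + D₁).deg = n := by rw [deg_add, hE, hD₁, zero_add]
    have hell : (ell (E + D₁) : ℤ) = (ℓ' : ℤ) := by
      rw [ell_eq_of_deg_ge hK (E + D₁) (by rw [hdeg]; push_cast; omega), hdeg, hℓ']
      push_cast
      omega
    have hell' : ell (E + D₁) = ℓ' := by exact_mod_cast hell
    rw [hell'] at h1
    exact Nat.eq_div_of_mul_eq_left (by omega) h1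
  have hcount := natCard_eq_mul_of_fiber (clsRel D₁ hD₁) m hfib
  have hmq : m * (Nat.card k - 1) = Nat.card k ^ ℓ' - 1 := by
    obtain ⟨E, hE, -⟩ := cls_surjective (0 : Cl0 k K)
    have h1 := card_linSys_mul hK (E + D₁)
    have := hfib (cls E hE)
    rw [Nat.card_congr (fibreEquiv hK D₁ hD₁ E hE)] at this
    rw [this] at h1
    have hdeg : (E + D₁).deg = n := by rw [deg_add, hE, hD₁, zero_add]
    have hell : (ell (E + D₁) : ℤ) = (ℓ' : ℤ) := by
      rw [ell_eq_of_deg_ge hK (E + D₁) (by rw [hdeg]; push_cast; omega), hdeg, hℓ']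
      push_cast
      omega
    have hell' : ell (E + D₁) = ℓ' := by exact_mod_cast hell
    rw [hell'] at h1
    exact h1
  have ha : effDivCount k K n = Nat.card (Eff k K n) := rfl
  have hh : classNum k K = Nat.card (Cl0 k K) := rfl
  rw [ha, hh, hcount]
  have hpow : 1 ≤ Nat.card k ^ ℓ' := Nat.one_le_pow _ _ (by omega)
  have h1 : ((Nat.card k - 1 : ℕ) : ℤ) = (Nat.card k : ℤ) - 1 := by
    rw [Nat.cast_sub (by omega)]; simp
  have h2 : ((Nat.card k ^ ℓ' - 1 : ℕ) : ℤ) = (Nat.card k : ℤ) ^ ℓ' - 1 := by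
    rw [Nat.cast_sub hpow]; simp
  rw [← h1, ← h2, ← hmq]
  push_cast
  ring

end Groth.Agent.Lib.Helper67.FFCount
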