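import Groth.Agent.Lib.Helper67.FFConstExt
import Mathlib.FieldTheory.Finite.Basic
import Mathlib.FieldTheory.IsAlgClosed.Basic
import Mathlib.LinearAlgebra.Basis.VectorSpace
import Mathlib.Algebra.CharP.Lemmas

/-!
# Places of `k̄ K` fixed by Frobenius are the places over places of degree one
-/

set_option autoImplicit false
set_option linter.unusedSectionVars false

open FunFld Polynomial WithZero

namespace Groth.Agent.Lib.Helper67.FFFrobFixed

open Groth.Agent.FF Groth.Agent.FF.Ext Groth.Agent.Lib.Helper67.FFFin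
  Groth.Agent.Lib.Helper67.FFConstExt

section DegOne

variable {k K : Type*} [Field k] [Field K] [Algebra k K]

/-- at a place of degree one, every integral element is congruent to a constant -/
lemma exists_const_of_deg_one (P : Place k K) (hP : P.deg = 1) (y : K) (hy : P.1 y ≤ 1) :
    ∃ a : k, P.1 (y - algebraMap k K a) < 1 := by
  have h1 : Module.finrank k (IsLocalRing.ResidueField P.O) = 1 := hP
  rw [finrank_eq_one_iff_of_nonzero' (1 : IsLocalRing.ResidueField P.O) one_ne_zero] at h1
  obtain ⟨a, ha⟩ := h1 (res P ⟨y, hy⟩)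
  refine ⟨a, ?_⟩
  have ha' : res P ⟨y, hy⟩ = res P (algebraMap k P.O a) := by
    rw [← ha]
    exact (@Algebra.algebraMap_eq_smul_one k (IsLocalRing.ResidueField P.O) _ _
      (Place.algRes P) a).symm
  have h2 : res P (⟨y, hy⟩ - algebraMap k P.O a) = 0 := by
    rw [map_sub, ha', sub_self]
  rw [res_eq_zero_iff] at h2
  exact h2

/-- a place at which every integral element is congruent to a constant has degree one -/
lemma deg_eq_one_of_forall_const (P : Place k K)
    (h : ∀ y : K, P.1 y ≤ 1 → ∃ a : k, P.1 (y - algebraMap k K a) < 1) : P.deg = 1 := by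
  show Module.finrank k (IsLocalRing.ResidueField P.O) = 1
  rw [finrank_eq_one_iff_of_nonzero' (1 : IsLocalRing.ResidueField P.O) one_ne_zero]
  intro w
  obtain ⟨⟨y, hy⟩, rfl⟩ := IsLocalRing.residue_surjective w
  obtain ⟨a, ha⟩ := h y hy
  refine ⟨a, ?_⟩
  have h2 : res P (⟨y, hy⟩ - algebraMap k P.O a) = 0 := by
    rw [res_eq_zero_iff]
    exact ha
  rw [map_sub, sub_eq_zero] at h2
  refine Eq.trans ?_ h2.symm
  exact (@Algebra.algebraMap_eq_smul_one k (IsLocalRing.ResidueField P.O) _ _
    (Place.algRes P) a).symm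

end DegOne

section FiniteField

variable {k kb : Type*} [Field k] [Finite k] [Field kb] [Algebra k kb]

/-- the elements of an extension of a finite field `k` fixed by `x ↦ x ^ #k` are those of `k` -/
lemma mem_range_of_pow_card_eq (c : kb) (hc : c ^ Nat.card k = c) :
    ∃ a : k, algebraMap k kb a = c := by
  classical
  by_contra hcon
  push Not at hcon
  let _ : Fintype k := Fintype.ofFinite k
  have hq : 1 < Nat.card k := Finite.one_lt_card
  set f : kb[X] := X ^ Nat.card k - X with hf
  have hfdeg : f.natDegree = Nat.card k := FiniteField.X_pow_card_sub_X_natDegree_eq kb hq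
  have hf0 : f ≠ 0 := FiniteField.X_pow_card_sub_X_ne_zero kb hq
  set Z : Finset kb := insert c (Finset.univ.image (algebraMap k kb)) with hZ
  have hZroots : Z.val ⊆ f.roots := by
    intro z hz
    rw [Finset.mem_val, hZ, Finset.mem_insert, Finset.mem_image] at hz
    rw [mem_roots hf0, IsRoot, hf, eval_sub, eval_pow, eval_X, sub_eq_zero]
    rcases hz with rfl | ⟨a, _, rfl⟩
    · exact hc
    · rw [← map_pow, Nat.card_eq_fintype_card, FiniteField.pow_card]
  have h1 := card_le_degree_of_subset_roots hZroots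
  rw [hfdeg, hZ, Finset.card_insert_of_notMem, Finset.card_image_of_injective _
    (algebraMap k kb).injective, Finset.card_univ, Nat.card_eq_fintype_card] at h1
  · omega
  · intro h
    rw [Finset.mem_image] at h
    obtain ⟨a, _, ha⟩ := h
    exact hcon a ha

end FiniteField

section Main

variable {k K kb Kb : Type*} [Field k] [Field K] [Algebra k K] [Field kb] [Algebra k kb]
  [Field Kb] [Algebra K Kb] [Algebra kb Kb]

lemma lt_one_iff_of_le_one_iff (Q : Place kb Kb) (P : Place k K)
    (h : ∀ x : K, Q.1 (algebraMap K Kb x) ≤ 1 ↔ P.1 x ≤ 1) (x : K) :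
    Q.1 (algebraMap K Kb x) < 1 ↔ P.1 x < 1 := by
  by_cases hx : x = 0
  · subst hx
    simp
  · have hx' : algebraMap K Kb x ≠ 0 := (map_ne_zero_iff _ (algebraMap K Kb).injective).mpr hx
    have h1 : Q.1 (algebraMap K Kb x) < 1 ↔ ¬ Q.1 (algebraMap K Kb x⁻¹) ≤ 1 := by
      rw [not_le, map_inv₀, Valuation.one_lt_val_iff _ (inv_ne_zero hx'), inv_inv]
    have h2 : P.1 x < 1 ↔ ¬ P.1 x⁻¹ ≤ 1 := by
      rw [not_le, Valuation.one_lt_val_iff _ (inv_ne_zero hx), inv_inv]
    rw [h1, h2, h x⁻¹]

lemma val_const_eq_one (Q : Place kb Kb) {c : kb} (hc : c ≠ 0) :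
    Q.1 (algebraMap kb Kb c) = 1 := val_algebraMap Q hc

/-- the key independence statement: at a place of `k̄ K` over a place of degree one, a
`k`-linearly independent family of constants stays independent modulo the maximal ideal -/
lemma val_sum_lt_one_iff
    (hc : ∀ c : k, algebraMap K Kb (algebraMap k K c) = algebraMap kb Kb (algebraMap k kb c))
    (Q : Place kb Kb) (P : Place k K)
    (h : ∀ x : K, Q.1 (algebraMap K Kb x) ≤ 1 ↔ P.1 x ≤ 1) (hP : P.deg = 1)
    {ι : Type*} (b : ι → kb) (hb : LinearIndependent k b) (s : Finset ι) (x : ι → K) :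
    Q.1 (∑ j ∈ s, algebraMap K Kb (x j) * algebraMap kb Kb (b j)) < 1 ↔
      ∀ j ∈ s, P.1 (x j) < 1 := by
  classical
  have hlt := lt_one_iff_of_le_one_iff Q P h
  constructor
  · intro hz
    by_contra hcon
    push Not at hcon
    obtain ⟨j₁, hj₁, hj₁'⟩ := hcon
    obtain ⟨j₀, hj₀, hmax⟩ := Finset.exists_max_image s (fun j => P.1 (x j)) ⟨j₁, hj₁⟩
    have hx₀ : 1 ≤ P.1 (x j₀) := hj₁'.trans (hmax j₁ hj₁)
    have hx₀0 : x j₀ ≠ 0 := by
      intro h0
      rw [h0, map_zero] at hx₀
      exact absurd hx₀ (by simp)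
    have hx₀' : algebraMap K Kb (x j₀) ≠ 0 :=
      (map_ne_zero_iff _ (algebraMap K Kb).injective).mpr hx₀0
    have hQx₀ : 1 ≤ Q.1 (algebraMap K Kb (x j₀)) := by
      rw [← not_lt, hlt, not_lt]
      exact hx₀
    set y : ι → K := fun j => x j / x j₀ with hy
    have hyle : ∀ j ∈ s, P.1 (y j) ≤ 1 := by
      intro j hj
      rw [hy]
      simp only
      rw [map_div₀]
      have hpos : (0 : WithZero (Multiplicative ℤ)) < P.1 (x j₀) :=
        lt_of_lt_of_le zero_lt_one hx₀
      exact (div_le_one₀ hpos).mpr (hmax j hj)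
    have hex : ∀ j, ∃ a : k, j ∈ s → P.1 (y j - algebraMap k K a) < 1 := by
      intro j
      by_cases hj : j ∈ s
      · obtain ⟨a, ha⟩ := exists_const_of_deg_one P hP (y j) (hyle j hj)
        exact ⟨a, fun _ => ha⟩
      · exact ⟨0, fun hj' => absurd hj' hj⟩
    choose a ha using hex
    have ha₀ : a j₀ ≠ 0 := by
      intro h0
      have := ha j₀ hj₀
      rw [h0, map_zero, sub_zero, hy] at this
      simp only at this
      rw [div_self hx₀0, map_one] at this
      exact lt_irrefl _ this
    set cstar : kb := ∑ j ∈ s, a j • b j with hcstar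
    have hcstar0 : cstar ≠ 0 := by
      intro h0
      have := (linearIndependent_iff'.mp hb) s a h0 j₀ hj₀
      exact ha₀ this
    have hQc : Q.1 (algebraMap kb Kb cstar) = 1 := val_const_eq_one Q hcstar0
    have hsum1 : ∑ j ∈ s, algebraMap K Kb (y j) * algebraMap kb Kb (b j) =
        (∑ j ∈ s, algebraMap K Kb (x j) * algebraMap kb Kb (b j)) / algebraMap K Kb (x j₀) := by
      rw [Finset.sum_div]
      apply Finset.sum_congr rfl
      intro j _
      rw [hy]
      simp only
      rw [map_div₀]
      ring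
    have hQy : Q.1 (∑ j ∈ s, algebraMap K Kb (y j) * algebraMap kb Kb (b j)) < 1 := by
      rw [hsum1, map_div₀]
      have hpos : (0 : WithZero (Multiplicative ℤ)) < Q.1 (algebraMap K Kb (x j₀)) :=
        lt_of_lt_of_le zero_lt_one hQx₀
      rw [div_lt_one₀ hpos]
      exact lt_of_lt_of_le hz hQx₀
    have hsum2 : algebraMap kb Kb cstar =
        ∑ j ∈ s, algebraMap K Kb (y j) * algebraMap kb Kb (b j) -
          ∑ j ∈ s, algebraMap K Kb (y j - algebraMap k K (a j)) * algebraMap kb Kb (b j) := by
      rw [← Finset.sum_sub_distrib, hcstar, map_sum]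
      apply Finset.sum_congr rfl
      intro j _
      rw [Algebra.smul_def, map_mul, ← hc, map_sub]
      ring
    have hQrest : Q.1 (∑ j ∈ s, algebraMap K Kb (y j - algebraMap k K (a j)) *
        algebraMap kb Kb (b j)) < 1 := by
      apply Valuation.map_sum_lt _ one_ne_zero
      intro j hj
      rw [map_mul]
      have h1 : Q.1 (algebraMap K Kb (y j - algebraMap k K (a j))) < 1 := (hlt _).mpr (ha j hj)
      have h2 : Q.1 (algebraMap kb Kb (b j)) ≤ 1 := Q.2.1 _
      calc Q.1 (algebraMap K Kb (y j - algebraMap k K (a j))) * Q.1 (algebraMap kb Kb (b j))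
          ≤ Q.1 (algebraMap K Kb (y j - algebraMap k K (a j))) * 1 := by gcongr
        _ < 1 := by rw [mul_one]; exact h1
    have : Q.1 (algebraMap kb Kb cstar) < 1 := by
      rw [hsum2]
      exact lt_of_le_of_lt (Valuation.map_sub _ _ _) (max_lt hQy hQrest)
    rw [hQc] at this
    exact lt_irrefl _ this
  · intro hx
    apply Valuation.map_sum_lt _ one_ne_zero
    intro j hj
    rw [map_mul]
    have h1 : Q.1 (algebraMap K Kb (x j)) < 1 := (hlt _).mpr (hx j hj)
    have h2 : Q.1 (algebraMap kb Kb (b j)) ≤ 1 := Q.2.1 _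
    calc Q.1 (algebraMap K Kb (x j)) * Q.1 (algebraMap kb Kb (b j))
        ≤ Q.1 (algebraMap K Kb (x j)) * 1 := by gcongr
      _ < 1 := by rw [mul_one]; exact h1

/-- every element of `k̄ K` is a `K`-linear combination of a `k`-basis of `k̄` -/
lemma exists_repr
    (hc : ∀ c : k, algebraMap K Kb (algebraMap k K c) = algebraMap kb Kb (algebraMap k kb c))
    (hgen : Algebra.adjoin K (Set.range (algebraMap kb Kb)) = ⊤)
    {ι : Type*} (b : Module.Basis ι k kb) (z : Kb) :
    ∃ (s : Finset ι) (x : ι → K),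
      z = ∑ j ∈ s, algebraMap K Kb (x j) * algebraMap kb Kb (b j) := by
  classical
  have hz : z ∈ Algebra.adjoin K (Set.range (algebraMap kb Kb)) := by rw [hgen]; trivial
  rw [← Subalgebra.mem_toSubmodule, Algebra.adjoin_eq_span] at hz
  have hcl : (Submonoid.closure (Set.range (algebraMap kb Kb)) : Set Kb) =
      Set.range (algebraMap kb Kb) := by
    have : Set.range (algebraMap kb Kb) =
        ((MonoidHom.mrange ((algebraMap kb Kb : kb →+* Kb) : kb →* Kb) : Submonoid Kb) : Set Kb) := by
      ext w; simp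
    rw [this, Submonoid.closure_eq]
  rw [hcl] at hz
  have hle : Submodule.span K (Set.range (algebraMap kb Kb)) ≤
      Submodule.span K (Set.range fun j => algebraMap kb Kb (b j)) := by
    rw [Submodule.span_le]
    rintro _ ⟨c, rfl⟩
    have hcsum : c = ∑ j ∈ (b.repr c).support, (b.repr c j) • b j := by
      conv_lhs => rw [← b.linearCombination_repr c]
      rw [Finsupp.linearCombination_apply, Finsupp.sum]
    rw [hcsum, map_sum]
    apply Submodule.sum_mem
    intro j _
    rw [Algebra.smul_def, map_mul, ← hc, ← Algebra.smul_def]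
    exact Submodule.smul_mem _ _ (Submodule.subset_span ⟨j, rfl⟩)
  have hz' := hle hz
  rw [Finsupp.mem_span_range_iff_exists_finsupp] at hz'
  obtain ⟨x, hx⟩ := hz'
  refine ⟨x.support, x, ?_⟩
  rw [← hx, Finsupp.sum]
  apply Finset.sum_congr rfl
  intro j _
  rw [Algebra.smul_def]

/-- A place of `k̄ K` over a place of degree one is fixed by Frobenius. -/
theorem frob_fixed_of_deg_one [Finite k]
    (hc : ∀ c : k, algebraMap K Kb (algebraMap k K c) = algebraMap kb Kb (algebraMap k kb c))
    (hgen : Algebra.adjoin K (Set.range (algebraMap kb Kb)) = ⊤)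
    (F : Kb →+* Kb) (hF1 : ∀ c : kb, F (algebraMap kb Kb c) = algebraMap kb Kb c)
    (hF2 : ∀ x : K, F (algebraMap K Kb x) = algebraMap K Kb x ^ Nat.card k)
    (Q : Place kb Kb) (P : Place k K)
    (h : ∀ x : K, Q.1 (algebraMap K Kb x) ≤ 1 ↔ P.1 x ≤ 1) (hP : P.deg = 1) (z : Kb) :
    Q.1 (F z) < 1 ↔ Q.1 z < 1 := by
  classical
  have hq : Nat.card k ≠ 0 := Nat.card_pos.ne'
  set b := Module.Basis.ofVectorSpace k kb with hb
  obtain ⟨s, x, rfl⟩ := exists_repr hc hgen b z
  have hFz : F (∑ j ∈ s, algebraMap K Kb (x j) * algebraMap kb Kb (b j)) =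
      ∑ j ∈ s, algebraMap K Kb (x j ^ Nat.card k) * algebraMap kb Kb (b j) := by
    rw [map_sum]
    apply Finset.sum_congr rfl
    intro j _
    rw [map_mul, hF1, hF2, map_pow]
  rw [hFz, val_sum_lt_one_iff hc Q P h hP b b.linearIndependent,
    val_sum_lt_one_iff hc Q P h hP b b.linearIndependent]
  apply forall₂_congr
  intro j _
  rw [map_pow]
  exact pow_lt_one_iff hq

omit [Field K] [Algebra k K] [Algebra K Kb] in
/-- the `#k`-th power map is additive on an extension of a finite field `k` -/
lemma sub_pow_card (k kb : Type*) {Kb : Type*} [Field k] [Finite k] [Field kb] [Algebra k kb]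
    [Field Kb] [Algebra kb Kb] (x y : Kb) :
    (x - y) ^ Nat.card k = x ^ Nat.card k - y ^ Nat.card k := by
  let _ : Fintype k := Fintype.ofFinite k
  obtain ⟨p, hp, n, hprime, hcard⟩ := FiniteField.card' k
  have : Fact p.Prime := ⟨hprime⟩
  have : CharP kb p := charP_of_injective_algebraMap (algebraMap k kb).injective p
  have : CharP Kb p := charP_of_injective_algebraMap (algebraMap kb Kb).injective p
  rw [Nat.card_eq_fintype_card, hcard]
  exact sub_pow_char_pow x y n

/-- A monic polynomial over an algebraically closed field of constants whose value at `Y` has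
valuation `< 1`: some `Y - c` has valuation `< 1`. -/
lemma exists_root_val_lt_one [IsAlgClosed kb] (Q : Place kb Kb) (fb : kb[X]) (hfb : fb.Monic)
    (Y : Kb) (hY : Q.1 (eval₂ (algebraMap kb Kb) Y fb) < 1) :
    ∃ c : kb, Q.1 (Y - algebraMap kb Kb c) < 1 := by
  classical
  have hsplit : fb.Splits := IsAlgClosed.splits fb
  have heq := hsplit.eq_prod_roots_of_monic hfb
  have h1 : eval₂ (algebraMap kb Kb) Y fb =
      (fb.roots.map fun c => Y - algebraMap kb Kb c).prod := by
    conv_lhs => rw [heq]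
    rw [eval₂_eq_eval_map, Polynomial.map_multiset_prod, eval_multiset_prod, Multiset.map_map,
      Multiset.map_map]
    congr 1
    apply Multiset.map_congr rfl
    intro c _
    simp
  rw [h1, map_multiset_prod, Multiset.map_map] at hY
  by_contra hcon
  push Not at hcon
  have : (1 : WithZero (Multiplicative ℤ)) ≤
      (fb.roots.map (Q.1 ∘ fun c => Y - algebraMap kb Kb c)).prod := by
    apply Multiset.one_le_prod_of_one_le
    intro t ht
    rw [Multiset.mem_map] at ht
    obtain ⟨c, _, rfl⟩ := ht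
    exact hcon c
  exact absurd hY (not_lt.mpr this)

/-- A Frobenius-fixed place of `k̄ K` lies over a place of degree one. -/
theorem deg_one_of_frob_fixed [Finite k] [IsAlgClosed kb] (hK : IsFunctionField k K)
    (hc : ∀ c : k, algebraMap K Kb (algebraMap k K c) = algebraMap kb Kb (algebraMap k kb c))
    (F : Kb →+* Kb) (hF1 : ∀ c : kb, F (algebraMap kb Kb c) = algebraMap kb Kb c)
    (hF2 : ∀ x : K, F (algebraMap K Kb x) = algebraMap K Kb x ^ Nat.card k)
    (Q : Place kb Kb) (P : Place k K)
    (h : ∀ x : K, Q.1 (algebraMap K Kb x) ≤ 1 ↔ P.1 x ≤ 1)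
    (hfix : ∀ z : Kb, Q.1 (F z) < 1 ↔ Q.1 z < 1) : P.deg = 1 := by
  classical
  have hlt := lt_one_iff_of_le_one_iff Q P h
  have hq : Nat.card k ≠ 0 := Nat.card_pos.ne'
  apply deg_eq_one_of_forall_const
  intro y hy
  obtain ⟨f, hfm, _, hfy⟩ := exists_monic_val_lt_one hK P hy
  have hcomp : (algebraMap K Kb).comp (algebraMap k K) =
      (algebraMap kb Kb).comp (algebraMap k kb) := RingHom.ext hc
  have h1 : algebraMap K Kb (aeval y f) =
      eval₂ (algebraMap kb Kb) (algebraMap K Kb y) (f.map (algebraMap k kb)) := by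
    rw [aeval_def, hom_eval₂, hcomp, eval₂_map]
  have h2 : Q.1 (eval₂ (algebraMap kb Kb) (algebraMap K Kb y) (f.map (algebraMap k kb))) < 1 := by
    rw [← h1]
    exact (hlt _).mpr hfy
  obtain ⟨c, hcY⟩ := exists_root_val_lt_one Q _ (hfm.map _) _ h2
  have h3 : Q.1 (F (algebraMap K Kb y - algebraMap kb Kb c)) < 1 := (hfix _).mpr hcY
  rw [map_sub, hF1, hF2] at h3
  have h4 : Q.1 ((algebraMap K Kb y - algebraMap kb Kb c) ^ Nat.card k) < 1 := by
    rw [map_pow]
    exact (pow_lt_one_iff hq).mpr hcY
  rw [sub_pow_card k kb] at h4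
  have h5 : Q.1 (algebraMap kb Kb (c ^ Nat.card k - c)) < 1 := by
    have : algebraMap kb Kb (c ^ Nat.card k - c) =
        (algebraMap K Kb y ^ Nat.card k - algebraMap kb Kb c) -
          (algebraMap K Kb y ^ Nat.card k - algebraMap kb Kb c ^ Nat.card k) := by
      rw [map_sub, map_pow]; ring
    rw [this]
    exact lt_of_le_of_lt (Valuation.map_sub _ _ _) (max_lt h3 h4)
  have h6 : c ^ Nat.card k = c := by
    by_contra hne
    have := val_const_eq_one Q (sub_ne_zero.mpr hne)
    rw [this] at h5
    exact lt_irrefl _ h5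
  obtain ⟨a, rfl⟩ := mem_range_of_pow_card_eq c h6
  refine ⟨a, ?_⟩
  rw [← hlt, map_sub, hc]
  exact hcY

end Main

end Groth.Agent.Lib.Helper67.FFFrobFixed
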