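import Groth.Agent.Lib.Helper67.FFConstNpts
import Groth.Prelude.Def_W4bk4goldsch45

/-!
# From `FunFld.IsConstExt` to the tensor product description
-/

set_option autoImplicit false
set_option linter.unusedSectionVars false

open FunFld TensorProduct

namespace Groth.Agent.Lib.Helper67.FFConstExt

variable {k k' K K' : Type*} [Field k] [Field k'] [Field K] [Field K']
  [Algebra k k'] [Algebra k K] [Algebra K K'] [Algebra k' K'] [Algebra k K']
  [IsScalarTower k k' K'] [IsScalarTower k K K']

/-- if `K'` is generated over `K` by `k'` and `[K' : K] = [k' : k]`, then `K' = k' ⊗ K` -/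
theorem productMap_bijective [FiniteDimensional k k']
    (hgen : Algebra.adjoin K (Set.range (algebraMap k' K')) = ⊤)
    (hrank : Module.finrank K K' = Module.finrank k k') :
    Function.Bijective (Algebra.TensorProduct.productMap
      (IsScalarTower.toAlgHom k k' K') (IsScalarTower.toAlgHom k K K')) := by
  have hpos : 0 < Module.finrank K K' := by rw [hrank]; exact Module.finrank_pos
  have hfd : FiniteDimensional K K' := Module.finite_of_finrank_pos hpos
  let φ : K ⊗[k] k' →ₐ[K] K' :=
    Algebra.TensorProduct.productLeftAlgHom (Algebra.ofId K K') (IsScalarTower.toAlgHom k k' K')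
  have hφ : ∀ t : k' ⊗[k] K, φ (TensorProduct.comm k k' K t) =
      Algebra.TensorProduct.productMap (IsScalarTower.toAlgHom k k' K')
        (IsScalarTower.toAlgHom k K K') t := by
    intro t
    induction t using TensorProduct.induction_on with
    | zero => simp
    | tmul a c =>
      rw [TensorProduct.comm_tmul, Algebra.TensorProduct.productMap_apply_tmul]
      show (Algebra.ofId K K') c * (IsScalarTower.toAlgHom k k' K') a = _
      rw [mul_comm]
      rfl
    | add s t hs ht => rw [map_add, map_add, map_add, hs, ht]
  have hφsurj : Function.Surjective φ.toLinearMap := by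
    have htop : (⊤ : Subalgebra K K') ≤ φ.range := by
      rw [← hgen]
      apply Algebra.adjoin_le
      rintro _ ⟨c, rfl⟩
      refine ⟨(1 : K) ⊗ₜ[k] c, ?_⟩
      show φ ((1 : K) ⊗ₜ[k] c) = _
      simp [φ]
    intro y
    obtain ⟨t, ht⟩ := htop (Algebra.mem_top (x := y))
    exact ⟨t, ht⟩
  have hdim : Module.finrank K (K ⊗[k] k') = Module.finrank K K' := by
    rw [Module.finrank_baseChange, hrank]
  have hφinj : Function.Injective φ.toLinearMap :=
    (LinearMap.injective_iff_surjective_of_finrank_eq_finrank hdim).mpr hφsurj
  constructor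
  · intro a b hab
    rw [← hφ, ← hφ] at hab
    exact (TensorProduct.comm k k' K).injective (hφinj hab)
  · intro y
    obtain ⟨t, ht⟩ := hφsurj y
    obtain ⟨t', rfl⟩ := (TensorProduct.comm k k' K).surjective t
    exact ⟨t', (hφ t').symm.trans ht⟩

end Groth.Agent.Lib.Helper67.FFConstExt
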