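import Groth.Agent.Lib.Helper67.FFConstNpts
import Groth.Agent.Lib.Helper66.LogDeriv
import Groth.Prelude.Def_W4bk4goldsch45

/-!
# The zeta series of a function field over a finite field: logarithmic derivative
-/

set_option autoImplicit false

open FunFld PowerSeries

namespace Groth.Agent.Lib.Helper67.FFZetaSeries

open Groth.Agent.FF Groth.Agent.Lib.Helper67.DegCount Groth.Agent.Lib.Helper67.FFConstExt
  Groth.Agent.Lib.Helper66

universe u v
variable {k : Type u} {K : Type v} [Field k] [Field K] [Algebra k K]

/-- the number of effective divisors of degree `n` as a count of multisets of places -/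
theorem effDivCount_eq_cnt (n : ℕ) :
    effDivCount k K n = cnt (fun P : Place k K => P.deg) n := by
  unfold effDivCount cnt
  symm
  refine Nat.card_congr (Equiv.ofBijective
    (fun E => ⟨toDiv E.1, toDiv_nonneg E.1, by rw [deg_toDiv]; exact_mod_cast E.2⟩) ⟨?_, ?_⟩)
  · intro E F h
    apply Subtype.ext
    have h1 : toDiv E.1 = toDiv F.1 := congrArg Subtype.val h
    ext P
    have := DFunLike.congr_fun h1 P
    rw [toDiv_apply, toDiv_apply] at this
    exact_mod_cast this
  · rintro ⟨D, hD0, hDn⟩
    obtain ⟨E, rfl⟩ := exists_toDiv_eq hD0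
    refine ⟨⟨E, ?_⟩, rfl⟩
    rw [deg_toDiv] at hDn
    exact_mod_cast hDn

variable (F : Type*) [Field F] (k K)

/-- the zeta series with coefficients in a field `F` -/
noncomputable def ZF : F⟦X⟧ := PowerSeries.mk fun n => (effDivCount k K n : F)

/-- the series `∑ N_{m+1} X^m` -/
noncomputable def DF : F⟦X⟧ :=
  PowerSeries.mk fun m => (npts (fun P : Place k K => P.deg) (m + 1) : F)

variable {k K}

theorem constantCoeff_ZF [Finite k] (hK : IsFunctionField k K) : constantCoeff (ZF k K F) = 1 := by
  rw [← coeff_zero_eq_constantCoeff_apply]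
  unfold ZF
  rw [coeff_mk, effDivCount_eq_cnt, cnt_zero (admissible_deg hK), Nat.cast_one]

theorem isLogDeriv_ZF [Finite k] (hK : IsFunctionField k K) :
    IsLogDeriv (ZF k K F) (DF k K F) := by
  unfold IsLogDeriv
  ext n
  rw [coeff_derivative, coeff_mul, Finset.Nat.sum_antidiagonal_eq_sum_range_succ_mk]
  unfold ZF DF
  simp only [coeff_mk]
  have h := mul_cnt_eq (admissible_deg hK) (n + 1)
  rw [effDivCount_eq_cnt]
  have h' : ((n + 1 : ℕ) : F) * (cnt (fun P : Place k K => P.deg) (n + 1) : F) =
      ∑ m ∈ Finset.range (n + 1), (npts (fun P : Place k K => P.deg) (m + 1) : F) *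
        (cnt (fun P : Place k K => P.deg) (n + 1 - (m + 1)) : F) := by
    exact_mod_cast congrArg (Nat.cast (R := F)) h
  rw [mul_comm, ← Nat.cast_succ, h']
  refine Finset.sum_congr rfl fun m _ => ?_
  rw [effDivCount_eq_cnt, Nat.add_sub_add_right]

end Groth.Agent.Lib.Helper67.FFZetaSeries
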