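import Mathlib.RingTheory.PowerSeries.Basic
import Mathlib.Algebra.Order.BigOperators.Ring.Finset
import Mathlib.Tactic

/-!
# A growth estimate for powers of power series with nonnegative coefficients
-/

set_option autoImplicit false

open PowerSeries

namespace Groth.Agent.Lib.Helper67.SeriesGrowth

/-- all coefficients are nonnegative -/
def Nonneg (F : ℚ⟦X⟧) : Prop := ∀ n, 0 ≤ coeff n F

lemma Nonneg.mul {A B : ℚ⟦X⟧} (hA : Nonneg A) (hB : Nonneg B) : Nonneg (A * B) := by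
  intro n
  rw [coeff_mul]
  exact Finset.sum_nonneg fun p _ => mul_nonneg (hA _) (hB _)

lemma Nonneg.one : Nonneg (1 : ℚ⟦X⟧) := by
  intro n
  rw [coeff_one]
  split_ifs <;> norm_num

lemma Nonneg.pow {A : ℚ⟦X⟧} (hA : Nonneg A) (m : ℕ) : Nonneg (A ^ m) := by
  induction m with
  | zero => rw [pow_zero]; exact Nonneg.one
  | succ m ih => rw [pow_succ]; exact ih.mul hA

lemma coeff_mul_ge {A B : ℚ⟦X⟧} (hA : Nonneg A) (hB : Nonneg B) (n : ℕ) :
    coeff n A * constantCoeff B ≤ coeff n (A * B) := by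
  rw [coeff_mul, ← coeff_zero_eq_constantCoeff_apply]
  have hmem : (n, 0) ∈ Finset.antidiagonal n := by simp
  exact Finset.single_le_sum (f := fun p : ℕ × ℕ => coeff p.1 A * coeff p.2 B)
    (fun p _ => mul_nonneg (hA _) (hB _)) hmem

lemma constantCoeff_pow_eq_one {A : ℚ⟦X⟧} (hA : constantCoeff A = 1) (m : ℕ) :
    constantCoeff (A ^ m) = 1 := by
  rw [map_pow, hA, one_pow]

/-- lower bound for the coefficients of the square -/
lemma coeff_sq_ge {F : ℚ⟦X⟧} (hF : Nonneg F) {c Q : ℚ} (hc : 0 ≤ c) (hQ : 0 ≤ Q) (n₀ : ℕ)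
    (hlow : ∀ i, n₀ ≤ i → c * Q ^ i ≤ coeff i F) (n : ℕ) (hn : 2 * n₀ ≤ n) :
    ((n - 2 * n₀ + 1 : ℕ) : ℚ) * (c ^ 2 * Q ^ n) ≤ coeff n (F * F) := by
  rw [coeff_mul, Finset.Nat.sum_antidiagonal_eq_sum_range_succ_mk]
  have hsub : Finset.Icc n₀ (n - n₀) ⊆ Finset.range (n + 1) := by
    intro i hi
    rw [Finset.mem_Icc] at hi
    rw [Finset.mem_range]
    omega
  have h1 : ∑ i ∈ Finset.Icc n₀ (n - n₀), coeff i F * coeff (n - i) F ≤
      ∑ i ∈ Finset.range (n + 1), coeff i F * coeff (n - i) F :=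
    Finset.sum_le_sum_of_subset_of_nonneg hsub fun i _ _ => mul_nonneg (hF _) (hF _)
  refine le_trans ?_ h1
  have h2 : ∀ i ∈ Finset.Icc n₀ (n - n₀), c ^ 2 * Q ^ n ≤ coeff i F * coeff (n - i) F := by
    intro i hi
    rw [Finset.mem_Icc] at hi
    have ha := hlow i hi.1
    have hb := hlow (n - i) (by omega)
    have hpos1 : 0 ≤ c * Q ^ i := mul_nonneg hc (pow_nonneg hQ _)
    have hpos2 : 0 ≤ c * Q ^ (n - i) := mul_nonneg hc (pow_nonneg hQ _)
    calc c ^ 2 * Q ^ n = (c * Q ^ i) * (c * Q ^ (n - i)) := by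
          have : n = i + (n - i) := by omega
          conv_lhs => rw [this, pow_add]
          ring
      _ ≤ coeff i F * coeff (n - i) F := mul_le_mul ha hb hpos2 (hF _)
  calc ((n - 2 * n₀ + 1 : ℕ) : ℚ) * (c ^ 2 * Q ^ n)
      = ∑ _i ∈ Finset.Icc n₀ (n - n₀), c ^ 2 * Q ^ n := by
        rw [Finset.sum_const, Nat.card_Icc, nsmul_eq_mul]
        congr 2
        omega
    _ ≤ _ := Finset.sum_le_sum h2

/-- lower bound for the coefficients of a power `≥ 2` -/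
theorem coeff_pow_ge {F : ℚ⟦X⟧} (hF : Nonneg F) (hF0 : constantCoeff F = 1) {c Q : ℚ}
    (hc : 0 ≤ c) (hQ : 0 ≤ Q) (n₀ : ℕ) (hlow : ∀ i, n₀ ≤ i → c * Q ^ i ≤ coeff i F)
    (m : ℕ) (hm : 2 ≤ m) (n : ℕ) (hn : 2 * n₀ ≤ n) :
    ((n - 2 * n₀ + 1 : ℕ) : ℚ) * (c ^ 2 * Q ^ n) ≤ coeff n (F ^ m) := by
  obtain ⟨m', rfl⟩ : ∃ m', m = 2 + m' := ⟨m - 2, by omega⟩
  have hpow : F ^ (2 + m') = F * F * F ^ m' := by rw [pow_add, pow_two]
  rw [hpow]
  have h1 := coeff_sq_ge hF hc hQ n₀ hlow n hn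
  have h2 := coeff_mul_ge (hF.mul hF) (hF.pow m') n
  rw [constantCoeff_pow_eq_one hF0, mul_one] at h2
  exact h1.trans h2

end Groth.Agent.Lib.Helper67.SeriesGrowth
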