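import Groth.Agent.Lib.Helper67.FFConstExtExists
import Groth.Agent.Lib.Helper67.FFZetaSeries
import Groth.Agent.Lib.Helper67.FFCount
import Groth.Agent.Lib.Helper67.DegSeries
import Groth.Agent.Lib.Helper67.SeriesGrowth

/-!
# F. K. Schmidt's theorem: a function field over a finite field has a divisor of degree one
-/

set_option autoImplicit false

open FunFld PowerSeries

namespace Groth.Agent.Lib.Helper67.FFSchmidt

open Groth.Agent.FF Groth.Agent.Lib.Helper67.DegCount Groth.Agent.Lib.Helper67.FFConstExt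
  Groth.Agent.Lib.Helper66 Groth.Agent.Lib.Helper67.FFZetaSeries
  Groth.Agent.Lib.Helper67.FFCount Groth.Agent.Lib.Helper67.FFClass
  Groth.Agent.Lib.Helper67.SeriesGrowth

universe u v
variable {k : Type u} {K : Type v} [Field k] [Field K] [Algebra k K]

lemma deg_zsmul (n : ℤ) (D : Divisor k K) : (n • D).deg = n * D.deg := by
  have := map_zsmul (Groth.Agent.FF.degHom (k := k) (K := K)) n D
  simpa [Groth.Agent.FF.degHom_apply] using this

/-- the positive generator of the group of degrees of divisors -/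
theorem exists_degGen (hK : IsFunctionField k K) :
    ∃ δ : ℕ, 0 < δ ∧ (∃ D : Divisor k K, D.deg = δ) ∧ ∀ D : Divisor k K, (δ : ℤ) ∣ D.deg := by
  classical
  obtain ⟨P₀⟩ := exists_place hK
  have hex : ∃ n : ℕ, 0 < n ∧ ∃ D : Divisor k K, D.deg = n :=
    ⟨P₀.deg, deg_pos hK P₀, Finsupp.single P₀ 1, by rw [deg_single]; simp⟩
  refine ⟨Nat.find hex, (Nat.find_spec hex).1, (Nat.find_spec hex).2, ?_⟩
  obtain ⟨hpos, D₀, hD₀⟩ := Nat.find_spec hex
  intro D
  set δ := Nat.find hex with hδ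
  have hδpos : (0 : ℤ) < δ := by exact_mod_cast hpos
  rw [Int.dvd_iff_emod_eq_zero]
  by_contra hne
  have h1 : 0 ≤ D.deg % δ := Int.emod_nonneg _ hδpos.ne'
  have h2 : D.deg % δ < δ := Int.emod_lt_of_pos _ hδpos
  have h3 : 0 < D.deg % δ := lt_of_le_of_ne h1 (Ne.symm hne)
  have hdeg : (D - (D.deg / δ) • D₀).deg = D.deg % δ := by
    rw [deg_sub, deg_zsmul, hD₀, Int.emod_def]
    ring
  have hmin := Nat.find_min' hex (m := (D.deg % δ).toNat)
    ⟨by omega, D - (D.deg / δ) • D₀, by rw [hdeg]; omega⟩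
  omega

section bounds

variable [Finite k]

lemma two_le_card : 2 ≤ Nat.card k := by
  have := Fintype.ofFinite k
  rw [Nat.card_eq_fintype_card]
  exact Fintype.one_lt_card

lemma classNum_pos (hK : IsFunctionField k K) : 0 < classNum k K := by
  have := finite_Cl0 hK
  exact Nat.card_pos

/-- lower bound for the number of effective divisors of large degree -/
lemma effDivCount_lower (hK : IsFunctionField k K) (n : ℕ) (hn : 2 * genus k K ≤ n)
    (D₁ : Divisor k K) (hD₁ : D₁.deg = n) :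
    Nat.card k ^ n ≤ effDivCount k K n * Nat.card k ^ genus k K := by
  have hf := effDivCount_formula hK n (by omega) D₁ hD₁
  have hq := two_le_card (k := k)
  have hh := classNum_pos hK
  set q := Nat.card k with hqdef
  set g := genus k K with hg
  obtain ⟨N, hN⟩ : ∃ N, n = N + g := ⟨n - g, by omega⟩
  have hexp : n + 1 - g = N + 1 := by omega
  rw [hexp] at hf
  have hqZ : (2 : ℤ) ≤ q := by exact_mod_cast hq
  have hhZ : (1 : ℤ) ≤ classNum k K := by exact_mod_cast hh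
  have hpowN : (1 : ℤ) ≤ (q : ℤ) ^ N := one_le_pow₀ (by linarith)
  have hkey : ((q : ℤ) - 1) * (q : ℤ) ^ N ≤ ((q : ℤ) - 1) * (effDivCount k K n : ℤ) := by
    rw [hf]
    have h1 : (q : ℤ) ^ (N + 1) - 1 ≤ (classNum k K : ℤ) * ((q : ℤ) ^ (N + 1) - 1) := by
      have hnn : (0 : ℤ) ≤ (q : ℤ) ^ (N + 1) - 1 := by
        have : (1 : ℤ) ≤ (q : ℤ) ^ (N + 1) := one_le_pow₀ (by linarith)
        linarith
      nlinarith
    have h2 : ((q : ℤ) - 1) * (q : ℤ) ^ N ≤ (q : ℤ) ^ (N + 1) - 1 := by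
      rw [pow_succ]
      nlinarith
    linarith
  have hle : (q : ℤ) ^ N ≤ (effDivCount k K n : ℤ) :=
    le_of_mul_le_mul_left hkey (by linarith)
  have hle' : q ^ N ≤ effDivCount k K n := by exact_mod_cast hle
  calc q ^ n = q ^ N * q ^ g := by rw [hN, pow_add]
    _ ≤ effDivCount k K n * q ^ g := Nat.mul_le_mul_right _ hle'

/-- upper bound for the number of effective divisors -/
lemma effDivCount_upper (hK : IsFunctionField k K) (n : ℕ) (hn : 2 * genus k K ≤ n + 1) :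
    (Nat.card k - 1) * effDivCount k K n ≤ classNum k K * Nat.card k ^ (n + 1) := by
  have hq := two_le_card (k := k)
  by_cases hex : ∃ D : Divisor k K, D.deg = n
  · obtain ⟨D₁, hD₁⟩ := hex
    have hf := effDivCount_formula hK n hn D₁ hD₁
    have hpow : (Nat.card k : ℤ) ^ (n + 1 - genus k K) ≤ (Nat.card k : ℤ) ^ (n + 1) :=
      pow_le_pow_right₀ (by exact_mod_cast (by omega : 1 ≤ Nat.card k)) (by omega)
    have h1 : ((Nat.card k : ℤ) - 1) * (effDivCount k K n : ℤ) ≤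
        (classNum k K : ℤ) * (Nat.card k : ℤ) ^ (n + 1) := by
      rw [hf]
      have hh : (0 : ℤ) ≤ classNum k K := Int.natCast_nonneg _
      nlinarith
    have h2 : (((Nat.card k - 1) * effDivCount k K n : ℕ) : ℤ) ≤
        ((classNum k K * Nat.card k ^ (n + 1) : ℕ) : ℤ) := by
      push_cast [Nat.cast_sub (by omega : 1 ≤ Nat.card k)]
      exact h1
    exact_mod_cast h2
  · have : effDivCount k K n = 0 := by
      unfold effDivCount
      have : IsEmpty {D : Divisor k K // 0 ≤ D ∧ D.deg = n} := ⟨fun D => hex ⟨D.1, D.2.2⟩⟩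
      exact Nat.card_of_isEmpty
    rw [this, mul_zero]
    exact Nat.zero_le _

end bounds

end Groth.Agent.Lib.Helper67.FFSchmidt

namespace Groth.Agent.Lib.Helper67.FFSchmidt

open Groth.Agent.FF Groth.Agent.Lib.Helper67.DegCount Groth.Agent.Lib.Helper67.FFConstExt
  Groth.Agent.Lib.Helper66 Groth.Agent.Lib.Helper67.FFZetaSeries
  Groth.Agent.Lib.Helper67.FFCount Groth.Agent.Lib.Helper67.FFClass
  Groth.Agent.Lib.Helper67.SeriesGrowth

universe u v
variable {k : Type u} {K : Type v} [Field k] [Field K] [Algebra k K]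

/-- F. K. Schmidt: the degrees of divisors generate `ℤ`. -/
theorem degGen_eq_one [Finite k] (hK : IsFunctionField k K) (δ : ℕ) (hδ : 0 < δ)
    (hD₀ : ∃ D : Divisor k K, D.deg = δ) (hdvd : ∀ D : Divisor k K, (δ : ℤ) ∣ D.deg) :
    δ = 1 := by
  classical
  by_contra hne
  have h2δ : 2 ≤ δ := by omega
  obtain ⟨D₀, hD₀⟩ := hD₀
  obtain ⟨k', K', _, _, _, _, _, _, _, _, _, hrank, hbij, hK'⟩ := exists_constExt hK δ hδ
  haveI hfd : FiniteDimensional k k' := Module.Finite.of_finite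
  haveI hfdK : FiniteDimensional K K' :=
    Groth.Agent.FF.Ext.finiteDimensional_of_productMap_surjective hbij.2
  haveI : Algebra.IsAlgebraic K K' := Algebra.IsAlgebraic.of_finite K K'
  set q := Nat.card k with hq
  have hq2 : 2 ≤ q := two_le_card
  have hQ : Nat.card k' = q ^ δ := by
    rw [Module.natCard_eq_pow_finrank (K := k) (V := k'), hrank]
  -- the rescaled degree function
  set d : Place k K → ℕ := fun P => P.deg with hd
  set d₂ : Place k K → ℕ := fun P => P.deg / δ with hd₂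
  have hdd : ∀ P, d P = δ * d₂ P := by
    intro P
    have h1 := hdvd (Finsupp.single P 1)
    rw [deg_single, one_mul] at h1
    have h2 : δ ∣ P.deg := by exact_mod_cast h1
    exact (Nat.mul_div_cancel' h2).symm
  have hadm : Admissible d := admissible_deg hK
  have hadm₂ : Admissible d₂ := admissible_scale hdd hadm
  set F : ℚ⟦X⟧ := cntSeries d₂ ℚ with hF
  -- the zeta series of `K'` is `F ^ δ`
  have hDF : DF k' K' ℚ = δ • nptsSeries d₂ ℚ := by
    ext m
    unfold DF nptsSeries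
    rw [coeff_mk, map_nsmul, coeff_mk, nsmul_eq_mul,
      npts_constExt hbij hK hK' (m + 1) (by omega), hrank]
    have := npts_scale hδ hdd hadm₂ (m + 1) (by omega)
    rw [← this]
    push_cast
    ring
  have hZ : ZF k' K' ℚ = F ^ δ := by
    refine (isLogDeriv_ZF ℚ hK').unique ?_ ?_ ?_
    · rw [hDF]
      exact (isLogDeriv_cntSeries ℚ hadm₂).pow δ
    · rw [constantCoeff_ZF ℚ hK', map_pow, constantCoeff_cntSeries ℚ hadm₂, one_pow]
    · rw [map_pow, constantCoeff_cntSeries ℚ hadm₂, one_pow]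
      exact one_ne_zero
  -- bounds
  set g := genus k K with hg
  set g' := genus k' K' with hg'
  set h' := classNum k' K' with hh'
  have hFnonneg : Nonneg F := by
    intro n
    rw [hF]
    unfold cntSeries
    rw [coeff_mk]
    exact Nat.cast_nonneg _
  have hF0 : constantCoeff F = 1 := constantCoeff_cntSeries ℚ hadm₂
  have hqQ : (0 : ℚ) < q := by exact_mod_cast (by omega : 0 < q)
  have hlow : ∀ i, 2 * g ≤ i → ((q : ℚ) ^ g)⁻¹ * ((q : ℚ) ^ δ) ^ i ≤ coeff i F := by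
    intro i hi
    rw [hF]
    unfold cntSeries
    rw [coeff_mk, cnt_scale hδ hdd i, ← effDivCount_eq_cnt]
    have hdeg : ((i : ℤ) • D₀).deg = ((δ * i : ℕ) : ℤ) := by
      rw [deg_zsmul, hD₀]; push_cast; ring
    have hle : 2 * g ≤ δ * i := by
      calc 2 * g ≤ i := hi
        _ = 1 * i := (one_mul i).symm
        _ ≤ δ * i := Nat.mul_le_mul_right _ hδ
    have h1 := effDivCount_lower hK (δ * i) hle _ hdeg
    have h2 : ((q : ℚ) ^ (δ * i)) ≤ (effDivCount k K (δ * i) : ℚ) * (q : ℚ) ^ g := by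
      exact_mod_cast h1
    rw [inv_mul_le_iff₀ (pow_pos hqQ g), ← pow_mul, mul_comm ((q : ℚ) ^ g)]
    exact h2
  have hup : ∀ n, 2 * g' ≤ n + 1 →
      coeff n (ZF k' K' ℚ) ≤ 2 * (h' : ℚ) * ((q : ℚ) ^ δ) ^ n := by
    intro n hn
    unfold ZF
    rw [coeff_mk]
    have h1 := effDivCount_upper hK' n hn
    rw [hQ] at h1
    have hQ2 : 2 ≤ q ^ δ := by
      calc 2 ≤ q := hq2
        _ = q ^ 1 := (pow_one q).symm
        _ ≤ q ^ δ := Nat.pow_le_pow_right (by omega) hδ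
    have h2 : ((q ^ δ - 1 : ℕ) : ℚ) * (effDivCount k' K' n : ℚ) ≤
        (h' : ℚ) * ((q : ℚ) ^ δ) ^ (n + 1) := by
      exact_mod_cast h1
    have h3 : ((q ^ δ - 1 : ℕ) : ℚ) = (q : ℚ) ^ δ - 1 := by
      rw [Nat.cast_sub (by omega)]; push_cast; ring
    rw [h3] at h2
    have hQ2' : (2 : ℚ) ≤ (q : ℚ) ^ δ := by exact_mod_cast hQ2
    have ha : (0 : ℚ) ≤ (effDivCount k' K' n : ℚ) := Nat.cast_nonneg _
    have hh0 : (0 : ℚ) ≤ (h' : ℚ) := Nat.cast_nonneg _
    have hQn : (0 : ℚ) ≤ ((q : ℚ) ^ δ) ^ n := pow_nonneg (by positivity) _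
    -- (Q - 1) a ≤ h' Q^(n+1) and Q ≤ 2 (Q - 1)
    have h4 : ((q : ℚ) ^ δ - 1) * (effDivCount k' K' n : ℚ) ≤
        ((q : ℚ) ^ δ - 1) * (2 * (h' : ℚ) * ((q : ℚ) ^ δ) ^ n) := by
      calc ((q : ℚ) ^ δ - 1) * (effDivCount k' K' n : ℚ)
          ≤ (h' : ℚ) * ((q : ℚ) ^ δ) ^ (n + 1) := h2
        _ = (h' : ℚ) * ((q : ℚ) ^ δ) ^ n * ((q : ℚ) ^ δ) := by rw [pow_succ]; ring
        _ ≤ (h' : ℚ) * ((q : ℚ) ^ δ) ^ n * (2 * ((q : ℚ) ^ δ - 1)) := by
            apply mul_le_mul_of_nonneg_left _ (mul_nonneg hh0 hQn)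
            linarith
        _ = _ := by ring
    exact le_of_mul_le_mul_left h4 (by linarith)
  -- the contradiction
  set M : ℕ := 2 * h' * q ^ (2 * g) with hM
  set n : ℕ := 2 * (2 * g) + M + 2 * g' + 1 with hn
  have hlowpow := coeff_pow_ge hFnonneg hF0 (inv_nonneg.mpr (pow_nonneg hqQ.le g))
    (pow_nonneg hqQ.le δ) (2 * g) hlow δ h2δ n (by omega)
  rw [← hZ] at hlowpow
  have hupn := hup n (by omega)
  have hQn : (0 : ℚ) < ((q : ℚ) ^ δ) ^ n := pow_pos (pow_pos hqQ δ) n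
  have hcombine : ((n - 2 * (2 * g) + 1 : ℕ) : ℚ) * (((q : ℚ) ^ g)⁻¹ ^ 2) ≤ 2 * (h' : ℚ) := by
    have := hlowpow.trans hupn
    have h5 : ((n - 2 * (2 * g) + 1 : ℕ) : ℚ) * (((q : ℚ) ^ g)⁻¹ ^ 2) * ((q : ℚ) ^ δ) ^ n ≤
        2 * (h' : ℚ) * ((q : ℚ) ^ δ) ^ n := by
      calc _ = ((n - 2 * (2 * g) + 1 : ℕ) : ℚ) * (((q : ℚ) ^ g)⁻¹ ^ 2 * ((q : ℚ) ^ δ) ^ n) := by ring
        _ ≤ _ := this
    exact le_of_mul_le_mul_right h5 hQn
  have hfinal : ((n - 2 * (2 * g) + 1 : ℕ) : ℚ) ≤ (M : ℚ) := by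
    have hqg : (0 : ℚ) < ((q : ℚ) ^ g) ^ 2 := pow_pos (pow_pos hqQ g) 2
    have h6 : ((n - 2 * (2 * g) + 1 : ℕ) : ℚ) ≤ 2 * (h' : ℚ) * ((q : ℚ) ^ g) ^ 2 := by
      rw [inv_pow, ← div_eq_mul_inv, div_le_iff₀ hqg] at hcombine
      exact hcombine
    rw [hM]
    have h7 : ((q : ℚ) ^ g) ^ 2 = (q : ℚ) ^ (2 * g) := by rw [← pow_mul, mul_comm]
    rw [h7] at h6
    push_cast
    push_cast at h6
    exact h6
  have : n - 2 * (2 * g) + 1 ≤ M := by exact_mod_cast hfinal
  omega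

end Groth.Agent.Lib.Helper67.FFSchmidt
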