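import Groth.Agent.Lib.Helper67.DenseOpen2
import Groth.Agent.Lib.Helper85.IntMult.PushLen

/-!
# Degrees of pullbacks along nonconstant morphisms of proper curves (helper67)

* `isFinite_of_generic`: a nonconstant `k`-morphism of integral proper curves is finite.
* `rk_pushO_eq_residueDegree`: the generic rank of `f_* O_X` is `[K(X) : K(Y)]`.
* `deg_pullback_of_generic`: `deg f^* E = [K(X) : K(Y)] · deg E`.
-/

set_option autoImplicit false
set_option linter.style.haveILetI false
universe u
open AlgebraicGeometry CategoryTheory Limits Opposite TopologicalSpace Abelian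

namespace Groth.Agent.Lib.Helper67.FinDeg

open Groth.Agent.Lib.Helper67.EulerLES Groth.Agent.Lib.Helper67.CurveCoh
open Groth.Agent.Lib.Helper67.CurveDeg Groth.Agent.Lib.Helper67.CurveTors
open Groth.Agent.Lib.Helper67.TensRank Groth.Agent.Lib.Helper67.GenCurve
open Groth.Agent.Lib.Helper67.ZeroDim Groth.Agent.Lib.Helper67.TensZero
open Groth.Agent.Lib.Helper67.DenseOpen
open Groth.Agent.Lib.Helper49 Groth.Agent.Lib.Helper49.SerreGen

section Top

/-- in an irreducible space of Krull dimension one the generic point is not closed -/
theorem not_isClosed_generic {T : Type*} [TopologicalSpace T] (hdim : topologicalKrullDim T = 1)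
    (η : T) (hη : closure ({η} : Set T) = Set.univ) : ¬ IsClosed ({η} : Set T) := by
  intro hcl
  have huniv : (Set.univ : Set T) = {η} := by rw [← hη, hcl.closure_eq]
  haveI : Subsingleton (IrreducibleCloseds T) := by
    refine ⟨fun a b => ?_⟩
    apply IrreducibleCloseds.ext
    have ha : (a : Set T) = {η} := by
      obtain ⟨z, hz⟩ := a.isIrreducible.nonempty
      have hzη : z = η := by
        have : z ∈ (Set.univ : Set T) := trivial
        rw [huniv] at this
        exact this
      apply Set.Subset.antisymm
      · intro w _
        have : w ∈ (Set.univ : Set T) := trivial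
        rw [huniv] at this
        exact this
      · rintro w rfl
        exact hzη ▸ hz
    have hb : (b : Set T) = {η} := by
      obtain ⟨z, hz⟩ := b.isIrreducible.nonempty
      have hzη : z = η := by
        have : z ∈ (Set.univ : Set T) := trivial
        rw [huniv] at this
        exact this
      apply Set.Subset.antisymm
      · intro w _
        have : w ∈ (Set.univ : Set T) := trivial
        rw [huniv] at this
        exact this
      · rintro w rfl
        exact hzη ▸ hz
    rw [ha, hb]
  have h0 : topologicalKrullDim T ≤ 0 := Order.krullDim_nonpos_of_subsingleton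
  rw [hdim] at h0
  exact absurd h0 (by decide)

end Top

section Fin

variable (k : Type u) [Field k] (X Y : Scheme.{u})
  [X.Over (Spec (CommRingCat.of k))] [Y.Over (Spec (CommRingCat.of k))] [IsIntegral X]
  [IsIntegral Y]
  [IsProper (X ↘ Spec (CommRingCat.of k))] [IsProper (Y ↘ Spec (CommRingCat.of k))]

include k in
/-- the fibre of a nonconstant morphism of curves over the generic point -/
theorem eq_generic_of_map_eq (hX : topologicalKrullDim X ≤ 1) (hY : topologicalKrullDim Y = 1)
    (f : X ⟶ Y) (hf : f ≫ (Y ↘ Spec (CommRingCat.of k)) = X ↘ Spec (CommRingCat.of k))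
    (x : X) (hx : f x = genericPoint Y) : x = genericPoint X := by
  haveI : IsProper (f ≫ (Y ↘ Spec (CommRingCat.of k))) := by
    rw [hf]
    infer_instance
  haveI : IsProper f := IsProper.of_comp f (Y ↘ Spec (CommRingCat.of k))
  by_contra hne
  have hcl : closure ({x} : Set X) ≠ Set.univ := by
    intro h'
    exact hne (IsGenericPoint.eq (show IsGenericPoint x Set.univ from h') (genericPoint_spec X))
  have hxc : IsClosed ({x} : Set X) := by
    rw [← closure_eq_iff_isClosed]
    exact Groth.Agent.Lib.Helper24.closure_singleton_eq_of_dim_le_one hX x hcl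
  have himg : IsClosed (f '' ({x} : Set X)) := f.isClosedMap _ hxc
  rw [Set.image_singleton, hx] at himg
  exact not_isClosed_generic hY (genericPoint Y) (genericPoint_spec Y).def himg

/-- a nonconstant `k`-morphism of integral proper curves is finite -/
theorem isFinite_of_generic (hX : topologicalKrullDim X ≤ 1) (hY : topologicalKrullDim Y = 1)
    (f : X ⟶ Y) (hf : f ≫ (Y ↘ Spec (CommRingCat.of k)) = X ↘ Spec (CommRingCat.of k))
    (hξ : f (genericPoint X) = genericPoint Y) : IsFinite f := by
  haveI : IsProper (f ≫ (Y ↘ Spec (CommRingCat.of k))) := by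
    rw [hf]
    infer_instance
  haveI : IsProper f := IsProper.of_comp f (Y ↘ Spec (CommRingCat.of k))
  haveI : IsNoetherian X :=
    Groth.Agent.Lib.Helper67.CurveP1.isNoetherian_of_proper k (X ↘ Spec (CommRingCat.of k))
  have hfib : ∀ y : Y, (f ⁻¹' {y}).Finite := by
    intro y
    by_cases hy : y = genericPoint Y
    · refine (Set.finite_singleton (genericPoint X)).subset ?_
      intro x hx
      have hx' : f x = genericPoint Y := by rw [← hy]; exact hx
      exact eq_generic_of_map_eq k X Y hX hY f hf x hx'
    · have hcl : closure ({y} : Set Y) ≠ Set.univ := by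
        intro h'
        exact hy (IsGenericPoint.eq (show IsGenericPoint y Set.univ from h')
          (genericPoint_spec Y))
      have hyc : IsClosed ({y} : Set Y) := by
        rw [← closure_eq_iff_isClosed]
        exact Groth.Agent.Lib.Helper24.closure_singleton_eq_of_dim_le_one hY.le y hcl
      apply Groth.Agent.Lib.Helper24.finite_of_isClosed_of_ne_univ hX _
        (hyc.preimage f.continuous)
      intro h'
      have : genericPoint X ∈ f ⁻¹' {y} := by rw [h']; trivial
      exact hy (this.symm.trans hξ)
  haveI : LocallyQuasiFinite f := LocallyQuasiFinite.of_finite_preimage_singleton f hfib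
  exact IsFinite.of_isProper_of_locallyQuasiFinite f

end Fin

section Rank

variable (k : Type u) [Field k] (X Y : Scheme.{u})
  [X.Over (Spec (CommRingCat.of k))] [Y.Over (Spec (CommRingCat.of k))] [IsIntegral X]
  [IsIntegral Y]
  [IsProper (X ↘ Spec (CommRingCat.of k))] [IsProper (Y ↘ Spec (CommRingCat.of k))]

open Groth.Agent.Lib.Helper85.PushLen in
include k in
/-- **the generic rank of `f_* O_X` is the degree of the function field extension** -/
theorem rk_pushO_eq_residueDegree (hX : topologicalKrullDim X ≤ 1)
    (hY : topologicalKrullDim Y = 1)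
    (f : X ⟶ Y) (hf : f ≫ (Y ↘ Spec (CommRingCat.of k)) = X ↘ Spec (CommRingCat.of k))
    (hξ : f (genericPoint X) = genericPoint Y) [IsFinite f] :
    rk ((Scheme.Modules.pushforward f).obj (Coh.structureModule X)) =
      f.residueDegree (genericPoint X) := by
  classical
  haveI : IsNoetherian Y :=
    Groth.Agent.Lib.Helper67.CurveP1.isNoetherian_of_proper k (Y ↘ Spec (CommRingCat.of k))
  have hP := isCoh_pushO f
  have hfibre := eq_generic_of_map_eq k X Y hX hY f hf
  letI : Field (Y.presheaf.stalk (genericPoint Y)) :=
    inferInstanceAs (Field Y.functionField)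
  letI : Field (X.presheaf.stalk (genericPoint X)) :=
    inferInstanceAs (Field X.functionField)
  haveI hfinY := finite_stalk_of_isCoh hP (genericPoint Y)
  have hO1 : FlatMod.IsFinLocFreeOfRank 1 (Coh.structureModule X) :=
    rank_one_of_isInvertible
      (Groth.Agent.Lib.Helper11.GenLocus.isInvertible_structureModule X)
  obtain ⟨-, hfinX, hrkX⟩ := stalk_of_rank hO1 (genericPoint X)
  haveI := hfinX
  have hlenX : Module.length (X.presheaf.stalk (genericPoint X))
      ((Coh.structureModule X).presheaf.stalk (genericPoint X)) = 1 := by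
    rw [Module.length_eq_finrank, hrkX]
    rfl
  have hlen := length_stalk_pushforward_eq_sum f (Coh.structureModule X) f.isClosedMap
    (genericPoint Y) {genericPoint X}
    (fun x hx => by rw [Finset.mem_singleton.mp hx]; exact hξ)
    (fun x hx hxS => absurd (Finset.mem_singleton.mpr (hfibre x hx)) hxS)
    (fun x₀ _ => ⟨⊤, ⊥, trivial, fun x hx hne => absurd (hfibre x hx)
      (by rw [Finset.mem_singleton.mp ‹x₀ ∈ _›] at hne; exact hne),
      fun z _ hz => absurd hz (by simp)⟩)
    (fun x hx => by
      rw [Finset.mem_singleton.mp hx]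
      rw [← Module.length_ne_top_iff, hlenX]
      simp)
  rw [Module.length_eq_finrank, Finset.sum_coe_sort {genericPoint X}
    (fun x => lenDeg f x * Module.length (X.presheaf.stalk x)
      ((Coh.structureModule X).presheaf.stalk x)), Finset.sum_singleton, hlenX, mul_one] at hlen
  have hne : lenDeg f (genericPoint X) ≠ ⊤ := by
    rw [← hlen]
    simp
  letI alg := (f.residueFieldMap (genericPoint X)).hom.toAlgebra
  have hfl : IsFiniteLength (Y.residueField (f (genericPoint X)))
      (X.residueField (genericPoint X)) := Module.length_ne_top_iff.mp hne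
  haveI := (isFiniteLength_iff_isNoetherian_isArtinian.mp hfl).1
  have hfin : Module.Finite (Y.residueField (f (genericPoint X)))
      (X.residueField (genericPoint X)) := inferInstance
  rw [lenDeg_eq_residueDegree f _ hfin] at hlen
  unfold rk
  exact_mod_cast hlen

end Rank

section Deg

variable (k : Type u) [Field k] (X Y : Scheme.{u})
  [X.Over (Spec (CommRingCat.of k))] [Y.Over (Spec (CommRingCat.of k))] [IsIntegral X]
  [IsIntegral Y]
  [IsProper (X ↘ Spec (CommRingCat.of k))] [IsProper (Y ↘ Spec (CommRingCat.of k))]

/-- **`deg f^* E = [K(X) : K(Y)] · deg E`** for a nonconstant morphism of integral proper curves -/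
theorem deg_pullback_of_generic (hX : topologicalKrullDim X ≤ 1)
    (hY : topologicalKrullDim Y = 1)
    (f : X ⟶ Y) (hf : f ≫ (Y ↘ Spec (CommRingCat.of k)) = X ↘ Spec (CommRingCat.of k))
    (hξ : f (genericPoint X) = genericPoint Y)
    (n : ℕ) (E : Y.Modules) (hE : FlatMod.IsFinLocFreeOfRank n E) :
    Curv2.deg k X ((Scheme.Modules.pullback f).obj E) n =
      (f.residueDegree (genericPoint X) : ℤ) * Curv2.deg k Y E n := by
  haveI : IsFinite f := isFinite_of_generic k X Y hX hY f hf hξ
  haveI : (Coh.structureModule X).IsQuasicoherent := isQuasicoherent_structureModule X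
  have hP := isCoh_pushO f
  have hEfl := isFinLocFree_of_rank hE
  have e1 : CohB1.tensorMod ((Scheme.Modules.pushforward f).obj (Coh.structureModule X)) E ≅
      (Scheme.Modules.pushforward f).obj ((Scheme.Modules.pullback f).obj E) :=
    Groth.Agent.Lib.Helper11.GenLocus.tensorModBraid _ _ ≪≫
      Groth.Agent.Lib.Helper67.ProjFormulaFree.pfIso f E hEfl
  haveI : E.IsQuasicoherent := (isCoh_of_rank hE).1
  haveI : ((Scheme.Modules.pullback f).obj E).IsQuasicoherent :=
    Groth.Agent.Lib.Helper16.FlatPull.isQuasicoherent_pullback f E
  have h1 := euler_eq_of_iso k e1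
  have h2 := euler_push k f hf ((Scheme.Modules.pullback f).obj E)
  have h3 := euler_push k f hf (Coh.structureModule X)
  have h4 := euler_tensor k Y hY.le E hE _ hP
  have h5 := rk_pushO_eq_residueDegree k X Y hX hY f hf hξ
  unfold Curv2.deg
  rw [← h2, ← h3, ← h1, h4, h5]
  unfold Curv2.deg
  ring

end Deg

end Groth.Agent.Lib.Helper67.FinDeg
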