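/-
Helper library (helper67): sums of values of polynomials over the points of affine space over a
finite field (the boundary case of the Chevalley–Warning computation).
-/
import Mathlib.FieldTheory.ChevalleyWarning
import Mathlib.RingTheory.MvPolynomial.Homogeneous
import Mathlib.Tactic

set_option autoImplicit false

namespace Groth.Agent.Lib.Helper67

open MvPolynomial Finset

variable {K : Type*} [Field K] [Fintype K]

theorem sum_pow_card_sub_one : ∑ a : K, a ^ (Fintype.card K - 1) = -1 := by
  classical
  have hq : 0 < Fintype.card K - 1 := by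
    have := Fintype.one_lt_card (α := K)
    omega
  have h : ∀ a : K, a ^ (Fintype.card K - 1) = if a = 0 then 0 else 1 := by
    intro a
    split_ifs with ha
    · rw [ha, zero_pow hq.ne']
    · exact FiniteField.pow_card_sub_one_eq_one a ha
  simp only [h]
  rw [Finset.sum_ite, Finset.sum_const_zero, zero_add, Finset.sum_const, nsmul_eq_mul, mul_one]
  have hc : (Finset.filter (fun a : K => ¬ a = 0) Finset.univ).card = Fintype.card K - 1 := by
    rw [Finset.filter_not, Finset.card_sdiff_of_subset (Finset.subset_univ _), Finset.card_univ]
    congr 1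
    rw [Finset.card_eq_one]
    exact ⟨0, by ext a; simp⟩
  rw [hc, Nat.cast_sub (by omega), FiniteField.cast_card_eq_zero]
  simp

theorem sum_prod_pow_eq {N : ℕ} (d : Fin N → ℕ) :
    ∑ x : Fin N → K, ∏ i, x i ^ d i = ∏ i, ∑ a : K, a ^ d i := by
  classical
  rw [Finset.prod_univ_sum, Fintype.piFinset_univ]

/-- The sum of the values of a polynomial of degree at most `(q-1) N` in `N` variables over all
points of `K^N` is `(-1)^N` times the coefficient of `(x_1 ⋯ x_N)^(q-1)`. -/
theorem sum_eval_eq_coeff {N : ℕ} (g : MvPolynomial (Fin N) K)
    (hg : g.totalDegree ≤ (Fintype.card K - 1) * N) :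
    ∑ x : Fin N → K, eval x g =
      (-1) ^ N * g.coeff (Finsupp.equivFunOnFinite.symm fun _ : Fin N => Fintype.card K - 1) := by
  classical
  set d₀ : Fin N →₀ ℕ := Finsupp.equivFunOnFinite.symm fun _ : Fin N => Fintype.card K - 1 with hd₀
  calc
    ∑ x, eval x g = ∑ x : Fin N → K, ∑ d ∈ g.support, g.coeff d * ∏ i, x i ^ d i := by
      simp only [eval_eq']
    _ = ∑ d ∈ g.support, ∑ x : Fin N → K, g.coeff d * ∏ i, x i ^ d i := Finset.sum_comm
    _ = ∑ d ∈ g.support, g.coeff d * ∏ i, ∑ a : K, a ^ d i := by
      refine Finset.sum_congr rfl fun d _ => ?_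
      rw [← Finset.mul_sum, sum_prod_pow_eq]
    _ = ∑ d ∈ g.support, if d = d₀ then g.coeff d₀ * (-1) ^ N else 0 := by
      refine Finset.sum_congr rfl fun d hd => ?_
      split_ifs with hdd
      · subst hdd
        congr 1
        have : ∀ i : Fin N, ∑ a : K, a ^ d₀ i = -1 := fun i => by
          rw [hd₀]
          exact sum_pow_card_sub_one
        rw [Finset.prod_congr rfl fun i _ => this i, Finset.prod_const, Finset.card_univ,
          Fintype.card_fin]
      · -- some exponent is smaller than `q - 1`
        have hex : ∃ i, d i < Fintype.card K - 1 := by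
          by_contra hcon
          push Not at hcon
          apply hdd
          have hdeg : d.sum (fun _ e => e) ≤ (Fintype.card K - 1) * N :=
            (le_totalDegree hd).trans hg
          rw [Finsupp.sum_fintype _ _ (fun _ => rfl)] at hdeg
          have hsum : ∑ i : Fin N, (d i - (Fintype.card K - 1)) = 0 := by
            have h1 : ∑ i : Fin N, d i = ∑ i : Fin N, ((d i - (Fintype.card K - 1)) +
                (Fintype.card K - 1)) :=
              Finset.sum_congr rfl fun i _ => (Nat.sub_add_cancel (hcon i)).symm
            rw [Finset.sum_add_distrib, Finset.sum_const, Finset.card_univ, Fintype.card_fin,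
              smul_eq_mul, mul_comm N] at h1
            omega
          ext i
          have := (Finset.sum_eq_zero_iff.mp hsum) i (Finset.mem_univ _)
          have h2 := hcon i
          rw [hd₀]
          simp only [Finsupp.equivFunOnFinite_symm_apply_apply]
          omega
        obtain ⟨i, hi⟩ := hex
        rw [Finset.prod_eq_zero (Finset.mem_univ i)
          (FiniteField.sum_pow_lt_card_sub_one K _ hi), mul_zero]
    _ = (-1) ^ N * g.coeff d₀ := by
      rw [Finset.sum_ite_eq']
      split_ifs with h
      · ring
      · rw [notMem_support_iff.mp h]; ring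

end Groth.Agent.Lib.Helper67
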