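import Mathlib

/-!
# Roots of `X ^ Q - X` (helper67)

Over an algebraically closed field `k` of characteristic `p`, with `Q` a positive power of `p`, every
root of `X ^ Q - X` in any field extension of `k` lies in `k`.
-/

set_option autoImplicit false
universe u v

open Polynomial

namespace Groth.Agent.Lib.Helper67.FixRoots

/-- Every root of `X ^ Q - X` in an extension `L` of the algebraically closed field `k`
(`Q` divisible by the characteristic, `1 < Q`) comes from `k`. -/
theorem exists_of_pow_eq {k : Type u} [Field k] [IsAlgClosed k] (p : ℕ) [CharP k p] (Q : ℕ)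
    (hpQ : p ∣ Q) (hQ : 1 < Q) {L : Type v} [Field L] (ρ : k →+* L) (z : L) (hz : z ^ Q = z) :
    ∃ c : k, c ^ Q = c ∧ ρ c = z := by
  classical
  set f : k[X] := X ^ Q - X with hf
  have hdeg : f.natDegree = Q := FiniteField.X_pow_card_sub_X_natDegree_eq k hQ
  have hf0 : f ≠ 0 := by
    intro h0
    rw [h0, natDegree_zero] at hdeg
    omega
  have hsep : f.Separable := galois_poly_separable p Q hpQ
  have hsplit : (f.map (algebraMap k k)).Splits := IsAlgClosed.splits _
  have hcard : f.roots.toFinset.card = Q := by
    have h1 := card_rootSet_eq_natDegree (K := k) hsep hsplit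
    rw [hdeg] at h1
    simp only [rootSet_def, Finset.coe_sort_coe, Fintype.card_coe] at h1
    simpa [aroots, Algebra.algebraMap_self, Polynomial.map_id] using h1
  -- the roots in `L`
  set g : L[X] := X ^ Q - X with hg
  have hgdeg : g.natDegree = Q := FiniteField.X_pow_card_sub_X_natDegree_eq L hQ
  have hg0 : g ≠ 0 := by
    intro h0
    rw [h0, natDegree_zero] at hgdeg
    omega
  have hfg : f.map ρ = g := by
    rw [hf, hg, Polynomial.map_sub, Polynomial.map_pow, Polynomial.map_X]
  have himg : (f.roots.toFinset.image ρ) ⊆ g.roots.toFinset := by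
    intro y hy
    rw [Finset.mem_image] at hy
    obtain ⟨c, hc, rfl⟩ := hy
    rw [Multiset.mem_toFinset, mem_roots hf0] at hc
    rw [IsRoot.def] at hc
    rw [Multiset.mem_toFinset, mem_roots hg0, ← hfg, IsRoot.def, eval_map, eval₂_hom,
      hc, map_zero]
  have hcard2 : (f.roots.toFinset.image ρ).card = Q := by
    rw [Finset.card_image_of_injective _ ρ.injective, hcard]
  have hle : g.roots.toFinset.card ≤ Q := by
    calc g.roots.toFinset.card ≤ Multiset.card g.roots := Multiset.toFinset_card_le _
      _ ≤ g.natDegree := card_roots' g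
      _ = Q := hgdeg
  have heq : f.roots.toFinset.image ρ = g.roots.toFinset :=
    Finset.eq_of_subset_of_card_le himg (by rw [hcard2]; exact hle)
  have hzmem : z ∈ g.roots.toFinset := by
    rw [Multiset.mem_toFinset, mem_roots hg0, IsRoot.def, hg, eval_sub, eval_pow, eval_X, hz,
      sub_self]
  rw [← heq, Finset.mem_image] at hzmem
  obtain ⟨c, hc, rfl⟩ := hzmem
  refine ⟨c, ?_, rfl⟩
  rw [Multiset.mem_toFinset, mem_roots hf0, IsRoot.def, hf, eval_sub, eval_pow, eval_X,
    sub_eq_zero] at hc
  exact hc

/-- Every root of `X ^ Q - X` in a field `L` lies in the image of a finite field with `Q`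
elements. -/
theorem exists_of_pow_eq_of_card {k' : Type u} [Field k'] [Finite k'] (Q : ℕ)
    (hcard : Nat.card k' = Q) {L : Type v} [Field L] (ι : k' →+* L) (z : L) (hz : z ^ Q = z) :
    ∃ c : k', ι c = z := by
  classical
  haveI : Fintype k' := Fintype.ofFinite k'
  have hQ : 1 < Q := by
    rw [← hcard, Nat.card_eq_fintype_card]
    exact Fintype.one_lt_card
  set g : L[X] := X ^ Q - X with hg
  have hgdeg : g.natDegree = Q := FiniteField.X_pow_card_sub_X_natDegree_eq L hQ
  have hg0 : g ≠ 0 := by
    intro h0
    rw [h0, natDegree_zero] at hgdeg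
    omega
  have himg : (Finset.univ.image ι) ⊆ g.roots.toFinset := by
    intro y hy
    rw [Finset.mem_image] at hy
    obtain ⟨c, -, rfl⟩ := hy
    rw [Multiset.mem_toFinset, mem_roots hg0, IsRoot.def, hg, eval_sub, eval_pow, eval_X,
      ← map_pow, ← hcard, Nat.card_eq_fintype_card, FiniteField.pow_card, sub_self]
  have hcard2 : (Finset.univ.image ι).card = Q := by
    rw [Finset.card_image_of_injective _ ι.injective, Finset.card_univ, ← Nat.card_eq_fintype_card,
      hcard]
  have hle : g.roots.toFinset.card ≤ Q := by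
    calc g.roots.toFinset.card ≤ Multiset.card g.roots := Multiset.toFinset_card_le _
      _ ≤ g.natDegree := card_roots' g
      _ = Q := hgdeg
  have heq : Finset.univ.image ι = g.roots.toFinset :=
    Finset.eq_of_subset_of_card_le himg (by rw [hcard2]; exact hle)
  have hzmem : z ∈ g.roots.toFinset := by
    rw [Multiset.mem_toFinset, mem_roots hg0, IsRoot.def, hg, eval_sub, eval_pow, eval_X, hz,
      sub_self]
  rw [← heq, Finset.mem_image] at hzmem
  obtain ⟨c, -, hc⟩ := hzmem
  exact ⟨c, hc⟩

end Groth.Agent.Lib.Helper67.FixRoots
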