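import Mathlib
import Groth.Agent.Lib.Helper67.FixRoots

/-!
# The algebraic core of the multiplicity-one computation (helper67)

`O` is a local ring receiving `germ : B → O` with `B` generated by a set `T` and the image of an
algebraically closed field `k` of characteristic `p`.  If an ideal `I ≤ 𝔪_O` contains
`germ t - (germ t) ^ (p ^ r)` for all `t ∈ T`, and `𝔪_O` is generated by the image of its
preimage `𝔭`, then `I = 𝔪_O` and `𝔭` is maximal.
-/

set_option autoImplicit false
universe u

namespace Groth.Agent.Lib.Helper67.FixAlg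

theorem ideal_eq_maximalIdeal_of_gen
    {k : Type u} [Field k] [IsAlgClosed k] (p : ℕ) [Fact p.Prime] [CharP k p] (r : ℕ) (hr : r ≠ 0)
    {B O : Type u} [CommRing B] [CommRing O] [IsLocalRing O] (germ : B →+* O) (str : k →+* B)
    (𝔭 : Ideal B) (h𝔭 : 𝔭 = Ideal.comap germ (IsLocalRing.maximalIdeal O))
    (hmap : Ideal.map germ 𝔭 = IsLocalRing.maximalIdeal O)
    (I : Ideal O) (hI : I ≤ IsLocalRing.maximalIdeal O)
    (T : Set B) (hgen : ∀ B₀ : Subring B, T ⊆ B₀ → (∀ c, str c ∈ B₀) → B₀ = ⊤)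
    (hT : ∀ t ∈ T, germ t - germ t ^ (p ^ r) ∈ I) :
    I = IsLocalRing.maximalIdeal O ∧ 𝔭.IsMaximal := by
  classical
  have hp : p.Prime := Fact.out
  set Q := p ^ r with hQ
  have hQ1 : 1 < Q := Nat.one_lt_pow hr hp.one_lt
  have hpQ : p ∣ Q := dvd_pow_self p hr
  set 𝔮 : Ideal B := I.comap germ with h𝔮
  have hinj : Function.Injective (germ.comp str) := (germ.comp str).injective
  haveI : CharP O p := charP_of_injective_ringHom hinj p
  -- the subring of elements congruent to a constant
  let B₀ : Subring B :=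
    { carrier := {b | ∃ c : k, b - str c ∈ 𝔮}
      mul_mem' := by
        rintro b b' ⟨c, hc⟩ ⟨c', hc'⟩
        refine ⟨c * c', ?_⟩
        have : b * b' - str (c * c') = (b - str c) * b' + str c * (b' - str c') := by
          rw [map_mul]; ring
        rw [this]
        exact 𝔮.add_mem (𝔮.mul_mem_right _ hc) (𝔮.mul_mem_left _ hc')
      one_mem' := ⟨1, by rw [map_one, sub_self]; exact 𝔮.zero_mem⟩
      add_mem' := by
        rintro b b' ⟨c, hc⟩ ⟨c', hc'⟩
        refine ⟨c + c', ?_⟩
        have : b + b' - str (c + c') = (b - str c) + (b' - str c') := by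
          rw [map_add]; ring
        rw [this]
        exact 𝔮.add_mem hc hc'
      zero_mem' := ⟨0, by rw [map_zero, sub_self]; exact 𝔮.zero_mem⟩
      neg_mem' := by
        rintro b ⟨c, hc⟩
        refine ⟨-c, ?_⟩
        have : -b - str (-c) = -(b - str c) := by rw [map_neg]; ring
        rw [this]
        exact 𝔮.neg_mem hc }
  have hTB : T ⊆ B₀ := by
    intro t ht
    set res := IsLocalRing.residue O with hres
    have hz : (res (germ t)) ^ Q = res (germ t) := by
      have h1 := hI (hT t ht)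
      rw [← IsLocalRing.residue_eq_zero_iff, map_sub, map_pow, sub_eq_zero] at h1
      exact h1.symm
    obtain ⟨c, hcQ, hc⟩ := Groth.Agent.Lib.Helper67.FixRoots.exists_of_pow_eq p Q hpQ hQ1
      (res.comp (germ.comp str)) (res (germ t)) hz
    refine ⟨c, ?_⟩
    show germ (t - str c) ∈ I
    set u := germ (t - str c) with hu
    have hum : u ∈ IsLocalRing.maximalIdeal O := by
      rw [← IsLocalRing.residue_eq_zero_iff, hu, map_sub, map_sub, sub_eq_zero]
      exact hc.symm
    have hu1 : u - u ^ Q = germ t - germ t ^ Q := by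
      rw [hu, map_sub, hQ, sub_pow_char_pow, ← hQ, ← map_pow germ (str c), ← map_pow str, hcQ]
      ring
    have hu2 : u - u ^ Q = u * (1 - u ^ (Q - 1)) := by
      have : u ^ Q = u * u ^ (Q - 1) := by
        rw [← pow_succ']
        congr 1
        omega
      rw [this]; ring
    have hunit : IsUnit (1 - u ^ (Q - 1)) := by
      apply IsLocalRing.isUnit_one_sub_self_of_mem_nonunits
      have : u ^ (Q - 1) ∈ IsLocalRing.maximalIdeal O :=
        Ideal.pow_mem_of_mem _ hum _ (by omega)
      exact this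
    have h3 : u * (1 - u ^ (Q - 1)) ∈ I := by
      rw [← hu2, hu1]; exact hT t ht
    exact (Ideal.mul_unit_mem_iff_mem I hunit).mp h3
  have hB₀ := hgen B₀ hTB (fun c => ⟨c, by rw [sub_self]; exact 𝔮.zero_mem⟩)
  have hall : ∀ b : B, ∃ c : k, b - str c ∈ 𝔮 := by
    intro b
    have : b ∈ B₀ := by rw [hB₀]; trivial
    exact this
  have h𝔮𝔭 : 𝔮 ≤ 𝔭 := by
    rw [h𝔭]
    exact Ideal.comap_mono hI
  have hconst : ∀ c : k, str c ∈ 𝔭 → c = 0 := by
    intro c hc
    by_contra hc0
    rw [h𝔭, Ideal.mem_comap, IsLocalRing.mem_maximalIdeal, mem_nonunits_iff] at hc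
    apply hc
    have : IsUnit c := isUnit_iff_ne_zero.mpr hc0
    exact (this.map str).map germ
  have h𝔭𝔮 : 𝔭 ≤ 𝔮 := by
    intro b hb
    obtain ⟨c, hc⟩ := hall b
    have h1 : str c ∈ 𝔭 := by
      have h2 : str c = b - (b - str c) := by ring
      rw [h2]
      exact 𝔭.sub_mem hb (h𝔮𝔭 hc)
    have hc0 := hconst c h1
    rw [hc0, map_zero, sub_zero] at hc
    exact hc
  have hne : 𝔭 ≠ ⊤ := by
    intro htop
    have h1 : (1 : B) ∈ 𝔭 := by rw [htop]; trivial
    rw [h𝔭, Ideal.mem_comap, map_one] at h1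
    exact (IsLocalRing.maximalIdeal.isMaximal O).ne_top
      ((Ideal.eq_top_iff_one _).mpr h1)
  refine ⟨le_antisymm hI ?_, ?_⟩
  · rw [← hmap, Ideal.map_le_iff_le_comap]
    exact h𝔭𝔮
  · rw [Ideal.isMaximal_iff]
    refine ⟨fun h1 => hne ((Ideal.eq_top_iff_one _).mpr h1), ?_⟩
    intro J x hJ hx hxJ
    obtain ⟨c, hc⟩ := hall x
    have hcJ : str c ∈ J := by
      have h2 : str c = x - (x - str c) := by ring
      rw [h2]
      exact J.sub_mem hxJ (hJ (h𝔮𝔭 hc))
    have hc0 : c ≠ 0 := by
      intro h0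
      rw [h0, map_zero, sub_zero] at hc
      exact hx (h𝔮𝔭 hc)
    have : (1 : B) = str c⁻¹ * str c := by
      rw [← map_mul, inv_mul_cancel₀ hc0, map_one]
    rw [this]
    exact J.mul_mem_left _ hcJ

end Groth.Agent.Lib.Helper67.FixAlg
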