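import Mathlib

/-!
# Germs of `p^* a - q^* a` on a product and their pull-backs along sections (helper67)

For morphisms `p q : P ⟶ X`, an open `V` of `X` and a section `a` over `V`, the difference
`g = p^* a - q^* a` is a section over `W = p⁻¹V ⊓ q⁻¹V`.  For `h : Y ⟶ P` the stalk map of `h`
sends the germ of `g` at `h y` to the difference of the germs of `(h ≫ p)^* a` and `(h ≫ q)^* a`.
-/

set_option autoImplicit false
universe u

open CategoryTheory AlgebraicGeometry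

namespace Groth.Agent.Lib.Helper67.FixGerm

variable {P X Y : Scheme.{u}} (p q : P ⟶ X)

/-- The open `p⁻¹V ⊓ q⁻¹V`. -/
abbrev W (V : X.Opens) : P.Opens := p ⁻¹ᵁ V ⊓ q ⁻¹ᵁ V

/-- The section `p^* a - q^* a` over `p⁻¹V ⊓ q⁻¹V`. -/
noncomputable def diffSec (V : X.Opens) (a : Γ(X, V)) : Γ(P, W p q V) :=
  (P.presheaf.map (homOfLE (inf_le_left : W p q V ≤ p ⁻¹ᵁ V)).op).hom ((p.app V).hom a) -
    (P.presheaf.map (homOfLE (inf_le_right : W p q V ≤ q ⁻¹ᵁ V)).op).hom ((q.app V).hom a)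

theorem germ_diffSec (V : X.Opens) (a : Γ(X, V)) (z : P) (hz : z ∈ W p q V) :
    (P.presheaf.germ (W p q V) z hz).hom (diffSec p q V a) =
      (P.presheaf.germ (p ⁻¹ᵁ V) z hz.1).hom ((p.app V).hom a) -
        (P.presheaf.germ (q ⁻¹ᵁ V) z hz.2).hom ((q.app V).hom a) := by
  unfold diffSec
  rw [map_sub]
  congr 1
  · exact TopCat.Presheaf.germ_res_apply P.presheaf (homOfLE inf_le_left) z hz _
  · exact TopCat.Presheaf.germ_res_apply P.presheaf (homOfLE inf_le_right) z hz _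

/-- Transport of a germ of a pulled back section along an equality of morphisms. -/
theorem germ_app_congr {ψ ψ' : Y ⟶ X} (e : ψ = ψ') (V : X.Opens) (a : Γ(X, V)) (y : Y)
    (hy : ψ y ∈ V) :
    (Y.presheaf.germ (ψ ⁻¹ᵁ V) y hy).hom ((ψ.app V).hom a) =
      (Y.presheaf.germ (ψ' ⁻¹ᵁ V) y (e ▸ hy)).hom ((ψ'.app V).hom a) := by
  subst e; rfl

/-- The stalk map of `h` on the germ of `p^* a - q^* a`. -/
theorem stalkMap_germ_diffSec (h : Y ⟶ P) (V : X.Opens) (a : Γ(X, V)) (y : Y)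
    (hy : h y ∈ W p q V) :
    (h.stalkMap y).hom ((P.presheaf.germ (W p q V) (h y) hy).hom (diffSec p q V a)) =
      (Y.presheaf.germ ((h ≫ p) ⁻¹ᵁ V) y hy.1).hom (((h ≫ p).app V).hom a) -
        (Y.presheaf.germ ((h ≫ q) ⁻¹ᵁ V) y hy.2).hom (((h ≫ q).app V).hom a) := by
  rw [germ_diffSec, map_sub]
  congr 1
  · exact Scheme.Hom.germ_stalkMap_apply h (p ⁻¹ᵁ V) y hy.1 _
  · exact Scheme.Hom.germ_stalkMap_apply h (q ⁻¹ᵁ V) y hy.2 _

/-- Version with the composites named. -/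
theorem stalkMap_germ_diffSec' (h : Y ⟶ P) {α β : Y ⟶ X} (hα : h ≫ p = α) (hβ : h ≫ q = β)
    (V : X.Opens) (a : Γ(X, V)) (y : Y) (hy : h y ∈ W p q V) (hyα : α y ∈ V) (hyβ : β y ∈ V) :
    (h.stalkMap y).hom ((P.presheaf.germ (W p q V) (h y) hy).hom (diffSec p q V a)) =
      (Y.presheaf.germ (α ⁻¹ᵁ V) y hyα).hom ((α.app V).hom a) -
        (Y.presheaf.germ (β ⁻¹ᵁ V) y hyβ).hom ((β.app V).hom a) := by
  subst hα hβ
  exact stalkMap_germ_diffSec p q h V a y hy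

end Groth.Agent.Lib.Helper67.FixGerm
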