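import Mathlib
import Groth.Prelude.Def_Cyc
import Groth.Agent.Lib.Helper67.FixGerm

/-!
# The ideal of the diagonal pulled back along the graph of a Frobenius-like endomorphism (helper67)

Setting: `π : Xb ⟶ X`, `Φ : X ⟶ X` which is the `Q`-th power on sections, `φ : Xb ⟶ Xb` with
`φ ≫ π = π ≫ Φ`, a "product" `p q : P ⟶ Xb` with sections `j = (id, φ)` and `d = (id, id)`.
For a point `w` with `j w = d w` and every `t` in the image of `O_{X, π w} → O_{Xb, w}`, the element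
`t - t ^ Q` lies in the ideal generated by the image under `j` of the ideal of the diagonal.
-/

set_option autoImplicit false
universe u

open CategoryTheory AlgebraicGeometry

namespace Groth.Agent.Lib.Helper67.FixLocal

open Groth.Agent.Lib.Helper67.FixGerm

variable {X Xb P : Scheme.{u}} (Φ : X ⟶ X) (Q : ℕ) (hle : ∀ U : X.Opens, U ≤ Φ ⁻¹ᵁ U)
  (hΦapp : ∀ (U : X.Opens) (s : Γ(X, U)), (Φ.appLE U U (hle U)).hom s = s ^ Q)
  (π : Xb ⟶ X) (φ : Xb ⟶ Xb) (hφ : φ ≫ π = π ≫ Φ)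
  (p q : P ⟶ Xb) (j d : Xb ⟶ P)
  (hjp : j ≫ p = 𝟙 Xb) (hjq : j ≫ q = φ) (hdp : d ≫ p = 𝟙 Xb) (hdq : d ≫ q = 𝟙 Xb)

include hjq hdq in
theorem phi_apply_of_eq (w : Xb) (hw : j w = d w) : φ w = w := by
  have h1 : (j ≫ q) w = (d ≫ q) w := by
    rw [Scheme.Hom.comp_apply, Scheme.Hom.comp_apply, hw]
  rw [hjq, hdq] at h1
  exact h1

include hle hΦapp hφ in
/-- `φ^*` on the germ of a section pulled back from `X` is the `Q`-th power. -/
theorem germ_phi_app (U : X.Opens) (a : Γ(X, U)) (w : Xb) (hw : π w ∈ U) (hφw : φ w = w) :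
    (Xb.presheaf.germ (φ ⁻¹ᵁ (π ⁻¹ᵁ U)) w (show φ w ∈ π ⁻¹ᵁ U by rw [hφw]; exact hw)).hom
        ((φ.app (π ⁻¹ᵁ U)).hom ((π.app U).hom a)) =
      ((π.stalkMap w).hom ((X.presheaf.germ U (π w) hw).hom a)) ^ Q := by
  have hw' : (φ ≫ π) w ∈ U := by rw [Scheme.Hom.comp_apply, hφw]; exact hw
  have h1 : (Xb.presheaf.germ (φ ⁻¹ᵁ (π ⁻¹ᵁ U)) w (show φ w ∈ π ⁻¹ᵁ U by rw [hφw]; exact hw)).hom
        ((φ.app (π ⁻¹ᵁ U)).hom ((π.app U).hom a)) =
      (Xb.presheaf.germ ((φ ≫ π) ⁻¹ᵁ U) w hw').hom (((φ ≫ π).app U).hom a) := rfl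
  rw [h1, germ_app_congr hφ U a w hw']
  have hw'' : π w ∈ Φ ⁻¹ᵁ U := hle U hw
  have h2 : (Xb.presheaf.germ ((π ≫ Φ) ⁻¹ᵁ U) w (hφ ▸ hw')).hom (((π ≫ Φ).app U).hom a) =
      (Xb.presheaf.germ (π ⁻¹ᵁ (Φ ⁻¹ᵁ U)) w hw'').hom ((π.app (Φ ⁻¹ᵁ U)).hom ((Φ.app U).hom a)) :=
    rfl
  rw [h2, ← Scheme.Hom.germ_stalkMap_apply π (Φ ⁻¹ᵁ U) w hw'', ← map_pow]
  congr 1
  rw [← map_pow, ← hΦapp U a]
  unfold Scheme.Hom.appLE
  rw [CommRingCat.comp_apply]
  exact (TopCat.Presheaf.germ_res_apply X.presheaf (homOfLE (hle U)) (π w) hw _).symm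

include hle hΦapp hφ hjp hjq hdp hdq in
/-- The key membership: `t - t ^ Q` lies in the pulled back ideal of the diagonal. -/
theorem sub_pow_mem (w η' : Xb) (hw : j w = d w) (h : d η' ⤳ j w)
    (s : X.presheaf.stalk (π w)) :
    (π.stalkMap w).hom s - ((π.stalkMap w).hom s) ^ Q ∈
      Ideal.map (j.stalkMap w).hom (RingHom.ker (Cyc.specMap (j w) (d η') h)) := by
  obtain ⟨U, hU, a, rfl⟩ := X.presheaf.exists_germ_eq s
  have hφw : φ w = w := phi_apply_of_eq φ q j d hjq hdq w hw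
  set V : Xb.Opens := π ⁻¹ᵁ U with hV
  have hwV : w ∈ V := hU
  set a' : Γ(Xb, V) := (π.app U).hom a with ha'
  have hpw : p (j w) = w := by
    rw [← Scheme.Hom.comp_apply, hjp]; rfl
  have hqw : q (j w) = w := by
    rw [← Scheme.Hom.comp_apply, hjq, hφw]
  have hW : j w ∈ W p q V := ⟨by show p (j w) ∈ V; rw [hpw]; exact hwV,
    by show q (j w) ∈ V; rw [hqw]; exact hwV⟩
  set γ := (P.presheaf.germ (W p q V) (j w) hW).hom (diffSec p q V a') with hγ
  -- γ lies in the kernel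
  have hker : γ ∈ RingHom.ker (Cyc.specMap (j w) (d η') h) := by
    rw [RingHom.mem_ker]
    have hW' : d η' ∈ W p q V := h.mem_open (W p q V).isOpen hW
    have h1 : (P.presheaf.stalkSpecializes h).hom γ =
        (P.presheaf.germ (W p q V) (d η') hW').hom (diffSec p q V a') :=
      TopCat.Presheaf.germ_stalkSpecializes_apply P.presheaf hW h _
    show (P.residue (d η')).hom ((P.presheaf.stalkSpecializes h).hom γ) = 0
    rw [h1]
    show IsLocalRing.residue _ _ = 0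
    rw [IsLocalRing.residue_eq_zero_iff, IsLocalRing.mem_maximalIdeal, mem_nonunits_iff]
    intro hu
    have hu' := hu.map (d.stalkMap η').hom
    have hη1 : (𝟙 Xb : Xb ⟶ Xb) η' ∈ V := by
      have := hW'.1
      have h2 : p (d η') = η' := by rw [← Scheme.Hom.comp_apply, hdp]; rfl
      show η' ∈ V
      rw [← h2]; exact this
    rw [stalkMap_germ_diffSec' p q d hdp hdq V a' η' hW' hη1 hη1, sub_self] at hu'
    exact not_isUnit_zero hu'
  have hmem := Ideal.mem_map_of_mem (j.stalkMap w).hom hker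
  have hid : (𝟙 Xb : Xb ⟶ Xb) w ∈ V := hwV
  have hφV : φ w ∈ V := by rw [hφw]; exact hwV
  rw [hγ, stalkMap_germ_diffSec' p q j hjp hjq V a' w hW hid hφV] at hmem
  have e1 : (π.stalkMap w).hom ((X.presheaf.germ U (π w) hU).hom a) =
      (Xb.presheaf.germ V w hwV).hom a' :=
    Scheme.Hom.germ_stalkMap_apply π U w hU a
  have e2 := germ_phi_app Φ Q hle hΦapp π φ hφ U a w hU hφw
  rw [e1] at e2 ⊢
  rw [← e2]
  exact hmem

end Groth.Agent.Lib.Helper67.FixLocal
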