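import Mathlib

/-!
# Field-valued points and a Frobenius-like endomorphism (helper67)

`Φ : X ⟶ X` is the `Q`-th power on sections.  A point with values in a finite field with `Q`
elements is fixed by `Φ`; a point with values in a field `L` fixed by `Φ` factors through any
subfield with `Q` elements.
-/

set_option autoImplicit false
universe u

open CategoryTheory AlgebraicGeometry

namespace Groth.Agent.Lib.Helper67.FrobPts

/-- A field-valued point factors through an affine open. -/
theorem exists_factor_affine {X : Scheme.{u}} (L : Type u) [Field L]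
    (x : Spec (CommRingCat.of L) ⟶ X) :
    ∃ (U : X.Opens) (hU : IsAffineOpen U) (ψ : Γ(X, U) ⟶ CommRingCat.of L),
      x = Spec.map ψ ≫ hU.fromSpec := by
  let x₀ : X := x (IsLocalRing.closedPoint L)
  obtain ⟨U, hU, hxU, -⟩ := exists_isAffineOpen_mem_and_subset (x := x₀) (U := ⊤) trivial
  have hrange : Set.range x ⊆ Set.range hU.fromSpec := by
    rw [hU.range_fromSpec]
    rintro _ ⟨y, rfl⟩
    have : y = IsLocalRing.closedPoint L := Subsingleton.elim _ _
    rw [this]
    exact hxU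
  obtain ⟨ψ, hψ⟩ := Spec.map_surjective (IsOpenImmersion.lift hU.fromSpec x hrange)
  refine ⟨U, hU, ψ, ?_⟩
  rw [hψ, IsOpenImmersion.lift_fac]

variable {X : Scheme.{u}} (Φ : X ⟶ X) (Q : ℕ) (hle : ∀ U : X.Opens, U ≤ Φ ⁻¹ᵁ U)
  (hΦapp : ∀ (U : X.Opens) (s : Γ(X, U)), (Φ.appLE U U (hle U)).hom s = s ^ Q)

include hΦapp in
theorem comp_frob_eq {L : Type u} [Field L] (U : X.Opens) (hU : IsAffineOpen U)
    (ψ : Γ(X, U) ⟶ CommRingCat.of L) :
    (Spec.map ψ ≫ hU.fromSpec) ≫ Φ =
      Spec.map (CommRingCat.ofHom ((ψ.hom.comp (Φ.appLE U U (hle U)).hom))) ≫ hU.fromSpec := by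
  rw [Category.assoc, ← IsAffineOpen.SpecMap_appLE_fromSpec Φ hU hU (hle U), ← Category.assoc,
    ← Spec.map_comp]
  rfl

include hΦapp in
/-- A point with values in a field all of whose elements satisfy `c ^ Q = c` is fixed by `Φ`. -/
theorem comp_frob_of_pow_eq {L : Type u} [Field L] (hL : ∀ c : L, c ^ Q = c)
    (x : Spec (CommRingCat.of L) ⟶ X) : x ≫ Φ = x := by
  obtain ⟨U, hU, ψ, rfl⟩ := exists_factor_affine L x
  rw [comp_frob_eq Φ Q hle hΦapp U hU ψ]
  congr 2
  ext a
  show ψ.hom ((Φ.appLE U U (hle U)).hom a) = ψ.hom a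
  rw [hΦapp, map_pow, hL]

include hΦapp in
/-- A point with values in `L` fixed by `Φ` factors through `ι : L' → L` as soon as every root of
`X ^ Q - X` in `L` lies in the image of `ι`. -/
theorem exists_factor_of_comp_frob_eq {L L' : Type u} [Field L] [Field L'] (ι : L' →+* L)
    (hι : ∀ z : L, z ^ Q = z → ∃ c : L', ι c = z)
    (x : Spec (CommRingCat.of L) ⟶ X) (hx : x ≫ Φ = x) :
    ∃ g : Spec (CommRingCat.of L') ⟶ X, Spec.map (CommRingCat.ofHom ι) ≫ g = x := by
  obtain ⟨U, hU, ψ, rfl⟩ := exists_factor_affine L x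
  rw [comp_frob_eq Φ Q hle hΦapp U hU ψ] at hx
  have hmono : Mono hU.fromSpec := inferInstance
  have h1 := (cancel_mono hU.fromSpec).mp hx
  have h2 := Spec.map_injective h1
  have hpow : ∀ a : Γ(X, U), (ψ.hom a) ^ Q = ψ.hom a := by
    intro a
    have := congrArg (fun θ => θ.hom a) h2
    simp only [CommRingCat.hom_ofHom, RingHom.comp_apply] at this
    rw [hΦapp, map_pow] at this
    exact this
  have hrange : ∀ a : Γ(X, U), ψ.hom a ∈ ι.range := by
    intro a
    obtain ⟨c, hc⟩ := hι _ (hpow a)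
    exact ⟨c, hc⟩
  let e : L' ≃+* ι.range := RingEquiv.ofBijective ι.rangeRestrict
    ⟨fun a b hab => ι.injective (congrArg Subtype.val hab), ι.rangeRestrict_surjective⟩
  let ψ' : Γ(X, U) →+* L' := (e.symm : ι.range →+* L').comp (ψ.hom.codRestrict ι.range hrange)
  refine ⟨Spec.map (CommRingCat.ofHom ψ') ≫ hU.fromSpec, ?_⟩
  rw [← Category.assoc, ← Spec.map_comp]
  congr 2
  ext a
  show ι (e.symm (ψ.hom.codRestrict ι.range hrange a)) = ψ.hom a
  have : ι (e.symm (ψ.hom.codRestrict ι.range hrange a)) =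
      ((e (e.symm (ψ.hom.codRestrict ι.range hrange a)) : ι.range) : L) := rfl
  rw [this, RingEquiv.apply_symm_apply]
  rfl

end Groth.Agent.Lib.Helper67.FrobPts
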