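import Mathlib
import Groth.Agent.Lib.Helper67.ZetaCount
import Groth.Agent.Lib.Helper67.ZetaMult

/-!
# Extensions of every degree in the universe of the base field; the affine line (helper67)
-/

set_option autoImplicit false
universe u
open CategoryTheory AlgebraicGeometry

namespace Groth.Agent.Lib.Helper67

/-- A finite field has, in its own universe, a finite extension of every positive degree. -/
theorem exists_extension_finrank_eq (k : Type u) [Field k] [Finite k] (m : ℕ) (hm : 1 ≤ m) :
    ∃ (k' : Type u) (_ : Field k') (_ : Algebra k k') (_ : Finite k'),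
      Module.finrank k k' = m := by
  obtain ⟨p, hp⟩ := CharP.exists k
  haveI : Fact p.Prime := ⟨CharP.char_is_prime k p⟩
  haveI : NeZero m := ⟨by omega⟩
  refine ⟨ULift.{u} (FiniteField.Extension k p m), inferInstance, inferInstance, inferInstance, ?_⟩
  exact (LinearEquiv.finrank_eq ULift.moduleEquiv).trans (FiniteField.finrank_extension k p m)

section affineLine

variable {k : Type u} [Field k] [Finite k] {X : Scheme.{u}}
  (f : X ⟶ Spec (CommRingCat.of k)) [LocallyOfFiniteType f] [QuasiCompact f]

theorem pointCount_affineLine (k' : Type u) [Field k'] [Algebra k k'] :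
    SgaExt.pointCount ((𝔸(PUnit.{u + 1}; X) ↘ X) ≫ f) k' =
      SgaExt.pointCount f k' * Nat.card k' := by
  unfold SgaExt.pointCount
  let PA := {g : Spec (CommRingCat.of k') ⟶ 𝔸(PUnit.{u + 1}; X) //
    g ≫ ((𝔸(PUnit.{u + 1}; X) ↘ X) ≫ f) = Spec.map (CommRingCat.ofHom (algebraMap k k'))}
  let PX := {h : Spec (CommRingCat.of k') ⟶ X //
    h ≫ f = Spec.map (CommRingCat.ofHom (algebraMap k k'))}
  let V := PUnit.{u + 1} → Γ(Spec (CommRingCat.of k'), ⊤)
  let E : PA ≃ PX × V :=
    { toFun := fun g => (⟨g.1 ≫ (𝔸(PUnit.{u + 1}; X) ↘ X), by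
          rw [Category.assoc]; exact g.2⟩,
        fun i => g.1.appTop (AffineSpace.coord X i))
      invFun := fun hv => ⟨AffineSpace.homOfVector hv.1.1 hv.2, by
        rw [← Category.assoc, AffineSpace.homOfVector_over]; exact hv.1.2⟩
      left_inv := fun g => by
        apply Subtype.ext
        apply AffineSpace.hom_ext
        · simp only [AffineSpace.homOfVector_over]
        · intro i
          simp only [AffineSpace.homOfVector_appTop_coord]
      right_inv := fun hv => by
        apply Prod.ext
        · apply Subtype.ext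
          simp only [AffineSpace.homOfVector_over]
        · funext i
          simp only [AffineSpace.homOfVector_appTop_coord] }
  have hV : Nat.card V = Nat.card k' := by
    have e1 : V ≃ Γ(Spec (CommRingCat.of k'), ⊤) := Equiv.funUnique _ _
    have e2 : Γ(Spec (CommRingCat.of k'), ⊤) ≃ k' :=
      (Scheme.ΓSpecIso (CommRingCat.of k')).commRingCatIsoToRingEquiv.toEquiv
    exact Nat.card_congr (e1.trans e2)
  rw [Nat.card_congr E, Nat.card_prod, hV]

theorem nPts_affineLine (m : ℕ) :
    Zeta.nPts ((𝔸(PUnit.{u + 1}; X) ↘ X) ≫ f) m = Zeta.nPts f m * Nat.card k ^ m := by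
  rcases Nat.eq_zero_or_pos m with rfl | hm
  · simp [Zeta.nPts]
  obtain ⟨k', _, _, _, hk'⟩ := exists_extension_finrank_eq k m hm
  have h1 := pointCount_eq_nPts ((𝔸(PUnit.{u + 1}; X) ↘ X) ≫ f) k'
  have h2 := pointCount_eq_nPts f k'
  rw [hk'] at h1 h2
  rw [← h1, ← h2, pointCount_affineLine f k']
  congr 1
  rw [Module.natCard_eq_pow_finrank (K := k) (V := k'), hk']

theorem logZeta_affineLine :
    Zeta.logZeta ((𝔸(PUnit.{u + 1}; X) ↘ X) ≫ f) =
      PowerSeries.rescale (Nat.card k : ℚ) (Zeta.logZeta f) := by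
  ext m
  rw [PowerSeries.coeff_rescale]
  unfold Zeta.logZeta
  simp only [PowerSeries.coeff_mk]
  rw [nPts_affineLine f m]
  push_cast
  ring

theorem zetaFun_affineLine :
    Zeta.zetaFun ((𝔸(PUnit.{u + 1}; X) ↘ X) ≫ f) =
      PowerSeries.rescale (Nat.card k : ℚ) (Zeta.zetaFun f) := by
  unfold Zeta.zetaFun
  rw [logZeta_affineLine, PowerSeries.rescale_eq_subst, PowerSeries.rescale_eq_subst,
    PowerSeries.subst_comp_subst_apply]
  · exact PowerSeries.HasSubst.of_constantCoeff_zero' (constantCoeff_logZeta f)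
  · exact PowerSeries.HasSubst.smul_X' _

end affineLine

end Groth.Agent.Lib.Helper67
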