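import Mathlib
import Groth.Prelude.Def_W4c1zetahwZeta
import Groth.Prelude.Def_SgaExt
import Groth.Agent.Lib.Helper67.ZetaCount
import Groth.Agent.Lib.Helper67.ZetaAffine
import Groth.Agent.Lib.Helper67.FrobPts
import Groth.Agent.Lib.Helper67.FixRoots
import Groth.Agent.Lib.Helper67.FixLocal
import Groth.Agent.Lib.Helper97.FrobGen

/-!
# Counting the fixed points of a Frobenius-like endomorphism on the base change (helper67)

`X` of finite type over the finite field `k₀`, `Xb = X ×_{k₀} k` with `k` algebraically closed,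
`Φ` the `q^m`-Frobenius of `X` and `φ` its base change.  The points `w` of `Xb` where the graph
section `j = (id, φ)` and the diagonal section `d` agree are in bijection with the points of `X`
with values in the extension of degree `m` of `k₀`, so their number is `N_m`.
-/

set_option autoImplicit false
universe u

open CategoryTheory AlgebraicGeometry

namespace Groth.Agent.Lib.Helper67.FixCount

open Groth.Agent.Lib.Helper67.FrobPts Groth.Agent.Lib.Helper67.FixRoots
  Groth.Agent.Lib.Helper67.FixLocal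

variable {k₀ k : Type u} [Field k₀] [Finite k₀] [Field k] [IsAlgClosed k] [Algebra k₀ k]
  {X Xb P : Scheme.{u}} (f : X ⟶ Spec (CommRingCat.of k₀)) [LocallyOfFiniteType f] [QuasiCompact f]
  (gb : Xb ⟶ Spec (CommRingCat.of k)) (π : Xb ⟶ X)
  (hπ : IsPullback π gb f (Spec.map (CommRingCat.ofHom (algebraMap k₀ k))))
  (m : ℕ) (hm : 1 ≤ m)
  (Φ : X ⟶ X) (hle : ∀ U : X.Opens, U ≤ Φ ⁻¹ᵁ U)
  (hΦapp : ∀ (U : X.Opens) (s : Γ(X, U)), (Φ.appLE U U (hle U)).hom s = s ^ (Nat.card k₀ ^ m))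
  (φ : Xb ⟶ Xb) (hφ : φ ≫ π = π ≫ Φ) (hφg : φ ≫ gb = gb)
  (p q : P ⟶ Xb) (hP : IsPullback p q gb gb) (j d : Xb ⟶ P)
  (hjp : j ≫ p = 𝟙 Xb) (hjq : j ≫ q = φ) (hdp : d ≫ p = 𝟙 Xb) (hdq : d ≫ q = 𝟙 Xb)

include hπ hm hle hΦapp hφ hφg hP hjp hjq hdp hdq in
theorem natCard_fix_eq_nPts (hcl : ∀ w : Xb, j w = d w → IsClosed ({w} : Set Xb)) :
    Nat.card {w : Xb // j w = d w} = Zeta.nPts f m ∧ Finite {w : Xb // j w = d w} := by
  classical
  obtain ⟨k', _, _, _, hk'⟩ := Groth.Agent.Lib.Helper67.exists_extension_finrank_eq k₀ m hm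
  haveI : Module.Finite k₀ k' := Module.Finite.of_finite
  haveI : Algebra.IsAlgebraic k₀ k' := Algebra.IsAlgebraic.of_finite k₀ k'
  let ι : k' →ₐ[k₀] k := IsAlgClosed.lift
  set Q := Nat.card k₀ ^ m with hQ
  have hcard : Nat.card k' = Q := by
    rw [hQ, ← hk']
    exact Module.natCard_eq_pow_finrank (K := k₀) (V := k')
  have hL : ∀ c : k', c ^ Q = c := by
    intro c
    haveI : Fintype k' := Fintype.ofFinite k'
    rw [← hcard, Nat.card_eq_fintype_card]
    exact FiniteField.pow_card c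
  have hlftg : LocallyOfFiniteType gb :=
    MorphismProperty.of_isPullback hπ (inferInstance : LocallyOfFiniteType f)
  have hepi : Epi (Spec.map (CommRingCat.ofHom (ι : k' →+* k))) :=
    Groth.Agent.Lib.Helper97.FrobGen.epi_SpecMap_of_fields _
  have hιcomp : Spec.map (CommRingCat.ofHom (ι : k' →+* k)) ≫
      Spec.map (CommRingCat.ofHom (algebraMap k₀ k')) =
      Spec.map (CommRingCat.ofHom (algebraMap k₀ k)) := by
    rw [← Spec.map_comp]
    congr 1
    ext c
    exact ι.commutes c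
  -- the source of the bijection
  let Src := {g : Spec (CommRingCat.of k') ⟶ X //
    g ≫ f = Spec.map (CommRingCat.ofHom (algebraMap k₀ k'))}
  have hcomm : ∀ g : Src, (Spec.map (CommRingCat.ofHom (ι : k' →+* k)) ≫ g.1) ≫ f =
      𝟙 _ ≫ Spec.map (CommRingCat.ofHom (algebraMap k₀ k)) := by
    intro g
    rw [Category.assoc, g.2, hιcomp, Category.id_comp]
  let σ : Src → (Spec (CommRingCat.of k) ⟶ Xb) := fun g =>
    hπ.lift (Spec.map (CommRingCat.ofHom (ι : k' →+* k)) ≫ g.1) (𝟙 _) (hcomm g)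
  have hσπ : ∀ g : Src, σ g ≫ π = Spec.map (CommRingCat.ofHom (ι : k' →+* k)) ≫ g.1 :=
    fun g => hπ.lift_fst _ _ _
  have hσg : ∀ g : Src, σ g ≫ gb = 𝟙 _ := fun g => hπ.lift_snd _ _ _
  have hσφ : ∀ g : Src, σ g ≫ φ = σ g := by
    intro g
    apply hπ.hom_ext
    · rw [Category.assoc, hφ, ← Category.assoc, hσπ, Category.assoc,
        comp_frob_of_pow_eq Φ Q hle hΦapp hL g.1]
    · rw [Category.assoc, hφg]
  have hσjd : ∀ g : Src, σ g ≫ j = σ g ≫ d := by
    intro g
    apply hP.hom_ext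
    · rw [Category.assoc, Category.assoc, hjp, hdp]
    · rw [Category.assoc, Category.assoc, hjq, hdq, hσφ, Category.comp_id]
  let pt : Spec (CommRingCat.of k) := IsLocalRing.closedPoint k
  let Ψ : Src → {w : Xb // j w = d w} := fun g => ⟨σ g pt, by
    rw [← Scheme.Hom.comp_apply, ← Scheme.Hom.comp_apply, hσjd]⟩
  have hΨinj : Function.Injective Ψ := by
    intro g g' h
    have h1 : σ g pt = σ g' pt := congrArg Subtype.val h
    have h2 : σ g = σ g' := ext_of_apply_closedPoint_eq gb (hσg g) (hσg g') h1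
    have h3 : Spec.map (CommRingCat.ofHom (ι : k' →+* k)) ≫ g.1 =
        Spec.map (CommRingCat.ofHom (ι : k' →+* k)) ≫ g'.1 := by
      rw [← hσπ, ← hσπ, h2]
    exact Subtype.ext ((cancel_epi _).mp h3)
  have hΨsurj : Function.Surjective Ψ := by
    rintro ⟨w, hw⟩
    have hwc : IsClosed ({w} : Set Xb) := hcl w hw
    let τ : Spec (CommRingCat.of k) ⟶ Xb := pointOfClosedPoint gb w hwc
    have hτg : τ ≫ gb = 𝟙 _ := pointOfClosedPoint_comp gb w hwc
    have hτw : τ pt = w := pointOfClosedPoint_apply gb w hwc pt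
    have hφw : φ w = w := phi_apply_of_eq φ q j d hjq hdq w hw
    have hτφ : τ ≫ φ = τ := by
      refine ext_of_apply_closedPoint_eq gb ?_ hτg ?_
      · rw [Category.assoc, hφg, hτg]
      · rw [Scheme.Hom.comp_apply, hτw, hφw]
    have hxΦ : (τ ≫ π) ≫ Φ = τ ≫ π := by
      rw [Category.assoc, ← hφ, ← Category.assoc, hτφ]
    obtain ⟨g, hg⟩ := exists_factor_of_comp_frob_eq Φ Q hle hΦapp (ι : k' →+* k)
      (fun z hz => exists_of_pow_eq_of_card Q hcard (ι : k' →+* k) z hz) (τ ≫ π) hxΦ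
    have hgf : g ≫ f = Spec.map (CommRingCat.ofHom (algebraMap k₀ k')) := by
      rw [← cancel_epi (Spec.map (CommRingCat.ofHom (ι : k' →+* k))), ← Category.assoc, hg,
        Category.assoc, hπ.w, ← Category.assoc, hτg, Category.id_comp, hιcomp]
    refine ⟨⟨g, hgf⟩, ?_⟩
    apply Subtype.ext
    show σ ⟨g, hgf⟩ pt = w
    have : σ ⟨g, hgf⟩ = τ := by
      apply hπ.hom_ext
      · rw [hσπ, hg]
      · rw [hσg, hτg]
    rw [this, hτw]
  have hfinSrc : Finite Src := by
    haveI : Finite (Spec (CommRingCat.of k') ⟶ X) :=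
      Groth.Agent.Lib.Helper67.finite_points_finField f k'
    exact Subtype.finite
  refine ⟨?_, Finite.of_surjective Ψ hΨsurj⟩
  rw [← Nat.card_eq_of_bijective Ψ ⟨hΨinj, hΨsurj⟩]
  have := Groth.Agent.Lib.Helper67.pointCount_eq_nPts f k'
  rw [hk'] at this
  exact this

end Groth.Agent.Lib.Helper67.FixCount
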