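import Mathlib
import Groth.Prelude.Def_Cyc
import Groth.Agent.Lib.Helper67.FixLocal
import Groth.Agent.Lib.Helper67.FixAlg

/-!
# Multiplicity one of the fixed points of a Frobenius-like endomorphism (helper67)
-/

set_option autoImplicit false
universe u

open CategoryTheory AlgebraicGeometry

namespace Groth.Agent.Lib.Helper67.FixMult

open Groth.Agent.Lib.Helper67.FixLocal

section gen

variable {k₀ k : Type u} [Field k₀] [Field k] [Algebra k₀ k] {X Xb : Scheme.{u}}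
  (f : X ⟶ Spec (CommRingCat.of k₀)) (gb : Xb ⟶ Spec (CommRingCat.of k)) (π : Xb ⟶ X)
  (hπ : IsPullback π gb f (Spec.map (CommRingCat.ofHom (algebraMap k₀ k))))

include hπ in
/-- Sections of the base change over the preimage of an affine open are generated by the pulled
back sections and the constants. -/
theorem subring_eq_top (U : X.Opens) (hU : IsAffineOpen U) (B₀ : Subring Γ(Xb, π ⁻¹ᵁ U))
    (h1 : ∀ a : Γ(X, U), (π.app U).hom a ∈ B₀)
    (h2 : ∀ c : Γ(Spec (CommRingCat.of k), ⊤), (gb.appLE ⊤ (π ⁻¹ᵁ U) le_top).hom c ∈ B₀) :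
    B₀ = ⊤ := by
  have hUY : π ⁻¹ᵁ U = π ⁻¹ᵁ U ⊓ gb ⁻¹ᵁ ⊤ := by
    rw [Scheme.Hom.preimage_top, inf_top_eq]
  have hiso := isIso_pushoutSection_of_isAffineOpen hπ (US := ⊤) (UT := ⊤) (UX := U)
    le_top le_top hUY (isAffineOpen_top _) (isAffineOpen_top _) hU
  have hpo := (isIso_pushoutSection_iff hπ (US := ⊤) (UT := ⊤) (UX := U) le_top le_top hUY).mp hiso
  -- corestrictions
  have e1 : π.appLE U (π ⁻¹ᵁ U) le_rfl = π.app U := Scheme.Hom.appLE_eq_app π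
  let inl' : Γ(X, U) ⟶ CommRingCat.of B₀ :=
    CommRingCat.ofHom ((π.appLE U (π ⁻¹ᵁ U) le_rfl).hom.codRestrict B₀ (fun a => by
      rw [e1]; exact h1 a))
  let inr' : Γ(Spec (CommRingCat.of k), ⊤) ⟶ CommRingCat.of B₀ :=
    CommRingCat.ofHom ((gb.appLE ⊤ (π ⁻¹ᵁ U) le_top).hom.codRestrict B₀ (fun c => h2 c))
  let incl : CommRingCat.of B₀ ⟶ Γ(Xb, π ⁻¹ᵁ U) := CommRingCat.ofHom B₀.subtype
  have hl : inl' ≫ incl = π.appLE U (π ⁻¹ᵁ U) le_rfl := by
    ext a; rfl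
  have hr : inr' ≫ incl = gb.appLE ⊤ (π ⁻¹ᵁ U) le_top := by
    ext c; rfl
  have hmono : Mono incl :=
    ConcreteCategory.mono_of_injective incl Subtype.val_injective
  have hw : f.appLE ⊤ U le_top ≫ inl' =
      (Spec.map (CommRingCat.ofHom (algebraMap k₀ k))).appLE ⊤ ⊤ le_top ≫ inr' := by
    rw [← cancel_mono incl, Category.assoc, Category.assoc, hl, hr]
    exact hpo.w
  let r := hpo.desc inl' inr' hw
  have hr1 : r ≫ incl = 𝟙 _ := by
    apply hpo.hom_ext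
    · rw [← Category.assoc, hpo.inl_desc, hl, Category.comp_id]
    · rw [← Category.assoc, hpo.inr_desc, hr, Category.comp_id]
  rw [eq_top_iff]
  intro b _
  have : b = (incl.hom (r.hom b)) := by
    have := congrArg (fun ψ => ψ.hom b) hr1
    exact this.symm
  rw [this]
  exact (r.hom b).2

end gen

section main

variable {k₀ k : Type u} [Field k₀] [Field k] [IsAlgClosed k] [Algebra k₀ k]
  {X Xb P : Scheme.{u}}
  (f : X ⟶ Spec (CommRingCat.of k₀)) (gb : Xb ⟶ Spec (CommRingCat.of k)) (π : Xb ⟶ X)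
  (hπ : IsPullback π gb f (Spec.map (CommRingCat.ofHom (algebraMap k₀ k))))
  (pc : ℕ) [Fact pc.Prime] [CharP k pc] (r : ℕ) (hr : r ≠ 0)
  (Φ : X ⟶ X) (hle : ∀ U : X.Opens, U ≤ Φ ⁻¹ᵁ U)
  (hΦapp : ∀ (U : X.Opens) (s : Γ(X, U)), (Φ.appLE U U (hle U)).hom s = s ^ (pc ^ r))
  (φ : Xb ⟶ Xb) (hφ : φ ≫ π = π ≫ Φ)
  (p q : P ⟶ Xb) (j d : Xb ⟶ P)
  (hjp : j ≫ p = 𝟙 Xb) (hjq : j ≫ q = φ) (hdp : d ≫ p = 𝟙 Xb) (hdq : d ≫ q = 𝟙 Xb)

include hπ hr hle hΦapp hφ hjp hjq hdp hdq in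
/-- At a fixed point, the ideal of the diagonal pulls back to the maximal ideal, and the point is
closed. -/
theorem map_ker_eq_maximalIdeal [JacobsonSpace Xb] (w η' : Xb) (hw : j w = d w)
    (h : d η' ⤳ j w) :
    Ideal.map (j.stalkMap w).hom (RingHom.ker (Cyc.specMap (j w) (d η') h)) =
        IsLocalRing.maximalIdeal (Xb.presheaf.stalk w) ∧ IsClosed ({w} : Set Xb) := by
  obtain ⟨U, hU, hwU, -⟩ := exists_isAffineOpen_mem_and_subset (x := π w) (U := ⊤) trivial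
  have : IsAffineHom π := MorphismProperty.of_isPullback hπ.flip inferInstance
  set V : Xb.Opens := π ⁻¹ᵁ U with hVdef
  have hV : IsAffineOpen V := hU.preimage π
  have hwV : w ∈ V := hwU
  let germ : Γ(Xb, V) →+* Xb.presheaf.stalk w := (Xb.presheaf.germ V w hwV).hom
  let str : k →+* Γ(Xb, V) :=
    (gb.appLE ⊤ V le_top).hom.comp (Scheme.ΓSpecIso (CommRingCat.of k)).inv.hom
  set 𝔭 : Ideal Γ(Xb, V) := (hV.primeIdealOf ⟨w, hwV⟩).asIdeal with h𝔭def
  letI : Algebra Γ(Xb, V) (Xb.presheaf.stalk w) :=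
    TopCat.Presheaf.algebra_section_stalk Xb.presheaf ⟨w, hwV⟩
  have hloc : IsLocalization.AtPrime (Xb.presheaf.stalk w) 𝔭 := hV.isLocalization_stalk ⟨w, hwV⟩
  have h𝔭 : 𝔭 = Ideal.comap germ (IsLocalRing.maximalIdeal (Xb.presheaf.stalk w)) :=
    (IsLocalization.AtPrime.under_maximalIdeal (Xb.presheaf.stalk w) 𝔭).symm
  have hmap : Ideal.map germ 𝔭 = IsLocalRing.maximalIdeal (Xb.presheaf.stalk w) :=
    IsLocalization.AtPrime.map_eq_maximalIdeal 𝔭 (Xb.presheaf.stalk w)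
  set I := Ideal.map (j.stalkMap w).hom (RingHom.ker (Cyc.specMap (j w) (d η') h)) with hIdef
  have hI : I ≤ IsLocalRing.maximalIdeal (Xb.presheaf.stalk w) := by
    have hker : RingHom.ker (Cyc.specMap (j w) (d η') h) ≤ IsLocalRing.maximalIdeal _ :=
      IsLocalRing.le_maximalIdeal (RingHom.ker_ne_top _)
    refine (Ideal.map_mono hker).trans ?_
    rw [Ideal.map_le_iff_le_comap]
    intro a ha
    rw [Ideal.mem_comap, IsLocalRing.mem_maximalIdeal, mem_nonunits_iff]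
    rw [IsLocalRing.mem_maximalIdeal, mem_nonunits_iff] at ha
    intro hu
    exact ha ((isUnit_map_iff _ a).mp hu)
  have hgen : ∀ B₀ : Subring Γ(Xb, V), Set.range (π.app U).hom ⊆ B₀ → (∀ c, str c ∈ B₀) →
      B₀ = ⊤ := by
    intro B₀ h1 h2
    refine subring_eq_top f gb π hπ U hU B₀ (fun a => h1 ⟨a, rfl⟩) (fun c => ?_)
    have := h2 ((Scheme.ΓSpecIso (CommRingCat.of k)).hom.hom c)
    have e : (Scheme.ΓSpecIso (CommRingCat.of k)).inv.hom
        ((Scheme.ΓSpecIso (CommRingCat.of k)).hom.hom c) = c := by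
      rw [← CommRingCat.comp_apply, Iso.hom_inv_id]; rfl
    simp only [str, RingHom.comp_apply] at this
    rw [e] at this
    exact this
  have hT : ∀ t ∈ Set.range (π.app U).hom, germ t - germ t ^ (pc ^ r) ∈ I := by
    rintro _ ⟨a, rfl⟩
    have e1 : (π.stalkMap w).hom ((X.presheaf.germ U (π w) hwU).hom a) =
        germ ((π.app U).hom a) :=
      Scheme.Hom.germ_stalkMap_apply π U w hwU a
    rw [← e1]
    exact sub_pow_mem Φ (pc ^ r) hle hΦapp π φ hφ p q j d hjp hjq hdp hdq w η' hw h _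
  obtain ⟨h1, h2⟩ := Groth.Agent.Lib.Helper67.FixAlg.ideal_eq_maximalIdeal_of_gen pc r hr germ str
    𝔭 h𝔭 hmap I hI _ hgen hT
  refine ⟨h1, ?_⟩
  -- closedness
  have hcl : IsClosed ({hV.primeIdealOf ⟨w, hwV⟩} : Set (PrimeSpectrum Γ(Xb, V))) :=
    (PrimeSpectrum.isClosed_singleton_iff_isMaximal _).mpr h2
  have hmem : hV.primeIdealOf ⟨w, hwV⟩ ∈ closedPoints (Spec Γ(Xb, V)) := hcl
  have hoe : Topology.IsOpenEmbedding hV.fromSpec := hV.fromSpec.isOpenEmbedding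
  rw [← hoe.preimage_closedPoints] at hmem
  have h3 : hV.fromSpec (hV.primeIdealOf ⟨w, hwV⟩) = w := hV.fromSpec_primeIdealOf ⟨w, hwV⟩
  have h4 : hV.fromSpec (hV.primeIdealOf ⟨w, hwV⟩) ∈ closedPoints Xb := hmem
  rw [h3] at h4
  exact h4

end main

end Groth.Agent.Lib.Helper67.FixMult
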