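import Mathlib
import Groth.Agent.Lib.Helper67.FixMult

/-!
# Equalizers of a Frobenius-like endomorphism and the identity are reduced (helper67)
-/

set_option autoImplicit false
universe u

open CategoryTheory AlgebraicGeometry

namespace Groth.Agent.Lib.Helper67.FixIdeal

open Groth.Agent.Lib.Helper67.FixLocal Groth.Agent.Lib.Helper67.FixGerm
  Groth.Agent.Lib.Helper67.FixMult

variable {k₀ k : Type u} [Field k₀] [Field k] [IsAlgClosed k] [Algebra k₀ k]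
  {X Xb : Scheme.{u}}
  (f : X ⟶ Spec (CommRingCat.of k₀)) (gb : Xb ⟶ Spec (CommRingCat.of k)) (π : Xb ⟶ X)
  (hπ : IsPullback π gb f (Spec.map (CommRingCat.ofHom (algebraMap k₀ k))))
  (pc : ℕ) [Fact pc.Prime] [CharP k pc] (r : ℕ) (hr : r ≠ 0)

include hπ hr in
/-- An ideal of the local ring at `w`, contained in the maximal ideal and containing all
`t - t ^ Q` for `t` coming from `X`, is the maximal ideal; and then `w` is a closed point. -/
theorem ideal_eq_maximalIdeal_of_sub_pow_mem [JacobsonSpace Xb] (w : Xb)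
    (I : Ideal (Xb.presheaf.stalk w))
    (hI : I ≤ IsLocalRing.maximalIdeal (Xb.presheaf.stalk w))
    (hT : ∀ s : X.presheaf.stalk (π w),
      (π.stalkMap w).hom s - ((π.stalkMap w).hom s) ^ (pc ^ r) ∈ I) :
    I = IsLocalRing.maximalIdeal (Xb.presheaf.stalk w) ∧ IsClosed ({w} : Set Xb) := by
  obtain ⟨U, hU, hwU, -⟩ := exists_isAffineOpen_mem_and_subset (x := π w) (U := ⊤) trivial
  have : IsAffineHom π := MorphismProperty.of_isPullback hπ.flip inferInstance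
  set V : Xb.Opens := π ⁻¹ᵁ U with hVdef
  have hV : IsAffineOpen V := hU.preimage π
  have hwV : w ∈ V := hwU
  let germ : Γ(Xb, V) →+* Xb.presheaf.stalk w := (Xb.presheaf.germ V w hwV).hom
  let str : k →+* Γ(Xb, V) :=
    (gb.appLE ⊤ V le_top).hom.comp (Scheme.ΓSpecIso (CommRingCat.of k)).inv.hom
  set 𝔭 : Ideal Γ(Xb, V) := (hV.primeIdealOf ⟨w, hwV⟩).asIdeal with h𝔭def
  letI : Algebra Γ(Xb, V) (Xb.presheaf.stalk w) :=
    TopCat.Presheaf.algebra_section_stalk Xb.presheaf ⟨w, hwV⟩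
  have hloc : IsLocalization.AtPrime (Xb.presheaf.stalk w) 𝔭 := hV.isLocalization_stalk ⟨w, hwV⟩
  have h𝔭 : 𝔭 = Ideal.comap germ (IsLocalRing.maximalIdeal (Xb.presheaf.stalk w)) :=
    (IsLocalization.AtPrime.under_maximalIdeal (Xb.presheaf.stalk w) 𝔭).symm
  have hmap : Ideal.map germ 𝔭 = IsLocalRing.maximalIdeal (Xb.presheaf.stalk w) :=
    IsLocalization.AtPrime.map_eq_maximalIdeal 𝔭 (Xb.presheaf.stalk w)
  have hgen : ∀ B₀ : Subring Γ(Xb, V), Set.range (π.app U).hom ⊆ B₀ → (∀ c, str c ∈ B₀) →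
      B₀ = ⊤ := by
    intro B₀ h1 h2
    refine subring_eq_top f gb π hπ U hU B₀ (fun a => h1 ⟨a, rfl⟩) (fun c => ?_)
    have := h2 ((Scheme.ΓSpecIso (CommRingCat.of k)).hom.hom c)
    have e : (Scheme.ΓSpecIso (CommRingCat.of k)).inv.hom
        ((Scheme.ΓSpecIso (CommRingCat.of k)).hom.hom c) = c := by
      rw [← CommRingCat.comp_apply, Iso.hom_inv_id]; rfl
    simp only [str, RingHom.comp_apply] at this
    rw [e] at this
    exact this
  have hT' : ∀ t ∈ Set.range (π.app U).hom, germ t - germ t ^ (pc ^ r) ∈ I := by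
    rintro _ ⟨a, rfl⟩
    have e1 : (π.stalkMap w).hom ((X.presheaf.germ U (π w) hwU).hom a) =
        germ ((π.app U).hom a) :=
      Scheme.Hom.germ_stalkMap_apply π U w hwU a
    rw [← e1]
    exact hT _
  obtain ⟨h1, h2⟩ := Groth.Agent.Lib.Helper67.FixAlg.ideal_eq_maximalIdeal_of_gen pc r hr germ str
    𝔭 h𝔭 hmap I hI _ hgen hT'
  refine ⟨h1, ?_⟩
  have hcl : IsClosed ({hV.primeIdealOf ⟨w, hwV⟩} : Set (PrimeSpectrum Γ(Xb, V))) :=
    (PrimeSpectrum.isClosed_singleton_iff_isMaximal _).mpr h2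
  have hmem : hV.primeIdealOf ⟨w, hwV⟩ ∈ closedPoints (Spec Γ(Xb, V)) := hcl
  have hoe : Topology.IsOpenEmbedding hV.fromSpec := hV.fromSpec.isOpenEmbedding
  rw [← hoe.preimage_closedPoints] at hmem
  have h3 : hV.fromSpec (hV.primeIdealOf ⟨w, hwV⟩) = w := hV.fromSpec_primeIdealOf ⟨w, hwV⟩
  have h4 : hV.fromSpec (hV.primeIdealOf ⟨w, hwV⟩) ∈ closedPoints Xb := hmem
  rw [h3] at h4
  exact h4

variable (Φ : X ⟶ X) (hle : ∀ U : X.Opens, U ≤ Φ ⁻¹ᵁ U)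
  (hΦapp : ∀ (U : X.Opens) (s : Γ(X, U)), (Φ.appLE U U (hle U)).hom s = s ^ (pc ^ r))
  (φ : Xb ⟶ Xb) (hφ : φ ≫ π = π ≫ Φ)

include hle hΦapp hφ in
/-- If `ε ≫ φ = ε`, the stalk map of `ε` kills `t - t ^ Q` for `t` coming from `X`. -/
theorem stalkMap_sub_pow_eq_zero {Z : Scheme.{u}} (ε : Z ⟶ Xb) (hε : ε ≫ φ = ε) (z : Z)
    (s : X.presheaf.stalk (π (ε z))) :
    (ε.stalkMap z).hom ((π.stalkMap (ε z)).hom s - ((π.stalkMap (ε z)).hom s) ^ (pc ^ r)) = 0 := by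
  obtain ⟨U, hU, a, rfl⟩ := X.presheaf.exists_germ_eq s
  have hφw : φ (ε z) = ε z := by
    rw [← Scheme.Hom.comp_apply, hε]
  have e1 : (π.stalkMap (ε z)).hom ((X.presheaf.germ U (π (ε z)) hU).hom a) =
      (Xb.presheaf.germ (π ⁻¹ᵁ U) (ε z) hU).hom ((π.app U).hom a) :=
    Scheme.Hom.germ_stalkMap_apply π U (ε z) hU a
  have e2 := germ_phi_app Φ (pc ^ r) hle hΦapp π φ hφ U a (ε z) hU hφw
  rw [← e2, e1, map_sub, sub_eq_zero]
  have hz1 : ε z ∈ π ⁻¹ᵁ U := hU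
  have hz2 : ε z ∈ φ ⁻¹ᵁ (π ⁻¹ᵁ U) := by
    show φ (ε z) ∈ π ⁻¹ᵁ U
    rw [hφw]; exact hU
  have h1 : (ε.stalkMap z).hom ((Xb.presheaf.germ (π ⁻¹ᵁ U) (ε z) hz1).hom ((π.app U).hom a)) =
      (Z.presheaf.germ (ε ⁻¹ᵁ (π ⁻¹ᵁ U)) z hz1).hom ((ε.app (π ⁻¹ᵁ U)).hom ((π.app U).hom a)) :=
    Scheme.Hom.germ_stalkMap_apply ε (π ⁻¹ᵁ U) z hz1 _
  have h2 : (ε.stalkMap z).hom ((Xb.presheaf.germ (φ ⁻¹ᵁ (π ⁻¹ᵁ U)) (ε z) hz2).hom
        ((φ.app (π ⁻¹ᵁ U)).hom ((π.app U).hom a))) =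
      (Z.presheaf.germ ((ε ≫ φ) ⁻¹ᵁ (π ⁻¹ᵁ U)) z hz2).hom
        (((ε ≫ φ).app (π ⁻¹ᵁ U)).hom ((π.app U).hom a)) :=
    Scheme.Hom.germ_stalkMap_apply ε (φ ⁻¹ᵁ (π ⁻¹ᵁ U)) z hz2 _
  rw [h1, h2]
  exact (germ_app_congr hε (π ⁻¹ᵁ U) ((π.app U).hom a) z hz2).symm

include hπ hr hle hΦapp hφ in
/-- A preimmersion `ε` into the base change with `ε ≫ φ = ε` has reduced source, and every point of
its image is closed. -/
theorem isReduced_of_comp_eq [JacobsonSpace Xb] {Z : Scheme.{u}} (ε : Z ⟶ Xb) [IsPreimmersion ε]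
    (hε : ε ≫ φ = ε) : IsReduced Z ∧ ∀ z : Z, IsClosed ({ε z} : Set Xb) := by
  have key : ∀ z : Z, RingHom.ker (ε.stalkMap z).hom =
      IsLocalRing.maximalIdeal (Xb.presheaf.stalk (ε z)) ∧ IsClosed ({ε z} : Set Xb) := by
    intro z
    refine ideal_eq_maximalIdeal_of_sub_pow_mem f gb π hπ pc r hr (ε z) _ ?_ ?_
    · intro x hx
      rw [RingHom.mem_ker] at hx
      rw [IsLocalRing.mem_maximalIdeal, mem_nonunits_iff]
      intro hu
      have := hu.map (ε.stalkMap z).hom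
      rw [hx] at this
      exact not_isUnit_zero this
    · intro s
      rw [RingHom.mem_ker]
      exact stalkMap_sub_pow_eq_zero π pc r Φ hle hΦapp φ hφ ε hε z s
  refine ⟨?_, fun z => (key z).2⟩
  haveI : ∀ z : Z, _root_.IsReduced (Z.presheaf.stalk z) := by
    intro z
    constructor
    intro x hx
    obtain ⟨y, rfl⟩ := ε.stalkMap_surjective z x
    obtain ⟨n, hn⟩ := hx
    have h1 : y ^ n ∈ RingHom.ker (ε.stalkMap z).hom := by
      rw [RingHom.mem_ker, map_pow]; exact hn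
    rw [(key z).1] at h1
    have h2 : y ∈ IsLocalRing.maximalIdeal (Xb.presheaf.stalk (ε z)) :=
      (IsLocalRing.maximalIdeal.isMaximal _).isPrime.mem_of_pow_mem n h1
    rw [← (key z).1, RingHom.mem_ker] at h2
    exact h2
  exact isReduced_of_isReduced_stalk Z

end Groth.Agent.Lib.Helper67.FixIdeal
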