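import Mathlib
import Groth.Prelude.Def_FinFr
import Groth.Agent.Lib.Helper67.FixIdeal
import Groth.Agent.Lib.Helper67.FixCount

/-!
# The fixed-point scheme of the Frobenius on the base change to an algebraically closed field (helper67)
-/

set_option autoImplicit false
universe u

open CategoryTheory CategoryTheory.Limits AlgebraicGeometry

namespace Groth.Agent.Lib.Helper67.FixScheme

section general

variable {Y S : Scheme.{u}} (p : Y ⟶ S) (F : Y ⟶ Y) (hF : F ≫ p = p)

/-- the graph section -/
noncomputable abbrev gr : Y ⟶ pullback p p := pullback.lift (𝟙 Y) F (by rw [hF, Category.id_comp])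

/-- the diagonal section -/
noncomputable abbrev dg : Y ⟶ pullback p p := pullback.lift (𝟙 Y) (𝟙 Y) rfl

theorem fst_eq_snd : pullback.fst (gr p F hF) (dg p) = pullback.snd (gr p F hF) (dg p) := by
  have hc : pullback.fst (gr p F hF) (dg p) ≫ gr p F hF = pullback.snd (gr p F hF) (dg p) ≫ dg p :=
    pullback.condition
  calc pullback.fst (gr p F hF) (dg p)
      = pullback.fst (gr p F hF) (dg p) ≫ gr p F hF ≫ pullback.fst p p := by
        rw [pullback.lift_fst, Category.comp_id]
    _ = pullback.snd (gr p F hF) (dg p) ≫ dg p ≫ pullback.fst p p := by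
        rw [← Category.assoc, hc, Category.assoc]
    _ = pullback.snd (gr p F hF) (dg p) := by rw [pullback.lift_fst, Category.comp_id]

theorem fst_comp : pullback.fst (gr p F hF) (dg p) ≫ F = pullback.fst (gr p F hF) (dg p) := by
  have hc : pullback.fst (gr p F hF) (dg p) ≫ gr p F hF = pullback.snd (gr p F hF) (dg p) ≫ dg p :=
    pullback.condition
  calc pullback.fst (gr p F hF) (dg p) ≫ F
      = pullback.fst (gr p F hF) (dg p) ≫ gr p F hF ≫ pullback.snd p p := by
        rw [pullback.lift_snd]
    _ = pullback.snd (gr p F hF) (dg p) ≫ dg p ≫ pullback.snd p p := by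
        rw [← Category.assoc, hc, Category.assoc]
    _ = pullback.snd (gr p F hF) (dg p) := by rw [pullback.lift_snd, Category.comp_id]
    _ = pullback.fst (gr p F hF) (dg p) := (fst_eq_snd p F hF).symm

instance : IsImmersion (pullback.fst (gr p F hF) (dg p)) := by
  have : IsImmersion (dg p) := inferInstanceAs (IsImmersion (pullback.diagonal p))
  exact MorphismProperty.pullback_fst _ _ this

theorem gr_apply_eq_dg_apply (z : ↥(pullback (gr p F hF) (dg p))) :
    gr p F hF (pullback.fst (gr p F hF) (dg p) z) = dg p (pullback.fst (gr p F hF) (dg p) z) := by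
  have hc : pullback.fst (gr p F hF) (dg p) ≫ gr p F hF = pullback.snd (gr p F hF) (dg p) ≫ dg p :=
    pullback.condition
  rw [← Scheme.Hom.comp_apply, hc, ← fst_eq_snd, Scheme.Hom.comp_apply]

end general

variable {k : Type u} [Field k] [Finite k] (K : Type u) [Field K] [IsAlgClosed K] [Algebra k K]
  {X : Scheme.{u}} (f : X ⟶ Spec (CommRingCat.of k)) [LocallyOfFiniteType f]
  (FX : X ⟶ X) (hle : ∀ U : X.Opens, U ≤ FX ⁻¹ᵁ U)
  (hFapp : ∀ (U : X.Opens) (s : Γ(X, U)), (FX.appLE U U (hle U)).hom s = s ^ Nat.card k)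
  (F : FinFr.ext K f ⟶ FinFr.ext K f)
  (hF1 : F ≫ FinFr.extπ K f = FinFr.extπ K f ≫ FX)
  (hF2 : F ≫ FinFr.extStr K f = FinFr.extStr K f)

include hFapp hF1 in
theorem isReduced_pullback :
    IsReduced (pullback (gr (FinFr.extStr K f) F hF2) (dg (FinFr.extStr K f))) ∧
      ∀ z : ↥(pullback (gr (FinFr.extStr K f) F hF2) (dg (FinFr.extStr K f))),
        IsClosed ({pullback.fst (gr (FinFr.extStr K f) F hF2) (dg (FinFr.extStr K f)) z} :
          Set ↥(FinFr.ext K f)) := by
  classical
  haveI : Fintype k := Fintype.ofFinite k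
  obtain ⟨pc, hpc⟩ := CharP.exists k
  haveI := hpc
  obtain ⟨⟨e, he0⟩, hpp, hcard⟩ := FiniteField.card k pc
  haveI : Fact pc.Prime := ⟨hpp⟩
  have hq : Nat.card k = pc ^ e := by rw [Nat.card_eq_fintype_card]; exact hcard
  haveI : CharP K pc := charP_of_injective_algebraMap (algebraMap k K).injective pc
  have hπ : IsPullback (FinFr.extπ K f) (FinFr.extStr K f) f
      (Spec.map (CommRingCat.ofHom (algebraMap k K))) := IsPullback.of_hasPullback _ _
  haveI : LocallyOfFiniteType (FinFr.extStr K f) :=
    MorphismProperty.of_isPullback hπ (inferInstance : LocallyOfFiniteType f)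
  haveI : JacobsonSpace ↥(FinFr.ext K f) := LocallyOfFiniteType.jacobsonSpace (FinFr.extStr K f)
  have happ' : ∀ (U : X.Opens) (s : Γ(X, U)), (FX.appLE U U (hle U)).hom s = s ^ (pc ^ e) := by
    intro U s; rw [hFapp, hq]
  exact Groth.Agent.Lib.Helper67.FixIdeal.isReduced_of_comp_eq f (FinFr.extStr K f)
    (FinFr.extπ K f) hπ pc e he0.ne' FX hle happ' F hF1
    (pullback.fst (gr (FinFr.extStr K f) F hF2) (dg (FinFr.extStr K f)))
    (fst_comp (FinFr.extStr K f) F hF2)

include hFapp hF1 in
theorem finite_pullback [QuasiCompact f] :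
    Finite ↥(pullback (gr (FinFr.extStr K f) F hF2) (dg (FinFr.extStr K f))) := by
  classical
  have hπ : IsPullback (FinFr.extπ K f) (FinFr.extStr K f) f
      (Spec.map (CommRingCat.ofHom (algebraMap k K))) := IsPullback.of_hasPullback _ _
  obtain ⟨-, hcl⟩ := isReduced_pullback K f FX hle hFapp F hF1 hF2
  set j := gr (FinFr.extStr K f) F hF2 with hj
  set d := dg (FinFr.extStr K f) with hd
  have hjd : ∀ w : ↥(FinFr.ext K f), j w = d w →
      ∃ z : ↥(pullback j d), pullback.fst j d z = w := by
    intro w hw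
    obtain ⟨z, hz1, -⟩ := Scheme.Pullback.exists_preimage_pullback (f := j) (g := d) w w hw
    exact ⟨z, hz1⟩
  have hcl' : ∀ w : ↥(FinFr.ext K f), j w = d w → IsClosed ({w} : Set ↥(FinFr.ext K f)) := by
    intro w hw
    obtain ⟨z, rfl⟩ := hjd w hw
    exact hcl z
  have happ1 : ∀ (U : X.Opens) (s : Γ(X, U)),
      (FX.appLE U U (hle U)).hom s = s ^ (Nat.card k ^ 1) := by
    intro U s; rw [hFapp, pow_one]
  obtain ⟨-, hfin⟩ := Groth.Agent.Lib.Helper67.FixCount.natCard_fix_eq_nPts f (FinFr.extStr K f)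
    (FinFr.extπ K f) hπ 1 le_rfl FX hle happ1 F hF1 hF2
    (pullback.fst (FinFr.extStr K f) (FinFr.extStr K f))
    (pullback.snd (FinFr.extStr K f) (FinFr.extStr K f)) (IsPullback.of_hasPullback _ _) j d
    (pullback.lift_fst _ _ _) (pullback.lift_snd _ _ _) (pullback.lift_fst _ _ _)
    (pullback.lift_snd _ _ _) hcl'
  haveI := hfin
  let g : ↥(pullback j d) → {w : ↥(FinFr.ext K f) // j w = d w} :=
    fun z => ⟨pullback.fst j d z, gr_apply_eq_dg_apply (FinFr.extStr K f) F hF2 z⟩
  have hginj : Function.Injective g := by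
    intro z z' h
    have h1 : pullback.fst j d z = pullback.fst j d z' := congrArg Subtype.val h
    exact (pullback.fst j d).isEmbedding.injective h1
  exact Finite.of_injective g hginj

end Groth.Agent.Lib.Helper67.FixScheme
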