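import Mathlib
import Groth.Prelude.Def_WeilCoh
import Groth.Agent.Lib.Helper97.VarProd
import Groth.Agent.Lib.Helper97.VarPt
import Groth.Agent.Lib.Helper97.VarTrdeg

/-!
# The Lefschetz number of an endomorphism with transversal fixed points (helper67)

For a Weil cohomology theory and an endomorphism `φ` of a variety `X` whose graph meets the diagonal
in closed points with multiplicity one, `Tr(cl Γ_φ · cl Δ)` is the number of fixed points.
-/

set_option autoImplicit false
universe u v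

open CategoryTheory AlgebraicGeometry WeilCoh

namespace Groth.Agent.Lib.Helper67.FixTrace

open Groth.Agent.Lib.Helper97

theorem length_quot_maximalIdeal {R : Type*} [CommRing R] [IsLocalRing R] (I : Ideal R)
    (hI : I = IsLocalRing.maximalIdeal R) : Module.length R (R ⧸ I) = 1 := by
  subst hI
  rw [Module.length_eq_one_iff]
  rw [isSimpleModule_iff_isCoatom]
  exact Ideal.isMaximal_def.mp (IsLocalRing.maximalIdeal.isMaximal R)

variable (k : Type u) [Field k] [IsAlgClosed k] (K : Type v) [Field K] [CharZero K]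
  (T : WeilCoh.Theory k K)

theorem tr_cl_graph_mul_cl_diag_eq_card
    (X P : WeilCoh.Var k) [IrreducibleSpace ↥X.obj.left] (φ : X ⟶ X)
    (p q : P ⟶ X) (hP : WeilCoh.IsProd p q) (j d : X ⟶ P)
    (hjp : j ≫ p = 𝟙 X) (hjq : j ≫ q = φ) (hdp : d ≫ p = 𝟙 X) (hdq : d ≫ q = 𝟙 X)
    [Finite {w : X.obj.left // WeilCoh.sm j w = WeilCoh.sm d w}]
    (hcl : ∀ w : X.obj.left, WeilCoh.sm j w = WeilCoh.sm d w → IsClosed ({w} : Set X.obj.left))
    (hmult : ∀ (w : X.obj.left), WeilCoh.sm j w = WeilCoh.sm d w →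
      ∀ (h : WeilCoh.sm d (genericPoint ↥X.obj.left) ⤳ WeilCoh.sm j w),
      Ideal.map ((WeilCoh.sm j).stalkMap w).hom
        (RingHom.ker (Cyc.specMap (WeilCoh.sm j w) (WeilCoh.sm d (genericPoint ↥X.obj.left)) h)) =
        IsLocalRing.maximalIdeal (X.obj.left.presheaf.stalk w)) :
    T.tr P (T.cl P (WeilCoh.sm j (genericPoint ↥X.obj.left)) *
        T.cl P (WeilCoh.sm d (genericPoint ↥X.obj.left))) =
      (Nat.card {w : X.obj.left // WeilCoh.sm j w = WeilCoh.sm d w} : K) := by
  classical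
  set η := genericPoint ↥X.obj.left with hη
  have hsepP : IsSeparated P.obj.hom := VarDim.var_isSeparated k P
  have hsepp : IsSeparated (WeilCoh.sm p) := by
    have h1 : WeilCoh.sm p ≫ X.obj.hom = P.obj.hom := Over.w p.hom
    have : IsSeparated (WeilCoh.sm p ≫ X.obj.hom) := by rw [h1]; exact hsepP
    exact IsSeparated.of_comp (WeilCoh.sm p) X.obj.hom
  have hdp' : WeilCoh.sm d ≫ WeilCoh.sm p = 𝟙 X.obj.left :=
    congrArg (fun ψ => WeilCoh.sm ψ) hdp
  have hjp' : WeilCoh.sm j ≫ WeilCoh.sm p = 𝟙 X.obj.left :=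
    congrArg (fun ψ => WeilCoh.sm ψ) hjp
  have hcid : IsClosedImmersion (WeilCoh.sm d) := by
    have : IsClosedImmersion (WeilCoh.sm d ≫ WeilCoh.sm p) := by rw [hdp']; infer_instance
    exact IsClosedImmersion.of_comp (WeilCoh.sm d) (WeilCoh.sm p)
  have hcij : IsClosedImmersion (WeilCoh.sm j) := by
    have : IsClosedImmersion (WeilCoh.sm j ≫ WeilCoh.sm p) := by rw [hjp']; infer_instance
    exact IsClosedImmersion.of_comp (WeilCoh.sm j) (WeilCoh.sm p)
  have hdeg : (WeilCoh.sm j).residueDegree η = 1 :=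
    VarDim.residueDegree_of_isClosedImmersion (WeilCoh.sm j) η
  have hN : WeilCoh.dim P.obj.left = WeilCoh.dim X.obj.left + WeilCoh.dim X.obj.left :=
    VarProd.var_dim_prod k p q hP
  have hclX : T.cl X η = 1 := VarPt.cl_genericPoint k T X
  -- step 1: push to X along j
  have h1 := VarTrdeg.tr_cl_mul_pull k T j η (T.cl P (WeilCoh.sm d η))
  rw [hdeg, Nat.cast_one, one_mul, hclX, one_mul] at h1
  rw [← h1]
  -- the preimage of the diagonal
  have hclos : closure ({WeilCoh.sm d η} : Set P.obj.left) = Set.range (WeilCoh.sm d) := by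
    have hce : Topology.IsClosedEmbedding (WeilCoh.sm d) := (WeilCoh.sm d).isClosedEmbedding
    rw [← Set.image_singleton, hce.closure_image_eq, hη, genericPoint_closure, Set.image_univ]
  have hpre : ∀ w : X.obj.left, w ∈ (WeilCoh.sm j) ⁻¹' closure ({WeilCoh.sm d η} : Set P.obj.left) ↔
      WeilCoh.sm j w = WeilCoh.sm d w := by
    intro w
    rw [hclos, Set.mem_preimage, Set.mem_range]
    constructor
    · rintro ⟨y, hy⟩
      have h2 : (WeilCoh.sm d ≫ WeilCoh.sm p) y = (WeilCoh.sm j ≫ WeilCoh.sm p) w := by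
        rw [Scheme.Hom.comp_apply, Scheme.Hom.comp_apply, hy]
      rw [hdp', hjp'] at h2
      have h3 : y = w := h2
      rw [← hy, h3]
    · intro h
      exact ⟨w, h.symm⟩
  have hcomp : ∀ w : X.obj.left,
      WeilCoh.IsCompPt ((WeilCoh.sm j) ⁻¹' closure ({WeilCoh.sm d η} : Set P.obj.left)) w ↔
        WeilCoh.sm j w = WeilCoh.sm d w := by
    intro w
    constructor
    · intro h
      exact (hpre w).mp h.1
    · intro h
      refine ⟨(hpre w).mpr h, fun w' hw' hs => ?_⟩
      have hc' : IsClosed ({w'} : Set X.obj.left) := hcl w' ((hpre w').mp hw')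
      have : w ∈ closure ({w'} : Set X.obj.left) := hs.mem_closure
      rw [hc'.closure_eq] at this
      exact this.symm
  have hdim : ∀ w : X.obj.left,
      WeilCoh.IsCompPt ((WeilCoh.sm j) ⁻¹' closure ({WeilCoh.sm d η} : Set P.obj.left)) w →
      (WeilCoh.pdim X.obj.left w : ℤ) =
        WeilCoh.pdim P.obj.left (WeilCoh.sm d η) + WeilCoh.dim X.obj.left -
          WeilCoh.dim P.obj.left := by
    intro w hw
    rw [VarPt.pdim_of_isClosed X.obj.left w (hcl w ((hcomp w).mp hw)),
      VarDim.pdim_map_of_isClosedImmersion (WeilCoh.sm d) η, VarPt.pdim_genericPoint, hN]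
    push_cast
    ring
  have hm1 : ∀ (w : X.obj.left)
      (hw : WeilCoh.IsCompPt ((WeilCoh.sm j) ⁻¹' closure ({WeilCoh.sm d η} : Set P.obj.left)) w),
      WeilCoh.preimMult (WeilCoh.sm j) (WeilCoh.sm d η) w hw.1 = 1 := by
    intro w hw
    unfold WeilCoh.preimMult
    rw [length_quot_maximalIdeal _ (hmult w ((hcomp w).mp hw) _)]
    rfl
  have hpull := T.cl_pull j (WeilCoh.sm d η) hdim (Or.inr hm1)
  rw [hpull]
  -- evaluate the finite sum
  let e : {w : X.obj.left //
      WeilCoh.IsCompPt ((WeilCoh.sm j) ⁻¹' closure ({WeilCoh.sm d η} : Set P.obj.left)) w} ≃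
      {w : X.obj.left // WeilCoh.sm j w = WeilCoh.sm d w} :=
    Equiv.subtypeEquivRight hcomp
  haveI : Finite {w : X.obj.left //
      WeilCoh.IsCompPt ((WeilCoh.sm j) ⁻¹' closure ({WeilCoh.sm d η} : Set P.obj.left)) w} :=
    Finite.of_equiv _ e.symm
  haveI : Fintype {w : X.obj.left //
      WeilCoh.IsCompPt ((WeilCoh.sm j) ⁻¹' closure ({WeilCoh.sm d η} : Set P.obj.left)) w} :=
    Fintype.ofFinite _
  rw [finsum_eq_sum_of_fintype, map_sum]
  have hterm : ∀ w : {w : X.obj.left //
      WeilCoh.IsCompPt ((WeilCoh.sm j) ⁻¹' closure ({WeilCoh.sm d η} : Set P.obj.left)) w},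
      T.tr X ((WeilCoh.preimMult (WeilCoh.sm j) (WeilCoh.sm d η) w.1 w.2.1 : K) • T.cl X w.1) = 1 := by
    intro w
    rw [hm1 w.1 w.2, Nat.cast_one, one_smul]
    exact VarPt.tr_cl_of_isClosed T X w.1 (hcl w.1 ((hcomp w.1).mp w.2))
  rw [Finset.sum_congr rfl (fun w _ => hterm w), Finset.sum_const, Finset.card_univ,
    nsmul_eq_mul, mul_one, ← Nat.card_eq_fintype_card, Nat.card_congr e]

end Groth.Agent.Lib.Helper67.FixTrace
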