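import Mathlib
import Groth.Prelude.Def_WeilCoh

/-!
# Iterates of a Frobenius-like endomorphism (helper67)
-/

set_option autoImplicit false
universe u v

open CategoryTheory AlgebraicGeometry

namespace Groth.Agent.Lib.Helper67.FrobIter

section scheme

variable {X : Scheme.{u}} (FX : X ⟶ X)

/-- Iterates of an endomorphism of a scheme. -/
noncomputable def frobIter : ℕ → (X ⟶ X)
  | 0 => 𝟙 X
  | (m + 1) => frobIter m ≫ FX

theorem frobIter_le (hle : ∀ U : X.Opens, U ≤ FX ⁻¹ᵁ U) (m : ℕ) (U : X.Opens) :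
    U ≤ (frobIter FX m) ⁻¹ᵁ U := by
  induction m with
  | zero => exact le_rfl
  | succ m ih =>
    show U ≤ (frobIter FX m) ⁻¹ᵁ (FX ⁻¹ᵁ U)
    exact ih.trans (Scheme.Hom.preimage_mono _ (hle U))

theorem frobIter_appLE (q : ℕ) (hle : ∀ U : X.Opens, U ≤ FX ⁻¹ᵁ U)
    (hFapp : ∀ (U : X.Opens) (s : Γ(X, U)), (FX.appLE U U (hle U)).hom s = s ^ q)
    (m : ℕ) (U : X.Opens) (s : Γ(X, U)) :
    ((frobIter FX m).appLE U U (frobIter_le FX hle m U)).hom s = s ^ (q ^ m) := by
  induction m generalizing s with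
  | zero =>
    rw [pow_zero, pow_one]
    show ((𝟙 X : X ⟶ X).appLE U U _).hom s = s
    have : (𝟙 X : X ⟶ X).appLE U U le_rfl = 𝟙 _ := by
      exact (Category.id_comp _).trans (X.presheaf.map_id _)
    rw [this]
    rfl
  | succ m ih =>
    have h1 : (frobIter FX (m + 1)).appLE U U (frobIter_le FX hle (m + 1) U) =
        FX.appLE U U (hle U) ≫ (frobIter FX m).appLE U U (frobIter_le FX hle m U) :=
      (Scheme.Hom.appLE_comp_appLE (frobIter FX m) FX U U U (hle U) (frobIter_le FX hle m U)).symm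
    rw [h1, CommRingCat.comp_apply, hFapp, ih, ← pow_mul, pow_succ']

end scheme

section var

variable {k : Type u} [Field k] {Xb : WeilCoh.Var k} (F : Xb ⟶ Xb)

/-- Iterates of an endomorphism of a variety. -/
noncomputable def iter : ℕ → (Xb ⟶ Xb)
  | 0 => 𝟙 Xb
  | (m + 1) => iter m ≫ F

theorem sm_iter_comp {X : Scheme.{u}} (FX : X ⟶ X) (π : Xb.obj.left ⟶ X)
    (hF : WeilCoh.sm F ≫ π = π ≫ FX) (m : ℕ) :
    WeilCoh.sm (iter F m) ≫ π = π ≫ frobIter FX m := by
  induction m with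
  | zero =>
    show 𝟙 _ ≫ π = π ≫ 𝟙 _
    rw [Category.id_comp, Category.comp_id]
  | succ m ih =>
    show (WeilCoh.sm (iter F m) ≫ WeilCoh.sm F) ≫ π = π ≫ (frobIter FX m ≫ FX)
    rw [Category.assoc, hF, ← Category.assoc, ih, Category.assoc]

variable {K : Type v} [Field K] (T : WeilCoh.TheoryOn.{u, v, max u v} k (WeilCoh.IsVar k) K)

theorem pullDeg_iter (m : ℕ) (i : ℤ) : T.pullDeg (iter F m) i = (T.pullDeg F i) ^ m := by
  induction m with
  | zero =>
    apply LinearMap.ext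
    intro b
    apply Subtype.ext
    show T.pull (𝟙 Xb) (b : T.H Xb) = _
    rw [T.pull_id, pow_zero]
    rfl
  | succ m ih =>
    apply LinearMap.ext
    intro b
    apply Subtype.ext
    show T.pull (iter F m ≫ F) (b : T.H Xb) = _
    rw [T.pull_comp, pow_succ, ← ih]
    rfl

end var

end Groth.Agent.Lib.Helper67.FrobIter
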