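import Mathlib
import Groth.Agent.Lib.Helper67.FixRoots

/-!
# Two points with values in an algebraic extension of a finite field with the same kernel differ by a
power of Frobenius (helper67)
-/

set_option autoImplicit false
universe u

namespace Groth.Agent.Lib.Helper67.FrobOrbit

open Groth.Agent.Lib.Helper67.FixRoots

theorem exists_pow_eq_of_ker_eq {k : Type u} [Field k] [Finite k] {A : Type u} [CommRing A]
    [Algebra k A] [Algebra.FiniteType k A] {Ω : Type u} [Field Ω] [Algebra k Ω]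
    [Algebra.IsAlgebraic k Ω] (ψ ψ' : A →ₐ[k] Ω)
    (hker : RingHom.ker (ψ : A →+* Ω) = RingHom.ker (ψ' : A →+* Ω)) :
    ∃ i : ℕ, ∀ a, ψ' a = ψ a ^ (Nat.card k ^ i) := by
  classical
  haveI : Fintype k := Fintype.ofFinite k
  set 𝔪 : Ideal A := RingHom.ker (ψ : A →+* Ω) with h𝔪
  let θ : (A ⧸ 𝔪) →ₐ[k] Ω := Ideal.kerLiftAlg ψ
  have hθinj : Function.Injective θ := Ideal.kerLiftAlg_injective ψ
  let θ' : (A ⧸ 𝔪) →ₐ[k] Ω := Ideal.Quotient.liftₐ 𝔪 ψ' (fun a ha => by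
    have : a ∈ RingHom.ker (ψ' : A →+* Ω) := hker ▸ ha
    exact this)
  haveI : 𝔪.IsPrime := RingHom.ker_isPrime (ψ : A →+* Ω)
  haveI : IsDomain (A ⧸ 𝔪) := Ideal.Quotient.isDomain 𝔪
  haveI : Algebra.IsAlgebraic k (A ⧸ 𝔪) := Algebra.IsAlgebraic.of_injective θ hθinj
  haveI : Algebra.IsIntegral k (A ⧸ 𝔪) := Algebra.IsAlgebraic.isIntegral
  have hfield : IsField (A ⧸ 𝔪) :=
    isField_of_isIntegral_of_isField' (Field.toIsField k)
  letI : Field (A ⧸ 𝔪) := hfield.toField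
  haveI : Algebra.FiniteType k (A ⧸ 𝔪) :=
    Algebra.FiniteType.of_surjective (Ideal.Quotient.mkₐ k 𝔪) (Ideal.Quotient.mkₐ_surjective k 𝔪)
  haveI : Module.Finite k (A ⧸ 𝔪) := Algebra.IsIntegral.finite
  haveI : Finite (A ⧸ 𝔪) := Module.finite_of_finite k
  haveI : Fintype (A ⧸ 𝔪) := Fintype.ofFinite _
  have hrange : ∀ l : A ⧸ 𝔪, θ' l ∈ θ.range := by
    intro l
    have hpow : (θ' l) ^ Nat.card (A ⧸ 𝔪) = θ' l := by
      rw [← map_pow, Nat.card_eq_fintype_card, FiniteField.pow_card]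
    obtain ⟨c, hc⟩ := exists_of_pow_eq_of_card (Nat.card (A ⧸ 𝔪)) rfl (θ : (A ⧸ 𝔪) →+* Ω)
      (θ' l) hpow
    exact ⟨c, hc⟩
  let e : (A ⧸ 𝔪) ≃ₐ[k] θ.range := AlgEquiv.ofInjective θ hθinj
  let τ : (A ⧸ 𝔪) →ₐ[k] (A ⧸ 𝔪) :=
    (e.symm : θ.range →ₐ[k] (A ⧸ 𝔪)).comp (θ'.codRestrict θ.range hrange)
  have hτ : ∀ l, θ (τ l) = θ' l := by
    intro l
    have h1 : (e (τ l) : Ω) = θ (τ l) := rfl
    rw [← h1]
    show ((e (e.symm (θ'.codRestrict θ.range hrange l)) : θ.range) : Ω) = θ' l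
    rw [AlgEquiv.apply_symm_apply]
    rfl
  obtain ⟨i, hi⟩ := (FiniteField.bijective_frobeniusAlgHom_pow k (A ⧸ 𝔪)).2 τ
  refine ⟨i.1, fun a => ?_⟩
  have h2 : ψ' a = θ' (Ideal.Quotient.mk 𝔪 a) := rfl
  have h3 : ψ a = θ (Ideal.Quotient.mk 𝔪 a) := rfl
  rw [h2, h3, ← hτ, ← map_pow]
  congr 1
  have h4 := congrArg (fun g : (A ⧸ 𝔪) →ₐ[k] (A ⧸ 𝔪) => g (Ideal.Quotient.mk 𝔪 a)) hi
  simp only [AlgHom.coe_pow, FiniteField.coe_frobeniusAlgHom, pow_iterate] at h4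
  rw [← h4, Nat.card_eq_fintype_card]

end Groth.Agent.Lib.Helper67.FrobOrbit
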