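import Mathlib
import Groth.Agent.Lib.Helper67.FrobOrbit
import Groth.Agent.Lib.Helper67.FrobPts
import Groth.Agent.Lib.Helper67.FrobIter

/-!
# Points with values in an algebraic extension of a finite field over the same point of `X` differ by
a power of the Frobenius of `X` (helper67)
-/

set_option autoImplicit false
universe u

open CategoryTheory AlgebraicGeometry

namespace Groth.Agent.Lib.Helper67.FrobOrbitPts

open Groth.Agent.Lib.Helper67.FrobPts Groth.Agent.Lib.Helper67.FrobIter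

/-- A field-valued point factors through any affine open containing its image. -/
theorem exists_factor_affine_of_mem {X : Scheme.{u}} (L : Type u) [Field L]
    (x : Spec (CommRingCat.of L) ⟶ X) (U : X.Opens) (hU : IsAffineOpen U)
    (hxU : x (IsLocalRing.closedPoint L) ∈ U) :
    ∃ ψ : Γ(X, U) ⟶ CommRingCat.of L, x = Spec.map ψ ≫ hU.fromSpec := by
  have hrange : Set.range x ⊆ Set.range hU.fromSpec := by
    rw [hU.range_fromSpec]
    rintro _ ⟨y, rfl⟩
    have : y = IsLocalRing.closedPoint L := Subsingleton.elim _ _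
    rw [this]
    exact hxU
  obtain ⟨ψ, hψ⟩ := Spec.map_surjective (IsOpenImmersion.lift hU.fromSpec x hrange)
  refine ⟨ψ, ?_⟩
  rw [hψ, IsOpenImmersion.lift_fac]

variable {k : Type u} [Field k] {X : Scheme.{u}} (f : X ⟶ Spec (CommRingCat.of k))

/-- The structure map `k → Γ(X, U)`. -/
noncomputable def secMap (U : X.Opens) : k →+* Γ(X, U) :=
  (f.appLE ⊤ U le_top).hom.comp (Scheme.ΓSpecIso (CommRingCat.of k)).inv.hom

theorem comp_secMap {L : Type u} [Field L] (c : k →+* L) (U : X.Opens) (hU : IsAffineOpen U)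
    (ψ : Γ(X, U) ⟶ CommRingCat.of L)
    (h : (Spec.map ψ ≫ hU.fromSpec) ≫ f = Spec.map (CommRingCat.ofHom c)) :
    ψ.hom.comp (secMap f U) = c := by
  have h1 : hU.fromSpec ≫ f =
      Spec.map (f.appLE ⊤ U le_top) ≫ (isAffineOpen_top (Spec (CommRingCat.of k))).fromSpec :=
    (IsAffineOpen.SpecMap_appLE_fromSpec f (isAffineOpen_top _) hU le_top).symm
  rw [Category.assoc, h1, IsAffineOpen.fromSpec_top, Scheme.isoSpec_Spec_inv, ← Spec.map_comp,
    ← Spec.map_comp] at h
  have h2 := Spec.map_injective h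
  ext a
  have := congrArg (fun θ => θ.hom a) h2
  exact this

theorem ker_eq_of_apply_eq {L : Type u} [Field L] (U : X.Opens) (hU : IsAffineOpen U)
    (ψ ψ' : Γ(X, U) ⟶ CommRingCat.of L)
    (h : (Spec.map ψ ≫ hU.fromSpec) (IsLocalRing.closedPoint L) =
      (Spec.map ψ' ≫ hU.fromSpec) (IsLocalRing.closedPoint L)) :
    RingHom.ker ψ.hom = RingHom.ker ψ'.hom := by
  rw [Scheme.Hom.comp_apply, Scheme.Hom.comp_apply] at h
  have h1 := hU.fromSpec.isOpenEmbedding.injective h
  have h2 : ∀ θ : Γ(X, U) ⟶ CommRingCat.of L,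
      (Spec.map θ (IsLocalRing.closedPoint L)).asIdeal = RingHom.ker θ.hom := by
    intro θ
    show Ideal.comap θ.hom (IsLocalRing.maximalIdeal L) = RingHom.ker θ.hom
    rw [IsLocalRing.maximalIdeal_eq_bot]
    rfl
  rw [← h2 ψ, ← h2 ψ', h1]

variable [Finite k] [LocallyOfFiniteType f]
  (FX : X ⟶ X) (hle : ∀ U : X.Opens, U ≤ FX ⁻¹ᵁ U)
  (hFapp : ∀ (U : X.Opens) (s : Γ(X, U)), (FX.appLE U U (hle U)).hom s = s ^ Nat.card k)

include hFapp in
/-- Two points with values in an algebraic extension `Ω` of the finite field `k`, over `k` and with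
the same image point, differ by a power of Frobenius. -/
theorem exists_comp_frobIter_eq (Ω : Type u) [Field Ω] [Algebra k Ω] [Algebra.IsAlgebraic k Ω]
    (x x' : Spec (CommRingCat.of Ω) ⟶ X)
    (hx : x ≫ f = Spec.map (CommRingCat.ofHom (algebraMap k Ω)))
    (hx' : x' ≫ f = Spec.map (CommRingCat.ofHom (algebraMap k Ω)))
    (hpt : x (IsLocalRing.closedPoint Ω) = x' (IsLocalRing.closedPoint Ω)) :
    ∃ i : ℕ, x ≫ frobIter FX i = x' := by
  obtain ⟨U, hU, hxU, -⟩ := exists_isAffineOpen_mem_and_subset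
    (x := x (IsLocalRing.closedPoint Ω)) (U := ⊤) trivial
  obtain ⟨ψ, rfl⟩ := exists_factor_affine_of_mem Ω x U hU hxU
  obtain ⟨ψ', rfl⟩ := exists_factor_affine_of_mem Ω x' U hU (hpt ▸ hxU)
  have hs := comp_secMap f (algebraMap k Ω) U hU ψ hx
  have hs' := comp_secMap f (algebraMap k Ω) U hU ψ' hx'
  have hker := ker_eq_of_apply_eq U hU ψ ψ' hpt
  letI : Algebra k Γ(X, U) := (secMap f U).toAlgebra
  haveI : Algebra.FiniteType k Γ(X, U) := by
    have hsurj : Function.Surjective (Scheme.ΓSpecIso (CommRingCat.of k)).inv.hom :=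
      (ConcreteCategory.bijective_of_isIso (Scheme.ΓSpecIso (CommRingCat.of k)).inv).2
    exact (f.finiteType_appLE (isAffineOpen_top _) hU le_top).comp
      (RingHom.FiniteType.of_surjective _ hsurj)
  let ψa : Γ(X, U) →ₐ[k] Ω :=
    { ψ.hom with commutes' := fun c => congrArg (fun θ : k →+* Ω => θ c) hs }
  let ψa' : Γ(X, U) →ₐ[k] Ω :=
    { ψ'.hom with commutes' := fun c => congrArg (fun θ : k →+* Ω => θ c) hs' }
  obtain ⟨i, hi⟩ := Groth.Agent.Lib.Helper67.FrobOrbit.exists_pow_eq_of_ker_eq ψa ψa' hker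
  refine ⟨i, ?_⟩
  rw [comp_frob_eq (frobIter FX i) (Nat.card k ^ i) (frobIter_le FX hle i)
    (frobIter_appLE FX (Nat.card k) hle hFapp i) U hU ψ]
  congr 2
  ext a
  show ψ.hom (((frobIter FX i).appLE U U (frobIter_le FX hle i U)).hom a) = ψ'.hom a
  rw [frobIter_appLE FX (Nat.card k) hle hFapp i, map_pow]
  exact (hi a).symm

end Groth.Agent.Lib.Helper67.FrobOrbitPts
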