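import Mathlib
import Groth.Prelude.Def_FinFr
import Groth.Agent.Lib.Helper67.FrobOrbitPts

/-!
# Closed subsets of the base change to the algebraic closure stable under Frobenius descend (helper67)
-/

set_option autoImplicit false
universe u

open CategoryTheory CategoryTheory.Limits AlgebraicGeometry

namespace Groth.Agent.Lib.Helper67.FrobDescent

open Groth.Agent.Lib.Helper67.FrobIter Groth.Agent.Lib.Helper67.FrobOrbitPts

section iter

variable {X Y : Scheme.{u}} (F : Y ⟶ Y) (FX : X ⟶ X) (π : Y ⟶ X)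

theorem frobIter_comp (hF : F ≫ π = π ≫ FX) (i : ℕ) :
    frobIter F i ≫ π = π ≫ frobIter FX i := by
  induction i with
  | zero =>
    show 𝟙 _ ≫ π = π ≫ 𝟙 _
    rw [Category.id_comp, Category.comp_id]
  | succ i ih =>
    show (frobIter F i ≫ F) ≫ π = π ≫ (frobIter FX i ≫ FX)
    rw [Category.assoc, hF, ← Category.assoc, ih, Category.assoc]

theorem frobIter_comp_eq {S : Scheme.{u}} (p : Y ⟶ S) (hF : F ≫ p = p) (i : ℕ) :
    frobIter F i ≫ p = p := by
  induction i with
  | zero => exact Category.id_comp _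
  | succ i ih =>
    show (frobIter F i ≫ F) ≫ p = p
    rw [Category.assoc, hF, ih]

theorem frobIter_apply_mem (W : Set Y) (hW : F.base '' W ⊆ W) (i : ℕ) (w : Y) (hw : w ∈ W) :
    frobIter F i w ∈ W := by
  induction i with
  | zero => exact hw
  | succ i ih =>
    have : frobIter F (i + 1) w = F (frobIter F i w) := by
      show (frobIter F i ≫ F) w = _
      rw [Scheme.Hom.comp_apply]
    rw [this]
    exact hW ⟨_, ih, rfl⟩

end iter

variable {k : Type u} [Field k] [Finite k] (K : Type u) [Field K] [IsAlgClosed K] [Algebra k K]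
  [Algebra.IsAlgebraic k K]
  {X : Scheme.{u}} (f : X ⟶ Spec (CommRingCat.of k)) [LocallyOfFiniteType f]
  (FX : X ⟶ X) (hFb : FX.base = 𝟙 _) (hle : ∀ U : X.Opens, U ≤ FX ⁻¹ᵁ U)
  (hFapp : ∀ (U : X.Opens) (s : Γ(X, U)), (FX.appLE U U (hle U)).hom s = s ^ Nat.card k)
  (F : FinFr.ext K f ⟶ FinFr.ext K f)
  (hF1 : F ≫ FinFr.extπ K f = FinFr.extπ K f ≫ FX)
  (hF2 : F ≫ FinFr.extStr K f = FinFr.extStr K f)

include hFapp hF1 hF2 in
/-- Closed points of the base change over the same point of `X` are in one Frobenius orbit. -/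
theorem exists_frobIter_apply_eq (w w' : ↥(FinFr.ext K f))
    (hw : IsClosed ({w} : Set ↥(FinFr.ext K f))) (hw' : IsClosed ({w'} : Set ↥(FinFr.ext K f)))
    (h : FinFr.extπ K f w = FinFr.extπ K f w') :
    ∃ i : ℕ, frobIter F i w = w' := by
  have hπ : IsPullback (FinFr.extπ K f) (FinFr.extStr K f) f
      (Spec.map (CommRingCat.ofHom (algebraMap k K))) := IsPullback.of_hasPullback _ _
  haveI : LocallyOfFiniteType (FinFr.extStr K f) :=
    MorphismProperty.of_isPullback hπ (inferInstance : LocallyOfFiniteType f)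
  let pt : Spec (CommRingCat.of K) := IsLocalRing.closedPoint K
  let σ := pointOfClosedPoint (FinFr.extStr K f) w hw
  let σ' := pointOfClosedPoint (FinFr.extStr K f) w' hw'
  have hσ : σ ≫ FinFr.extStr K f = 𝟙 _ := pointOfClosedPoint_comp _ w hw
  have hσ' : σ' ≫ FinFr.extStr K f = 𝟙 _ := pointOfClosedPoint_comp _ w' hw'
  have hσw : σ pt = w := pointOfClosedPoint_apply _ w hw pt
  have hσw' : σ' pt = w' := pointOfClosedPoint_apply _ w' hw' pt
  have hx : (σ ≫ FinFr.extπ K f) ≫ f = Spec.map (CommRingCat.ofHom (algebraMap k K)) := by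
    rw [Category.assoc, hπ.w, ← Category.assoc, hσ, Category.id_comp]
  have hx' : (σ' ≫ FinFr.extπ K f) ≫ f = Spec.map (CommRingCat.ofHom (algebraMap k K)) := by
    rw [Category.assoc, hπ.w, ← Category.assoc, hσ', Category.id_comp]
  have hpt : (σ ≫ FinFr.extπ K f) pt = (σ' ≫ FinFr.extπ K f) pt := by
    rw [Scheme.Hom.comp_apply, Scheme.Hom.comp_apply, hσw, hσw', h]
  obtain ⟨i, hi⟩ := exists_comp_frobIter_eq f FX hle hFapp K _ _ hx hx' hpt
  refine ⟨i, ?_⟩
  have heq : σ ≫ frobIter F i = σ' := by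
    apply hπ.hom_ext
    · rw [Category.assoc, frobIter_comp F FX _ hF1 i, ← Category.assoc, hi]
    · rw [Category.assoc, frobIter_comp_eq F _ hF2 i, hσ, hσ']
  rw [← hσw, ← hσw', ← heq, Scheme.Hom.comp_apply]

include hFb hFapp hF1 hF2 in
theorem closed_descends_iff (W : Set ↥(FinFr.ext K f)) (hW : IsClosed W) :
    (∃ Y : Set X, IsClosed Y ∧ (FinFr.extπ K f).base ⁻¹' Y = W) ↔ F.base '' W ⊆ W := by
  have hπ : IsPullback (FinFr.extπ K f) (FinFr.extStr K f) f
      (Spec.map (CommRingCat.ofHom (algebraMap k K))) := IsPullback.of_hasPullback _ _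
  haveI : LocallyOfFiniteType (FinFr.extStr K f) :=
    MorphismProperty.of_isPullback hπ (inferInstance : LocallyOfFiniteType f)
  haveI : JacobsonSpace ↥(FinFr.ext K f) := LocallyOfFiniteType.jacobsonSpace (FinFr.extStr K f)
  haveI : IsIntegralHom (Spec.map (CommRingCat.ofHom (algebraMap k K))) := by
    rw [IsIntegralHom.SpecMap_iff]
    exact algebraMap_isIntegral_iff.mpr inferInstance
  haveI : IsIntegralHom (FinFr.extπ K f) :=
    MorphismProperty.of_isPullback hπ.flip inferInstance
  have hclosed : IsClosedMap (FinFr.extπ K f) := (FinFr.extπ K f).isClosedMap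
  constructor
  · rintro ⟨Y, -, rfl⟩
    rintro _ ⟨w, hw, rfl⟩
    show FinFr.extπ K f (F w) ∈ Y
    have h1 : FinFr.extπ K f (F w) = FX (FinFr.extπ K f w) := by
      rw [← Scheme.Hom.comp_apply, hF1, Scheme.Hom.comp_apply]
    have h2 : FX (FinFr.extπ K f w) = FinFr.extπ K f w := by
      have : FX.base (FinFr.extπ K f w) = FinFr.extπ K f w := by rw [hFb]; rfl
      exact this
    rw [h1, h2]
    exact hw
  · intro hFW
    refine ⟨FinFr.extπ K f '' W, hclosed W hW, ?_⟩
    apply Set.Subset.antisymm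
    · -- the preimage of the image is contained in W
      have hW'cl : IsClosed ((FinFr.extπ K f) ⁻¹' (FinFr.extπ K f '' W)) :=
        (hclosed W hW).preimage (FinFr.extπ K f).continuous
      rw [← closure_inter_closedPoints hW'cl]
      apply closure_minimal _ hW
      rintro w' ⟨⟨w, hwW, hww'⟩, hw'cl⟩
      -- a closed point in the closure of w
      have hne : (closure ({w} : Set ↥(FinFr.ext K f))).Nonempty := ⟨w, subset_closure rfl⟩
      obtain ⟨w₀, hw₀, hw₀cl⟩ := nonempty_inter_closedPoints hne isClosed_closure.isLocallyClosed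
      have hw₀W : w₀ ∈ W := (closure_minimal (Set.singleton_subset_iff.mpr hwW) hW) hw₀
      have hxcl : IsClosed ({FinFr.extπ K f w'} : Set X) := by
        have := hclosed _ (show IsClosed ({w'} : Set ↥(FinFr.ext K f)) from hw'cl)
        rwa [Set.image_singleton] at this
      have hπw₀ : FinFr.extπ K f w₀ = FinFr.extπ K f w' := by
        have h1 : FinFr.extπ K f w₀ ∈ closure ({FinFr.extπ K f w} : Set X) := by
          have := map_mem_closure (FinFr.extπ K f).continuous hw₀
            (t := ({FinFr.extπ K f w} : Set X)) (by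
              intro y hy
              rw [Set.mem_singleton_iff] at hy
              rw [hy]; rfl)
          exact this
        rw [hww', hxcl.closure_eq] at h1
        exact h1
      obtain ⟨i, hi⟩ := exists_frobIter_apply_eq K f FX hle hFapp F hF1 hF2 w₀ w' hw₀cl hw'cl hπw₀
      rw [← hi]
      exact frobIter_apply_mem F W hFW i w₀ hw₀W
    · intro w hw
      exact ⟨w, hw, rfl⟩

end Groth.Agent.Lib.Helper67.FrobDescent
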