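import Groth.Agent.Lib.Helper67.TensRank2
import Groth.Agent.Lib.Helper67.AffPushLin
import Groth.Agent.Lib.Helper5.ProjFormula
import Groth.Agent.Lib.Helper18.LimFinLocFree

/-!
# Twisting by a locally free module on a general proper scheme of dimension `≤ 1` (helper67)

* `isClosed_singleton_or_mem_irreducibleComponents`: in a `T0` space of dimension `≤ 1` every
  point is closed or the generic point of an irreducible component.
* `delta k X E n F = χ(F ⊗ E) - n χ(F)`; it is additive, iso-invariant, and vanishes on modules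
  supported at closed points.
* `euler_push`: `χ(X, i_* G) = χ(Z, G)` for affine `i`.
* `pushTensIso`: the projection formula `i_* G ⊗ E ≅ i_* (G ⊗ i^* E)` for closed immersions.
* `delta_push`: `δ_E(i_* G) = rk(G) · deg(i^* E)` for `i : Z → X` a closed immersion from an
  integral scheme.
-/

set_option autoImplicit false
set_option linter.style.haveILetI false
universe u
open AlgebraicGeometry CategoryTheory Limits Opposite TopologicalSpace Abelian

namespace Groth.Agent.Lib.Helper67.GenCurve

open Groth.Agent.Lib.Helper67.EulerLES Groth.Agent.Lib.Helper67.CurveCoh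
open Groth.Agent.Lib.Helper67.CurveDeg Groth.Agent.Lib.Helper67.CurveTors
open Groth.Agent.Lib.Helper67.ZeroDim Groth.Agent.Lib.Helper67.TensExact
open Groth.Agent.Lib.Helper67.TensZero Groth.Agent.Lib.Helper67.PushUnit
open Groth.Agent.Lib.Helper67.TensRank
open Groth.Agent.Lib.Helper49 Groth.Agent.Lib.Helper11.FinFreeBasis
open Groth.Agent.Lib.Helper11.FinFreeAdj

section Top

/-- in a `T0` space of Krull dimension `≤ 1`, every point is closed or the generic point of an
irreducible component -/
theorem isClosed_singleton_or_mem_irreducibleComponents {T : Type*} [TopologicalSpace T]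
    [T0Space T] (hdim : topologicalKrullDim T ≤ 1) (z : T) :
    IsClosed ({z} : Set T) ∨ closure ({z} : Set T) ∈ irreducibleComponents T := by
  let a : IrreducibleCloseds T := ⟨closure {z}, isIrreducible_singleton.closure, isClosed_closure⟩
  rcases Order.krullDim_le_one_iff.mp hdim a with hmin | hmax
  · left
    rw [← closure_eq_iff_isClosed]
    refine Set.Subset.antisymm (fun z' hz' => ?_) subset_closure
    let b : IrreducibleCloseds T :=
      ⟨closure {z'}, isIrreducible_singleton.closure, isClosed_closure⟩
    have hba : b ≤ a := by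
      change closure {z'} ⊆ closure {z}
      exact closure_minimal (Set.singleton_subset_iff.mpr hz') isClosed_closure
    have hab : a ≤ b := hmin hba
    have hz2 : z ∈ closure ({z'} : Set T) := hab (subset_closure rfl)
    have h1 : z ⤳ z' := specializes_iff_mem_closure.mpr hz'
    have h2 : z' ⤳ z := specializes_iff_mem_closure.mpr hz2
    exact (h2.antisymm h1).eq
  · right
    refine ⟨isIrreducible_singleton.closure, fun s hs hle => ?_⟩
    let c : IrreducibleCloseds T := ⟨closure s, hs.closure, isClosed_closure⟩
    have hac : a ≤ c := by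
      change closure {z} ⊆ closure s
      exact hle.trans subset_closure
    have hca : c ≤ a := hmax hac
    exact subset_closure.trans hca

end Top

variable (k : Type u) [Field k]

section Delta

variable (X : Scheme.{u}) [X.Over (Spec (CommRingCat.of k))]

/-- `δ_E(F) = χ(F ⊗ E) - n χ(F)` -/
noncomputable def delta (E : X.Modules) (n : ℕ) (F : X.Modules) : ℤ :=
  Curv2.euler k X (CohB1.tensorMod F E) - n * Curv2.euler k X F

theorem delta_eq_of_iso (E : X.Modules) (n : ℕ) {F F' : X.Modules} (e : F ≅ F') :
    delta k X E n F = delta k X E n F' := by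
  unfold delta
  have h2 : Curv2.euler k X (CohB1.tensorMod F E) = Curv2.euler k X (CohB1.tensorMod F' E) :=
    euler_eq_of_iso k ((tensR E).mapIso e)
  rw [h2, euler_eq_of_iso k e]

variable [IsProper (X ↘ Spec (CommRingCat.of k))]

theorem delta_eq_zero_of_closedSupp (E : X.Modules) {n : ℕ}
    (hE : FlatMod.IsFinLocFreeOfRank n E) (F : X.Modules) (hF : Coh.IsCoh F)
    (hsupp : ClosedSupp F) : delta k X E n F = 0 := by
  unfold delta
  rw [euler_tensor_of_closedSupp k X E hE F hF hsupp]
  ring

variable (hdim : topologicalKrullDim X ≤ 1)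

include hdim in
theorem delta_additive (E : X.Modules) {n : ℕ} (hE : FlatMod.IsFinLocFreeOfRank n E)
    {S : ShortComplex X.Modules} (hS : S.ShortExact)
    (c1 : Coh.IsCoh S.X₁) (c2 : Coh.IsCoh S.X₂) (c3 : Coh.IsCoh S.X₃) :
    delta k X E n S.X₂ = delta k X E n S.X₁ + delta k X E n S.X₃ := by
  have hEfl := isFinLocFree_of_rank hE
  have hEcoh := isCoh_of_rank hE
  haveI := preservesZeroMorphisms_tensR hEfl
  have hST := shortExact_tensR hEfl hS
  have e1 := euler_additive_of_coh k X hdim hS c1 c2 c3
  have e2 := euler_additive_of_coh k X hdim hST (isCoh_tensorMod c1 hEcoh)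
    (isCoh_tensorMod c2 hEcoh) (isCoh_tensorMod c3 hEcoh)
  change Curv2.euler k X (CohB1.tensorMod S.X₂ E) =
    Curv2.euler k X (CohB1.tensorMod S.X₁ E) + Curv2.euler k X (CohB1.tensorMod S.X₃ E) at e2
  unfold delta
  rw [e2, e1]
  ring

end Delta

section Push

variable {Z X : Scheme.{u}} [X.Over (Spec (CommRingCat.of k))] [Z.Over (Spec (CommRingCat.of k))]
  (i : Z ⟶ X) (hi : i ≫ (X ↘ Spec (CommRingCat.of k)) = Z ↘ Spec (CommRingCat.of k))

include hi in
/-- `χ(X, i_* G) = χ(Z, G)` for an affine morphism `i` and quasi-coherent `G` -/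
theorem euler_push [IsAffineHom i] (G : Z.Modules) [G.IsQuasicoherent] :
    Curv2.euler k X ((Scheme.Modules.pushforward i).obj G) = Curv2.euler k Z G := by
  unfold Curv2.euler
  refine finsum_congr fun p => ?_
  rw [(Groth.Agent.Lib.Helper67.AffPush.pushEdgeEquiv i k hi G p).finrank_eq]

/-- the projection formula for a closed immersion: `i_* G ⊗ E ≅ i_* (G ⊗ i^* E)` -/
noncomputable def pushTensIso [IsClosedImmersion i] (G : Z.Modules) (E : X.Modules) :
    CohB1.tensorMod ((Scheme.Modules.pushforward i).obj G) E ≅
      (Scheme.Modules.pushforward i).obj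
        (CohB1.tensorMod G ((Scheme.Modules.pullback i).obj E)) :=
  @asIso _ _ _ _ (Groth.Agent.Lib.Helper5.ProjFormula.projMap i G E)
    (Groth.Agent.Lib.Helper5.ProjFormula.isIso_projMap i G E)

end Push

section K

variable {Z X : Scheme.{u}} [X.Over (Spec (CommRingCat.of k))]
  [IsProper (X ↘ Spec (CommRingCat.of k))]
  (hdim : topologicalKrullDim X ≤ 1) (E : X.Modules) {n : ℕ}
  (hE : FlatMod.IsFinLocFreeOfRank n E)
  (i : Z ⟶ X) [IsClosedImmersion i] [IsIntegral Z]

include hdim hE in
/-- **`δ_E(i_* G) = rk(G) · deg_Z(i^* E)`** for a closed immersion `i : Z → X` from an integral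
scheme into a proper scheme of dimension `≤ 1` -/
theorem delta_push (G : Z.Modules) (hG : Coh.IsCoh G) :
    delta k X E n ((Scheme.Modules.pushforward i).obj G) =
      (rk G : ℤ) * @Curv2.deg k _ Z ⟨i ≫ (X ↘ Spec (CommRingCat.of k))⟩
        ((Scheme.Modules.pullback i).obj E) n := by
  letI : Z.Over (Spec (CommRingCat.of k)) := ⟨i ≫ (X ↘ Spec (CommRingCat.of k))⟩
  haveI : IsProper (Z ↘ Spec (CommRingCat.of k)) :=
    inferInstanceAs (IsProper (i ≫ (X ↘ Spec (CommRingCat.of k))))
  have hdimZ : topologicalKrullDim Z ≤ 1 :=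
    le_trans i.isClosedEmbedding.isInducing.topologicalKrullDim_le hdim
  haveI : G.IsQuasicoherent := hG.1
  have hE' := Groth.Agent.Lib.Helper18.LimFinLocFree.isFinLocFreeOfRank_pullback i E hE
  have hE'coh := isCoh_of_rank hE'
  have hGE := isCoh_tensorMod hG hE'coh
  haveI : (CohB1.tensorMod G ((Scheme.Modules.pullback i).obj E)).IsQuasicoherent := hGE.1
  have h1 := euler_tensor k Z hdimZ ((Scheme.Modules.pullback i).obj E) hE' G hG
  have h2 := euler_push k i rfl G
  have h3 := euler_push k i rfl (CohB1.tensorMod G ((Scheme.Modules.pullback i).obj E))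
  have h4 := euler_eq_of_iso k (pushTensIso i G E)
  unfold delta
  rw [h4, h3, h1, h2]
  ring

end K

end Groth.Agent.Lib.Helper67.GenCurve
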