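import Groth.Agent.Lib.Helper67.GenCurve
import Groth.Agent.Lib.Helper55.DimSup

/-!
# Lengths of stalks at generic points of irreducible components (helper67)
-/

set_option autoImplicit false
set_option linter.style.haveILetI false
universe u
open AlgebraicGeometry CategoryTheory Limits Opposite TopologicalSpace Abelian

namespace Groth.Agent.Lib.Helper67.GenCurve

open Groth.Agent.Lib.Helper67.EulerLES Groth.Agent.Lib.Helper67.CurveCoh
open Groth.Agent.Lib.Helper67.CurveDeg Groth.Agent.Lib.Helper67.CurveTors
open Groth.Agent.Lib.Helper67.ZeroDim Groth.Agent.Lib.Helper67.TensExact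
open Groth.Agent.Lib.Helper67.TensZero Groth.Agent.Lib.Helper67.PushUnit
open Groth.Agent.Lib.Helper67.TensRank
open Groth.Agent.Lib.Helper49

section Len

variable {X : Scheme.{u}}

/-- the length of the stalk of `F` at `η`, as a natural number -/
noncomputable def len (F : X.Modules) (η : X) : ℕ :=
  (Module.length (X.presheaf.stalk η) (F.presheaf.stalk η)).toNat

theorem subsingleton_primeSpectrum_stalk (η : X)
    (hη : closure ({η} : Set X) ∈ irreducibleComponents X) :
    Subsingleton (PrimeSpectrum (X.presheaf.stalk η)) := by
  have key : ∀ p : ↥(Spec (X.presheaf.stalk η)), X.fromSpecStalk η p = η := by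
    intro p
    have hp : X.fromSpecStalk η p ∈ Set.range (X.fromSpecStalk η) := ⟨p, rfl⟩
    rw [Scheme.range_fromSpecStalk] at hp
    have hp' : X.fromSpecStalk η p ⤳ η := hp
    have := Groth.Agent.Lib.Helper55.specializes_of_closure_mem_irreducibleComponents η hη _ hp'
    exact (hp'.antisymm this).eq
  refine ⟨fun p q => ?_⟩
  have hinj : Function.Injective (X.fromSpecStalk η) :=
    (X.fromSpecStalk η).isEmbedding.injective
  exact hinj ((key p).trans (key q).symm)

theorem krullDimLE_zero_stalk (η : X)
    (hη : closure ({η} : Set X) ∈ irreducibleComponents X) :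
    Ring.KrullDimLE 0 (X.presheaf.stalk η) := by
  haveI := subsingleton_primeSpectrum_stalk η hη
  rw [Ring.krullDimLE_iff]
  exact Order.krullDim_nonpos_of_subsingleton

theorem isArtinianRing_stalk [IsLocallyNoetherian X] (η : X)
    (hη : closure ({η} : Set X) ∈ irreducibleComponents X) :
    IsArtinianRing (X.presheaf.stalk η) := by
  haveI := krullDimLE_zero_stalk η hη
  exact isArtinianRing_iff_krullDimLE_zero.2 inferInstance

theorem length_stalk_ne_top [IsLocallyNoetherian X] {η : X}
    (hη : closure ({η} : Set X) ∈ irreducibleComponents X) {F : X.Modules}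
    (hF : Coh.IsCoh F) :
    Module.length (X.presheaf.stalk η) (F.presheaf.stalk η) ≠ ⊤ := by
  haveI := isArtinianRing_stalk η hη
  haveI := finite_stalk_of_isCoh hF η
  exact Module.length_ne_top

theorem len_eq_of_iso {M N : X.Modules} (e : M ≅ N) (η : X) : len M η = len N η := by
  have hbij : Function.Bijective (stalkMapLinear e.hom η) := by
    haveI : Mono e.hom := inferInstance
    haveI : Epi e.hom := inferInstance
    exact ⟨stalkMap_injective_of_mono e.hom _, stalkMap_surjective_of_epi e.hom _⟩
  unfold len
  rw [(LinearEquiv.ofBijective _ hbij).length_eq]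

theorem len_eq_zero_of_subsingleton {M : X.Modules} {η : X}
    (h : Subsingleton (M.presheaf.stalk η)) : len M η = 0 := by
  unfold len
  rw [Module.length_eq_zero]
  rfl

theorem len_additive [IsLocallyNoetherian X] {η : X}
    (hη : closure ({η} : Set X) ∈ irreducibleComponents X)
    {S : ShortComplex X.Modules} (hS : S.ShortExact)
    (c1 : Coh.IsCoh S.X₁) (c3 : Coh.IsCoh S.X₃) :
    len S.X₂ η = len S.X₁ η + len S.X₃ η := by
  haveI := hS.mono_f
  haveI := hS.epi_g
  have hex : Function.Exact (stalkMapLinear S.f η) (stalkMapLinear S.g η) :=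
    stalkMap_exact_of_shortExact S hS η
  have hinj : Function.Injective (stalkMapLinear S.f η) := stalkMap_injective_of_mono S.f _
  have hsurj : Function.Surjective (stalkMapLinear S.g η) := stalkMap_surjective_of_epi S.g _
  have h := Module.length_eq_add_of_exact (stalkMapLinear S.f η) (stalkMapLinear S.g η)
    hinj hsurj hex
  unfold len
  rw [h, ENat.toNat_add (length_stalk_ne_top hη c1) (length_stalk_ne_top hη c3)]

end Len

end Groth.Agent.Lib.Helper67.GenCurve
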