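import Groth.Agent.Lib.Helper67.GenCurve2

/-!
# Direct images of ideals of integral closed subschemes: length and degree (helper67)
-/

set_option autoImplicit false
set_option linter.style.haveILetI false
universe u
open AlgebraicGeometry CategoryTheory Limits Opposite TopologicalSpace Abelian

namespace Groth.Agent.Lib.Helper67.GenCurve

open Groth.Agent.Lib.Helper67.EulerLES Groth.Agent.Lib.Helper67.CurveCoh
open Groth.Agent.Lib.Helper67.CurveDeg Groth.Agent.Lib.Helper67.CurveTors
open Groth.Agent.Lib.Helper67.ZeroDim Groth.Agent.Lib.Helper67.TensExact
open Groth.Agent.Lib.Helper67.TensZero Groth.Agent.Lib.Helper67.PushUnit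
open Groth.Agent.Lib.Helper67.TensRank
open Groth.Agent.Lib.Helper49
open Groth.Agent.Lib.Helper5.PushStalk Groth.Agent.Lib.Helper5.PullTensorIso

section LenPush

variable {Z X : Scheme.{u}} (i : Z ⟶ X) [IsClosedImmersion i]

theorem length_restrictScalars {S R : Type u} [CommRing S] [CommRing R] (φ : S →+* R)
    (hφ : Function.Surjective φ) (N : ModuleCat.{u} R) :
    Module.length S ((ModuleCat.restrictScalars φ).obj N) = Module.length R N := by
  letI : Algebra S R := φ.toAlgebra
  letI : Module S N := Module.compHom N φ
  haveI : IsScalarTower S R N := IsScalarTower.of_compHom _ _ _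
  exact Module.length_eq_of_surjective (S := S) (R := R) (M := N) hφ

/-- the length of the stalk of a direct image under a closed immersion -/
theorem length_push (z : Z) (M : Z.Modules) :
    Module.length (X.presheaf.stalk (i z))
      (((Scheme.Modules.pushforward i).obj M).presheaf.stalk (i z)) =
    Module.length (Z.presheaf.stalk z) (M.presheaf.stalk z) := by
  let e := LinearEquiv.ofBijective (pushStalkLin i z M)
    (pushStalkHom_bijective i z i.isClosedEmbedding.isInducing M)
  have h1 := e.length_eq
  have h2 := length_restrictScalars (φx i z) (i.stalkMap_surjective z)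
    ((DerSch.stalkFunctor Z z).obj M)
  exact h1.trans h2

variable [IsIntegral Z]

/-- a nonzero subsheaf of `O_Z` on an integral scheme has generic stalk of length one -/
theorem length_stalk_generic_ideal (I : Z.Modules) (ι : I ⟶ Coh.structureModule Z) [Mono ι]
    (hne : ¬ Subsingleton (I.presheaf.stalk (genericPoint Z))) :
    Module.length (Z.presheaf.stalk (genericPoint Z)) (I.presheaf.stalk (genericPoint Z)) = 1 := by
  letI : Field (Z.presheaf.stalk (genericPoint Z)) := inferInstanceAs (Field Z.functionField)
  have hinj : Function.Injective (stalkMapLinear ι (genericPoint Z)) :=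
    stalkMap_injective_of_mono ι (genericPoint Z)
  have h1 := Module.length_le_of_injective (stalkMapLinear ι (genericPoint Z)) hinj
  have hO := stalk_of_rank (rank_one_of_isInvertible
    (Groth.Agent.Lib.Helper11.GenLocus.isInvertible_structureModule Z)) (genericPoint Z)
  haveI := hO.2.1
  have h2 : Module.length (Z.presheaf.stalk (genericPoint Z))
      ((Coh.structureModule Z).presheaf.stalk (genericPoint Z)) = 1 := by
    rw [Module.length_eq_finrank, hO.2.2]
    rfl
  rw [h2] at h1
  haveI : Nontrivial (I.presheaf.stalk (genericPoint Z)) := not_subsingleton_iff_nontrivial.mp hne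
  have h3 : 0 < Module.length (Z.presheaf.stalk (genericPoint Z))
      (I.presheaf.stalk (genericPoint Z)) := Module.length_pos
  exact le_antisymm h1 (Order.one_le_iff_pos.mpr h3)

/-- the direct image of a nonzero ideal of an integral closed subscheme has length one at the
image of the generic point -/
theorem len_push_ideal (I : Z.Modules) (ι : I ⟶ Coh.structureModule Z) [Mono ι]
    (hne : ¬ Subsingleton (((Scheme.Modules.pushforward i).obj I).presheaf.stalk
      (i (genericPoint Z)))) :
    len ((Scheme.Modules.pushforward i).obj I) (i (genericPoint Z)) = 1 := by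
  have h := length_push i (genericPoint Z) I
  have hne' : ¬ Subsingleton (I.presheaf.stalk (genericPoint Z)) := by
    intro hs
    apply hne
    rw [← Module.length_eq_zero_iff (R := X.presheaf.stalk (i (genericPoint Z))), h,
      Module.length_eq_zero_iff]
    exact hs
  unfold len
  rw [h, length_stalk_generic_ideal I ι hne']
  rfl

end LenPush

end Groth.Agent.Lib.Helper67.GenCurve
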