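import Groth.Agent.Lib.Helper67.GenCurve3

/-!
# Identifying an integral closed subscheme with the reduced induced structure (helper67)
-/

set_option autoImplicit false
set_option linter.style.haveILetI false
universe u
open AlgebraicGeometry CategoryTheory Limits Opposite TopologicalSpace Abelian

namespace Groth.Agent.Lib.Helper67.GenCurve

open Groth.Agent.Lib.Helper67.EulerLES Groth.Agent.Lib.Helper67.CurveCoh
open Groth.Agent.Lib.Helper67.CurveDeg Groth.Agent.Lib.Helper67.CurveTors
open Groth.Agent.Lib.Helper67.ZeroDim Groth.Agent.Lib.Helper67.TensExact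
open Groth.Agent.Lib.Helper67.TensZero Groth.Agent.Lib.Helper67.PushUnit
open Groth.Agent.Lib.Helper67.TensRank
open Groth.Agent.Lib.Helper49

section KerRad

variable {Z X : Scheme.{u}} (i : Z ⟶ X) [IsClosedImmersion i]

/-- the ideal of a reduced closed subscheme is radical -/
theorem ker_radical_eq [IsReduced Z] : i.ker.radical = i.ker := by
  refine Scheme.IdealSheafData.ext (funext fun U => ?_)
  rw [Scheme.IdealSheafData.radical_ideal, i.ker_apply U]
  refine Ideal.IsRadical.radical ?_
  intro a ha
  obtain ⟨n, hn⟩ := ha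
  rw [RingHom.mem_ker, map_pow] at hn
  exact RingHom.mem_ker.mpr (IsReduced.eq_zero _ ⟨n, hn⟩)

/-- the ideal of a reduced closed subscheme is the radical of any ideal with the same support -/
theorem ker_eq_radical_of_support_eq [IsReduced Z] (J : X.IdealSheafData)
    (hJ : (J.support : Set X) = Set.range i) : i.ker = J.radical := by
  rw [← ker_radical_eq i, ← Scheme.IdealSheafData.vanishingIdeal_support,
    ← Scheme.IdealSheafData.vanishingIdeal_support]
  congr 1
  apply TopologicalSpace.Closeds.ext
  rw [hJ, i.support_ker, i.isClosedEmbedding.isClosed_range.closure_eq]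

end KerRad

variable (k : Type u) [Field k]

section DegIdent

variable {Z X : Scheme.{u}} [X.Over (Spec (CommRingCat.of k))]
  [IsProper (X ↘ Spec (CommRingCat.of k))]
  (hdim : topologicalKrullDim X ≤ 1) (E : X.Modules) {n : ℕ}
  (hE : FlatMod.IsFinLocFreeOfRank n E)

theorem isCoh_structureModule (Z : Scheme.{u}) : Coh.IsCoh (Coh.structureModule Z) :=
  ⟨isQuasicoherent_structureModule Z, Groth.Agent.Lib.Helper49.isFiniteType_unit Z⟩

include hdim hE in
/-- `deg_Z(i^* E) = δ_E(i_* O_Z)` for a closed immersion from an integral scheme -/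
theorem deg_pull_eq_delta (i : Z ⟶ X) [IsClosedImmersion i] [IsIntegral Z] :
    @Curv2.deg k _ Z ⟨i ≫ (X ↘ Spec (CommRingCat.of k))⟩
      ((Scheme.Modules.pullback i).obj E) n =
    delta k X E n ((Scheme.Modules.pushforward i).obj (Coh.structureModule Z)) := by
  have h := delta_push k hdim E hE i (Coh.structureModule Z) (isCoh_structureModule Z)
  rw [rk_structureModule] at h
  rw [h]
  simp

/-- `i_* O_Z ≅ ι_* O_{im i}` for a closed immersion `i` -/
noncomputable def pushUnitImageIso (i : Z ⟶ X) [IsClosedImmersion i] :
    (Scheme.Modules.pushforward i).obj (Coh.structureModule Z) ≅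
      (Scheme.Modules.pushforward i.ker.subschemeι).obj (Coh.structureModule i.ker.subscheme) :=
  (Scheme.Modules.pushforwardCongr (i.toImage_imageι).symm).app (Coh.structureModule Z) ≪≫
    ((Scheme.Modules.pushforwardComp i.toImage i.imageι).symm.app (Coh.structureModule Z)) ≪≫
    (Scheme.Modules.pushforward i.imageι).mapIso (pushUnitIso i.toImage).symm

include hdim hE in
theorem delta_push_unit_eq_of_ker_eq (i : Z ⟶ X) [IsClosedImmersion i] [IsIntegral Z]
    (K : X.IdealSheafData) (hK : i.ker = K) :
    delta k X E n ((Scheme.Modules.pushforward i).obj (Coh.structureModule Z)) =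
      @Curv2.deg k _ K.subscheme ⟨K.subschemeι ≫ (X ↘ Spec (CommRingCat.of k))⟩
        ((Scheme.Modules.pullback K.subschemeι).obj E) n := by
  subst hK
  haveI : Nonempty i.ker.subscheme := ⟨i.toImage (genericPoint Z)⟩
  haveI : IsIntegral i.ker.subscheme := isIntegral_of_isOpenImmersion (inv i.toImage)
  rw [deg_pull_eq_delta k hdim E hE i.ker.subschemeι]
  exact delta_eq_of_iso k X E n (pushUnitImageIso i)

end DegIdent

end Groth.Agent.Lib.Helper67.GenCurve
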