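import Groth.Agent.Lib.Helper67.GenCurve4

/-!
# `χ(F ⊗ E) = Σ_Z length(F_{ξ_Z}) · deg(E|_{Z_red}) + n χ(F)` on proper schemes of dimension `≤ 1`
(helper67)
-/

set_option autoImplicit false
set_option linter.style.haveILetI false
universe u
open AlgebraicGeometry CategoryTheory Limits Opposite TopologicalSpace Abelian

namespace Groth.Agent.Lib.Helper67.GenCurve

open Groth.Agent.Lib.Helper67.EulerLES Groth.Agent.Lib.Helper67.CurveCoh
open Groth.Agent.Lib.Helper67.CurveDeg Groth.Agent.Lib.Helper67.CurveTors
open Groth.Agent.Lib.Helper67.ZeroDim Groth.Agent.Lib.Helper67.TensExact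
open Groth.Agent.Lib.Helper67.TensZero Groth.Agent.Lib.Helper67.PushUnit
open Groth.Agent.Lib.Helper67.TensRank
open Groth.Agent.Lib.Helper49

variable (k : Type u) [Field k] (X : Scheme.{u}) [X.Over (Spec (CommRingCat.of k))]
  [IsNoetherian X] (E : X.Modules) (n : ℕ)

/-- the degree of `E` restricted to an irreducible component with its reduced structure -/
noncomputable def degComp (Z : irreducibleComponents (X : Type u)) : ℤ :=
  @Curv2.deg k _ (X.irreducibleComponentIdeal Z.1 Z.2).radical.subscheme
    ⟨(X.irreducibleComponentIdeal Z.1 Z.2).radical.subschemeι ≫ (X ↘ Spec (CommRingCat.of k))⟩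
    ((Scheme.Modules.pullback (X.irreducibleComponentIdeal Z.1 Z.2).radical.subschemeι).obj E) n

/-- `Σ_Z length(F_{ξ_Z}) · deg(E|_{Z_red})` -/
noncomputable def Lam (F : X.Modules) : ℤ :=
  ∑ᶠ Z : irreducibleComponents (X : Type u),
    (len F Z.2.1.genericPoint : ℤ) * degComp k X E n Z

section Top

omit [AlgebraicGeometry.IsNoetherian X] in
theorem closure_genericPoint_comp (Z : irreducibleComponents (X : Type u)) :
    closure ({Z.2.1.genericPoint} : Set X) = Z.1 :=
  Z.2.1.closure_genericPoint (isClosed_of_mem_irreducibleComponents Z.1 Z.2)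

omit [AlgebraicGeometry.IsNoetherian X] in
theorem closure_genericPoint_mem (Z : irreducibleComponents (X : Type u)) :
    closure ({Z.2.1.genericPoint} : Set X) ∈ irreducibleComponents (X : Type u) := by
  rw [closure_genericPoint_comp]
  exact Z.2

omit [AlgebraicGeometry.IsNoetherian X] in
theorem genericPoint_not_mem_of_ne {W : Set X} (hWc : IsClosed W) (hWi : IsIrreducible W)
    (Z : irreducibleComponents (X : Type u)) (hZW : Z.1 ≠ W) : Z.2.1.genericPoint ∉ W := by
  intro hmem
  have h1 : Z.1 ⊆ W := by
    rw [← closure_genericPoint_comp X Z]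
    exact closure_minimal (Set.singleton_subset_iff.mpr hmem) hWc
  have h2 : W ⊆ Z.1 := Z.2.2 hWi h1
  exact hZW (Set.Subset.antisymm h1 h2)

end Top

section LamLemmas

theorem Lam_eq_of_iso {F F' : X.Modules} (e : F ≅ F') : Lam k X E n F = Lam k X E n F' := by
  unfold Lam
  refine finsum_congr fun Z => ?_
  rw [len_eq_of_iso e]

theorem Lam_eq_zero {F : X.Modules}
    (h : ∀ Z : irreducibleComponents (X : Type u),
      Subsingleton (F.presheaf.stalk Z.2.1.genericPoint)) : Lam k X E n F = 0 := by
  unfold Lam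
  refine finsum_eq_zero_of_forall_eq_zero fun Z => ?_
  rw [len_eq_zero_of_subsingleton (h Z)]
  simp

theorem Lam_additive {S : ShortComplex X.Modules} (hS : S.ShortExact)
    (c1 : Coh.IsCoh S.X₁) (c3 : Coh.IsCoh S.X₃) :
    Lam k X E n S.X₂ = Lam k X E n S.X₁ + Lam k X E n S.X₃ := by
  haveI : Finite (irreducibleComponents (X : Type u)) :=
    (NoetherianSpace.finite_irreducibleComponents).to_subtype
  unfold Lam
  rw [← finsum_add_distrib (Set.toFinite _) (Set.toFinite _)]
  refine finsum_congr fun Z => ?_
  rw [len_additive (closure_genericPoint_mem X Z) hS c1 c3]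
  push_cast
  ring

end LamLemmas

end Groth.Agent.Lib.Helper67.GenCurve
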