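import Groth.Agent.Lib.Helper67.GenCurve5

/-!
# The main formula on proper schemes of dimension `≤ 1` (helper67)

`χ(F ⊗ E) - n χ(F) = Σ_Z length(F_{ξ_Z}) · deg(E|_{Z_red})`.
-/

set_option autoImplicit false
set_option linter.style.haveILetI false
universe u
open AlgebraicGeometry CategoryTheory Limits Opposite TopologicalSpace Abelian

namespace Groth.Agent.Lib.Helper67.GenCurve

open Groth.Agent.Lib.Helper67.EulerLES Groth.Agent.Lib.Helper67.CurveCoh
open Groth.Agent.Lib.Helper67.CurveDeg Groth.Agent.Lib.Helper67.CurveTors
open Groth.Agent.Lib.Helper67.ZeroDim Groth.Agent.Lib.Helper67.TensExact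
open Groth.Agent.Lib.Helper67.TensZero Groth.Agent.Lib.Helper67.PushUnit
open Groth.Agent.Lib.Helper67.TensRank
open Groth.Agent.Lib.Helper49

variable (k : Type u) [Field k] (X : Scheme.{u}) [X.Over (Spec (CommRingCat.of k))]
  [IsProper (X ↘ Spec (CommRingCat.of k))] [IsNoetherian X]
  (hdim : topologicalKrullDim X ≤ 1)
  (E : X.Modules) {n : ℕ} (hE : FlatMod.IsFinLocFreeOfRank n E)

/-- the generic rank of a nonzero subsheaf of `O_Z` is one -/
theorem rk_ideal_eq_one {Z : Scheme.{u}} [IsIntegral Z] (I : Z.Modules)
    (ι : I ⟶ Coh.structureModule Z) [Mono ι] (hI : Coh.IsCoh I)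
    (hne : ¬ Subsingleton (I.presheaf.stalk (genericPoint Z))) : rk I = 1 := by
  have h := length_stalk_generic_ideal I ι hne
  letI : Field (Z.presheaf.stalk (genericPoint Z)) := inferInstanceAs (Field Z.functionField)
  haveI := finite_stalk_of_isCoh hI (genericPoint Z)
  rw [Module.length_eq_finrank] at h
  unfold rk
  exact_mod_cast h

include hdim hE in
/-- the main formula for the direct image of an ideal of an integral closed subscheme -/
theorem main_push (Z' : Scheme.{u}) (i : Z' ⟶ X) [IsClosedImmersion i] [IsIntegral Z']
    (I : Z'.Modules) (ι : I ⟶ Coh.structureModule Z') [Mono ι] (hI : I.IsQuasicoherent) :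
    delta k X E n ((Scheme.Modules.pushforward i).obj I) =
      Lam k X E n ((Scheme.Modules.pushforward i).obj I) := by
  haveI : IsLocallyNoetherian Z' := LocallyOfFiniteType.isLocallyNoetherian i
  have hIcoh : Coh.IsCoh I := by
    haveI := isQuasicoherent_structureModule Z'
    exact ⟨hI, Groth.Agent.Lib.Helper49.isFiniteType_of_mono ι
      (Groth.Agent.Lib.Helper49.isFiniteType_unit Z')⟩
  have hGcoh : Coh.IsCoh ((Scheme.Modules.pushforward i).obj I) :=
    Groth.Agent.S0019.result i I hIcoh
  have hWc : IsClosed (Set.range i) := i.isClosedEmbedding.isClosed_range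
  have hWi : IsIrreducible (Set.range i) := by
    rw [← Set.image_univ]
    exact (IrreducibleSpace.isIrreducible_univ Z').image i i.continuous.continuousOn
  have hη : closure ({i (genericPoint Z')} : Set X) = Set.range i := by
    have h := (genericPoint_spec Z').image i.continuous
    rw [Set.image_univ, hWc.closure_eq] at h
    exact h
  -- vanishing of stalks off the image
  have hoff : ∀ x : X, x ∉ Set.range i →
      Subsingleton (((Scheme.Modules.pushforward i).obj I).presheaf.stalk x) := by
    intro x hx
    apply subsingleton_stalk_push_of_not_mem i I x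
    rw [hWc.closure_eq]
    exact hx
  by_cases hW : Set.range i ∈ irreducibleComponents (X : Type u)
  swap
  · -- the image is not a component: everything vanishes
    have hLam : Lam k X E n ((Scheme.Modules.pushforward i).obj I) = 0 := by
      apply Lam_eq_zero
      intro Z
      apply hoff
      apply genericPoint_not_mem_of_ne X hWc hWi Z
      intro h
      exact hW (h ▸ Z.2)
    have hsupp : ClosedSupp ((Scheme.Modules.pushforward i).obj I) := by
      intro x hx
      have hxW : x ∈ Set.range i := by
        by_contra h
        exact hx (hoff x h)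
      rcases isClosed_singleton_or_mem_irreducibleComponents hdim x with hc | hc
      · exact hc
      · exfalso
        apply hW
        have h1 : closure ({x} : Set X) ⊆ Set.range i :=
          closure_minimal (Set.singleton_subset_iff.mpr hxW) hWc
        have h2 : Set.range i ⊆ closure ({x} : Set X) := hc.2 hWi h1
        rw [← Set.Subset.antisymm h1 h2]
        exact hc
    rw [hLam, delta_eq_zero_of_closedSupp k X E hE _ hGcoh hsupp]
  -- the image is a component
  by_cases hsub : Subsingleton (((Scheme.Modules.pushforward i).obj I).presheaf.stalk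
      (i (genericPoint Z')))
  · -- the ideal is zero
    have hI0 : IsZero I := isZero_of_subsingleton_stalk_push i I ι hsub
    have hG0 : IsZero ((Scheme.Modules.pushforward i).obj I) := by
      rw [Helper45.isZero_iff_sections_subsingleton]
      intro U
      exact (Helper45.isZero_iff_sections_subsingleton I).mp hI0 (i ⁻¹ᵁ U)
    have hst := (Helper45.isZero_iff_stalk_subsingleton _).mp hG0
    rw [Lam_eq_zero k X E n (fun Z => hst _),
      delta_eq_zero_of_closedSupp k X E hE _ hGcoh (closedSupp_of_isZero hG0)]
  -- the main case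
  let Z₀ : irreducibleComponents (X : Type u) := ⟨Set.range i, hW⟩
  have hgen : Z₀.2.1.genericPoint = i (genericPoint Z') := by
    have h1 : IsGenericPoint Z₀.2.1.genericPoint (Set.range i) := closure_genericPoint_comp X Z₀
    have h2 : IsGenericPoint (i (genericPoint Z')) (Set.range i) := hη
    exact h1.eq h2
  have hLam : Lam k X E n ((Scheme.Modules.pushforward i).obj I) = degComp k X E n Z₀ := by
    unfold Lam
    rw [finsum_eq_single _ Z₀]
    · rw [hgen, len_push_ideal i I ι hsub]
      simp
    · intro Z hZ
      have hZne : Z.1 ≠ Set.range i := fun h => hZ (Subtype.ext h)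
      rw [len_eq_zero_of_subsingleton (hoff _ (genericPoint_not_mem_of_ne X hWc hWi Z hZne))]
      simp
  have hne' : ¬ Subsingleton (I.presheaf.stalk (genericPoint Z')) := by
    intro hs
    apply hsub
    rw [← Module.length_eq_zero_iff (R := X.presheaf.stalk (i (genericPoint Z'))),
      length_push i (genericPoint Z') I, Module.length_eq_zero_iff]
    exact hs
  have hrk := rk_ideal_eq_one I ι hIcoh hne'
  have hK : i.ker = (X.irreducibleComponentIdeal Z₀.1 Z₀.2).radical :=
    ker_eq_radical_of_support_eq i _ rfl
  rw [hLam, delta_push k hdim E hE i I hIcoh, hrk, deg_pull_eq_delta k hdim E hE i,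
    delta_push_unit_eq_of_ker_eq k hdim E hE i _ hK]
  unfold degComp
  simp

include hdim hE in
/-- **`χ(F ⊗ E) - n χ(F) = Σ_Z length(F_{ξ_Z}) · deg(E|_{Z_red})`** -/
theorem main (F : X.Modules) (hF : Coh.IsCoh F) :
    delta k X E n F = Lam k X E n F := by
  rcases isEmpty_or_nonempty X with hemp | hne
  · haveI : IsEmpty (irreducibleComponents (X : Type u)) :=
      ⟨fun Z => hemp.elim Z.2.1.nonempty.some⟩
    unfold delta Lam
    rw [euler_eq_zero_of_isEmpty, euler_eq_zero_of_isEmpty, finsum_of_isEmpty]
    simp
  refine Groth.Agent.S0027.result X (fun F => delta k X E n F = Lam k X E n F) ?_ ?_ ?_ F hF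
  · rintro M N ⟨e⟩ hM
    rw [← delta_eq_of_iso k X E n e, ← Lam_eq_of_iso k X E n e]
    exact hM
  · intro S hS c1 c2 c3 h1 h3
    rw [delta_additive k X hdim E hE hS c1 c2 c3, Lam_additive k X E n hS c1 c3, h1, h3]
  · intro Z' i hi hZ' I ι hι hI
    haveI := hi
    haveI := hZ'
    haveI := hι
    exact main_push k X hdim E hE Z' i I ι hI

end Groth.Agent.Lib.Helper67.GenCurve

namespace Groth.Agent.Lib.Helper67.GenCurve

/-- if every irreducible component has dimension `≤ 1` then so does the space -/
theorem topologicalKrullDim_le_of_components {T : Type*} [TopologicalSpace T] [QuasiSober T]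
    [T0Space T] (d : WithBot ℕ∞)
    (h : ∀ Z ∈ irreducibleComponents T, topologicalKrullDim Z ≤ d) :
    topologicalKrullDim T ≤ d := by
  refine (Groth.Agent.Lib.Helper55.topologicalKrullDim_le_iSup_closure).trans ?_
  refine iSup_le fun x => ?_
  obtain ⟨C, hC, hxC⟩ := exists_mem_irreducibleComponents_subset_of_isIrreducible
    (closure ({x} : Set T)) isIrreducible_singleton.closure
  exact ((Topology.IsEmbedding.inclusion hxC).isInducing.topologicalKrullDim_le).trans (h C hC)

end Groth.Agent.Lib.Helper67.GenCurve
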