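import Groth.Agent.Lib.Helper67.GenCurve7
import Groth.Agent.Lib.Helper11.PullbackTensor

/-!
# Euler characteristic of tensor powers on proper schemes of dimension `≤ 1`; the intersection
number `(L · Z)` of an invertible module with a closed subscheme of dimension `≤ 1` (helper67)
-/

set_option autoImplicit false
set_option linter.style.haveILetI false
universe u
open AlgebraicGeometry CategoryTheory Limits Opposite TopologicalSpace Abelian

namespace Groth.Agent.Lib.Helper67.GenCurve

open Groth.Agent.Lib.Helper67.EulerLES Groth.Agent.Lib.Helper67.CurveCoh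
open Groth.Agent.Lib.Helper67.CurveDeg Groth.Agent.Lib.Helper67.CurveTors
open Groth.Agent.Lib.Helper67.TensRank
open Groth.Agent.Lib.Helper49

variable (k : Type u) [Field k]

section Pow

variable (X : Scheme.{u}) [X.Over (Spec (CommRingCat.of k))]
  [IsProper (X ↘ Spec (CommRingCat.of k))] [IsNoetherian X]

/-- **`χ(M^{⊗ n}) = n · deg M + χ(O)`** on a proper scheme of dimension `≤ 1` -/
theorem euler_tensorPow (hdim : topologicalKrullDim X ≤ 1) {M : X.Modules}
    (hM : PicF.IsInvertible M) (n : ℕ) :
    Curv2.euler k X (CohB1.tensorPow M n) =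
      n * Curv2.deg k X M 1 + Curv2.euler k X (Coh.structureModule X) := by
  induction n with
  | zero =>
    change Curv2.euler k X (Coh.structureModule X) = _
    simp
  | succ n ih =>
    change Curv2.euler k X (CohB1.tensorMod (CohB1.tensorPow M n) M) = _
    have hV := rank_one_of_isInvertible
      (Groth.Agent.Lib.Helper11.GenLocus.isInvertible_tensorPow hM n)
    rw [euler_tensor_of_rank k X M (rank_one_of_isInvertible hM) hdim hV, ih]
    push_cast
    ring

end Pow

section Int

variable (X : Scheme.{u}) [X.Over (Spec (CommRingCat.of k))]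
  [IsProper (X ↘ Spec (CommRingCat.of k))]

/-- `χ(X, O_Z ⊗ L^{⊗ n}) = n · deg_Z(L|_Z) + χ(O_Z)` for a closed subscheme `Z` of dimension
`≤ 1` -/
theorem euler_quotMod_tensorPow (D : X.IdealSheafData)
    (hD : topologicalKrullDim (D.support : Set X) ≤ 1)
    {L : X.Modules} (hL : PicF.IsInvertible L) (n : ℕ) :
    Curv2.euler k X (CohB1.tensorMod (ClSub.quotMod D) (CohB1.tensorPow L n)) =
      n * @Curv2.deg k _ D.subscheme ⟨D.subschemeι ≫ (X ↘ Spec (CommRingCat.of k))⟩
        ((Scheme.Modules.pullback D.subschemeι).obj L) 1 +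
      @Curv2.euler k _ D.subscheme ⟨D.subschemeι ≫ (X ↘ Spec (CommRingCat.of k))⟩
        (Coh.structureModule D.subscheme) := by
  letI : D.subscheme.Over (Spec (CommRingCat.of k)) :=
    ⟨D.subschemeι ≫ (X ↘ Spec (CommRingCat.of k))⟩
  haveI : IsProper (D.subscheme ↘ Spec (CommRingCat.of k)) :=
    inferInstanceAs (IsProper (D.subschemeι ≫ (X ↘ Spec (CommRingCat.of k))))
  haveI : IsNoetherian D.subscheme :=
    Groth.Agent.Lib.Helper67.CurveP1.isNoetherian_of_proper k
      (D.subscheme ↘ Spec (CommRingCat.of k))
  have hdimZ : topologicalKrullDim D.subscheme ≤ 1 := by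
    have hr : ∀ z : D.subscheme, D.subschemeι z ∈ (D.support : Set X) := by
      intro z
      rw [← D.range_subschemeι]
      exact ⟨z, rfl⟩
    have hind : Topology.IsInducing
        (Set.codRestrict (fun z : D.subscheme => D.subschemeι z) (D.support : Set X) hr) :=
      (D.subschemeι.isClosedEmbedding.isInducing).codRestrict hr
    exact hind.topologicalKrullDim_le.trans hD
  set M := (Scheme.Modules.pullback D.subschemeι).obj L with hMdef
  have hM : PicF.IsInvertible M :=
    Groth.Agent.Lib.Helper11.PullbackTensor.isInvertible_pullback D.subschemeι hL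
  have e1 := pushTensIso D.subschemeι (Coh.structureModule D.subscheme) (CohB1.tensorPow L n)
  have e2 : CohB1.tensorMod (Coh.structureModule D.subscheme)
      ((Scheme.Modules.pullback D.subschemeι).obj (CohB1.tensorPow L n)) ≅ CohB1.tensorPow M n :=
    Groth.Agent.Lib.Helper11.GenLocus.unitTensorIso _ ≪≫
      Groth.Agent.Lib.Helper11.PullbackTensor.pullbackTensorPowIso D.subschemeι hL n
  have hq : (CohB1.tensorPow M n).IsQuasicoherent :=
    (isCoh_of_rank (rank_one_of_isInvertible
      (Groth.Agent.Lib.Helper11.GenLocus.isInvertible_tensorPow hM n))).1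
  change Curv2.euler k X (CohB1.tensorMod
    ((Scheme.Modules.pushforward D.subschemeι).obj (Coh.structureModule D.subscheme))
    (CohB1.tensorPow L n)) = _
  rw [euler_eq_of_iso k e1,
    euler_eq_of_iso k ((Scheme.Modules.pushforward D.subschemeι).mapIso e2),
    euler_push k D.subschemeι rfl (CohB1.tensorPow M n),
    euler_tensorPow k D.subscheme hdimZ hM n]

end Int

end Groth.Agent.Lib.Helper67.GenCurve
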