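/-
Helper library (helper67): graded algebras generated by finitely many homogeneous elements of
positive degrees.  Elements of degree `N` are values of weighted homogeneous polynomials in the
generators.
-/
import Mathlib.RingTheory.MvPolynomial.WeightedHomogeneous
import Mathlib.RingTheory.GradedAlgebra.Basic
import Mathlib.Algebra.GradedMonoid
import Mathlib.Tactic

set_option autoImplicit false

namespace Groth.Agent.Lib.Helper67

open MvPolynomial

variable {R A : Type*} [CommRing R] [CommRing A] [Algebra R A] (𝒜 : ℕ → Submodule R A)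
  [GradedAlgebra 𝒜] {s : ℕ} (f : Fin s → A) (deg : Fin s → ℕ)

theorem finsuppProd_mem_graded (hf : ∀ i, f i ∈ 𝒜 (deg i)) (d : Fin s →₀ ℕ) :
    (d.prod fun i k => f i ^ k) ∈ 𝒜 (Finsupp.weight deg d) := by
  rw [Finsupp.weight_apply, Finsupp.prod, Finsupp.sum]
  exact SetLike.prod_pow_mem_graded 𝒜 deg f (fun i => d i) (fun k _ => hf k)

theorem aeval_mem_of_isWeightedHomogeneous (hf : ∀ i, f i ∈ 𝒜 (deg i))
    {Q : MvPolynomial (Fin s) R} {m : ℕ} (hQ : IsWeightedHomogeneous deg Q m) :
    aeval f Q ∈ 𝒜 m := by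
  refine IsWeightedHomogeneous.induction_on (motive := fun p _ => aeval f p ∈ 𝒜 m) ?_ ?_ ?_ hQ
  · rw [map_zero]; exact Submodule.zero_mem _
  · intro p q _ _ ihp ihq
    rw [map_add]; exact Submodule.add_mem _ ihp ihq
  · intro d r hr
    rw [aeval_monomial, ← Algebra.smul_def]
    exact Submodule.smul_mem _ _ (hr ▸ finsuppProd_mem_graded 𝒜 f deg hf d)

/-- Every element of degree `N` is the value at the generators of a weighted homogeneous
polynomial of weighted degree `N`. -/
theorem exists_isWeightedHomogeneous_aeval_eq (hf : ∀ i, f i ∈ 𝒜 (deg i))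
    (hgen : Algebra.adjoin R (Set.range f) = ⊤) (N : ℕ) (x : A) (hx : x ∈ 𝒜 N) :
    ∃ Q : MvPolynomial (Fin s) R, IsWeightedHomogeneous deg Q N ∧ aeval f Q = x := by
  classical
  have hsurj : x ∈ (aeval f : MvPolynomial (Fin s) R →ₐ[R] A).range := by
    rw [← Algebra.adjoin_range_eq_range_aeval, hgen]; trivial
  obtain ⟨P, hPx⟩ := hsurj
  have hPx' : aeval f P = x := hPx
  subst hPx'
  refine ⟨weightedHomogeneousComponent deg N P,
    weightedHomogeneousComponent_isWeightedHomogeneous N P, ?_⟩
  have hmem : ∀ m, aeval f (weightedHomogeneousComponent deg m P) ∈ 𝒜 m := fun m =>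
    aeval_mem_of_isWeightedHomogeneous 𝒜 f deg hf
      (weightedHomogeneousComponent_isWeightedHomogeneous m P)
  have hP : P = ∑ m ∈ (weightedHomogeneousComponent_finsupp (w := deg) P).toFinset,
      weightedHomogeneousComponent deg m P := by
    conv_lhs => rw [← sum_weightedHomogeneousComponent deg P]
    exact finsum_eq_sum _ _
  have h1 : (DirectSum.decompose 𝒜 (aeval f P) N : A) = aeval f P :=
    DirectSum.decompose_of_mem_same 𝒜 hx
  rw [← h1]
  conv_rhs => rw [hP]
  rw [map_sum, DirectSum.decompose_sum, DFinsupp.finset_sum_apply,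
    AddSubmonoidClass.coe_finset_sum]
  by_cases hN : N ∈ (weightedHomogeneousComponent_finsupp (w := deg) P).toFinset
  · rw [Finset.sum_eq_single_of_mem N hN]
    · exact (DirectSum.decompose_of_mem_same 𝒜 (hmem N)).symm
    · intro m _ hm
      exact DirectSum.decompose_of_mem_ne 𝒜 (hmem m) hm
  · have h0 : weightedHomogeneousComponent deg N P = 0 := by
      simpa using hN
    rw [h0, map_zero]
    symm
    apply Finset.sum_eq_zero
    intro m hm
    have hne : m ≠ N := fun h => hN (h ▸ hm)
    exact DirectSum.decompose_of_mem_ne 𝒜 (hmem m) hne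

/-- Every element of degree `N` is a linear combination of monomials of weighted degree `N` in
the generators. -/
theorem mem_span_monomials (hf : ∀ i, f i ∈ 𝒜 (deg i))
    (hgen : Algebra.adjoin R (Set.range f) = ⊤) (N : ℕ) (x : A) (hx : x ∈ 𝒜 N) :
    x ∈ Submodule.span R
      {y : A | ∃ d : Fin s →₀ ℕ, Finsupp.weight deg d = N ∧ y = d.prod fun i k => f i ^ k} := by
  obtain ⟨Q, hQ, rfl⟩ := exists_isWeightedHomogeneous_aeval_eq 𝒜 f deg hf hgen N x hx
  refine IsWeightedHomogeneous.induction_on
    (motive := fun p _ => aeval f p ∈ Submodule.span R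
      {y : A | ∃ d : Fin s →₀ ℕ, Finsupp.weight deg d = N ∧ y = d.prod fun i k => f i ^ k})
    ?_ ?_ ?_ hQ
  · rw [map_zero]; exact Submodule.zero_mem _
  · intro p q _ _ ihp ihq
    rw [map_add]; exact Submodule.add_mem _ ihp ihq
  · intro d r hr
    rw [aeval_monomial, ← Algebra.smul_def]
    exact Submodule.smul_mem _ _ (Submodule.subset_span ⟨d, hr, rfl⟩)

end Groth.Agent.Lib.Helper67
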