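/-
Helper library (helper67): lifting powers of invariants of a quotient to invariants.
-/
import Mathlib.Algebra.Group.Action.Defs
import Mathlib.RingTheory.Ideal.Quotient.Operations
import Mathlib.Algebra.BigOperators.GroupWithZero.Action
import Mathlib.Data.Nat.Choose.Lucas
import Mathlib.Data.Finset.Powerset
import Mathlib.Algebra.Ring.Action.Basic
import Mathlib.Data.Nat.Factorization.Basic

set_option autoImplicit false

namespace Groth.Agent.Lib.Helper67

open Finset

/-- The `j`-th elementary symmetric function of the orbit of `f`. -/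
noncomputable def orbitEsymm (G : Type*) {A : Type*} [CommRing A] [Group G] [Fintype G]
    [MulSemiringAction G A] (f : A) (j : ℕ) : A :=
  ∑ S ∈ Finset.powersetCard j (Finset.univ : Finset G), ∏ h ∈ S, h • f

theorem smul_orbitEsymm {G A : Type*} [CommRing A] [Group G] [Fintype G]
    [MulSemiringAction G A] (f : A) (j : ℕ) (g : G) :
    g • orbitEsymm G f j = orbitEsymm G f j := by
  classical
  unfold orbitEsymm
  rw [Finset.smul_sum]
  simp_rw [Finset.smul_prod', ← mul_smul]
  refine Finset.sum_bij (fun S _ => S.map (Equiv.mulLeft g).toEmbedding) ?_ ?_ ?_ ?_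
  · intro S hS
    rw [Finset.mem_powersetCard] at hS ⊢
    exact ⟨Finset.subset_univ _, by rw [Finset.card_map]; exact hS.2⟩
  · intro S _ T _ h
    exact Finset.map_injective _ h
  · intro T hT
    refine ⟨T.map (Equiv.mulLeft g⁻¹).toEmbedding, ?_, ?_⟩
    · rw [Finset.mem_powersetCard] at hT ⊢
      exact ⟨Finset.subset_univ _, by rw [Finset.card_map]; exact hT.2⟩
    · ext x
      simp
  · intro S _
    rw [Finset.prod_map]
    rfl

theorem mk_orbitEsymm {G A : Type*} [CommRing A] [Group G] [Fintype G]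
    [MulSemiringAction G A] (I : Ideal A) (f : A) (hf : ∀ g : G, g • f - f ∈ I) (j : ℕ) :
    Ideal.Quotient.mk I (orbitEsymm G f j) =
      ((Fintype.card G).choose j : ℕ) * Ideal.Quotient.mk I f ^ j := by
  classical
  unfold orbitEsymm
  rw [map_sum]
  have h1 : ∀ S ∈ Finset.powersetCard j (Finset.univ : Finset G),
      Ideal.Quotient.mk I (∏ h ∈ S, h • f) = Ideal.Quotient.mk I f ^ j := by
    intro S hS
    rw [Finset.mem_powersetCard] at hS
    rw [map_prod]
    have : ∀ h ∈ S, Ideal.Quotient.mk I (h • f) = Ideal.Quotient.mk I f := by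
      intro h _
      rw [Ideal.Quotient.eq]
      exact hf h
    rw [Finset.prod_congr rfl this, Finset.prod_const, hS.2]
  rw [Finset.sum_congr rfl h1, Finset.sum_const, Finset.card_powersetCard, Finset.card_univ,
    nsmul_eq_mul]

/-- If the binomial coefficient `C(|G|, j)` is a unit of `A` and the class of `f` modulo `I` is
`G`-invariant, then `f ^ j` is congruent modulo `I` to a `G`-invariant element. -/
theorem exists_invariant_sub_pow_mem {G A : Type*} [CommRing A] [Group G] [Fintype G]
    [MulSemiringAction G A] (I : Ideal A) (f : A) (hf : ∀ g : G, g • f - f ∈ I) (j : ℕ)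
    (hu : IsUnit (((Fintype.card G).choose j : ℕ) : A)) :
    ∃ a : A, (∀ g : G, g • a = a) ∧ a - f ^ j ∈ I := by
  obtain ⟨u, hu⟩ := hu
  refine ⟨(↑u⁻¹ : A) * orbitEsymm G f j, ?_, ?_⟩
  · intro g
    rw [smul_mul', smul_orbitEsymm]
    congr 1
    have h1 : g • (u : A) = u := by
      rw [hu]
      exact map_natCast (MulSemiringAction.toRingHom G A g) _
    have h2 : g • (↑u⁻¹ : A) * (u : A) = 1 := by
      conv_lhs => rw [← h1]
      rw [← smul_mul', Units.inv_mul, smul_one]
    calc g • (↑u⁻¹ : A) = g • (↑u⁻¹ : A) * ((u : A) * (↑u⁻¹ : A)) := by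
          rw [Units.mul_inv, mul_one]
      _ = (g • (↑u⁻¹ : A) * (u : A)) * (↑u⁻¹ : A) := by ring
      _ = (↑u⁻¹ : A) := by rw [h2, one_mul]
  · rw [← Ideal.Quotient.eq, map_mul, mk_orbitEsymm I f hf j,
      ← map_natCast (Ideal.Quotient.mk I) ((Fintype.card G).choose j), ← hu, map_pow, ← mul_assoc,
      ← map_mul, Units.inv_mul, map_one, one_mul]

/-- `p` does not divide `C(N, p ^ v_p(N))`. -/
theorem not_dvd_choose_ordProj (p N : ℕ) (hp : p.Prime) (hN : N ≠ 0) :
    ¬ p ∣ N.choose (p ^ N.factorization p) := by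
  have : Fact p.Prime := ⟨hp⟩
  intro h
  have h1 : N = p ^ N.factorization p * (N / p ^ N.factorization p) :=
    (Nat.ordProj_mul_ordCompl_eq_self N p).symm
  have h2 : (p ^ N.factorization p * (N / p ^ N.factorization p)).choose
      (p ^ N.factorization p * 1) ≡ (N / p ^ N.factorization p).choose 1 [MOD p] :=
    Choose.choose_pow_mul_pow_mul_modEq_choose_nat
  rw [← h1, mul_one, Nat.choose_one_right] at h2
  have h3 : p ∣ N / p ^ N.factorization p := by
    rw [Nat.dvd_iff_mod_eq_zero] at h ⊢
    rw [← h2, h]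
  exact Nat.not_dvd_ordCompl hp hN h3

end Groth.Agent.Lib.Helper67
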