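import Groth.Agent.Lib.Helper67.CurveSections
import Groth.Agent.Lib.Helper45.InvBasis
import Groth.Agent.Lib.Helper49.AffineHom

/-!
# Embedding a sheaf of modules with local bases on an integral scheme into the rational functions
-/

set_option autoImplicit false
universe u
open CategoryTheory AlgebraicGeometry TopologicalSpace Opposite

noncomputable section

namespace Groth.Agent.Lib.Helper67.KEmbed

open Groth.Agent.Lib.Helper45 Groth.Agent.Lib.Helper49 Groth.Agent.Lib.Helper67.CurveSections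

section Coef

variable {X : Scheme.{u}} {L : X.Modules} {V : X.Opens} {t : Γ(L, V)}

/-- the coefficient of a section with respect to a basis -/
def coefEquiv (ht : IsBasisOn L V t) (W : X.Opens) (h : W ≤ V) : Γ(X, W) ≃+ Γ(L, W) :=
  AddEquiv.ofBijective
    ({ toFun := fun r => r • mres L h t
       map_zero' := zero_smul _ _
       map_add' := fun a b => add_smul a b _ } : Γ(X, W) →+ Γ(L, W))
    (ht W h)

theorem coefEquiv_apply (ht : IsBasisOn L V t) (W : X.Opens) (h : W ≤ V) (r : Γ(X, W)) :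
    coefEquiv ht W h r = r • mres L h t := rfl

theorem coefEquiv_symm_smul (ht : IsBasisOn L V t) (W : X.Opens) (h : W ≤ V) (s : Γ(L, W)) :
    (coefEquiv ht W h).symm s • mres L h t = s :=
  (coefEquiv ht W h).apply_symm_apply s

theorem coef_res (ht : IsBasisOn L V t) {W W' : X.Opens} (h : W ≤ V) (h' : W' ≤ W)
    (s : Γ(L, W)) :
    (coefEquiv ht W' (h'.trans h)).symm (mres L h' s) = fres h' ((coefEquiv ht W h).symm s) := by
  apply (coefEquiv ht W' (h'.trans h)).injective
  rw [AddEquiv.apply_symm_apply, coefEquiv_apply]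
  conv_lhs => rw [← coefEquiv_symm_smul ht W h s]
  rw [mres_smul, mres_mres]

theorem coef_smul (ht : IsBasisOn L V t) {W : X.Opens} (h : W ≤ V) (r : Γ(X, W)) (s : Γ(L, W)) :
    (coefEquiv ht W h).symm (r • s) = r * (coefEquiv ht W h).symm s := by
  apply (coefEquiv ht W h).injective
  rw [AddEquiv.apply_symm_apply, coefEquiv_apply, mul_smul, coefEquiv_symm_smul]

end Coef

variable {C : Scheme.{u}} [IsIntegral C]

instance nonempty_inf (W V : C.Opens) [Nonempty W] [Nonempty V] : Nonempty (W ⊓ V : C.Opens) :=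
  ⟨⟨genericPoint C, ⟨genericPoint_mem W, genericPoint_mem V⟩⟩⟩

theorem fres_injective {V W : C.Opens} [Nonempty V] [Nonempty W] (h : V ≤ W) :
    Function.Injective (fres h : Γ(C, W) →+* Γ(C, V)) := by
  intro a b hab
  apply C.germToFunctionField_injective W
  rw [← germToFunctionField_res (homOfLE h) a, ← germToFunctionField_res (homOfLE h) b]
  exact congrArg _ hab

theorem germ_fres {V W : C.Opens} [Nonempty V] [Nonempty W] (h : V ≤ W) (a : Γ(C, W)) :
    C.germToFunctionField V (fres h a) = C.germToFunctionField W a :=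
  germToFunctionField_res (homOfLE h) a

/-- an embedding of a sheaf of modules into the constant sheaf of rational functions -/
structure KEmb (L : C.Modules) where
  /-- the embedding on sections -/
  ρ : ∀ (W : C.Opens) [Nonempty W], Γ(L, W) →+ C.functionField
  res : ∀ {V W : C.Opens} [Nonempty V] [Nonempty W] (h : V ≤ W) (s : Γ(L, W)),
    ρ V (mres L h s) = ρ W s
  smul : ∀ (W : C.Opens) [Nonempty W] (r : Γ(C, W)) (s : Γ(L, W)),
    ρ W (r • s) = C.germToFunctionField W r * ρ W s
  inj : ∀ (W : C.Opens) [Nonempty W], Function.Injective (ρ W)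

variable {L : C.Modules}

/-- the value of an embedding on a multiple of a basis -/
theorem KEmb.eq_coef_mul (e : KEmb L) {V : C.Opens} [Nonempty V] {t : Γ(L, V)}
    (ht : IsBasisOn L V t) {W : C.Opens} [Nonempty W] (h : W ≤ V) (s : Γ(L, W)) :
    e.ρ W s = C.germToFunctionField W ((coefEquiv ht W h).symm s) * e.ρ V t := by
  conv_lhs => rw [← coefEquiv_symm_smul ht W h s]
  rw [e.smul, e.res]

section OfBasis

variable {V₀ : C.Opens} [Nonempty V₀] {t₀ : Γ(L, V₀)} (ht₀ : IsBasisOn L V₀ t₀)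

/-- the coefficient with respect to a fixed basis, as a rational function -/
def rhoOfBasis (W : C.Opens) [Nonempty W] : Γ(L, W) →+ C.functionField :=
  (C.germToFunctionField (W ⊓ V₀)).hom.toAddMonoidHom.comp
    ((coefEquiv ht₀ (W ⊓ V₀) inf_le_right).symm.toAddMonoidHom.comp (mres L inf_le_left))

theorem rhoOfBasis_apply (W : C.Opens) [Nonempty W] (s : Γ(L, W)) :
    rhoOfBasis ht₀ W s = C.germToFunctionField (W ⊓ V₀)
      ((coefEquiv ht₀ (W ⊓ V₀) inf_le_right).symm (mres L inf_le_left s)) := rfl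

theorem rhoOfBasis_res {V W : C.Opens} [Nonempty V] [Nonempty W] (h : V ≤ W) (s : Γ(L, W)) :
    rhoOfBasis ht₀ V (mres L h s) = rhoOfBasis ht₀ W s := by
  rw [rhoOfBasis_apply, rhoOfBasis_apply, mres_mres]
  have h1 : mres L (inf_le_left.trans h : V ⊓ V₀ ≤ W) s =
      mres L (inf_le_inf_right V₀ h) (mres L (inf_le_left : W ⊓ V₀ ≤ W) s) := by
    rw [mres_mres]
  rw [h1, coef_res ht₀ inf_le_right (inf_le_inf_right V₀ h), germ_fres]

theorem rhoOfBasis_smul (W : C.Opens) [Nonempty W] (r : Γ(C, W)) (s : Γ(L, W)) :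
    rhoOfBasis ht₀ W (r • s) = C.germToFunctionField W r * rhoOfBasis ht₀ W s := by
  rw [rhoOfBasis_apply, rhoOfBasis_apply, mres_smul, coef_smul, map_mul, germ_fres]

theorem rhoOfBasis_inj (hloc : ∀ x : C, ∃ V : C.Opens, x ∈ V ∧ ∃ t : Γ(L, V), IsBasisOn L V t)
    (W : C.Opens) [Nonempty W] : Function.Injective (rhoOfBasis ht₀ W) := by
  rw [injective_iff_map_eq_zero]
  intro s hs
  rw [rhoOfBasis_apply] at hs
  have h0 : mres L (inf_le_left : W ⊓ V₀ ≤ W) s = 0 := by
    have h1 := C.germToFunctionField_injective (W ⊓ V₀)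
      (hs.trans (map_zero (C.germToFunctionField (W ⊓ V₀)).hom).symm)
    have h2 := (coefEquiv ht₀ (W ⊓ V₀) inf_le_right).symm.injective
      (h1.trans (map_zero (coefEquiv ht₀ (W ⊓ V₀) inf_le_right).symm).symm)
    exact h2
  choose Vy hyVy ty hty using hloc
  have hle : ∀ y : W, W ⊓ Vy y.1 ≤ W := fun y => inf_le_left
  apply TopCat.Sheaf.eq_of_locally_eq' ⟨L.presheaf, L.isSheaf⟩ (fun y : W => W ⊓ Vy y.1) W
    (fun y => homOfLE (hle y)) (fun x hx => Opens.mem_iSup.mpr ⟨⟨x, hx⟩, ⟨hx, hyVy x⟩⟩)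
  intro y
  change mres L (hle y) s = mres L (hle y) 0
  rw [map_zero]
  haveI : Nonempty (Vy y.1) := ⟨⟨y.1, hyVy y.1⟩⟩
  -- the coefficient with respect to the basis at `y`
  set b := (coefEquiv (hty y.1) (W ⊓ Vy y.1) inf_le_right).symm (mres L (hle y) s) with hb
  have hbs : b • mres L inf_le_right (ty y.1) = mres L (hle y) s :=
    coefEquiv_symm_smul (hty y.1) _ inf_le_right _
  have hZ : (W ⊓ Vy y.1) ⊓ V₀ ≤ W ⊓ Vy y.1 := inf_le_left
  have h3 : fres hZ b • mres L (hZ.trans inf_le_right) (ty y.1) = 0 := by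
    have := congrArg (mres L hZ) hbs
    rw [mres_smul, mres_mres, mres_mres] at this
    rw [this]
    have h4 : mres L (hZ.trans (hle y)) s =
        mres L (inf_le_inf_right V₀ (hle y)) (mres L (inf_le_left : W ⊓ V₀ ≤ W) s) := by
      rw [mres_mres]
    rw [h4, h0, map_zero]
  have h5 : fres hZ b = 0 := by
    apply (hty y.1 _ (hZ.trans inf_le_right)).1
    simp only [zero_smul]
    exact h3
  have h6 : b = 0 := fres_injective hZ (h5.trans (map_zero _).symm)
  rw [← hbs, h6, zero_smul]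

/-- the embedding defined by a basis near the generic point -/
def KEmb.ofBasis (hloc : ∀ x : C, ∃ V : C.Opens, x ∈ V ∧ ∃ t : Γ(L, V), IsBasisOn L V t) :
    KEmb L where
  ρ := fun W _ => rhoOfBasis ht₀ W
  res := fun h s => rhoOfBasis_res ht₀ h s
  smul := fun W _ r s => rhoOfBasis_smul ht₀ W r s
  inj := fun W _ => rhoOfBasis_inj ht₀ hloc W

end OfBasis

/-- a sheaf of modules with local bases embeds into the rational functions -/
theorem nonempty_kEmb (hloc : ∀ x : C, ∃ V : C.Opens, x ∈ V ∧ ∃ t : Γ(L, V), IsBasisOn L V t) :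
    Nonempty (KEmb L) := by
  obtain ⟨V₀, hη, t₀, ht₀⟩ := hloc (genericPoint C)
  haveI : Nonempty V₀ := ⟨⟨_, hη⟩⟩
  exact ⟨KEmb.ofBasis ht₀ hloc⟩

section Operations

theorem isBasisOn_ne_zero {V : C.Opens} [Nonempty V] {t : Γ(L, V)} (ht : IsBasisOn L V t) :
    t ≠ 0 := by
  rintro rfl
  have h1 := (ht V le_rfl).1
  have h2 : (0 : Γ(C, V)) = 1 := h1 (by simp)
  exact zero_ne_one h2

theorem KEmb.basis_ne_zero (e : KEmb L) {V : C.Opens} [Nonempty V] {t : Γ(L, V)}
    (ht : IsBasisOn L V t) : e.ρ V t ≠ 0 := fun h =>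
  isBasisOn_ne_zero ht (e.inj V (h.trans (map_zero _).symm))

/-- scaling an embedding by a nonzero rational function -/
def KEmb.scale (e : KEmb L) (c : C.functionField) (hc : c ≠ 0) : KEmb L where
  ρ := fun W _ =>
    { toFun := fun s => c * e.ρ W s
      map_zero' := by rw [map_zero, mul_zero]
      map_add' := fun s s' => by rw [map_add, mul_add] }
  res := fun h s => by
    change c * _ = c * _
    rw [e.res h s]
  smul := fun W _ r s => by
    change c * _ = _ * (c * _)
    rw [e.smul]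
    ring
  inj := fun W _ s s' h => by
    have h' : c * e.ρ W s = c * e.ρ W s' := h
    exact e.inj W (mul_left_cancel₀ hc h')

theorem KEmb.scale_apply (e : KEmb L) (c : C.functionField) (hc : c ≠ 0) (W : C.Opens)
    [Nonempty W] (s : Γ(L, W)) : (e.scale c hc).ρ W s = c * e.ρ W s := rfl

/-- transporting an embedding along an isomorphism -/
def KEmb.comp {L' : C.Modules} (e : KEmb L') (ψ : L ≅ L') : KEmb L where
  ρ := fun W _ => (e.ρ W).comp (ψ.hom.app W).hom
  res := fun {V W} _ _ h s => by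
    simp only [AddMonoidHom.comp_apply]
    have := app_map ψ.hom (homOfLE h) s
    change e.ρ V (ψ.hom.app V (mres L h s)) = _
    rw [mres_apply, this, ← mres_apply, e.res]
  smul := fun W _ r s => by
    simp only [AddMonoidHom.comp_apply]
    change e.ρ W (ψ.hom.app W (r • s)) = _
    rw [Scheme.Modules.Hom.app_smul, e.smul]
  inj := fun W _ s s' h => by
    simp only [AddMonoidHom.comp_apply] at h
    have h1 : ψ.hom.app W s = ψ.hom.app W s' := e.inj W h
    have h2 := congrArg (ψ.inv.app W) h1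
    have h3 : ∀ z : Γ(L, W), ψ.inv.app W (ψ.hom.app W z) = z := fun z => by
      rw [← ConcreteCategory.comp_apply, ← Scheme.Modules.Hom.comp_app, Iso.hom_inv_id]
      rfl
    rwa [h3, h3] at h2

theorem KEmb.comp_apply {L' : C.Modules} (e : KEmb L') (ψ : L ≅ L') (W : C.Opens)
    [Nonempty W] (s : Γ(L, W)) : (e.comp ψ).ρ W s = e.ρ W (ψ.hom.app W s) := rfl

theorem KEmb.range_comp {L' : C.Modules} (e : KEmb L') (ψ : L ≅ L') (W : C.Opens)
    [Nonempty W] : Set.range ((e.comp ψ).ρ W) = Set.range (e.ρ W) := by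
  ext c
  constructor
  · rintro ⟨s, rfl⟩
    exact ⟨ψ.hom.app W s, rfl⟩
  · rintro ⟨s, rfl⟩
    refine ⟨ψ.inv.app W s, ?_⟩
    rw [KEmb.comp_apply]
    congr 1
    rw [← ConcreteCategory.comp_apply, ← Scheme.Modules.Hom.comp_app, Iso.inv_hom_id]
    rfl

/-- two embeddings of a sheaf with a local basis differ by a constant -/
theorem KEmb.exists_eq_mul (e e' : KEmb L) {V₀ : C.Opens} [Nonempty V₀] {t₀ : Γ(L, V₀)}
    (ht₀ : IsBasisOn L V₀ t₀) :
    ∃ c : C.functionField, c ≠ 0 ∧
      ∀ (W : C.Opens) [Nonempty W] (s : Γ(L, W)), e'.ρ W s = c * e.ρ W s := by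
  have h0 := e.basis_ne_zero ht₀
  have h0' := e'.basis_ne_zero ht₀
  refine ⟨e'.ρ V₀ t₀ / e.ρ V₀ t₀, div_ne_zero h0' h0, fun W _ s => ?_⟩
  have hZ : W ⊓ V₀ ≤ W := inf_le_left
  rw [← e.res hZ s, ← e'.res hZ s, e.eq_coef_mul ht₀ inf_le_right, e'.eq_coef_mul ht₀ inf_le_right]
  field_simp

end Operations

end Groth.Agent.Lib.Helper67.KEmbed
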