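import Mathlib.RingTheory.Smooth.Field
import Mathlib.RingTheory.Etale.Kaehler
import Mathlib.RingTheory.Kaehler.Polynomial
import Mathlib.RingTheory.AlgebraicIndependent.TranscendenceBasis
import Mathlib.Tactic

/-!
In characteristic zero, an element of a field extension `L/K` with vanishing differential in
`Ω[L⁄K]` is algebraic over `K`.
-/

namespace Groth.Agent.Lib.Helper67

open KaehlerDifferential TensorProduct

section
variable {K L : Type*} [Field K] [Field L] [Algebra K L]

/-- transport of a partial derivative along an isomorphism with a polynomial ring -/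
noncomputable def derivOfAlgEquiv {ι : Type*} {S : Type*} [CommRing S] [Algebra K S]
    (e : MvPolynomial ι K ≃ₐ[K] S) (i : ι) : Derivation K S S :=
  Derivation.mk' (e.toLinearMap ∘ₗ (MvPolynomial.pderiv i).toLinearMap ∘ₗ e.symm.toLinearMap) (by
    intro a b
    simp only [LinearMap.coe_comp, Function.comp_apply, AlgEquiv.toLinearMap_apply,
      Derivation.coeFn_coe, map_mul, Derivation.leibniz, smul_eq_mul, map_add,
      AlgEquiv.apply_symm_apply])

lemma derivOfAlgEquiv_apply {ι : Type*} {S : Type*} [CommRing S] [Algebra K S]
    (e : MvPolynomial ι K ≃ₐ[K] S) (i : ι) (p : MvPolynomial ι K) :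
    derivOfAlgEquiv e i (e p) = e (MvPolynomial.pderiv i p) := by
  simp [derivOfAlgEquiv]

open scoped IntermediateField.algebraAdjoinAdjoin in
theorem isAlgebraic_of_D_eq_zero [CharZero K] (g : L) (hg : D K L g = 0) : IsAlgebraic K g := by
  classical
  by_contra htr
  have hs : AlgebraicIndepOn K id ({g} : Set L) := by
    have : AlgebraicIndependent K (fun i : ({g} : Set L) => id (i : L)) :=
      (algebraicIndependent_unique_type_iff).mpr (by simpa [Transcendental] using htr)
    exact this
  obtain ⟨t, hst, ht⟩ := exists_isTranscendenceBasis_superset hs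
  have hgt : g ∈ t := hst rfl
  let S := Algebra.adjoin K (Set.range ((↑) : t → L))
  let F := IntermediateField.adjoin K (Set.range ((↑) : t → L))
  have : Algebra.FormallyEtale S F := .of_isLocalization (nonZeroDivisors S)
  have : Algebra.IsAlgebraic F L := ht.isAlgebraic_field
  have : CharZero F := charZero_of_injective_algebraMap (algebraMap K F).injective
  have : Algebra.IsSeparable F L := Algebra.IsAlgebraic.isSeparable_of_perfectField
  have : Algebra.FormallyEtale F L := Algebra.FormallyEtale.of_isSeparable F L
  have : Algebra.FormallyEtale S L := Algebra.FormallyEtale.comp S F L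
  let e : MvPolynomial t K ≃ₐ[K] S := ht.1.aevalEquiv
  let i₀ : t := ⟨g, hgt⟩
  let g' : S := ⟨g, Algebra.subset_adjoin ⟨i₀, rfl⟩⟩
  have heX : e (MvPolynomial.X i₀) = g' := by
    apply Subtype.ext
    have := ht.1.algebraMap_aevalEquiv (MvPolynomial.X i₀)
    rw [MvPolynomial.aeval_X] at this
    exact this
  let δ := derivOfAlgEquiv e i₀
  have hδ : δ g' = 1 := by
    rw [← heX]
    simp only [δ, derivOfAlgEquiv_apply, MvPolynomial.pderiv_X_self, map_one]
  have h1 := tensorKaehlerEquivOfFormallyEtale_symm_D_algebraMap K S L g'
  have h2 : algebraMap S L g' = g := rfl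
  rw [h2, hg, map_zero] at h1
  have h3 := congrArg (LinearMap.lTensor L δ.liftKaehlerDifferential) h1
  rw [map_zero, LinearMap.lTensor_tmul, Derivation.liftKaehlerDifferential_comp_D, hδ] at h3
  have h4 := congrArg (TensorProduct.rid S L) h3
  simp at h4

end

end Groth.Agent.Lib.Helper67
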