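import Mathlib
import Groth.Prelude.Def_W4c1bouilletffgsL3

/-!
Basic facts about the ideals `idI`, `idL`, `idJ` of `Lie3Mod` (L-side):
* `idI ≤ idL`, `detM * L_j ∈ idI`,
* the retraction `phiL` with kernel `idL`,
* `detM` is a non-zero-divisor modulo `idL` (over any commutative ring).
-/

namespace Groth.Agent.Lib.Helper67
namespace Lie3

open MvPolynomial Lie3Mod

variable (A : Type*) [CommRing A]

theorem Q1_eq : Q1 A = X 7 * L1 A + (- X 6) * L2 A + X 8 * L3 A := by
  simp only [Q1, L1, L2, L3]; ring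

theorem Q2_eq : Q2 A = (- X 4) * L1 A + (- X 7) * L2 A + X 1 * L3 A := by
  simp only [Q2, L1, L2, L3]; ring

theorem Q3_eq : Q3 A = (- X 5) * L1 A + (- X 8) * L2 A + X 2 * L3 A := by
  simp only [Q3, L1, L2, L3]; ring

theorem adj_L1 : detM A * L1 A = (X 1 * X 8 - X 2 * X 7) * Q1 A + (X 2 * X 6 - X 8 ^ 2) * Q2 A
    + (- X 1 * X 6 + X 7 * X 8) * Q3 A := by
  simp only [detM, Q1, Q2, Q3, L1]; ring

theorem adj_L2 : detM A * L2 A = (- X 1 * X 5 + X 2 * X 4) * Q1 A + (X 2 * X 7 + X 5 * X 8) * Q2 A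
    + (- X 1 * X 7 - X 4 * X 8) * Q3 A := by
  simp only [detM, Q1, Q2, Q3, L2]; ring

theorem adj_L3 : detM A * L3 A = (X 4 * X 8 - X 5 * X 7) * Q1 A + (X 5 * X 6 + X 7 * X 8) * Q2 A
    + (- X 4 * X 6 - X 7 ^ 2) * Q3 A := by
  simp only [detM, Q1, Q2, Q3, L3]; ring

theorem L1_mem_idL : L1 A ∈ idL A := Ideal.subset_span (by simp)
theorem L2_mem_idL : L2 A ∈ idL A := Ideal.subset_span (by simp)
theorem L3_mem_idL : L3 A ∈ idL A := Ideal.subset_span (by simp)
theorem Q1_mem_idI : Q1 A ∈ idI A := Ideal.subset_span (by simp)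
theorem Q2_mem_idI : Q2 A ∈ idI A := Ideal.subset_span (by simp)
theorem Q3_mem_idI : Q3 A ∈ idI A := Ideal.subset_span (by simp)
theorem Q1_mem_idJ : Q1 A ∈ idJ A := Ideal.subset_span (by simp)
theorem Q2_mem_idJ : Q2 A ∈ idJ A := Ideal.subset_span (by simp)
theorem Q3_mem_idJ : Q3 A ∈ idJ A := Ideal.subset_span (by simp)
theorem detM_mem_idJ : detM A ∈ idJ A := Ideal.subset_span (by simp)

theorem idI_le_idL : idI A ≤ idL A := by
  refine Ideal.span_le.2 ?_
  intro x hx
  simp only [Set.mem_insert_iff, Set.mem_singleton_iff] at hx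
  have h1 := L1_mem_idL A
  have h2 := L2_mem_idL A
  have h3 := L3_mem_idL A
  rcases hx with rfl | rfl | rfl
  · rw [Q1_eq]
    exact add_mem (add_mem (Ideal.mul_mem_left _ _ h1) (Ideal.mul_mem_left _ _ h2))
      (Ideal.mul_mem_left _ _ h3)
  · rw [Q2_eq]
    exact add_mem (add_mem (Ideal.mul_mem_left _ _ h1) (Ideal.mul_mem_left _ _ h2))
      (Ideal.mul_mem_left _ _ h3)
  · rw [Q3_eq]
    exact add_mem (add_mem (Ideal.mul_mem_left _ _ h1) (Ideal.mul_mem_left _ _ h2))
      (Ideal.mul_mem_left _ _ h3)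

theorem idI_le_idJ : idI A ≤ idJ A := by
  refine Ideal.span_le.2 ?_
  intro x hx
  simp only [Set.mem_insert_iff, Set.mem_singleton_iff] at hx
  rcases hx with rfl | rfl | rfl
  · exact Q1_mem_idJ A
  · exact Q2_mem_idJ A
  · exact Q3_mem_idJ A

theorem mem_idJ_iff (x : D A) : x ∈ idJ A ↔ ∃ q ∈ idI A, ∃ y, x = q + y * detM A := by
  constructor
  · intro hx
    have : idJ A = idI A ⊔ Ideal.span {detM A} := by
      rw [idJ, idI, ← Ideal.span_union]
      congr 1
      ext z; simp only [Set.mem_insert_iff, Set.mem_singleton_iff, Set.union_singleton]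
      tauto
    rw [this, Submodule.mem_sup] at hx
    obtain ⟨q, hq, z, hz, rfl⟩ := hx
    obtain ⟨y, rfl⟩ := Ideal.mem_span_singleton'.1 hz
    exact ⟨q, hq, y, rfl⟩
  · rintro ⟨q, hq, y, rfl⟩
    exact add_mem (idI_le_idJ A hq) (Ideal.mul_mem_left _ _ (detM_mem_idJ A))

theorem detM_mul_mem_idI {x : D A} (hx : x ∈ idL A) : detM A * x ∈ idI A := by
  have h1 := Q1_mem_idI A
  have h2 := Q2_mem_idI A
  have h3 := Q3_mem_idI A
  refine Submodule.span_induction ?_ ?_ ?_ ?_ hx
  · intro z hz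
    simp only [Set.mem_insert_iff, Set.mem_singleton_iff] at hz
    rcases hz with rfl | rfl | rfl
    · rw [adj_L1]
      exact add_mem (add_mem (Ideal.mul_mem_left _ _ h1) (Ideal.mul_mem_left _ _ h2))
        (Ideal.mul_mem_left _ _ h3)
    · rw [adj_L2]
      exact add_mem (add_mem (Ideal.mul_mem_left _ _ h1) (Ideal.mul_mem_left _ _ h2))
        (Ideal.mul_mem_left _ _ h3)
    · rw [adj_L3]
      exact add_mem (add_mem (Ideal.mul_mem_left _ _ h1) (Ideal.mul_mem_left _ _ h2))
        (Ideal.mul_mem_left _ _ h3)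
  · simp
  · intro z w _ _ hz hw
    rw [mul_add]; exact add_mem hz hw
  · intro r z _ hz
    rw [smul_eq_mul, mul_left_comm]; exact Ideal.mul_mem_left _ _ hz

/-- `idL * idJ ≤ idI`, elementwise. -/
theorem mul_mem_idI {x y : D A} (hx : x ∈ idL A) (hy : y ∈ idJ A) : x * y ∈ idI A := by
  obtain ⟨q, hq, z, rfl⟩ := (mem_idJ_iff A y).1 hy
  rw [mul_add]
  refine add_mem (Ideal.mul_mem_left _ _ hq) ?_
  have := detM_mul_mem_idI A hx
  have e : x * (z * detM A) = z * (detM A * x) := by ring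
  rw [e]; exact Ideal.mul_mem_left _ _ this

/-- The retraction onto `A[a,b,c,d,e,g]`: `i ↦ a`, `f ↦ -b`, `h ↦ -d`. -/
noncomputable def phiL : D A →ₐ[A] D A :=
  aeval (fun j : Fin 9 => (![X 0, X 1, X 2, X 3, X 4, - X 1, X 6, - X 3, X 0] j : D A))

theorem sub_phiL_mem (x : D A) : x - phiL A x ∈ idL A := by
  induction x using MvPolynomial.induction_on with
  | C a => simp [phiL]
  | add p q hp hq =>
    rw [map_add]
    have : p + q - (phiL A p + phiL A q) = (p - phiL A p) + (q - phiL A q) := by ring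
    rw [this]; exact add_mem hp hq
  | mul_X p j hp =>
    rw [map_mul]
    have : p * X j - phiL A p * phiL A (X j) =
      (p - phiL A p) * X j + phiL A p * (X j - phiL A (X j)) := by ring
    rw [this]
    refine add_mem (Ideal.mul_mem_right _ _ hp) (Ideal.mul_mem_left _ _ ?_)
    have h1 := L1_mem_idL A
    have h2 := L2_mem_idL A
    have h3 := L3_mem_idL A
    fin_cases j <;> simp [phiL]
    · have : (X 5 + X 1 : D A) = L2 A := by simp only [L2]; ring
      rw [this]; exact h2
    · have : (X 7 + X 3 : D A) = L3 A := by simp only [L3]; ring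
      rw [this]; exact h3
    · have : (X 8 - X 0 : D A) = - L1 A := by simp only [L1]; ring
      rw [this]; exact neg_mem h1

theorem ker_phiL : RingHom.ker (phiL A : D A →+* D A) = idL A := by
  apply le_antisymm
  · intro x hx
    have h := sub_phiL_mem A x
    rw [RingHom.mem_ker] at hx
    have hx' : phiL A x = 0 := hx
    rwa [hx', sub_zero] at h
  · refine Ideal.span_le.2 ?_
    intro x hx
    simp only [Set.mem_insert_iff, Set.mem_singleton_iff] at hx
    rcases hx with rfl | rfl | rfl <;> simp [RingHom.mem_ker, phiL, L1, L2, L3]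


/-- A polynomial whose image under `finSuccEquiv` is monic is a non-zero-divisor. -/
theorem eq_zero_of_mul_eq_zero_of_monic {n : ℕ} (p q : MvPolynomial (Fin (n + 1)) A)
    (hp : (finSuccEquiv A n p).Monic) (h : p * q = 0) : q = 0 := by
  have h' : finSuccEquiv A n p * finSuccEquiv A n q = 0 := by
    rw [← map_mul, h, map_zero]
  have := hp.isRegular.left
  have h2 : finSuccEquiv A n q = 0 := by
    apply this
    simp only [h', mul_zero]
  exact (map_eq_zero_iff _ (finSuccEquiv A n).injective).1 h2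

noncomputable def sigma : D A →ₐ[A] D A :=
  aeval (fun j : Fin 9 => (![X 0, X 1, X 2, X 3, X 4 + X 0, X 5, X 6, X 7, X 8] j : D A))

noncomputable def sigma' : D A →ₐ[A] D A :=
  aeval (fun j : Fin 9 => (![X 0, X 1, X 2, X 3, X 4 - X 0, X 5, X 6, X 7, X 8] j : D A))

theorem sigma'_sigma (x : D A) : sigma' A (sigma A x) = x := by
  have : (sigma' A).comp (sigma A) = AlgHom.id A (D A) := by
    apply MvPolynomial.algHom_ext
    intro j
    fin_cases j <;> simp [sigma, sigma']
  exact DFunLike.congr_fun this x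

theorem finSucc_sigma_phiL_detM :
    finSuccEquiv A 8 (sigma A (phiL A (detM A))) =
      Polynomial.X ^ 3 + Polynomial.C (X 3) * Polynomial.X ^ 2
        + Polynomial.C (- (X 5 * X 1 + (X 0 * X 2 + X 0 * X 2))) * Polynomial.X
        + Polynomial.C (- (X 1 * X 2 ^ 2) - X 5 * X 0 ^ 2 - X 5 * X 3 * X 1) := by
  have e1 : (X 1 : D A) = X (Fin.succ 0) := rfl
  have e2 : (X 2 : D A) = X (Fin.succ 1) := rfl
  have e3 : (X 3 : D A) = X (Fin.succ 2) := rfl
  have e4 : (X 4 : D A) = X (Fin.succ 3) := rfl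
  have e6 : (X 6 : D A) = X (Fin.succ 5) := rfl
  simp only [detM, phiL, sigma, map_add, map_sub, map_mul, map_neg, map_pow, aeval_X]
  simp [e1, e2, e3, e4, e6, finSuccEquiv_X_zero, finSuccEquiv_X_succ]
  ring


theorem monic_aux : (finSuccEquiv A 8 (sigma A (phiL A (detM A)))).Monic := by
  rw [finSucc_sigma_phiL_detM]
  monicity!

/-- `detM` is a non-zero-divisor modulo `idL`. -/
theorem mem_idL_of_mul_detM_mem {y : D A} (h : y * detM A ∈ idL A) : y ∈ idL A := by
  rw [← ker_phiL, RingHom.mem_ker] at h ⊢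
  have h1 : phiL A (detM A) * phiL A y = 0 := by
    have : (phiL A : D A →+* D A) (y * detM A) = 0 := h
    rw [map_mul] at this
    rw [mul_comm]; exact this
  have h2 : sigma A (phiL A (detM A)) * sigma A (phiL A y) = 0 := by
    rw [← map_mul, h1, map_zero]
  have h3 := eq_zero_of_mul_eq_zero_of_monic A _ _ (monic_aux A) h2
  have h4 := sigma'_sigma A (phiL A y)
  rw [h3, map_zero] at h4
  exact h4.symm


theorem detM_not_mem_idL [Nontrivial A] : detM A ∉ idL A := by
  intro h
  have h1 : (1 : D A) ∈ idL A := mem_idL_of_mul_detM_mem A (by rwa [one_mul])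
  rw [← ker_phiL, RingHom.mem_ker] at h1
  have : (phiL A : D A →+* D A) 1 = 1 := map_one _
  rw [this] at h1
  exact one_ne_zero h1

theorem idL_isPrime [IsDomain A] : (idL A).IsPrime := by
  rw [← ker_phiL]
  exact RingHom.ker_isPrime _

end Lie3
end Groth.Agent.Lib.Helper67
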