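import Mathlib

/-!
Multiplication matrices of the rank-7 free module structure of
`A[a,..,i]/J` (Lie3Mod) over the parameter ring `A[p,q,f,g,r,u]`
(`p = b + d`, `q = a + e`, `r = c + h`, `u = i - a`), in the basis
`1, a, b, c, a², ab, bc`.  The three matrices commute.
-/

namespace Groth.Agent.Lib.Helper67
namespace Lie3
open MvPolynomial
variable (A : Type*) [CommRing A]
noncomputable section

/-- multiplication matrix (columns = coordinates of `t * bb k`) -/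
def mA6 : Matrix (Fin 7) (Fin 7) (MvPolynomial (Fin 6) A) :=
  !![0, 0, 0, X 0 * X 5 - X 2 * X 3, X 0 * X 2 * X 5 + X 0 * X 3 * X 5 + X 0 * X 5 ^ 2 - X 2 ^ 2 * X 3 - X 2 * X 3 ^ 2 - X 2 * X 3 * X 5, 0, - X 0 * X 2 * X 5 - X 1 * X 3 * X 5 - X 1 * X 5 ^ 2 + X 2 ^ 2 * X 3 + X 2 * X 3 * X 4 + X 2 * X 4 * X 5;
    1, 0, 0, X 0 + X 4, 2 * X 0 * X 2 + X 0 * X 3 + X 0 * X 5 + X 1 * X 5 + X 2 ^ 2 + X 3 * X 4 + X 4 * X 5, 0, - X 0 * X 2 - X 1 * X 5 + X 3 * X 5 + X 5 ^ 2;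
    0, 0, 0, - X 3 - X 5, - X 3 ^ 2 - 2 * X 3 * X 5 - X 5 ^ 2, 0, - X 0 * X 3 + X 2 * X 5;
    0, 0, 0, 0, - X 0 ^ 2 - X 0 * X 2 - X 1 * X 3 - X 1 * X 5, - X 0 * X 5 + X 2 * X 3, - X 2 * X 3 - X 2 * X 5;
    0, 1, 0, 0, X 1 - X 5, - X 2, X 5;
    0, 0, 1, - 1, - X 2 - X 3 - X 5, - X 5, X 2 + X 4;
    0, 0, 0, 0, X 0 + X 2, X 3 + X 5, 0]

/-- multiplication matrix (columns = coordinates of `t * bb k`) -/
def mB6 : Matrix (Fin 7) (Fin 7) (MvPolynomial (Fin 6) A) :=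
  !![0, 0, X 1 * X 5 - X 2 * X 4, 0, 0, X 0 * X 2 * X 5 - X 2 ^ 2 * X 3, - X 0 * X 5 ^ 2 + X 2 * X 3 * X 5;
    0, 0, - X 5, 0, 0, X 0 * X 2 + X 1 * X 5, - X 0 * X 5 - X 2 ^ 2 - X 4 * X 5;
    1, 0, X 0, 0, 0, - X 2 * X 3 - X 2 * X 5, - X 2 * X 5 + X 3 * X 5 + X 5 ^ 2;
    0, 0, X 2, 0, - X 0 * X 5 + X 2 * X 3, 0, X 0 * X 2 + X 1 * X 5;
    0, 0, 0, 0, - X 2, - X 5, 0;
    0, 1, 0, 0, - X 5, X 0 - X 2, - X 2 + X 5;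
    0, 0, 0, 1, X 3 + X 5, 0, X 0 - X 2]

/-- multiplication matrix (columns = coordinates of `t * bb k`) -/
def mC6 : Matrix (Fin 7) (Fin 7) (MvPolynomial (Fin 6) A) :=
  !![0, X 0 * X 5 - X 2 * X 3, 0, 0, 0, - X 0 * X 2 * X 5 - X 1 * X 3 * X 5 - X 1 * X 5 ^ 2 + X 2 ^ 2 * X 3 + X 2 * X 3 * X 4 + X 2 * X 4 * X 5, - X 0 * X 2 * X 5 + X 0 * X 5 ^ 2 - X 1 * X 5 ^ 2 + X 2 ^ 2 * X 3 - X 2 * X 3 * X 5 + X 2 * X 4 * X 5;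
    0, X 0 + X 4, 0, - X 2, X 0 * X 5 - X 2 * X 3, - X 0 * X 2 - X 1 * X 5 + X 3 * X 5 + X 5 ^ 2, - X 0 * X 2 + X 0 * X 5 - X 1 * X 5 + X 2 ^ 2 + X 4 * X 5 + X 5 ^ 2;
    0, - X 3 - X 5, 0, - X 5, 0, - X 0 * X 3 + X 2 * X 5, - X 0 * X 5 + X 2 * X 3 + 2 * X 2 * X 5 - X 3 * X 5 - X 5 ^ 2;
    1, 0, 0, X 0 + X 4, X 0 * X 5 - X 2 * X 3, - X 2 * X 3 - X 2 * X 5, - X 0 * X 2 - X 1 * X 5 - X 2 * X 5;
    0, 0, 0, 0, X 0 + X 2 + X 4, X 5, X 5;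
    0, - 1, 0, - 1, - X 3, X 2 + X 4, - X 0 + X 2 - X 5;
    0, 0, 1, - 1, - X 3 - X 5, 0, X 2 + X 4]

set_option maxHeartbeats 4000000 in
theorem comm_AB : mA6 A * mB6 A = mB6 A * mA6 A := by
  refine Matrix.ext fun i j => ?_
  fin_cases i <;> fin_cases j <;>
    simp [mA6, mB6, Matrix.mul_apply, Fin.sum_univ_succ] <;> ring

set_option maxHeartbeats 4000000 in
theorem comm_AC : mA6 A * mC6 A = mC6 A * mA6 A := by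
  refine Matrix.ext fun i j => ?_
  fin_cases i <;> fin_cases j <;>
    simp [mA6, mC6, Matrix.mul_apply, Fin.sum_univ_succ] <;> ring

set_option maxHeartbeats 4000000 in
theorem comm_BC : mB6 A * mC6 A = mC6 A * mB6 A := by
  refine Matrix.ext fun i j => ?_
  fin_cases i <;> fin_cases j <;>
    simp [mB6, mC6, Matrix.mul_apply, Fin.sum_univ_succ] <;> ring

end
end Lie3
end Groth.Agent.Lib.Helper67
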