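import Mathlib
import Groth.Agent.Lib.Helper67.Lie3Basic
import Groth.Agent.Lib.Helper67.Lie3Rep

/-!
Key lemma for `Lie3Mod`: `L1 = a - i` is a non-zero-divisor modulo `idJ = (Q1,Q2,Q3,detM)` over any
commutative ring `A`.  Proof: `D/J` is a free module of rank 7 over the parameter ring
`A[p,q,f,g,r,u]` (`p = b+d`, `q = a+e`, `r = c+h`, `u = i-a`) with basis `1,a,b,c,a²,ab,bc`;
this is verified by an explicit representation on `D^7` by commuting matrices (`Lie3Rep`) together
with explicit reduction identities.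
-/

namespace Groth.Agent.Lib.Helper67
namespace Lie3
open MvPolynomial Lie3Mod
variable (A : Type*) [CommRing A]
noncomputable section
set_option linter.unusedSimpArgs false

/-- the parameters `p = b + d`, `q = a + e`, `f`, `g`, `r = c + h`, `u = i - a`. -/
def iota : MvPolynomial (Fin 6) A →ₐ[A] D A :=
  aeval (fun j : Fin 6 => (![X 1 + X 3, X 0 + X 4, X 5, X 6, X 2 + X 7, X 8 - X 0] j : D A))

abbrev Mat7 := Matrix (Fin 7) (Fin 7) (D A)

def mapM : Matrix (Fin 7) (Fin 7) (MvPolynomial (Fin 6) A) →+* Mat7 A :=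
  (iota A).toRingHom.mapMatrix

def mA : Mat7 A := mapM A (mA6 A)
def mB : Mat7 A := mapM A (mB6 A)
def mC : Mat7 A := mapM A (mC6 A)

theorem mA_mB : mA A * mB A = mB A * mA A := by
  simp only [mA, mB, ← map_mul, comm_AB]
theorem mA_mC : mA A * mC A = mC A * mA A := by
  simp only [mA, mC, ← map_mul, comm_AC]
theorem mB_mC : mB A * mC A = mC A * mB A := by
  simp only [mB, mC, ← map_mul, comm_BC]

def sc (x : D A) : Mat7 A := algebraMap (D A) (Mat7 A) x

/-- images of the nine variables -/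
def img : Fin 9 → Mat7 A :=
  ![mA A, mB A, mC A, sc A (X 1 + X 3) - mB A, sc A (X 0 + X 4) - mA A, sc A (X 5), sc A (X 6),
    sc A (X 2 + X 7) - mC A, sc A (X 8 - X 0) + mA A]

def Cc : Subalgebra (D A) (Mat7 A) := Algebra.adjoin (D A) {mA A, mB A, mC A}

instance : CommRing (Cc A) := Algebra.adjoinCommRingOfComm (D A) (by
  rintro a (rfl | rfl | rfl) b (rfl | rfl | rfl)
  · rfl
  · exact mA_mB A
  · exact mA_mC A
  · exact (mA_mB A).symm
  · rfl
  · exact mB_mC A
  · exact (mA_mC A).symm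
  · exact (mB_mC A).symm
  · rfl)

theorem img_mem (j : Fin 9) : img A j ∈ Cc A := by
  have hA : mA A ∈ Cc A := Algebra.subset_adjoin (by simp)
  have hB : mB A ∈ Cc A := Algebra.subset_adjoin (by simp)
  have hC : mC A ∈ Cc A := Algebra.subset_adjoin (by simp)
  have hs : ∀ x, sc A x ∈ Cc A := fun x => Subalgebra.algebraMap_mem _ x
  fin_cases j <;> simp only [img] <;> simp
  · exact hA
  · exact hB
  · exact hC
  · exact sub_mem (hs _) hB
  · exact sub_mem (hs _) hA
  · exact hs _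
  · exact hs _
  · exact sub_mem (hs _) hC
  · exact add_mem (hs _) hA

def rho : D A →+* Cc A :=
  MvPolynomial.eval₂Hom ((algebraMap (D A) (Cc A)).comp (C : A →+* D A))
    (fun j => ⟨img A j, img_mem A j⟩)

def rhom : D A →+* Mat7 A := (Cc A).val.toRingHom.comp (rho A)

theorem rho_X (j : Fin 9) : rho A (X j) = ⟨img A j, img_mem A j⟩ := by
  unfold rho
  exact MvPolynomial.eval₂Hom_X' _ _ _

theorem rho_C (a : A) : rho A (C a) = algebraMap (D A) (Cc A) (C a) := by
  unfold rho
  exact MvPolynomial.eval₂Hom_C _ _ _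

theorem rhom_apply (x : D A) : rhom A x = ((rho A x : Cc A) : Mat7 A) := rfl

theorem rhom_X (j : Fin 9) : rhom A (X j) = img A j := by
  rw [rhom_apply, rho_X]

theorem rhom_C (a : A) : rhom A (C a) = sc A (C a) := by
  rw [rhom_apply, rho_C]
  rfl


theorem rhom_iota (s : MvPolynomial (Fin 6) A) : rhom A (iota A s) = sc A (iota A s) := by
  induction s using MvPolynomial.induction_on with
  | C a =>
    have : iota A (C a) = C a := by simp [iota]
    rw [this, rhom_C]
  | add p q hp hq => simp only [map_add, hp, hq, sc]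
  | mul_X p j hp =>
    have hj : rhom A (iota A (X j)) = sc A (iota A (X j)) := by
      fin_cases j <;> simp [iota, rhom_X, img, sc, map_add, map_sub]
    rw [map_mul, map_mul, hp, hj]
    simp only [sc, map_mul]

/-- standard basis vectors -/
def ee (k : Fin 7) : Fin 7 → D A := Pi.single k 1

/-- the orbit map of `e₀` -/
def psi (x : D A) : Fin 7 → D A := (rhom A x).mulVec (ee A 0)

theorem psi_add (x y : D A) : psi A (x + y) = psi A x + psi A y := by
  simp only [psi, map_add, Matrix.add_mulVec]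

theorem psi_sub (x y : D A) : psi A (x - y) = psi A x - psi A y := by
  simp only [psi, map_sub, Matrix.sub_mulVec]

theorem psi_mul (x y : D A) : psi A (x * y) = (rhom A x).mulVec (psi A y) := by
  simp only [psi, map_mul, Matrix.mulVec_mulVec]

theorem sc_mulVec (x : D A) (v : Fin 7 → D A) : (sc A x).mulVec v = x • v := by
  rw [sc, Algebra.algebraMap_eq_smul_one, Matrix.smul_mulVec, Matrix.one_mulVec]

theorem sc_apply (x : D A) (l k : Fin 7) : sc A x l k = if l = k then x else 0 := by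
  rw [sc, Matrix.algebraMap_matrix_apply]; rfl

theorem mapM_apply (M : Matrix (Fin 7) (Fin 7) (MvPolynomial (Fin 6) A)) (l k : Fin 7) :
    mapM A M l k = iota A (M l k) := rfl

theorem psi_iota_mul (s : MvPolynomial (Fin 6) A) (y : D A) :
    psi A (iota A s * y) = iota A s • psi A y := by
  rw [psi_mul, rhom_iota, sc_mulVec]

theorem mulVec_ee (M : Mat7 A) (k : Fin 7) : M.mulVec (ee A k) = fun l => M l k := by
  rw [ee, Matrix.mulVec_single_one]; rfl

def bb : Fin 7 → D A := ![1, X 0, X 1, X 2, X 0 ^ 2, X 0 * X 1, X 1 * X 2]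

theorem comb_mem (c1 c2 c3 c4 : D A) :
    c1 * Q1 A + c2 * Q2 A + c3 * Q3 A + c4 * detM A ∈ idJ A :=
  add_mem (add_mem (add_mem (Ideal.mul_mem_left _ _ (Q1_mem_idJ A))
    (Ideal.mul_mem_left _ _ (Q2_mem_idJ A))) (Ideal.mul_mem_left _ _ (Q3_mem_idJ A)))
    (Ideal.mul_mem_left _ _ (detM_mem_idJ A))

theorem redA (k : Fin 7) :
    X 0 * bb A k - ∑ l, iota A (mA6 A l k) * bb A l ∈ idJ A := by
  fin_cases k
  · have h : X 0 * bb A 0 - ∑ l, iota A (mA6 A l 0) * bb A l =
        (0) * Q1 A + (0) * Q2 A + (0) * Q3 A + (0) * detM A := by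
      simp [bb, mA6, iota, Fin.sum_univ_succ, Q1, Q2, Q3, detM, map_ofNat]
      try ring
    exact h ▸ comb_mem A _ _ _ _
  · have h : X 0 * bb A 1 - ∑ l, iota A (mA6 A l 1) * bb A l =
        (0) * Q1 A + (0) * Q2 A + (0) * Q3 A + (0) * detM A := by
      simp [bb, mA6, iota, Fin.sum_univ_succ, Q1, Q2, Q3, detM, map_ofNat]
      try ring
    exact h ▸ comb_mem A _ _ _ _
  · have h : X 0 * bb A 2 - ∑ l, iota A (mA6 A l 2) * bb A l =
        (0) * Q1 A + (0) * Q2 A + (0) * Q3 A + (0) * detM A := by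
      simp [bb, mA6, iota, Fin.sum_univ_succ, Q1, Q2, Q3, detM, map_ofNat]
      try ring
    exact h ▸ comb_mem A _ _ _ _
  · have h : X 0 * bb A 3 - ∑ l, iota A (mA6 A l 3) * bb A l =
        (- 1) * Q1 A + (0) * Q2 A + (0) * Q3 A + (0) * detM A := by
      simp [bb, mA6, iota, Fin.sum_univ_succ, Q1, Q2, Q3, detM, map_ofNat]
      try ring
    exact h ▸ comb_mem A _ _ _ _
  · have h : X 0 * bb A 4 - ∑ l, iota A (mA6 A l 4) * bb A l =
        (- X 5 - X 6 - (X 8 - X 0)) * Q1 A + ((X 8 - X 0) + X 0 + X 2) * Q2 A + ((X 1 + X 3) + X 5 - (X 2 + X 7) - X 1 + X 2) * Q3 A + (- 1) * detM A := by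
      simp [bb, mA6, iota, Fin.sum_univ_succ, Q1, Q2, Q3, detM, map_ofNat]
      try ring
    exact h ▸ comb_mem A _ _ _ _
  · have h : X 0 * bb A 5 - ∑ l, iota A (mA6 A l 5) * bb A l =
        (X 2) * Q1 A + (0) * Q2 A + (- X 0) * Q3 A + (0) * detM A := by
      simp [bb, mA6, iota, Fin.sum_univ_succ, Q1, Q2, Q3, detM, map_ofNat]
      try ring
    exact h ▸ comb_mem A _ _ _ _
  · have h : X 0 * bb A 6 - ∑ l, iota A (mA6 A l 6) * bb A l =
        (X 5 - X 1) * Q1 A + (X 6 + (X 8 - X 0) + X 0) * Q2 A + (0) * Q3 A + (0) * detM A := by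
      simp [bb, mA6, iota, Fin.sum_univ_succ, Q1, Q2, Q3, detM, map_ofNat]
      try ring
    exact h ▸ comb_mem A _ _ _ _

theorem redB (k : Fin 7) :
    X 1 * bb A k - ∑ l, iota A (mB6 A l k) * bb A l ∈ idJ A := by
  fin_cases k
  · have h : X 1 * bb A 0 - ∑ l, iota A (mB6 A l 0) * bb A l =
        (0) * Q1 A + (0) * Q2 A + (0) * Q3 A + (0) * detM A := by
      simp [bb, mB6, iota, Fin.sum_univ_succ, Q1, Q2, Q3, detM, map_ofNat]
      try ring
    exact h ▸ comb_mem A _ _ _ _
  · have h : X 1 * bb A 1 - ∑ l, iota A (mB6 A l 1) * bb A l =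
        (0) * Q1 A + (0) * Q2 A + (0) * Q3 A + (0) * detM A := by
      simp [bb, mB6, iota, Fin.sum_univ_succ, Q1, Q2, Q3, detM, map_ofNat]
      try ring
    exact h ▸ comb_mem A _ _ _ _
  · have h : X 1 * bb A 2 - ∑ l, iota A (mB6 A l 2) * bb A l =
        (0) * Q1 A + (- 1) * Q2 A + (0) * Q3 A + (0) * detM A := by
      simp [bb, mB6, iota, Fin.sum_univ_succ, Q1, Q2, Q3, detM, map_ofNat]
      try ring
    exact h ▸ comb_mem A _ _ _ _
  · have h : X 1 * bb A 3 - ∑ l, iota A (mB6 A l 3) * bb A l =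
        (0) * Q1 A + (0) * Q2 A + (0) * Q3 A + (0) * detM A := by
      simp [bb, mB6, iota, Fin.sum_univ_succ, Q1, Q2, Q3, detM, map_ofNat]
      try ring
    exact h ▸ comb_mem A _ _ _ _
  · have h : X 1 * bb A 4 - ∑ l, iota A (mB6 A l 4) * bb A l =
        (X 2) * Q1 A + (0) * Q2 A + (- X 0) * Q3 A + (0) * detM A := by
      simp [bb, mB6, iota, Fin.sum_univ_succ, Q1, Q2, Q3, detM, map_ofNat]
      try ring
    exact h ▸ comb_mem A _ _ _ _
  · have h : X 1 * bb A 5 - ∑ l, iota A (mB6 A l 5) * bb A l =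
        (- X 5) * Q1 A + (- X 0) * Q2 A + (0) * Q3 A + (0) * detM A := by
      simp [bb, mB6, iota, Fin.sum_univ_succ, Q1, Q2, Q3, detM, map_ofNat]
      try ring
    exact h ▸ comb_mem A _ _ _ _
  · have h : X 1 * bb A 6 - ∑ l, iota A (mB6 A l 6) * bb A l =
        ((X 8 - X 0)) * Q1 A + (- X 2) * Q2 A + (- X 5) * Q3 A + (0) * detM A := by
      simp [bb, mB6, iota, Fin.sum_univ_succ, Q1, Q2, Q3, detM, map_ofNat]
      try ring
    exact h ▸ comb_mem A _ _ _ _

theorem redC (k : Fin 7) :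
    X 2 * bb A k - ∑ l, iota A (mC6 A l k) * bb A l ∈ idJ A := by
  fin_cases k
  · have h : X 2 * bb A 0 - ∑ l, iota A (mC6 A l 0) * bb A l =
        (0) * Q1 A + (0) * Q2 A + (0) * Q3 A + (0) * detM A := by
      simp [bb, mC6, iota, Fin.sum_univ_succ, Q1, Q2, Q3, detM, map_ofNat]
      try ring
    exact h ▸ comb_mem A _ _ _ _
  · have h : X 2 * bb A 1 - ∑ l, iota A (mC6 A l 1) * bb A l =
        (- 1) * Q1 A + (0) * Q2 A + (0) * Q3 A + (0) * detM A := by
      simp [bb, mC6, iota, Fin.sum_univ_succ, Q1, Q2, Q3, detM, map_ofNat]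
      try ring
    exact h ▸ comb_mem A _ _ _ _
  · have h : X 2 * bb A 2 - ∑ l, iota A (mC6 A l 2) * bb A l =
        (0) * Q1 A + (0) * Q2 A + (0) * Q3 A + (0) * detM A := by
      simp [bb, mC6, iota, Fin.sum_univ_succ, Q1, Q2, Q3, detM, map_ofNat]
      try ring
    exact h ▸ comb_mem A _ _ _ _
  · have h : X 2 * bb A 3 - ∑ l, iota A (mC6 A l 3) * bb A l =
        (0) * Q1 A + (0) * Q2 A + (- 1) * Q3 A + (0) * detM A := by
      simp [bb, mC6, iota, Fin.sum_univ_succ, Q1, Q2, Q3, detM, map_ofNat]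
      try ring
    exact h ▸ comb_mem A _ _ _ _
  · have h : X 2 * bb A 4 - ∑ l, iota A (mC6 A l 4) * bb A l =
        (- X 0 - X 2) * Q1 A + (0) * Q2 A + (X 0) * Q3 A + (0) * detM A := by
      simp [bb, mC6, iota, Fin.sum_univ_succ, Q1, Q2, Q3, detM, map_ofNat]
      try ring
    exact h ▸ comb_mem A _ _ _ _
  · have h : X 2 * bb A 5 - ∑ l, iota A (mC6 A l 5) * bb A l =
        (X 5 - X 1) * Q1 A + (X 6 + (X 8 - X 0) + X 0) * Q2 A + (0) * Q3 A + (0) * detM A := by
      simp [bb, mC6, iota, Fin.sum_univ_succ, Q1, Q2, Q3, detM, map_ofNat]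
      try ring
    exact h ▸ comb_mem A _ _ _ _
  · have h : X 2 * bb A 6 - ∑ l, iota A (mC6 A l 6) * bb A l =
        (X 5 - (X 8 - X 0)) * Q1 A + ((X 8 - X 0) + X 0 + X 2) * Q2 A + (X 5 - X 1) * Q3 A + (0) * detM A := by
      simp [bb, mC6, iota, Fin.sum_univ_succ, Q1, Q2, Q3, detM, map_ofNat]
      try ring
    exact h ▸ comb_mem A _ _ _ _


theorem mA_apply (l k : Fin 7) : mA A l k = iota A (mA6 A l k) := rfl
theorem mB_apply (l k : Fin 7) : mB A l k = iota A (mB6 A l k) := rfl
theorem mC_apply (l k : Fin 7) : mC A l k = iota A (mC6 A l k) := rfl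

theorem mA_ee0 : (mA A).mulVec (ee A 0) = ee A 1 := by
  rw [mulVec_ee]; ext l; fin_cases l <;> simp [mA_apply, mA6, ee]
theorem mA_ee1 : (mA A).mulVec (ee A 1) = ee A 4 := by
  rw [mulVec_ee]; ext l; fin_cases l <;> simp [mA_apply, mA6, ee]
theorem mA_ee2 : (mA A).mulVec (ee A 2) = ee A 5 := by
  rw [mulVec_ee]; ext l; fin_cases l <;> simp [mA_apply, mA6, ee]
theorem mB_ee0 : (mB A).mulVec (ee A 0) = ee A 2 := by
  rw [mulVec_ee]; ext l; fin_cases l <;> simp [mB_apply, mB6, ee]
theorem mB_ee3 : (mB A).mulVec (ee A 3) = ee A 6 := by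
  rw [mulVec_ee]; ext l; fin_cases l <;> simp [mB_apply, mB6, ee]
theorem mC_ee0 : (mC A).mulVec (ee A 0) = ee A 3 := by
  rw [mulVec_ee]; ext l; fin_cases l <;> simp [mC_apply, mC6, ee]

theorem psi_one : psi A 1 = ee A 0 := by
  simp only [psi, map_one, Matrix.one_mulVec]

theorem psi_bb (k : Fin 7) : psi A (bb A k) = ee A k := by
  have h0 : psi A (X 0) = ee A 1 := by
    rw [psi, rhom_X]; simp only [img]; exact mA_ee0 A
  have h1 : psi A (X 1) = ee A 2 := by
    rw [psi, rhom_X]; simp only [img]; exact mB_ee0 A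
  have h2 : psi A (X 2) = ee A 3 := by
    rw [psi, rhom_X]; simp only [img]; exact mC_ee0 A
  fin_cases k
  · exact psi_one A
  · exact h0
  · exact h1
  · exact h2
  · show psi A (X 0 ^ 2) = ee A 4
    rw [pow_two, psi_mul, h0, rhom_X]; simp only [img]; exact mA_ee1 A
  · show psi A (X 0 * X 1) = ee A 5
    rw [psi_mul, h1, rhom_X]; simp only [img]; exact mA_ee2 A
  · show psi A (X 1 * X 2) = ee A 6
    rw [psi_mul, h2, rhom_X]; simp only [img]; exact mB_ee3 A


theorem img_mulVec (v : Fin 7 → D A) (l : Fin 7) (M6 : Matrix (Fin 7) (Fin 7) (MvPolynomial (Fin 6) A)) :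
    (mapM A M6).mulVec v l = ∑ k, iota A (M6 l k) * v k := by
  simp only [Matrix.mulVec, dotProduct]; rfl


theorem psi_neg (x : D A) : psi A (-x) = - psi A x := by
  simp only [psi, map_neg, Matrix.neg_mulVec]

theorem psi_X0 : psi A (X 0 : D A) = ee A 1 := by
  rw [psi, rhom_X]; simp only [img]; exact mA_ee0 A
theorem psi_X1 : psi A (X 1 : D A) = ee A 2 := by
  rw [psi, rhom_X]; simp only [img]; exact mB_ee0 A
theorem psi_X2 : psi A (X 2 : D A) = ee A 3 := by
  rw [psi, rhom_X]; simp only [img]; exact mC_ee0 A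
theorem psi_X3 : psi A (X 3 : D A) = (X 1 + X 3 : D A) • ee A 0 - ee A 2 := by
  rw [psi, rhom_X]; simp only [img]; simp [Matrix.sub_mulVec, sc_mulVec, mB_ee0]
theorem psi_X4 : psi A (X 4 : D A) = (X 0 + X 4 : D A) • ee A 0 - ee A 1 := by
  rw [psi, rhom_X]; simp only [img]; simp [Matrix.sub_mulVec, sc_mulVec, mA_ee0]
theorem psi_X5 : psi A (X 5 : D A) = (X 5 : D A) • ee A 0 := by
  rw [psi, rhom_X]; simp only [img]; simp [sc_mulVec]
theorem psi_X6 : psi A (X 6 : D A) = (X 6 : D A) • ee A 0 := by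
  rw [psi, rhom_X]; simp only [img]; simp [sc_mulVec]
theorem psi_X7 : psi A (X 7 : D A) = (X 2 + X 7 : D A) • ee A 0 - ee A 3 := by
  rw [psi, rhom_X]; simp only [img]; simp [Matrix.sub_mulVec, sc_mulVec, mC_ee0]
theorem psi_X8 : psi A (X 8 : D A) = (X 8 - X 0 : D A) • ee A 0 + ee A 1 := by
  rw [psi, rhom_X]; simp only [img]; simp [Matrix.add_mulVec, sc_mulVec, mA_ee0]

set_option maxHeartbeats 4000000 in
theorem psi_Q1 : psi A (Q1 A) = 0 := by
  simp only [Q1, psi_sub, psi_add, psi_mul, rhom_X, psi_X0, psi_X1, psi_X2, psi_X3, psi_X4, psi_X5,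
    psi_X6, psi_X7, psi_X8]
  funext l
  fin_cases l <;>
    simp [-Matrix.mulVec_mulVec, img, Matrix.sub_mulVec, Matrix.add_mulVec, sc_mulVec, mA, mB, mC, img_mulVec, Fin.sum_univ_succ,
      ee, mA6, mB6, mC6, iota, map_ofNat, sc_apply, mapM_apply] <;> try ring

set_option maxHeartbeats 4000000 in
theorem psi_Q2 : psi A (Q2 A) = 0 := by
  simp only [Q2, psi_sub, psi_add, psi_mul, rhom_X, psi_X0, psi_X1, psi_X2, psi_X3, psi_X4, psi_X5,
    psi_X6, psi_X7, psi_X8]
  funext l
  fin_cases l <;>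
    simp [-Matrix.mulVec_mulVec, img, Matrix.sub_mulVec, Matrix.add_mulVec, sc_mulVec, mA, mB, mC, img_mulVec, Fin.sum_univ_succ,
      ee, mA6, mB6, mC6, iota, map_ofNat, sc_apply, mapM_apply] <;> try ring

set_option maxHeartbeats 4000000 in
theorem psi_Q3 : psi A (Q3 A) = 0 := by
  simp only [Q3, psi_sub, psi_add, psi_mul, rhom_X, psi_X0, psi_X1, psi_X2, psi_X3, psi_X4, psi_X5,
    psi_X6, psi_X7, psi_X8]
  funext l
  fin_cases l <;>
    simp [-Matrix.mulVec_mulVec, img, Matrix.sub_mulVec, Matrix.add_mulVec, sc_mulVec, mA, mB, mC, img_mulVec, Fin.sum_univ_succ,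
      ee, mA6, mB6, mC6, iota, map_ofNat, sc_apply, mapM_apply] <;> try ring

set_option maxHeartbeats 4000000 in
theorem psi_detM : psi A (detM A) = 0 := by
  simp only [detM, pow_two, mul_assoc, psi_sub, psi_add, psi_neg, psi_mul, rhom_X,
    psi_X0, psi_X1, psi_X2, psi_X3, psi_X4, psi_X5, psi_X6, psi_X7, psi_X8]
  funext l
  fin_cases l <;>
    simp [-Matrix.mulVec_mulVec, img, Matrix.sub_mulVec, Matrix.add_mulVec, sc_mulVec, mA, mB, mC, img_mulVec, Fin.sum_univ_succ,
      ee, mA6, mB6, mC6, iota, map_ofNat, sc_apply, mapM_apply] <;> try ring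


theorem psi_idJ {x : D A} (hx : x ∈ idJ A) : psi A x = 0 := by
  refine Submodule.span_induction ?_ ?_ ?_ ?_ hx
  · intro z hz
    simp only [Set.mem_insert_iff, Set.mem_singleton_iff] at hz
    rcases hz with rfl | rfl | rfl | rfl
    · exact psi_Q1 A
    · exact psi_Q2 A
    · exact psi_Q3 A
    · exact psi_detM A
  · simp [psi]
  · intro z w _ _ hz hw
    rw [psi_add, hz, hw, add_zero]
  · intro r z _ hz
    rw [smul_eq_mul, psi_mul, hz, Matrix.mulVec_zero]

/-- `P` is congruent modulo `idJ` to a combination of the seven basis monomials with coefficients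
in the parameter ring. -/
def Red (P : D A) : Prop :=
  ∃ v : Fin 7 → MvPolynomial (Fin 6) A, P - ∑ k, iota A (v k) * bb A k ∈ idJ A

theorem red_C (a : A) : Red A (C a) := by
  refine ⟨fun k => if k = 0 then C a else 0, ?_⟩
  have : (C a : D A) - ∑ k, iota A ((fun k : Fin 7 => if k = 0 then (C a : MvPolynomial (Fin 6) A) else 0) k)
      * bb A k = 0 := by
    simp [Fin.sum_univ_succ, bb, iota]
  rw [this]; exact zero_mem _

theorem red_add {P Q : D A} (hP : Red A P) (hQ : Red A Q) : Red A (P + Q) := by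
  obtain ⟨v, hv⟩ := hP
  obtain ⟨w, hw⟩ := hQ
  refine ⟨v + w, ?_⟩
  have : P + Q - ∑ k, iota A ((v + w) k) * bb A k =
      (P - ∑ k, iota A (v k) * bb A k) + (Q - ∑ k, iota A (w k) * bb A k) := by
    simp only [Pi.add_apply, map_add, add_mul, Finset.sum_add_distrib]; ring
  rw [this]; exact add_mem hv hw

theorem red_neg {P : D A} (hP : Red A P) : Red A (-P) := by
  obtain ⟨v, hv⟩ := hP
  refine ⟨-v, ?_⟩
  have : -P - ∑ k, iota A ((-v) k) * bb A k = -(P - ∑ k, iota A (v k) * bb A k) := by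
    simp only [Pi.neg_apply, map_neg, neg_mul, Finset.sum_neg_distrib]; ring
  rw [this]; exact neg_mem hv

theorem red_iota_mul (s : MvPolynomial (Fin 6) A) {P : D A} (hP : Red A P) :
    Red A (iota A s * P) := by
  obtain ⟨v, hv⟩ := hP
  refine ⟨fun k => s * v k, ?_⟩
  have : iota A s * P - ∑ k, iota A (s * v k) * bb A k =
      iota A s * (P - ∑ k, iota A (v k) * bb A k) := by
    simp only [map_mul, mul_sub, Finset.mul_sum, mul_assoc]
  rw [this]; exact Ideal.mul_mem_left _ _ hv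

theorem red_mul_of (t : D A) (M6 : Matrix (Fin 7) (Fin 7) (MvPolynomial (Fin 6) A))
    (h : ∀ k, t * bb A k - ∑ l, iota A (M6 l k) * bb A l ∈ idJ A) {P : D A} (hP : Red A P) :
    Red A (t * P) := by
  obtain ⟨v, hv⟩ := hP
  refine ⟨M6.mulVec v, ?_⟩
  have key : t * P - ∑ l, iota A ((M6.mulVec v) l) * bb A l
      = t * (P - ∑ k, iota A (v k) * bb A k)
        + ∑ k, iota A (v k) * (t * bb A k - ∑ l, iota A (M6 l k) * bb A l) := by
    simp only [Matrix.mulVec, dotProduct, Fin.sum_univ_seven, map_add, map_mul]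
    ring
  rw [key]
  exact add_mem (Ideal.mul_mem_left _ _ hv)
    (sum_mem (fun k _ => Ideal.mul_mem_left _ _ (h k)))

theorem red_all (P : D A) : Red A P := by
  induction P using MvPolynomial.induction_on with
  | C a => exact red_C A a
  | add p q hp hq => exact red_add A hp hq
  | mul_X p j hp =>
    have hA := red_mul_of A (X 0) (mA6 A) (redA A) hp
    have hB := red_mul_of A (X 1) (mB6 A) (redB A) hp
    have hC := red_mul_of A (X 2) (mC6 A) (redC A) hp
    have hi : ∀ s, Red A (iota A s * p) := fun s => red_iota_mul A s hp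
    fin_cases j
    · change Red A (p * X 0)
      have : p * X 0 = X 0 * p := by ring
      rw [this]; exact hA
    · change Red A (p * X 1)
      have : p * X 1 = X 1 * p := by ring
      rw [this]; exact hB
    · change Red A (p * X 2)
      have : p * X 2 = X 2 * p := by ring
      rw [this]; exact hC
    · change Red A (p * X 3)
      have : p * X 3 = iota A (X 0) * p + -(X 1 * p) := by simp [iota]; ring
      rw [this]; exact red_add A (hi _) (red_neg A hB)
    · change Red A (p * X 4)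
      have : p * X 4 = iota A (X 1) * p + -(X 0 * p) := by simp [iota]; ring
      rw [this]; exact red_add A (hi _) (red_neg A hA)
    · change Red A (p * X 5)
      have : p * X 5 = iota A (X 2) * p := by simp [iota]; ring
      rw [this]; exact hi _
    · change Red A (p * X 6)
      have : p * X 6 = iota A (X 3) * p := by simp [iota]; ring
      rw [this]; exact hi _
    · change Red A (p * X 7)
      have : p * X 7 = iota A (X 4) * p + -(X 2 * p) := by simp [iota]; ring
      rw [this]; exact red_add A (hi _) (red_neg A hC)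
    · change Red A (p * X 8)
      have : p * X 8 = iota A (X 5) * p + X 0 * p := by simp [iota]; ring
      rw [this]; exact red_add A (hi _) hA


theorem X0_sub_X8_regular (y : D A) (h : (X 0 - X 8 : D A) * y = 0) : y = 0 := by
  refine eq_zero_of_mul_eq_zero_of_monic A _ _ ?_ h
  have e8 : (X 8 : D A) = X (Fin.succ 7) := rfl
  rw [map_sub, finSuccEquiv_X_zero, e8, finSuccEquiv_X_succ]
  exact Polynomial.monic_X_sub_C _

theorem psi_red (v : Fin 7 → MvPolynomial (Fin 6) A) :
    psi A (∑ k, iota A (v k) * bb A k) = fun k => iota A (v k) := by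
  simp only [Fin.sum_univ_seven, psi_add, psi_iota_mul, psi_bb]
  funext l
  fin_cases l <;> simp [ee]

/-- **Key lemma**: `L1 = a - i` is a non-zero-divisor modulo `idJ`, over any commutative ring. -/
theorem key_lemma {P : D A} (h : (X 0 - X 8 : D A) * P ∈ idJ A) : P ∈ idJ A := by
  obtain ⟨v, hv⟩ := red_all A P
  have h1 : psi A P = fun k => iota A (v k) := by
    have := psi_idJ A hv
    rw [psi_sub, psi_red] at this
    exact sub_eq_zero.1 this
  have h2 : psi A ((X 0 - X 8) * P) = 0 := psi_idJ A h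
  have h3 : (X 0 - X 8 : D A) = iota A (- X 5) := by simp [iota]
  rw [h3, psi_iota_mul, h1] at h2
  have h4 : ∀ k, iota A (v k) = 0 := by
    intro k
    have := congrFun h2 k
    simp only [Pi.smul_apply, smul_eq_mul, Pi.zero_apply] at this
    rw [← h3] at this
    exact X0_sub_X8_regular A _ this
  have : P = P - ∑ k, iota A (v k) * bb A k := by simp [h4]
  rw [this]; exact hv

theorem key_lemma_L1 {P : D A} (h : L1 A * P ∈ idJ A) : P ∈ idJ A :=
  key_lemma A (by simpa only [L1] using h)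

theorem key_lemma_pow {P : D A} (n : ℕ) (h : L1 A ^ n * P ∈ idJ A) : P ∈ idJ A := by
  induction n with
  | zero => simpa using h
  | succ n ih =>
    apply ih
    apply key_lemma_L1
    rw [← mul_assoc, ← pow_succ']
    exact h

end
end Lie3
end Groth.Agent.Lib.Helper67
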