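import Mathlib
import Groth.Agent.Lib.Helper67.Lie3KL

/-!
`idJ A` is a prime ideal of `A[a,..,i]` when `A` is a domain: it is the kernel of the map to the
fraction field of `A[u,v,w,c,g,i]` solving `Q1 = Q2 = Q3 = 0` for `h, f, e` (with `u = L1`
inverted); the inclusion `ker ≤ idJ` uses the key lemma (`L1` is a non-zero-divisor modulo `idJ`).
-/

namespace Groth.Agent.Lib.Helper67
namespace Lie3
open MvPolynomial Lie3Mod
noncomputable section
set_option linter.unusedSectionVars false
variable (A : Type*) [CommRing A] [IsDomain A]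

abbrev R6 := MvPolynomial (Fin 6) A
abbrev K6 := FractionRing (R6 A)

def uK : K6 A := algebraMap (R6 A) (K6 A) (X 0)
def vK : K6 A := algebraMap (R6 A) (K6 A) (X 1)
def wK : K6 A := algebraMap (R6 A) (K6 A) (X 2)
def cK : K6 A := algebraMap (R6 A) (K6 A) (X 3)
def gK : K6 A := algebraMap (R6 A) (K6 A) (X 4)
def iK : K6 A := algebraMap (R6 A) (K6 A) (X 5)
def hK : K6 A := (gK A * vK A - iK A * wK A) / uK A
def fK : K6 A := (cK A * wK A - iK A * vK A) / uK A
def eK : K6 A := (vK A * wK A - vK A * hK A - wK A * fK A) / uK A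

theorem uK_ne_zero : uK A ≠ 0 := by
  rw [uK, Ne, map_eq_zero_iff _ (IsFractionRing.injective (R6 A) (K6 A))]
  exact MvPolynomial.X_ne_zero 0

def chi : D A →ₐ[A] K6 A :=
  aeval (fun j : Fin 9 => (![uK A + iK A, vK A - fK A, cK A, wK A - hK A, eK A, fK A, gK A, hK A,
    iK A] j : K6 A))

def incl : R6 A →ₐ[A] D A :=
  aeval (fun j : Fin 6 => (![L1 A, L2 A, L3 A, X 2, X 6, X 8] j : D A))

theorem chi_Q1 : chi A (Q1 A) = 0 := by
  have hu := uK_ne_zero A
  simp only [Q1, chi, map_sub, map_add, map_mul, aeval_X]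
  simp [hK, fK, eK]
  field_simp
  ring

theorem chi_Q2 : chi A (Q2 A) = 0 := by
  have hu := uK_ne_zero A
  simp only [Q2, chi, map_sub, map_add, map_mul, aeval_X]
  simp [hK, fK, eK]
  field_simp
  ring

theorem chi_Q3 : chi A (Q3 A) = 0 := by
  have hu := uK_ne_zero A
  simp only [Q3, chi, map_sub, map_add, map_mul, aeval_X]
  simp [hK, fK, eK]
  field_simp
  ring


theorem chi_idI {x : D A} (hx : x ∈ idI A) : chi A x = 0 := by
  refine Submodule.span_induction ?_ ?_ ?_ ?_ hx
  · intro z hz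
    simp only [Set.mem_insert_iff, Set.mem_singleton_iff] at hz
    rcases hz with rfl | rfl | rfl
    · exact chi_Q1 A
    · exact chi_Q2 A
    · exact chi_Q3 A
  · simp
  · intro z w _ _ hz hw
    rw [map_add, hz, hw, add_zero]
  · intro r z _ hz
    rw [smul_eq_mul, map_mul, hz, mul_zero]

theorem chi_L1 : chi A (L1 A) = uK A := by
  simp [L1, chi]
theorem chi_L2 : chi A (L2 A) = vK A := by
  simp [L2, chi]
theorem chi_L3 : chi A (L3 A) = wK A := by
  simp [L3, chi]

theorem chi_detM : chi A (detM A) = 0 := by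
  have h := chi_idI A (detM_mul_mem_idI A (L1_mem_idL A))
  rw [map_mul, chi_L1] at h
  exact (mul_eq_zero.1 h).resolve_right (uK_ne_zero A)

theorem chi_idJ {x : D A} (hx : x ∈ idJ A) : chi A x = 0 := by
  obtain ⟨q, hq, y, rfl⟩ := (mem_idJ_iff A x).1 hx
  rw [map_add, map_mul, chi_idI A hq, chi_detM, mul_zero, add_zero]

theorem chi_incl (r : R6 A) : chi A (incl A r) = algebraMap (R6 A) (K6 A) r := by
  have : (chi A).comp (incl A) = IsScalarTower.toAlgHom A (R6 A) (K6 A) := by
    apply MvPolynomial.algHom_ext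
    intro j
    fin_cases j
    · simp only [AlgHom.comp_apply, incl, aeval_X]; exact chi_L1 A
    · simp only [AlgHom.comp_apply, incl, aeval_X]; exact chi_L2 A
    · simp only [AlgHom.comp_apply, incl, aeval_X]; exact chi_L3 A
    · show chi A (incl A (X 3)) = algebraMap (R6 A) (K6 A) (X 3)
      simp [incl, chi, cK]
    · show chi A (incl A (X 4)) = algebraMap (R6 A) (K6 A) (X 4)
      simp [incl, chi, gK]
    · show chi A (incl A (X 5)) = algebraMap (R6 A) (K6 A) (X 5)
      simp [incl, chi, iK]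
  exact DFunLike.congr_fun this r

/-- after multiplying by a power of `L1`, every polynomial is congruent modulo `idI` to a polynomial
in `L1, L2, L3, c, g, i`. -/
def Good (P : D A) : Prop := ∃ (n : ℕ) (r : R6 A), L1 A ^ n * P - incl A r ∈ idI A

theorem good_C (a : A) : Good A (C a) := ⟨0, C a, by simp [incl]⟩

theorem good_add {P Q : D A} (hP : Good A P) (hQ : Good A Q) : Good A (P + Q) := by
  obtain ⟨n, r, hr⟩ := hP
  obtain ⟨m, s, hs⟩ := hQ
  refine ⟨n + m, X 0 ^ m * r + X 0 ^ n * s, ?_⟩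
  have : L1 A ^ (n + m) * (P + Q) - incl A (X 0 ^ m * r + X 0 ^ n * s) =
      L1 A ^ m * (L1 A ^ n * P - incl A r) + L1 A ^ n * (L1 A ^ m * Q - incl A s) := by
    have h0 : incl A (X 0) = L1 A := by simp [incl]
    simp only [map_add, map_mul, map_pow, h0]; ring
  rw [this]
  exact add_mem (Ideal.mul_mem_left _ _ hr) (Ideal.mul_mem_left _ _ hs)

theorem good_mul {P Q : D A} (hP : Good A P) (hQ : Good A Q) : Good A (P * Q) := by
  obtain ⟨n, r, hr⟩ := hP
  obtain ⟨m, s, hs⟩ := hQ
  refine ⟨n + m, r * s, ?_⟩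
  have : L1 A ^ (n + m) * (P * Q) - incl A (r * s) =
      (L1 A ^ m * Q) * (L1 A ^ n * P - incl A r) + incl A r * (L1 A ^ m * Q - incl A s) := by
    simp only [map_mul]; ring
  rw [this]
  exact add_mem (Ideal.mul_mem_left _ _ hr) (Ideal.mul_mem_left _ _ hs)

theorem good_X (j : Fin 9) : Good A (X j) := by
  have h1 := Q1_mem_idI A
  have h2 := Q2_mem_idI A
  have h3 := Q3_mem_idI A
  fin_cases j
  · show Good A (X 0)
    refine ⟨0, X 0 + X 5, ?_⟩
    have : L1 A ^ 0 * (X 0 : D A) - incl A (X 0 + X 5) = 0 := by simp [incl, L1]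
    rw [this]; exact zero_mem _
  · show Good A (X 1)
    refine ⟨1, X 0 * X 1 - (X 3 * X 2 - X 5 * X 1), ?_⟩
    have : L1 A ^ 1 * (X 1 : D A) - incl A (X 0 * X 1 - (X 3 * X 2 - X 5 * X 1)) = Q3 A := by
      simp [incl, L1, L2, L3, Q3]; ring
    rw [this]; exact h3
  · show Good A (X 2)
    refine ⟨0, X 3, ?_⟩
    have : L1 A ^ 0 * (X 2 : D A) - incl A (X 3) = 0 := by simp [incl]
    rw [this]; exact zero_mem _
  · show Good A (X 3)
    refine ⟨1, X 0 * X 2 - (X 4 * X 1 - X 5 * X 2), ?_⟩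
    have : L1 A ^ 1 * (X 3 : D A) - incl A (X 0 * X 2 - (X 4 * X 1 - X 5 * X 2)) = - Q1 A := by
      simp [incl, L1, L2, L3, Q1]; ring
    rw [this]; exact neg_mem h1
  · show Good A (X 4)
    refine ⟨2, X 0 * X 1 * X 2 - X 1 * (X 4 * X 1 - X 5 * X 2) - X 2 * (X 3 * X 2 - X 5 * X 1), ?_⟩
    have : L1 A ^ 2 * (X 4 : D A) - incl A (X 0 * X 1 * X 2 - X 1 * (X 4 * X 1 - X 5 * X 2)
        - X 2 * (X 3 * X 2 - X 5 * X 1)) = (- L2 A) * Q1 A + (- L1 A) * Q2 A + L3 A * Q3 A := by
      simp [incl, L1, L2, L3, Q1, Q2, Q3]; ring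
    rw [this]
    exact add_mem (add_mem (Ideal.mul_mem_left _ _ h1) (Ideal.mul_mem_left _ _ h2))
      (Ideal.mul_mem_left _ _ h3)
  · show Good A (X 5)
    refine ⟨1, X 3 * X 2 - X 5 * X 1, ?_⟩
    have : L1 A ^ 1 * (X 5 : D A) - incl A (X 3 * X 2 - X 5 * X 1) = - Q3 A := by
      simp [incl, L1, L2, L3, Q3]; ring
    rw [this]; exact neg_mem h3
  · show Good A (X 6)
    refine ⟨0, X 4, ?_⟩
    have : L1 A ^ 0 * (X 6 : D A) - incl A (X 4) = 0 := by simp [incl]
    rw [this]; exact zero_mem _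
  · show Good A (X 7)
    refine ⟨1, X 4 * X 1 - X 5 * X 2, ?_⟩
    have : L1 A ^ 1 * (X 7 : D A) - incl A (X 4 * X 1 - X 5 * X 2) = Q1 A := by
      simp [incl, L1, L2, L3, Q1]; ring
    rw [this]; exact h1
  · show Good A (X 8)
    refine ⟨0, X 5, ?_⟩
    have : L1 A ^ 0 * (X 8 : D A) - incl A (X 5) = 0 := by simp [incl]
    rw [this]; exact zero_mem _

theorem good_all (P : D A) : Good A P := by
  induction P using MvPolynomial.induction_on with
  | C a => exact good_C A a
  | add p q hp hq => exact good_add A hp hq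
  | mul_X p j hp => exact good_mul A hp (good_X A j)

theorem ker_chi : RingHom.ker (chi A : D A →+* K6 A) = idJ A := by
  apply le_antisymm
  · intro P hP
    rw [RingHom.mem_ker] at hP
    have hP' : chi A P = 0 := hP
    obtain ⟨n, r, hr⟩ := good_all A P
    have h1 := chi_idI A hr
    rw [map_sub, map_mul, hP', mul_zero, zero_sub, neg_eq_zero, chi_incl] at h1
    have h2 : r = 0 := (map_eq_zero_iff _ (IsFractionRing.injective (R6 A) (K6 A))).1 h1
    rw [h2, map_zero, sub_zero] at hr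
    exact key_lemma_pow A n (idI_le_idJ A hr)
  · intro P hP
    rw [RingHom.mem_ker]
    exact chi_idJ A hP

theorem idJ_isPrime : (idJ A).IsPrime := by
  rw [← ker_chi]
  exact RingHom.ker_isPrime _

end
end Lie3
end Groth.Agent.Lib.Helper67

namespace Groth.Agent.Lib.Helper67
namespace Lie3
open MvPolynomial Lie3Mod

/-- `idI = idJ ⊓ idL` over any commutative ring. -/
theorem idI_eq_inf (A : Type*) [CommRing A] : idI A = idJ A ⊓ idL A := by
  apply le_antisymm
  · exact le_inf (idI_le_idJ A) (idI_le_idL A)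
  · rintro x ⟨hxJ, hxL⟩
    obtain ⟨q, hq, y, rfl⟩ := (mem_idJ_iff A x).1 hxJ
    have h1 : y * detM A ∈ idL A := by
      have : y * detM A = (q + y * detM A) - q := by ring
      rw [this]
      exact sub_mem hxL (idI_le_idL A hq)
    have h2 := mem_idL_of_mul_detM_mem A h1
    have h3 := detM_mul_mem_idI A h2
    rw [mul_comm] at h3
    exact add_mem hq h3

theorem L1_not_mem_idJ (A : Type*) [CommRing A] [IsDomain A] : L1 A ∉ idJ A := by
  intro h
  have := chi_idJ A h
  rw [chi_L1] at this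
  exact uK_ne_zero A this

theorem C_mem_idJ_iff (A : Type*) [CommRing A] [IsDomain A] (a : A) : C a ∈ idJ A ↔ a = 0 := by
  constructor
  · intro h
    have h1 := chi_idJ A h
    have h2 : chi A (C a) = algebraMap (R6 A) (K6 A) (C a) := by
      have : (C a : D A) = algebraMap A (D A) a := rfl
      rw [this, AlgHom.commutes]
      rfl
    rw [h2, map_eq_zero_iff _ (IsFractionRing.injective (R6 A) (K6 A))] at h1
    exact (map_eq_zero_iff _ (MvPolynomial.C_injective _ _)).1 h1
  · rintro rfl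
    simp

theorem C_mem_idL_iff (A : Type*) [CommRing A] (a : A) : C a ∈ idL A ↔ a = 0 := by
  constructor
  · intro h
    rw [← ker_phiL, RingHom.mem_ker] at h
    have h2 : (phiL A : D A →+* D A) (C a) = C a := by
      have : (C a : D A) = algebraMap A (D A) a := rfl
      rw [this]
      exact (phiL A).commutes a
    rw [h2] at h
    exact (map_eq_zero_iff _ (MvPolynomial.C_injective _ _)).1 h
  · rintro rfl
    simp

end Lie3
end Groth.Agent.Lib.Helper67
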