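import Mathlib.Algebra.Lie.Basic
import Mathlib.LinearAlgebra.Basis.Defs
import Mathlib.LinearAlgebra.BilinearMap
import Mathlib.Tactic

/-!
Checking that a linear map between Lie algebras is a Lie homomorphism on a basis.
-/

namespace Groth.Agent.Lib.Helper67

open Module

variable {R : Type*} [CommRing R] {L L' : Type*} [LieRing L] [LieAlgebra R L]
  [LieRing L'] [LieAlgebra R L'] {ι : Type*}

/-- A linear map that respects brackets of basis vectors respects all brackets. -/
theorem map_lie_of_basis (b : Basis ι R L) (e : L →ₗ[R] L')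
    (h : ∀ i j, e ⁅b i, b j⁆ = ⁅e (b i), e (b j)⁆) (x y : L) : e ⁅x, y⁆ = ⁅e x, e y⁆ := by
  let B1 : L →ₗ[R] L →ₗ[R] L' :=
    LinearMap.mk₂ R (fun x y => e ⁅x, y⁆) (by simp [add_lie]) (by simp [smul_lie])
      (by simp [lie_add]) (by simp [lie_smul])
  let B2 : L →ₗ[R] L →ₗ[R] L' :=
    LinearMap.mk₂ R (fun x y => ⁅e x, e y⁆) (by simp [add_lie]) (by simp [smul_lie])
      (by simp [lie_add]) (by simp [lie_smul])
  have : B1 = B2 := b.ext fun i => b.ext fun j => h i j
  exact congrArg (fun B => B x y) this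

/-- A linear equivalence that respects brackets of basis vectors is a Lie algebra isomorphism. -/
def lieEquivOfBasis (b : Basis ι R L) (e : L ≃ₗ[R] L')
    (h : ∀ i j, e ⁅b i, b j⁆ = ⁅e (b i), e (b j)⁆) : L ≃ₗ⁅R⁆ L' :=
  { e with
    map_lie' := fun {x y} => map_lie_of_basis b (e : L →ₗ[R] L') h x y }

@[simp] theorem lieEquivOfBasis_apply (b : Basis ι R L) (e : L ≃ₗ[R] L')
    (h : ∀ i j, e ⁅b i, b j⁆ = ⁅e (b i), e (b j)⁆) (x : L) :
    lieEquivOfBasis b e h x = e x := rfl

end Groth.Agent.Lib.Helper67
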