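import Groth.Agent.Lib.Helper5.SiteCoh
import Groth.Agent.Lib.Helper1.ShCohTop
import Groth.Prelude.Def_CohTop
import Mathlib.CategoryTheory.Sites.SheafCohomology.MayerVietoris
import Mathlib.Topology.Sheaves.MayerVietoris

/-!
# The Mayer–Vietoris boundary map on sections
-/

set_option autoImplicit false
universe u
open CategoryTheory Limits Opposite TopologicalSpace

namespace Groth.Agent.Lib.Helper67.MVH1

variable {X : TopCat.{u}} (F : CohTop.Ab X)

theorem exists_delta_sq (S : (Opens.grothendieckTopology X).MayerVietorisSquare) :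
    ∃ δ : F.obj.obj (op S.X₁) →+ (F.H' 1 S.X₄ : AddCommGrpCat.{u}),
      (∀ s, δ s = 0 ↔ ∃ (a : F.obj.obj (op S.X₂)) (b : F.obj.obj (op S.X₃)),
        s = (F.obj.map S.f₁₂.op).hom a - (F.obj.map S.f₁₃.op).hom b) ∧
      (Subsingleton (F.H' 1 S.X₂ : AddCommGrpCat.{u}) →
        Subsingleton (F.H' 1 S.X₃ : AddCommGrpCat.{u}) → Function.Surjective δ) := by
  have hex1 := (S.sequence_exact F 0 1 rfl).exact 1
  have hex2 := (S.sequence_exact F 0 1 rfl).exact 2
  rw [ShortComplex.ab_exact_iff] at hex1 hex2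
  have hzero1 : ∀ w, (S.δ F 0 1 rfl).hom ((S.fromBiprod F 0).hom w) = 0 := fun w =>
    ConcreteCategory.congr_hom (S.fromBiprod_δ F 0 1 rfl) w
  let z := Groth.Agent.Lib.Helper5.SiteCoh.zeroIso (J := Opens.grothendieckTopology X) F
  have hnat : ∀ {W W' : (Opens X)ᵒᵖ} (i : W ⟶ W') (y : (F.cohomologyPresheaf 0).obj W),
      (z.hom.app W').hom (((F.cohomologyPresheaf 0).map i).hom y) =
        (F.obj.map i).hom ((z.hom.app W).hom y) := fun i y =>
    ConcreteCategory.congr_hom (z.hom.naturality i) y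
  have hzi : ∀ (W : (Opens X)ᵒᵖ) (s : F.obj.obj W),
      (z.hom.app W).hom ((z.inv.app W).hom s) = s := fun W s =>
    ConcreteCategory.congr_hom (z.inv_hom_id_app W) s
  have hiz : ∀ (W : (Opens X)ᵒᵖ) (y : (F.cohomologyPresheaf 0).obj W),
      (z.inv.app W).hom ((z.hom.app W).hom y) = y := fun W y =>
    ConcreteCategory.congr_hom (z.hom_inv_id_app W) y
  refine ⟨(S.δ F 0 1 rfl).hom.comp (z.inv.app (op S.X₁)).hom, ?_, ?_⟩
  · intro s
    constructor
    · intro hs
      obtain ⟨w, hw⟩ := hex1 ((z.inv.app (op S.X₁)).hom s) hs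
      obtain ⟨⟨y₁, y₂⟩, rfl⟩ :=
        (AddCommGrpCat.biprodIsoProd _ _).addCommGroupIsoToAddEquiv.symm.surjective w
      have hw' : ((F.cohomologyPresheaf 0).map S.f₁₂.op).hom y₁ -
          ((F.cohomologyPresheaf 0).map S.f₁₃.op).hom y₂
          = (z.inv.app (op S.X₁)).hom s := by
        rw [← hw]
        exact (S.fromBiprod_biprodIsoProd_inv_apply F y₁ y₂).symm
      refine ⟨(z.hom.app (op S.X₂)).hom y₁, (z.hom.app (op S.X₃)).hom y₂, ?_⟩
      have h1 := congrArg (z.hom.app (op S.X₁)).hom hw'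
      rw [hzi, map_sub, hnat, hnat] at h1
      exact h1.symm
    · rintro ⟨a, b, rfl⟩
      show (S.δ F 0 1 rfl).hom ((z.inv.app (op S.X₁)).hom _) = 0
      have h2 : (z.inv.app (op S.X₁)).hom
          ((F.obj.map S.f₁₂.op).hom a - (F.obj.map S.f₁₃.op).hom b) =
          (S.fromBiprod F 0).hom ((AddCommGrpCat.biprodIsoProd _ _).inv
            ⟨(z.inv.app (op S.X₂)).hom a, (z.inv.app (op S.X₃)).hom b⟩) := by
        have h4 := S.fromBiprod_biprodIsoProd_inv_apply F
          ((z.inv.app (op S.X₂)).hom a) ((z.inv.app (op S.X₃)).hom b)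
        refine Eq.trans ?_ h4.symm
        have h3 : ∀ (W : (Opens X)ᵒᵖ) (y y' : (F.cohomologyPresheaf 0).obj W),
            (z.hom.app W).hom y = (z.hom.app W).hom y' → y = y' := fun W y y' h => by
          rw [← hiz W y, ← hiz W y', h]
        apply h3
        rw [hzi, map_sub]
        have h5 := hnat S.f₁₂.op ((z.inv.app (op S.X₂)).hom a)
        have h6 := hnat S.f₁₃.op ((z.inv.app (op S.X₃)).hom b)
        rw [hzi] at h5 h6
        exact (congrArg₂ (· - ·) h5 h6).symm
      exact (congrArg _ h2).trans (hzero1 _)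
  · intro hU hV y
    have hy : (S.toBiprod F 1).hom y = 0 := by
      have : Subsingleton ((F.H' 1 S.X₂ ⊞ F.H' 1 S.X₃ : AddCommGrpCat)) := by
        apply AddCommGrpCat.subsingleton_of_isZero
        have h2 : IsZero (F.H' 1 S.X₂) := @AddCommGrpCat.isZero_of_subsingleton (F.H' 1 S.X₂) hU
        have h3 : IsZero (F.H' 1 S.X₃) := @AddCommGrpCat.isZero_of_subsingleton (F.H' 1 S.X₃) hV
        exact (biprod_isZero_iff _ _).mpr ⟨h2, h3⟩
      exact Subsingleton.elim _ _
    obtain ⟨w, hw⟩ := hex2 y hy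
    refine ⟨(z.hom.app (op S.X₁)).hom w, ?_⟩
    show (S.δ F 0 1 rfl).hom ((z.inv.app (op S.X₁)).hom _) = y
    rw [hiz]
    exact hw

theorem exists_delta (U V : Opens X) :
    ∃ δ : F.obj.obj (op (U ⊓ V)) →+ CohTop.HU F 1 (U ⊔ V),
      (∀ s, δ s = 0 ↔ ∃ (a : F.obj.obj (op U)) (b : F.obj.obj (op V)),
        s = (F.obj.map (homOfLE (inf_le_left : U ⊓ V ≤ U)).op).hom a -
          (F.obj.map (homOfLE (inf_le_right : U ⊓ V ≤ V)).op).hom b) ∧
      (Subsingleton (CohTop.HU F 1 U) → Subsingleton (CohTop.HU F 1 V) →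
        Function.Surjective δ) :=
  exists_delta_sq F (Opens.mayerVietorisSquare U V)

end Groth.Agent.Lib.Helper67.MVH1
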