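import Mathlib.Algebra.Polynomial.Derivative
import Mathlib.Algebra.Polynomial.Derivation
import Mathlib.Algebra.Polynomial.AlgebraMap
import Mathlib.RingTheory.Derivation.Basic
import Mathlib.Data.Nat.Factorial.Basic
import Mathlib.Tactic

/-!
Uniqueness for the formal ODE `(1 + μ X) Y' = α Y` among polynomials of degree `< p`
when `(p-1)!` is invertible, and the functional equation `F(S)F(T) - a₀² = F(S+T+μST) - a₀`.
-/

namespace Groth.Agent.Lib.Helper67

open Polynomial

section ode
variable {B : Type*} [CommRing B]

lemma ode_unique (p : ℕ) (hu : IsUnit ((Nat.factorial (p - 1) : ℕ) : B)) (μ α : B) (Y : B[X])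
    (hdeg : Y.natDegree < p) (h0 : Y.coeff 0 = 0)
    (hode : (1 + C μ * X) * derivative Y = C α * Y) : Y = 0 := by
  ext j
  rw [coeff_zero]
  induction j with
  | zero => exact h0
  | succ j ih =>
    by_cases hj : j + 1 < p
    · have h1 := congrArg (fun q => coeff q j) hode
      simp only [coeff_C_mul, ih, mul_zero] at h1
      have h2 : (1 + C μ * X) * derivative Y = derivative Y + C μ * (X * derivative Y) := by ring
      rw [h2, coeff_add, coeff_C_mul, coeff_derivative] at h1
      have h3 : coeff (X * derivative Y) j = 0 := by
        cases j with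
        | zero => simp
        | succ k => rw [coeff_X_mul, coeff_derivative, ih, zero_mul]
      rw [h3, mul_zero, add_zero] at h1
      have hunit : IsUnit ((j : B) + 1) := by
        have hdvd : (j + 1) ∣ Nat.factorial (p - 1) :=
          Nat.dvd_factorial (Nat.succ_pos j) (by omega)
        have : (((j + 1 : ℕ) : B)) ∣ ((Nat.factorial (p - 1) : ℕ) : B) := by
          exact_mod_cast Nat.cast_dvd_cast (α := B) hdvd
        have := isUnit_of_dvd_unit this hu
        simpa using this
      exact (hunit.mul_left_eq_zero).mp h1
    · exact coeff_eq_zero_of_natDegree_lt (by omega)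

end ode

section functional
variable {A : Type*} [CommRing A]

/-- derivative of `aeval y F` in `A[X][X]` -/
lemma derivative_aeval' (F : A[X]) (y : A[X][X]) :
    derivative (aeval y F) = aeval y (derivative F) * derivative y := by
  exact Derivation.map_aeval ((Polynomial.derivative' (R := A[X])).restrictScalars A) F y

lemma eval_zero_aeval (F : A[X]) (y : A[X][X]) :
    eval 0 (aeval y F) = aeval (eval 0 y) F := by
  have h := Polynomial.aeval_algHom_apply
    ((Polynomial.aeval (0 : A[X]) : A[X][X] →ₐ[A[X]] A[X]).restrictScalars A) y F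
  simpa [Polynomial.coe_aeval_eq_eval] using h.symm

lemma natDegree_aeval_le (F : A[X]) (y : A[X][X]) (hy : y.natDegree ≤ 1) :
    (aeval y F).natDegree ≤ F.natDegree := by
  rw [aeval_eq_sum_range]
  refine natDegree_sum_le_of_forall_le _ _ ?_
  intro i hi
  rw [Finset.mem_range] at hi
  refine (natDegree_smul_le _ _).trans ?_
  refine natDegree_pow_le.trans ?_
  calc i * y.natDegree ≤ i * 1 := Nat.mul_le_mul_left _ hy
    _ ≤ F.natDegree := by omega

end functional

section main
variable {A : Type*} [CommRing A]

theorem functional_iff_ode (p : ℕ) (hu : IsUnit ((Nat.factorial (p - 1) : ℕ) : A)) (μ : A)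
    (F : A[X]) (hF : F.natDegree < p) :
    (aeval (C X : A[X][X]) F * aeval (X : A[X][X]) F - C (C (F.coeff 0 ^ 2)) =
        aeval (C X + X * C (1 + C μ * X) : A[X][X]) F - C (C (F.coeff 0))) ↔
      F * C (F.coeff 1) = derivative F * (1 + C μ * X) := by
  set S : A[X][X] := C X with hS
  set T : A[X][X] := X with hT
  set q : A[X][X] := S + T * C (1 + C μ * X) with hq
  have dS : derivative S = 0 := by rw [hS, derivative_C]
  have dT : derivative T = 1 := by rw [hT, derivative_X]
  have dq : derivative q = C (1 + C μ * X) := by
    rw [hq, derivative_add, dS, derivative_mul, dT, derivative_C]; ring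
  have eS : eval 0 S = X := by rw [hS, eval_C]
  have eT : eval 0 T = 0 := by rw [hT, eval_X]
  have eq' : eval 0 q = X := by rw [hq, eval_add, eS, eval_mul, eT, zero_mul, add_zero]
  have aX : ∀ G : A[X], aeval (X : A[X]) G = G := aeval_X_left_apply
  have a0 : ∀ G : A[X], aeval (0 : A[X]) G = C (G.coeff 0) := by
    intro G; rw [← coeff_zero_eq_aeval_zero']; rfl
  have hd1 : (derivative F).coeff 0 = F.coeff 1 := by
    rw [coeff_derivative]; simp
  constructor
  · intro hid
    have h1 := congrArg (fun Z => eval 0 (derivative Z)) hid
    simp only [derivative_sub, derivative_mul, derivative_C, sub_zero, derivative_aeval', dS, dT, dq,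
      mul_zero, zero_mul, zero_add, mul_one, eval_mul, eval_zero_aeval, eS, eT, eq', aX, a0,
      eval_C, hd1] at h1
    exact h1
  · intro hode
    -- a₀ a₁ = a₁
    have h01 : F.coeff 0 * F.coeff 1 = F.coeff 1 := by
      have h1 := congrArg (fun Z => coeff Z 0) hode
      simp only [mul_coeff_zero, coeff_C_zero, hd1, coeff_add, coeff_one_zero, coeff_X_zero,
        mul_zero, add_zero, mul_one] at h1
      exact h1
    -- transfer of the ODE
    have tr : ∀ y : A[X][X], aeval y F * C (C (F.coeff 1)) =
        aeval y (derivative F) * (1 + C (C μ) * y) := by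
      intro y
      have hAM : ∀ a : A, algebraMap A A[X][X] a = C (C a) := fun a => rfl
      have h1 := congrArg (aeval y) hode
      simpa only [map_mul, map_add, map_one, aeval_C, aeval_X, hAM] using h1
    have R1 : (1 + C (C μ) * T) * C (1 + C μ * X) = 1 + C (C μ) * q := by
      rw [hq, hS]
      simp only [map_add, map_mul, map_one]
      ring
    -- the polynomial Y
    set Y : A[X][X] := (aeval S F * aeval T F - C (C (F.coeff 0 ^ 2))) -
      (aeval q F - C (C (F.coeff 0))) with hY
    suffices hY0 : Y = 0 by
      exact sub_eq_zero.mp hY0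
    have huB : IsUnit ((Nat.factorial (p - 1) : ℕ) : A[X]) := by
      have := hu.map (C : A →+* A[X])
      simpa using this
    have hSdeg : S.natDegree ≤ 1 := by rw [hS, natDegree_C]; exact Nat.zero_le _
    have hTdeg : T.natDegree ≤ 1 := by rw [hT]; exact natDegree_X_le
    have hqdeg : q.natDegree ≤ 1 := by
      rw [hq]
      refine (natDegree_add_le _ _).trans (max_le hSdeg ?_)
      exact (natDegree_mul_C_le _ _).trans hTdeg
    have hSF : aeval S F = C F := by
      have h1 := Polynomial.aeval_algHom_apply (CAlgHom : A[X] →ₐ[A] A[X][X]) (X : A[X]) F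
      rw [aX] at h1
      exact h1
    apply ode_unique p huB (C μ) (C (F.coeff 1)) Y
    · -- degree
      rw [hY]
      refine lt_of_le_of_lt ?_ hF
      refine (natDegree_sub_le _ _).trans (max_le ?_ ?_)
      · refine (natDegree_sub_le _ _).trans (max_le ?_ ?_)
        · rw [hSF]
          exact (natDegree_C_mul_le _ _).trans (natDegree_aeval_le F T hTdeg)
        · rw [natDegree_C]; exact Nat.zero_le _
      · refine (natDegree_sub_le _ _).trans (max_le (natDegree_aeval_le F q hqdeg) ?_)
        rw [natDegree_C]; exact Nat.zero_le _
    · -- constant coefficient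
      rw [coeff_zero_eq_eval_zero, hY]
      simp only [eval_sub, eval_mul, eval_zero_aeval, eS, eT, eq', aX, a0, eval_C]
      -- Y0 = F * C a0 - C (a0^2) - (F - C a0) = 0
      have hY0 : F * C (F.coeff 0) - C (F.coeff 0 ^ 2) - (F - C (F.coeff 0)) = 0 := by
        apply ode_unique p hu μ 0
        · refine lt_of_le_of_lt ?_ hF
          refine (natDegree_sub_le _ _).trans (max_le ?_ ?_)
          · refine (natDegree_sub_le _ _).trans (max_le (natDegree_mul_C_le _ _) ?_)
            rw [natDegree_C]; exact Nat.zero_le _
          · refine (natDegree_sub_le _ _).trans (max_le le_rfl ?_)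
            rw [natDegree_C]; exact Nat.zero_le _
        · simp only [coeff_sub, coeff_C_zero, mul_coeff_zero]
          ring
        · simp only [derivative_sub, derivative_mul, derivative_C, mul_zero, add_zero, sub_zero,
            map_zero, zero_mul]
          have : (1 + C μ * X) * (derivative F * C (F.coeff 0) - derivative F) =
              (derivative F * (1 + C μ * X)) * (C (F.coeff 0) - 1) := by ring
          rw [this, ← hode]
          have : F * C (F.coeff 1) * (C (F.coeff 0) - 1) =
              F * C (F.coeff 0 * F.coeff 1 - F.coeff 1) := by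
            simp only [map_sub, map_mul]; ring
          rw [this, h01, sub_self, map_zero, mul_zero]
      exact hY0
    · -- the ODE
      rw [hY]
      simp only [derivative_sub, derivative_mul, derivative_C, sub_zero, derivative_aeval', dS, dT,
        dq, mul_zero, zero_mul, zero_add, mul_one]
      have o1 := tr T
      have o2 := tr q
      have hc : C (C (F.coeff 1)) * (C (C (F.coeff 0 ^ 2)) - C (C (F.coeff 0)) : A[X][X]) = 0 := by
        rw [← map_sub, ← map_sub, ← map_mul, ← map_mul]
        have : F.coeff 1 * (F.coeff 0 ^ 2 - F.coeff 0) = 0 := by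
          have e1 : F.coeff 1 * F.coeff 0 ^ 2 = F.coeff 0 * (F.coeff 0 * F.coeff 1) := by ring
          rw [mul_sub, e1, h01, h01, mul_comm, h01, sub_self]
        rw [this, map_zero, map_zero]
      calc (1 + C (C μ) * T) * (aeval S F * aeval T (derivative F) -
              aeval q (derivative F) * C (1 + C μ * X))
          = aeval S F * (aeval T (derivative F) * (1 + C (C μ) * T)) -
              aeval q (derivative F) * ((1 + C (C μ) * T) * C (1 + C μ * X)) := by ring
        _ = aeval S F * (aeval T F * C (C (F.coeff 1))) -
              aeval q F * C (C (F.coeff 1)) := by rw [← o1, R1, ← o2]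
        _ = C (C (F.coeff 1)) * (aeval S F * aeval T F - C (C (F.coeff 0 ^ 2)) -
              (aeval q F - C (C (F.coeff 0)))) +
              C (C (F.coeff 1)) * (C (C (F.coeff 0 ^ 2)) - C (C (F.coeff 0))) := by ring
        _ = C (C (F.coeff 1)) * (aeval S F * aeval T F - C (C (F.coeff 0 ^ 2)) -
              (aeval q F - C (C (F.coeff 0)))) := by rw [hc, add_zero]

end main

end Groth.Agent.Lib.Helper67
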