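import Groth.Agent.Lib.Helper11.FinFreeAdj
import Groth.Agent.Lib.Helper11.AmpleBasis

/-!
# Tensoring with a finite locally free module is exact (helper67)
-/

set_option autoImplicit false
set_option linter.style.haveILetI false
universe u
open AlgebraicGeometry CategoryTheory Limits Opposite TopologicalSpace

namespace Groth.Agent.Lib.Helper67.TensExact

open Groth.Agent.Lib.Helper11.FinFreeAdj

variable {X : Scheme.{u}} {E : X.Modules}

theorem preservesLimits_tensR (hE : FlatMod.IsFinLocFree E) :
    PreservesLimitsOfSize.{0, 0} (tensR E) :=
  (dualPairOfFinLocFree hE).adj.rightAdjoint_preservesLimits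

theorem preservesColimits_tensR (hE : FlatMod.IsFinLocFree E) :
    PreservesColimitsOfSize.{0, 0} (tensR E) :=
  (dualPairOfFinLocFree hE).symm.adj.leftAdjoint_preservesColimits

theorem preservesZeroMorphisms_tensR (hE : FlatMod.IsFinLocFree E) :
    (tensR E).PreservesZeroMorphisms := by
  haveI : (tensR E).IsRightAdjoint := (dualPairOfFinLocFree hE).adj.isRightAdjoint
  infer_instance

/-- tensoring with a finite locally free module preserves short exact sequences -/
theorem shortExact_tensR (hE : FlatMod.IsFinLocFree E) {S : ShortComplex X.Modules}
    (hS : S.ShortExact) :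
    haveI := preservesZeroMorphisms_tensR hE
    (S.map (tensR E)).ShortExact := by
  haveI := preservesZeroMorphisms_tensR hE
  haveI := preservesLimits_tensR hE
  haveI := preservesColimits_tensR hE
  haveI : PreservesFiniteLimits (tensR E) := PreservesLimitsOfSize.preservesFiniteLimits _
  haveI : PreservesFiniteColimits (tensR E) := PreservesColimitsOfSize.preservesFiniteColimits _
  exact hS.map_of_exact (tensR E)

end Groth.Agent.Lib.Helper67.TensExact
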