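import Groth.Agent.Lib.Helper67.ZeroDim
import Groth.Agent.Lib.Helper67.TensExact
import Groth.Agent.Lib.Helper11.FinFreeBasis
import Groth.Agent.Lib.Helper11.TensorQCoh
import Groth.Agent.Lib.Helper11.SupportTensor
import Groth.Agent.Lib.Helper49.ProperSupport

/-!
# Tensoring modules supported at closed points with locally free modules (helper67)
-/

set_option autoImplicit false
set_option linter.style.haveILetI false
universe u
open AlgebraicGeometry CategoryTheory Limits Opposite TopologicalSpace Abelian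

namespace Groth.Agent.Lib.Helper67.TensZero

open Groth.Agent.Lib.Helper67.EulerLES Groth.Agent.Lib.Helper67.CurveCoh
open Groth.Agent.Lib.Helper67.CurveDeg Groth.Agent.Lib.Helper67.CurveTors
open Groth.Agent.Lib.Helper67.ZeroDim
open Groth.Agent.Lib.Helper49 Groth.Agent.Lib.Helper11.FinFreeBasis
open Groth.Agent.Lib.Helper11.TensorMap

section Restrict

variable {X : Scheme.{u}}

/-- a module supported at one closed point: restriction of global sections to a neighbourhood of
the point is bijective -/
theorem mres_bijective_of_supp (A : X.Modules) (z : X) (hz : IsClosed ({z} : Set X))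
    (hsupp : ∀ x : X, x ≠ z → Subsingleton (A.presheaf.stalk x)) (U : X.Opens) (hzU : z ∈ U) :
    Function.Bijective (mres A (le_top : U ≤ ⊤)) := by
  constructor
  · rw [injective_iff_map_eq_zero]
    intro s hs
    refine Helper45.section_ext_germ A ⊤ s 0 fun x hx => ?_
    by_cases hxU : x ∈ U
    · rw [← TopCat.Presheaf.germ_res_apply A.presheaf (homOfLE (le_top : U ≤ ⊤)) x hxU s]
      have : A.presheaf.map (homOfLE (le_top : U ≤ ⊤)).op s = 0 := hs
      rw [this, map_zero, map_zero]
    · have hxz : x ≠ z := fun h => hxU (h ▸ hzU)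
      exact (hsupp x hxz).elim _ _
  · intro t
    let V : X.Opens := ⟨({z} : Set X)ᶜ, hz.isOpen_compl⟩
    have hcov : U ⊔ V = ⊤ := by
      ext x
      simp only [Opens.coe_sup, Opens.coe_top, Set.mem_union, Set.mem_univ, iff_true]
      by_cases hx : x = z
      · exact Or.inl (hx ▸ hzU)
      · exact Or.inr hx
    have hcompat : mres A (inf_le_left : U ⊓ V ≤ U) t = mres A (inf_le_right : U ⊓ V ≤ V) 0 := by
      rw [map_zero]
      refine Helper45.section_ext_germ A _ _ 0 fun x hx => ?_
      have hxz : x ≠ z := hx.2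
      exact (hsupp x hxz).elim _ _
    obtain ⟨s, hs, -⟩ := exists_glue_two A U V hcov t 0 hcompat
    exact ⟨s, hs⟩

end Restrict

section Lin

variable (k : Type u) [Field k] {X : Scheme.{u}} [X.Over (Spec (CommRingCat.of k))]

/-- the structure map `k → Γ(X, U)` -/
noncomputable def toSec (U : X.Opens) : k →+* Γ(X, U) :=
  (fres (le_top : U ≤ ⊤)).comp
    ((X ↘ Spec (CommRingCat.of k)).appTop.hom.comp
      (Scheme.ΓSpecIso (CommRingCat.of k)).inv.hom)

/-- sections over `U` as a `k`-module (a definition, to be switched on locally) -/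
noncomputable abbrev secModule (A : X.Modules) (U : X.Opens) : Module k Γ(A, U) :=
  Module.compHom Γ(A, U) (toSec k U)

/-- for a module supported at a closed point `z ∈ U`, `H⁰(X, A) ≃ Γ(A, U)`, `k`-linearly -/
noncomputable def secEquiv (A : X.Modules) (z : X) (hz : IsClosed ({z} : Set X))
    (hsupp : ∀ x : X, x ≠ z → Subsingleton (A.presheaf.stalk x)) (U : X.Opens) (hzU : z ∈ U) :
    letI := secModule k A U
    Coh.HH X A 0 ≃ₗ[k] Γ(A, U) :=
  letI := secModule k A U
  LinearEquiv.ofBijective
    { toFun := fun x => mres A (le_top : U ≤ ⊤) (Groth.Agent.Lib.Helper17.HZero.hh0Equiv A x)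
      map_add' := fun x y => by rw [map_add, map_add]
      map_smul' := fun c x => by
        have h1 := Groth.Agent.Lib.Helper17.HZero.hh0Equiv_smul A
          (Coh.toGlobal (X ↘ Spec (CommRingCat.of k)) c) x
        have h2 : Groth.Agent.Lib.Helper17.HZero.hh0Equiv A (c • x) =
            (show Γ(X, ⊤) from Coh.toGlobal (X ↘ Spec (CommRingCat.of k)) c) •
              (Groth.Agent.Lib.Helper17.HZero.hh0Equiv A x) := h1
        rw [h2, mres_smul]
        rfl }
    ⟨(mres_bijective_of_supp A z hz hsupp U hzU).1.comp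
        (Groth.Agent.Lib.Helper17.HZero.hh0Equiv A).injective,
      (mres_bijective_of_supp A z hz hsupp U hzU).2.comp
        (Groth.Agent.Lib.Helper17.HZero.hh0Equiv A).surjective⟩

/-- **tensoring a module supported at one closed point with a locally free module of rank `n`
multiplies `h⁰` by `n`** -/
theorem finrank_HH_zero_tensor (G : X.Modules) (hG : Coh.IsCoh G) (E : X.Modules) {n : ℕ}
    (hE : FlatMod.IsFinLocFreeOfRank n E) (z : X) (hz : IsClosed ({z} : Set X))
    (hsupp : ∀ x : X, x ≠ z → Subsingleton (G.presheaf.stalk x))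
    (hfin : Module.Finite k (Coh.HH X G 0)) :
    Module.finrank k (Coh.HH X (CohB1.tensorMod G E) 0) = n * Module.finrank k (Coh.HH X G 0) := by
  haveI : G.IsQuasicoherent := hG.1
  have hEcoh := isCoh_of_rank hE
  haveI : E.IsQuasicoherent := hEcoh.1
  have hsuppT : ∀ x : X, x ≠ z → Subsingleton ((CohB1.tensorMod G E).presheaf.stalk x) :=
    fun x hx => (Groth.Agent.Lib.Helper11.SupportTensor.subsingleton_stalk_tensorMod G E hG.2
      hEcoh.2 x).mpr (Or.inl (hsupp x hx))
  obtain ⟨V, hzV, ⟨φ⟩⟩ := hE z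
  obtain ⟨e, he⟩ := exists_isBasisFam_of_iso φ
  letI alg : Algebra k Γ(X, V) := (toSec k V).toAlgebra
  letI mG := secModule k G V
  letI mT := secModule k (CohB1.tensorMod G E) V
  haveI : IsScalarTower k Γ(X, V) Γ(G, V) := IsScalarTower.of_algebraMap_smul fun _ _ => rfl
  haveI : IsScalarTower k Γ(X, V) Γ(CohB1.tensorMod G E, V) :=
    IsScalarTower.of_algebraMap_smul fun _ _ => rfl
  let e1 : (Fin n → Γ(G, V)) ≃ₗ[k] Γ(CohB1.tensorMod G E, V) :=
    (tmFamEquiv G E V e he V le_rfl).restrictScalars k
  let e2 := secEquiv k G z hz hsupp V hzV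
  let e3 := secEquiv k (CohB1.tensorMod G E) z hz hsuppT V hzV
  haveI : Module.Finite k Γ(G, V) := Module.Finite.equiv e2
  rw [e3.finrank_eq, ← e1.finrank_eq, Module.finrank_pi_fintype, e2.finrank_eq]
  simp

end Lin

section Push

variable {X Z : Scheme.{u}} (i : Z ⟶ X)

/-- the stalk of a direct image vanishes off the closure of the image -/
theorem subsingleton_stalk_push_of_not_mem (I : Z.Modules) (x : X)
    (hx : x ∉ closure (Set.range i)) :
    Subsingleton (((Scheme.Modules.pushforward i).obj I).presheaf.stalk x) := by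
  let W : X.Opens := ⟨(closure (Set.range i))ᶜ, isClosed_closure.isOpen_compl⟩
  have hxW : x ∈ W := hx
  have hbot : i ⁻¹ᵁ W = ⊥ := by
    ext z
    simp only [Opens.coe_bot, Set.mem_empty_iff_false, iff_false]
    intro hz
    exact hz (subset_closure ⟨z, rfl⟩)
  refine ⟨fun a b => ?_⟩
  suffices H : ∀ a : ↑(((Scheme.Modules.pushforward i).obj I).presheaf.stalk x), a = 0 by
    rw [H a, H b]
  intro a
  obtain ⟨U, hxU, s, rfl⟩ := TopCat.Presheaf.exists_germ_eq _ a
  have hxUW : x ∈ U ⊓ W := ⟨hxU, hxW⟩
  rw [← TopCat.Presheaf.germ_res_apply _ (homOfLE (inf_le_left : U ⊓ W ≤ U)) x hxUW s]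
  have hbot' : i ⁻¹ᵁ (U ⊓ W) = ⊥ := by
    apply le_antisymm _ bot_le
    rw [← hbot]
    exact fun z hz => hz.2
  haveI : Subsingleton Γ((Scheme.Modules.pushforward i).obj I, U ⊓ W) :=
    Groth.Agent.Lib.Helper49.ProperSupport.subsingleton_sections_of_eq_bot I hbot'
  rw [Subsingleton.elim (((Scheme.Modules.pushforward i).obj I).presheaf.map
    (homOfLE (inf_le_left : U ⊓ W ≤ U)).op s) 0, map_zero]

end Push

end Groth.Agent.Lib.Helper67.TensZero
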