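import Groth.Agent.Lib.Helper67.SmCurve2
import Groth.Agent.Lib.Helper45.BidualDVR
import Groth.Agent.Lib.Helper45.FreeOverDVR
import Groth.Agent.Lib.Helper55.DimStalk
import Groth.Agent.Lib.Helper49.FinLocFree

/-!
# The torsion-free quotient of a coherent module on a regular curve (helper67)

On a regular Noetherian integral scheme of dimension `≤ 1` every coherent module `C` has a finite
locally free quotient `C ↠ Q` of the same generic rank (the image of `C ⟶ C^**`).
-/

set_option autoImplicit false
set_option linter.style.haveILetI false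
universe u
open AlgebraicGeometry CategoryTheory Limits Opposite TopologicalSpace Abelian

namespace Groth.Agent.Lib.Helper67.TorsQuot

open Groth.Agent.Lib.Helper67.CurveDeg Groth.Agent.Lib.Helper67.CurveCoh
open Groth.Agent.Lib.Helper67.TensRank
open Groth.Agent.Lib.Helper49 Groth.Agent.Lib.Helper45.RefHullStalk
open Groth.Agent.Lib.Helper45.BidualDVR

/-- a regular local ring of dimension `≤ 1` is a principal ideal domain -/
theorem isPrincipalIdealRing_of_regular_dim_le_one (A : Type u) [CommRing A]
    [IsRegularLocalRing A] (hdim : ringKrullDim A ≤ 1) :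
    ∃ _ : IsDomain A, IsPrincipalIdealRing A := by
  haveI hdom : IsDomain A := Groth.Agent.Lib.Helper85.isDomain_of_isRegularLocalRing A
  refine ⟨hdom, ?_⟩
  by_cases h0 : ringKrullDim A = 0
  · haveI : Ring.KrullDimLE 0 A := (Ring.krullDimLE_iff).mpr (by rw [h0]; rfl)
    have hf : IsField A := Ring.KrullDimLE.isField_of_isDomain
    exact hf.isPrincipalIdealRing
  · have h1 : ringKrullDim A = 1 := by
      obtain ⟨n, hn⟩ : ∃ n : ℕ∞, ringKrullDim A = n := by
        have : ringKrullDim A ≠ ⊥ := ringKrullDim_ne_bot
        exact (WithBot.ne_bot_iff_exists.mp this).imp fun n hn => hn.symm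
      rw [hn] at hdim h0 ⊢
      have hn1 : n ≤ 1 := by exact_mod_cast hdim
      have hn0 : n ≠ 0 := by exact_mod_cast h0
      have : n = 1 := le_antisymm hn1 (Order.one_le_iff_ne_zero.mpr hn0)
      rw [this]
      rfl
    obtain ⟨_, hdvr⟩ := (Groth.Agent.Lib.Helper47.exists_isDiscreteValuationRing_iff A).mpr
      ⟨inferInstance, h1⟩
    infer_instance

variable {X : Scheme.{u}} [IsNoetherian X]
  (hreg : ∀ x : X, IsRegularLocalRing (X.presheaf.stalk x))
  (hdim : topologicalKrullDim X ≤ 1)

include hreg hdim in
/-- stalks of the double dual of a coherent module on a regular curve are free -/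
theorem free_stalk_ddual (C : X.Modules) (hC : Coh.IsCoh C) (x : X) :
    Module.Free (X.presheaf.stalk x) ((RefHull.ddual C).presheaf.stalk x) := by
  haveI := hreg x
  have hd : ringKrullDim (X.presheaf.stalk x) ≤ 1 :=
    (Groth.Agent.Lib.Helper55.ringKrullDim_stalk_le_topologicalKrullDim X x).trans hdim
  obtain ⟨hdom, hpid⟩ := isPrincipalIdealRing_of_regular_dim_le_one (X.presheaf.stalk x) hd
  haveI : Module.Finite (X.presheaf.stalk x) ((RefHull.ddual C).presheaf.stalk x) :=
    Groth.Agent.Lib.Helper12.QuasiFlat.finite_stalk_of_isCoh _ (isCoh_ddual C hC) x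
  haveI : Module.IsTorsionFree (X.presheaf.stalk x) ((RefHull.ddual C).presheaf.stalk x) :=
    Function.Injective.moduleIsTorsionFree (ddualStalkEquiv C hC x)
      (ddualStalkEquiv C hC x).injective (fun r m => map_smul _ r m)
  exact Module.free_of_finite_type_torsion_free'

include hreg hdim in
/-- the double dual of a coherent module on a regular curve is finite locally free -/
theorem isFinLocFree_ddual (C : X.Modules) (hC : Coh.IsCoh C) :
    FlatMod.IsFinLocFree (RefHull.ddual C) :=
  (isFinLocFree_iff_isFinitePresentation_and_free_stalk _).mpr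
    ⟨Groth.Agent.Lib.Helper45.RefHullCoh.isFP_of_isCoh _ (isCoh_ddual C hC),
      fun x => free_stalk_ddual hreg hdim C hC x⟩

variable [IsIntegral X]

include hreg hdim in
/-- **the torsion-free quotient**: every coherent module `C` on a regular integral curve has a
finite locally free quotient of rank `rk C` -/
theorem exists_torsQuot (C : X.Modules) (hC : Coh.IsCoh C) :
    ∃ (Q : X.Modules) (q : C ⟶ Q), Epi q ∧ FlatMod.IsFinLocFreeOfRank (rk C) Q := by
  set f : C ⟶ RefHull.ddual C := RefHull.bidualMap C with hf
  have hDD := isCoh_ddual C hC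
  have hQq : (Abelian.image f).IsQuasicoherent :=
    isQuasicoherent_kernel (cokernel.π f) hDD.1 (isQuasicoherent_cokernel f hC.1 hDD.1)
  have hQ : FlatMod.IsFinLocFree (Abelian.image f) :=
    Groth.Agent.Lib.Helper67.SmCurve.isFinLocFree_of_mono hreg hdim (Abelian.image.ι f)
      (isFinLocFree_ddual hreg hdim C hC) hQq
  refine ⟨Abelian.image f, Abelian.factorThruImage f, inferInstance, ?_⟩
  have hrk : rk (Abelian.image f) = rk C := by
    set η := genericPoint X with hη
    letI : Field (X.presheaf.stalk η) := inferInstanceAs (Field X.functionField)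
    have hsurj : Function.Surjective (stalkMapLinear (Abelian.factorThruImage f) η) :=
      stalkMap_surjective_of_epi _ η
    have hinj : Function.Injective (stalkMapLinear (Abelian.factorThruImage f) η) := by
      rw [injective_iff_map_eq_zero]
      intro v hv
      have h1 : (stalkMap f η).hom v = 0 := by
        have h2 : f = Abelian.factorThruImage f ≫ Abelian.image.ι f := (Abelian.image.fac f).symm
        have h3 : (stalkMap f η).hom v =
            (stalkMap (Abelian.image.ι f) η).hom
              ((stalkMap (Abelian.factorThruImage f) η).hom v) := by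
          obtain ⟨U, hxU, m, rfl⟩ := TopCat.Presheaf.exists_germ_eq C.presheaf v
          rw [stalkMap_germ, stalkMap_germ, stalkMap_germ]
          congr 1
          conv_lhs => rw [h2]
          rfl
        rw [h3]
        have h4 : (stalkMap (Abelian.factorThruImage f) η).hom v = 0 := hv
        rw [h4, map_zero]
      have h5 := ddualStalkEquiv_stalkMapₗ_bidualMap C hC η v
      have h6 : RefHull.stalkMapₗ (RefHull.bidualMap C) η v = 0 := h1
      rw [h6, map_zero] at h5
      exact Module.eval_apply_injective (X.presheaf.stalk η) (by rw [← h5, map_zero])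
    exact ((LinearEquiv.ofBijective _ ⟨hinj, hsurj⟩).finrank_eq).symm
  rw [← hrk]
  exact Groth.Agent.Lib.Helper67.SmCurve.isFinLocFreeOfRank_rk hQ

end Groth.Agent.Lib.Helper67.TorsQuot
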