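import Mathlib.Analysis.Complex.Basic
import Mathlib.Analysis.SpecificLimits.Basic
import Mathlib.Algebra.Polynomial.BigOperators
import Mathlib.Algebra.Polynomial.Roots
import Mathlib.Analysis.SpecialFunctions.Sqrt
import Mathlib.Tactic

/-!
# From bounds on power sums to bounds on the summands
-/

set_option autoImplicit false

open Polynomial

namespace Groth.Agent.Lib.Helper67.RHAnalytic

/-- If the power sums `∑ βᵢ^s` of finitely many complex numbers are bounded for all large `s`,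
then every `βᵢ` has absolute value at most `1`. -/
theorem norm_le_one_of_powerSum_bounded {m : ℕ} (β : Fin m → ℂ) (C : ℝ) (s₀ : ℕ)
    (h : ∀ s ≥ s₀, ‖∑ i, β i ^ s‖ ≤ C) (i₀ : Fin m) : ‖β i₀‖ ≤ 1 := by
  classical
  by_contra hgt
  push Not at hgt
  set γ₀ := β i₀ with hγ₀
  set S : Finset ℂ := (Finset.univ.image β).erase γ₀ with hS
  set R : ℂ[X] := ∏ γ ∈ S, (X - Polynomial.C γ) with hR
  have hRval : ∀ i, β i ≠ γ₀ → R.eval (β i) = 0 := by
    intro i hi
    rw [hR, eval_prod]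
    apply Finset.prod_eq_zero (i := β i)
    · rw [hS, Finset.mem_erase]
      exact ⟨hi, Finset.mem_image_of_mem β (Finset.mem_univ i)⟩
    · simp
  set ρ := R.eval γ₀ with hρ
  have hρ0 : ρ ≠ 0 := by
    rw [hρ, hR, eval_prod]
    apply Finset.prod_ne_zero_iff.mpr
    intro γ hγ
    rw [hS, Finset.mem_erase] at hγ
    simp only [eval_sub, eval_X, eval_C]
    exact sub_ne_zero.mpr (Ne.symm hγ.1)
  set m₀ : ℕ := (Finset.univ.filter fun i => β i = γ₀).card with hm₀
  have hm₀pos : 0 < m₀ := Finset.card_pos.mpr ⟨i₀, by simp [hγ₀]⟩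
  -- the key identity
  have hkey : ∀ s, ∑ i, R.eval (β i) * β i ^ s = (m₀ : ℂ) * ρ * γ₀ ^ s := by
    intro s
    rw [← Finset.sum_filter_add_sum_filter_not Finset.univ (fun i => β i = γ₀)]
    have h1 : ∑ i ∈ Finset.univ.filter (fun i => ¬ β i = γ₀), R.eval (β i) * β i ^ s = 0 := by
      apply Finset.sum_eq_zero
      intro i hi
      rw [Finset.mem_filter] at hi
      rw [hRval i hi.2, zero_mul]
    have h2 : ∑ i ∈ Finset.univ.filter (fun i => β i = γ₀), R.eval (β i) * β i ^ s =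
        ∑ _i ∈ Finset.univ.filter (fun i => β i = γ₀), ρ * γ₀ ^ s := by
      apply Finset.sum_congr rfl
      intro i hi
      rw [Finset.mem_filter] at hi
      rw [hi.2]
    rw [h1, h2, add_zero, Finset.sum_const, nsmul_eq_mul, ← hm₀]
    ring
  have hexp : ∀ s, ∑ i, R.eval (β i) * β i ^ s =
      ∑ l ∈ Finset.range (R.natDegree + 1), R.coeff l * ∑ i, β i ^ (l + s) := by
    intro s
    have : ∀ i, R.eval (β i) * β i ^ s =
        ∑ l ∈ Finset.range (R.natDegree + 1), R.coeff l * β i ^ (l + s) := by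
      intro i
      rw [eval_eq_sum_range, Finset.sum_mul]
      apply Finset.sum_congr rfl
      intro l _
      rw [pow_add]
      ring
    rw [Finset.sum_congr rfl (fun i _ => this i), Finset.sum_comm]
    apply Finset.sum_congr rfl
    intro l _
    rw [Finset.mul_sum]
  set B : ℝ := ∑ l ∈ Finset.range (R.natDegree + 1), ‖R.coeff l‖ with hB
  have hB0 : 0 ≤ B := Finset.sum_nonneg fun _ _ => norm_nonneg _
  have hC0 : 0 ≤ C := le_trans (norm_nonneg _) (h s₀ le_rfl)
  have hbound : ∀ s ≥ s₀, (m₀ : ℝ) * ‖ρ‖ * ‖γ₀‖ ^ s ≤ B * C := by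
    intro s hs
    have h1 : ‖(m₀ : ℂ) * ρ * γ₀ ^ s‖ = (m₀ : ℝ) * ‖ρ‖ * ‖γ₀‖ ^ s := by
      rw [norm_mul, norm_mul, norm_pow, Complex.norm_natCast]
    rw [← h1, ← hkey s, hexp s]
    calc ‖∑ l ∈ Finset.range (R.natDegree + 1), R.coeff l * ∑ i, β i ^ (l + s)‖
        ≤ ∑ l ∈ Finset.range (R.natDegree + 1), ‖R.coeff l * ∑ i, β i ^ (l + s)‖ :=
          norm_sum_le _ _
      _ ≤ ∑ l ∈ Finset.range (R.natDegree + 1), ‖R.coeff l‖ * C := by
          apply Finset.sum_le_sum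
          intro l _
          rw [norm_mul]
          exact mul_le_mul_of_nonneg_left (h (l + s) (by omega)) (norm_nonneg _)
      _ = B * C := by rw [hB, Finset.sum_mul]
  have hpos : 0 < (m₀ : ℝ) * ‖ρ‖ := by
    apply mul_pos
    · exact_mod_cast hm₀pos
    · exact norm_pos_iff.mpr hρ0
  have htend := tendsto_pow_atTop_atTop_of_one_lt hgt
  have hev := (Filter.tendsto_atTop.mp htend) (B * C / ((m₀ : ℝ) * ‖ρ‖) + 1)
  obtain ⟨s₁, hs₁⟩ := Filter.eventually_atTop.mp hev
  have h3 := hs₁ (max s₀ s₁) (le_max_right _ _)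
  have h4 := hbound (max s₀ s₁) (le_max_left _ _)
  have h5 : ‖γ₀‖ ^ max s₀ s₁ ≤ B * C / ((m₀ : ℝ) * ‖ρ‖) := by
    rw [le_div_iff₀ hpos]
    linarith
  linarith

/-- The Riemann hypothesis from two-sided bounds on the power sums. -/
theorem norm_eq_sqrt_of_powerSum_bound (q : ℝ) (hq : 0 < q) {m : ℕ} (α : Fin m → ℂ)
    (hpair : ∀ i, α i * α (Fin.rev i) = (q : ℂ)) (c : ℝ) (s₀ : ℕ)
    (hbound : ∀ s ≥ s₀, ‖∑ i, α i ^ (2 * s)‖ ≤ c * q ^ s) (i : Fin m) :
    ‖α i‖ = Real.sqrt q := by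
  have hqC : (q : ℂ) ≠ 0 := by exact_mod_cast hq.ne'
  set β : Fin m → ℂ := fun i => α i ^ 2 / (q : ℂ) with hβ
  have hβbound : ∀ s ≥ s₀, ‖∑ i, β i ^ s‖ ≤ c := by
    intro s hs
    have h1 : ∑ i, β i ^ s = (∑ i, α i ^ (2 * s)) / (q : ℂ) ^ s := by
      rw [Finset.sum_div]
      apply Finset.sum_congr rfl
      intro i _
      rw [hβ]
      simp only
      rw [div_pow, ← pow_mul]
    rw [h1, norm_div, norm_pow, Complex.norm_real, Real.norm_of_nonneg hq.le]
    rw [div_le_iff₀ (pow_pos hq s)]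
    exact hbound s hs
  have hle : ∀ j, ‖α j‖ ≤ Real.sqrt q := by
    intro j
    have h1 := norm_le_one_of_powerSum_bounded β c s₀ hβbound j
    rw [hβ] at h1
    simp only at h1
    rw [norm_div, norm_pow, Complex.norm_real, Real.norm_of_nonneg hq.le,
      div_le_one hq] at h1
    exact Real.le_sqrt_of_sq_le h1
  have hmul : ‖α i‖ * ‖α (Fin.rev i)‖ = q := by
    rw [← norm_mul, hpair i, Complex.norm_real, Real.norm_of_nonneg hq.le]
  have h1 := hle i
  have h2 := hle (Fin.rev i)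
  have hs : Real.sqrt q * Real.sqrt q = q := Real.mul_self_sqrt hq.le
  have hspos : 0 < Real.sqrt q := Real.sqrt_pos.mpr hq
  apply le_antisymm h1
  by_contra hlt
  push Not at hlt
  have : ‖α i‖ * ‖α (Fin.rev i)‖ < Real.sqrt q * Real.sqrt q := by
    calc ‖α i‖ * ‖α (Fin.rev i)‖ ≤ ‖α i‖ * Real.sqrt q :=
          mul_le_mul_of_nonneg_left h2 (norm_nonneg _)
      _ < Real.sqrt q * Real.sqrt q := mul_lt_mul_of_pos_right hlt hspos
  rw [hmul, hs] at this
  exact lt_irrefl _ this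

end Groth.Agent.Lib.Helper67.RHAnalytic
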