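import Groth.Agent.FunFld.GaloisEF
import Groth.Agent.FunFld.AutFix
import Groth.Agent.FunFld.PlaceOfVal
import Groth.Agent.Lib.Helper67.FFCount

/-!
# Counting places fixed by twists of an endomorphism in a Galois extension
-/

set_option autoImplicit false
set_option linter.unusedSectionVars false

open FunFld WithZero

namespace Groth.Agent.Lib.Helper67.RHOrbit

open Groth.Agent.FF Groth.Agent.FF.Ext Groth.Agent.Lib.Helper67.FFCount

/-- a place is fixed by a ring endomorphism if the endomorphism pulls its maximal ideal back to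
itself -/
def IsFixedPlace {k E : Type*} [Field k] [Field E] [Algebra k E] (τ : E →+* E)
    (Q : Place k E) : Prop := ∀ z : E, Q.1 (τ z) < 1 ↔ Q.1 z < 1

section Above

variable {k L E : Type*} [Field k] [Field L] [Field E] [Algebra k L] [Algebra L E] [Algebra k E]
  [IsScalarTower k L E]

/-- every place of `L` has a place of the algebraic extension `E` above it -/
theorem exists_isOver [Algebra.IsAlgebraic L E] (hE : IsFunctionField k E) (P : Place k L) :
    ∃ Q : Place k E, IsOver Q P := by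
  classical
  set A : Subring E := P.O.toSubring.map (algebraMap L E) with hA
  set I : Ideal A := { carrier := {a | ∃ x : L, P.1 x < 1 ∧ algebraMap L E x = (a : E)}
                       add_mem' := by
                        rintro a b ⟨x, hx, hxa⟩ ⟨y, hy, hyb⟩
                        refine ⟨x + y, lt_of_le_of_lt (P.1.map_add x y) (max_lt hx hy), ?_⟩
                        rw [map_add, hxa, hyb]; rfl
                       zero_mem' := ⟨0, by simp, by simp⟩
                       smul_mem' := by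
                        rintro ⟨c, y, hy, rfl⟩ a ⟨x, hx, hxa⟩
                        refine ⟨y * x, ?_, ?_⟩
                        · rw [map_mul]
                          have hy' : P.1 y ≤ 1 := hy
                          calc P.1 y * P.1 x ≤ 1 * P.1 x := by gcongr
                            _ < 1 := by rw [one_mul]; exact hx
                        · rw [map_mul, hxa]; rfl } with hI
  have hIne : I ≠ ⊤ := by
    intro h
    have h1 : (1 : A) ∈ I := by rw [h]; trivial
    obtain ⟨x, hx, hx1⟩ := h1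
    have : x = 1 := (algebraMap L E).injective (by rw [hx1, map_one]; rfl)
    rw [this, map_one] at hx
    exact lt_irrefl _ hx
  obtain ⟨V, hAV, hIV⟩ := Ideal.image_subset_nonunits_valuationSubring (A := A) I hIne
  have hkV : ∀ c : k, algebraMap k E c ∈ V := by
    intro c
    apply hAV
    rw [hA, Subring.mem_map]
    exact ⟨algebraMap k L c, P.2.1 c, (IsScalarTower.algebraMap_apply k L E c).symm⟩
  have hnon : ∀ x : L, P.1 x < 1 → algebraMap L E x ∈ V.nonunits := by
    intro x hx
    apply hIV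
    have hxA : algebraMap L E x ∈ A := by
      rw [hA, Subring.mem_map]
      exact ⟨x, hx.le, rfl⟩
    exact ⟨⟨algebraMap L E x, hxA⟩, ⟨x, hx, rfl⟩, rfl⟩
  have hVtop : V ≠ ⊤ := by
    rintro rfl
    obtain ⟨t, ht0, ht⟩ := exists_ord_eq P 1
    have htlt : P.1 t < 1 := by rw [val_lt_one_iff P ht0, ht]; exact one_pos
    have := hnon t htlt
    rw [ValuationSubring.mem_nonunits_iff_or] at this
    rcases this with h | h
    · exact ht0 ((map_eq_zero_iff _ (algebraMap L E).injective).mp h)
    · exact h (ValuationSubring.mem_top _)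
  obtain ⟨Q, hQ⟩ := exists_place_of_valuationSubring V hkV hE hVtop
  obtain ⟨P', e, he⟩ := exists_isOverWith_below (K := L) Q
  have hPP' : P = P' := by
    apply place_eq_of_lt_one_imp
    intro x hx
    rw [← lt_one_iff he]
    have h1 := hnon x hx
    rw [ValuationSubring.mem_nonunits_iff_or] at h1
    rcases h1 with h | h
    · rw [h, map_zero]; exact zero_lt_one
    · by_contra hge
      push Not at hge
      apply h
      have hx0 : algebraMap L E x ≠ 0 := by
        intro h0; rw [h0, map_zero] at hge; exact absurd hge (by simp)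
      have : (algebraMap L E x)⁻¹ ∈ Q.O := by
        rw [mem_O_iff, map_inv₀]
        exact inv_le_one_of_one_le₀ hge
      rwa [hQ] at this
  exact ⟨Q, e, hPP' ▸ he⟩

end Above

section Orbit

variable {k L E : Type*} [Field k] [Field L] [Field E] [Algebra k L] [Algebra L E] [Algebra k E]
  [IsScalarTower k L E]

lemma comapEquiv_mul (Q : Place k E) (σ ρ : E ≃ₐ[L] E) :
    Place.comapEquiv (Place.comapEquiv Q σ) ρ = Place.comapEquiv Q (σ * ρ) := by
  apply Subtype.ext
  ext x
  rfl

lemma comapEquiv_one (Q : Place k E) : Place.comapEquiv Q (1 : E ≃ₐ[L] E) = Q := by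
  apply Subtype.ext
  ext x
  rfl

lemma isOver_comapEquiv {P : Place k L} {Q : Place k E} (h : IsOver Q P) (σ : E ≃ₐ[L] E) :
    IsOver (Place.comapEquiv Q σ) P := by
  obtain ⟨e, he⟩ := h
  exact ⟨e, isOverWith_comapEquiv he σ⟩

variable [FiniteDimensional L E] [IsGalois L E]

/-- all fibres of the orbit map have the same size -/
lemma card_fiber_mul {P : Place k L} {Q Q' : Place k E} (hQ : IsOver Q P) (hQ' : IsOver Q' P) :
    Nat.card {Q'' : Place k E // IsOver Q'' P} *
      Nat.card {σ : E ≃ₐ[L] E // Place.comapEquiv Q σ = Q'} = Nat.card (E ≃ₐ[L] E) := by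
  classical
  have hfinX : Finite {Q'' : Place k E // IsOver Q'' P} := (finite_isOver P).to_subtype
  symm
  apply natCard_eq_mul_of_fiber
    (fun σ : E ≃ₐ[L] E => (⟨Place.comapEquiv Q σ, isOver_comapEquiv hQ σ⟩ :
      {Q'' : Place k E // IsOver Q'' P}))
  rintro ⟨Q'', hQ''⟩
  obtain ⟨ρ, hρ⟩ := exists_comapEquiv_eq hQ' hQ''
  apply Nat.card_congr
  refine ⟨fun σ => ⟨σ.1 * ρ⁻¹, ?_⟩, fun σ => ⟨σ.1 * ρ, ?_⟩, ?_, ?_⟩
  · have h1 : Place.comapEquiv Q σ.1 = Q'' := congrArg Subtype.val σ.2
    rw [← comapEquiv_mul, h1, ← hρ, comapEquiv_mul, mul_inv_cancel, comapEquiv_one]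
  · apply Subtype.ext
    show Place.comapEquiv Q (σ.1 * ρ) = Q''
    rw [← comapEquiv_mul, σ.2, hρ]
  · intro σ
    apply Subtype.ext
    show σ.1 * ρ⁻¹ * ρ = σ.1
    rw [inv_mul_cancel_right]
  · intro σ
    apply Subtype.ext
    show σ.1 * ρ * ρ⁻¹ = σ.1
    rw [mul_inv_cancel_right]

end Orbit

section Count

variable {k L E : Type*} [Field k] [Field L] [Field E] [Algebra k L] [Algebra L E] [Algebra k E]
  [IsScalarTower k L E] [FiniteDimensional L E] [IsGalois L E]

variable (τ : E →+* E) (τL : L →+* L)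
  (hτL : ∀ z : L, τ (algebraMap L E z) = algebraMap L E (τL z))
  (hpull : ∀ Q : Place k E, ∃ Q' : Place k E, ∀ z : E, Q'.1 z < 1 ↔ Q.1 (τ z) < 1)

/-- the pull-back of a place along `τ` -/
noncomputable def pull (Q : Place k E) : Place k E := Classical.choose (hpull Q)

lemma pull_spec (Q : Place k E) (z : E) : (pull τ hpull Q).1 z < 1 ↔ Q.1 (τ z) < 1 :=
  Classical.choose_spec (hpull Q) z

lemma isFixedPlace_comp_iff (Q : Place k E) (σ : E ≃ₐ[L] E) :
    IsFixedPlace (τ.comp (σ : E →+* E)) Q ↔ Place.comapEquiv Q σ⁻¹ = pull τ hpull Q := by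
  constructor
  · intro h
    apply place_eq_of_lt_one_imp
    intro w hw
    rw [pull_spec]
    have h1 := h (σ⁻¹ w)
    have h2 : (τ.comp (σ : E →+* E)) (σ⁻¹ w) = τ w := by
      show τ (σ (σ⁻¹ w)) = τ w
      rw [show σ (σ⁻¹ w) = w from σ.apply_symm_apply w]
    rw [h2] at h1
    exact h1.mpr hw
  · intro h z
    show Q.1 (τ (σ z)) < 1 ↔ Q.1 z < 1
    rw [← pull_spec τ hpull, ← h, Place.comapEquiv_apply]
    rw [show σ⁻¹ (σ z) = z from σ.symm_apply_apply z]

include hτL in
lemma isFixedPlace_below {Q : Place k E} {P : Place k L} (hQP : IsOver Q P) (σ : E ≃ₐ[L] E)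
    (h : IsFixedPlace (τ.comp (σ : E →+* E)) Q) : IsFixedPlace τL P := by
  obtain ⟨e, he⟩ := hQP
  intro x
  rw [← lt_one_iff he, ← lt_one_iff he, ← hτL]
  have h1 := h (algebraMap L E x)
  have h2 : (τ.comp (σ : E →+* E)) (algebraMap L E x) = τ (algebraMap L E x) := by
    show τ (σ (algebraMap L E x)) = _
    rw [σ.commutes]
  rw [h2] at h1
  exact h1

include hτL in
lemma isOver_pull {Q : Place k E} {P : Place k L} (hQP : IsOver Q P) (hP : IsFixedPlace τL P) :
    IsOver (pull τ hpull Q) P := by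
  obtain ⟨e, he⟩ := hQP
  obtain ⟨P', e', he'⟩ := exists_isOverWith_below (K := L) (pull τ hpull Q)
  have : P = P' := by
    apply place_eq_of_lt_one_imp
    intro x hx
    rw [← lt_one_iff he', pull_spec, hτL, lt_one_iff he]
    exact (hP x).mpr hx
  exact ⟨e', this ▸ he'⟩

include hτL hpull in
/-- the number of pairs `(σ, Q)` with `Q` fixed by `τ ∘ σ` -/
theorem card_fixed_twists (hE : IsFunctionField k E)
    [hfin : Finite {p : (E ≃ₐ[L] E) × Place k E // IsFixedPlace (τ.comp (p.1 : E →+* E)) p.2}] :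
    Finite {P : Place k L // IsFixedPlace τL P} ∧
    Nat.card {p : (E ≃ₐ[L] E) × Place k E // IsFixedPlace (τ.comp (p.1 : E →+* E)) p.2} =
      Nat.card {P : Place k L // IsFixedPlace τL P} * Nat.card (E ≃ₐ[L] E) := by
  classical
  -- the place below
  have hbelow : ∀ Q : Place k E, ∃ P : Place k L, IsOver Q P := fun Q => by
    obtain ⟨P, e, he⟩ := exists_isOverWith_below (K := L) Q
    exact ⟨P, e, he⟩
  choose below hbelow' using hbelow
  let π : {p : (E ≃ₐ[L] E) × Place k E // IsFixedPlace (τ.comp (p.1 : E →+* E)) p.2} →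
      {P : Place k L // IsFixedPlace τL P} :=
    fun p => ⟨below p.1.2, isFixedPlace_below τ τL hτL (hbelow' p.1.2) p.1.1 p.2⟩
  -- the fibres
  have hfiber : ∀ P : {P : Place k L // IsFixedPlace τL P},
      Nat.card {p // π p = P} = Nat.card (E ≃ₐ[L] E) := by
    rintro ⟨P, hP⟩
    have hfinX : Finite {Q : Place k E // IsOver Q P} := (finite_isOver P).to_subtype
    have hfinX' : Fintype {Q : Place k E // IsOver Q P} := Fintype.ofFinite _
    obtain ⟨Q₀, hQ₀⟩ := exists_isOver (L := L) hE P
    have hXpos : 0 < Nat.card {Q : Place k E // IsOver Q P} :=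
      Nat.card_pos_iff.mpr ⟨⟨⟨Q₀, hQ₀⟩⟩, hfinX⟩
    -- the fibre as a sigma type
    have hequiv : {p // π p = ⟨P, hP⟩} ≃
        Σ Q : {Q : Place k E // IsOver Q P},
          {σ : E ≃ₐ[L] E // Place.comapEquiv Q.1 σ = pull τ hpull Q.1} := by
      refine ⟨fun p => ⟨⟨p.1.1.2, ?_⟩, ⟨p.1.1.1⁻¹, ?_⟩⟩,
        fun q => ⟨⟨(q.2.1⁻¹, q.1.1), ?_⟩, ?_⟩, ?_, ?_⟩
      · have h1 : below p.1.1.2 = P := congrArg Subtype.val p.2
        have h2 := hbelow' p.1.1.2
        rw [h1] at h2
        exact h2
      · exact (isFixedPlace_comp_iff τ hpull p.1.1.2 p.1.1.1).mp p.1.2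
      · show IsFixedPlace (τ.comp ((q.2.1⁻¹ : E ≃ₐ[L] E) : E →+* E)) q.1.1
        rw [isFixedPlace_comp_iff τ hpull, inv_inv]
        exact q.2.2
      · apply Subtype.ext
        show below q.1.1 = P
        exact (unique_below (hbelow' q.1.1) q.1.2)
      · rintro ⟨⟨⟨σ, Q⟩, h1⟩, h2⟩
        simp
      · rintro ⟨⟨Q, hQ⟩, ⟨σ, hσ⟩⟩
        simp
    rw [Nat.card_congr hequiv, Nat.card_sigma]
    have hc : ∀ Q : {Q : Place k E // IsOver Q P},
        Nat.card {σ : E ≃ₐ[L] E // Place.comapEquiv Q.1 σ = pull τ hpull Q.1} =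
          Nat.card (E ≃ₐ[L] E) / Nat.card {Q : Place k E // IsOver Q P} := by
      intro Q
      have h1 := card_fiber_mul Q.2 (isOver_pull τ τL hτL hpull Q.2 hP)
      exact (Nat.div_eq_of_eq_mul_right hXpos h1.symm).symm
    rw [Finset.sum_congr rfl (fun Q _ => hc Q), Finset.sum_const, Finset.card_univ, smul_eq_mul,
      ← Nat.card_eq_fintype_card]
    have hdvd : Nat.card {Q : Place k E // IsOver Q P} ∣ Nat.card (E ≃ₐ[L] E) :=
      ⟨_, (card_fiber_mul hQ₀ hQ₀).symm⟩
    exact Nat.mul_div_cancel' hdvd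
  have hGpos : 0 < Nat.card (E ≃ₐ[L] E) := Nat.card_pos
  have hsurj : Function.Surjective π := by
    intro P
    have h1 := hfiber P
    have : 0 < Nat.card {p // π p = P} := by rw [h1]; exact hGpos
    obtain ⟨⟨p, hp⟩⟩ := (Nat.card_pos_iff.mp this).1
    exact ⟨p, hp⟩
  have hfinL : Finite {P : Place k L // IsFixedPlace τL P} := Finite.of_surjective π hsurj
  exact ⟨hfinL, natCard_eq_mul_of_fiber π _ hfiber⟩

end Count

end Groth.Agent.Lib.Helper67.RHOrbit
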