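import Groth.Agent.S11053
import Groth.Agent.Lib.Helper67.RHOrbit
import Groth.Agent.FunFld.Ball
import Mathlib.FieldTheory.PurelyInseparable.Basic
import Mathlib.FieldTheory.PurelyInseparable.Tower

/-!
# The Stöhr–Voloch bound for places fixed by a Frobenius-like endomorphism
-/

set_option autoImplicit false
set_option linter.unusedSectionVars false

open FunFld WithZero IntermediateField Polynomial

namespace Groth.Agent.Lib.Helper67.RHBound

open Groth.Agent.FF Groth.Agent.Lib.Helper67.RHOrbit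

variable {k E : Type*} [Field k] [Field E] [Algebra k E]

/-- a place fixed by an endomorphism whose values are `N`-th powers, `N ≥ 2`, is a strong fixed
point -/
lemma strongFixed_of_isFixedPlace (N : ℕ) (hN : 2 ≤ N) (τ : E →+* E)
    (hτ : ∀ z : E, ∃ w : E, τ z = w ^ N) (Q : Place k E) (hQ : IsFixedPlace τ Q) (x : E)
    (hx : Q.1 x < 1) : Q.1 (τ x) ≤ exp (-2) := by
  obtain ⟨w, hw⟩ := hτ x
  have h1 : Q.1 (τ x) < 1 := (hQ x).mpr hx
  rw [hw, map_pow] at h1 ⊢
  have h2 : Q.1 w < 1 := by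
    by_contra hge
    push Not at hge
    exact absurd h1 (not_lt.mpr (one_le_pow₀ hge))
  have h3 : Q.1 w ≤ exp (-1) := by
    have := (lt_exp_iff_le_exp_sub_one (Q.1 w) 0).mp (by rw [exp_zero]; exact h2)
    simpa using this
  calc Q.1 w ^ N ≤ exp (-1) ^ N := pow_le_pow_left₀ zero_le' h3 N
    _ = exp (-(N : ℤ)) := by rw [← exp_nsmul]; simp
    _ ≤ exp (-2) := by rw [exp_le_exp]; omega

/-- the degree of an endomorphism whose image contains all `p^m`-th powers is at most `p^m`, if the
field is separable over `k(x)` -/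
lemma finrank_fieldRange_le (p : ℕ) [hp : Fact p.Prime] [CharP E p] (m : ℕ) (τ : E →ₐ[k] E)
    (hτ : ∀ w : E, ∃ z : E, τ z = w ^ p ^ m) (x : E)
    [hsep : Algebra.IsSeparable (adjoin k ({x} : Set E)) E] :
    Module.finrank τ.fieldRange E ≤ p ^ m := by
  classical
  set F : IntermediateField k E := τ.fieldRange with hF
  have hpowmem : ∀ w : E, w ^ p ^ m ∈ F := by
    intro w
    obtain ⟨z, hz⟩ := hτ w
    rw [← hz]
    exact ⟨z, rfl⟩
  have hcharF : CharP F p :=
    (RingHom.charP_iff _ (algebraMap F E).injective p).mpr inferInstance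
  have hexpF : ExpChar F p := ExpChar.prime hp.out
  have hpi : IsPurelyInseparable F E := by
    rw [isPurelyInseparable_iff_pow_mem F p]
    intro w
    exact ⟨m, ⟨⟨w ^ p ^ m, hpowmem w⟩, rfl⟩⟩
  set M : IntermediateField F E := adjoin F ({x} : Set E) with hM
  have hpiM : IsPurelyInseparable M E := IsPurelyInseparable.tower_top F M E
  have hle : ∀ y : E, y ∈ adjoin k ({x} : Set E) → y ∈ M := by
    intro y hy
    have h1 : adjoin k ({x} : Set E) ≤ M.restrictScalars k := by
      rw [adjoin_le_iff]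
      intro z hz
      rw [Set.mem_singleton_iff] at hz
      rw [hz]
      exact mem_adjoin_simple_self F x
    exact h1 hy
  let i : adjoin k ({x} : Set E) →+* M := Subsemiring.inclusion fun y hy => hle y hy
  let _ : Algebra (adjoin k ({x} : Set E)) M := i.toAlgebra
  have : IsScalarTower (adjoin k ({x} : Set E)) M E := IsScalarTower.of_algebraMap_eq (congrFun rfl)
  have hsepM : Algebra.IsSeparable M E :=
    Algebra.isSeparable_tower_top_of_isSeparable (adjoin k ({x} : Set E)) M E
  have hMtop : M = ⊤ := by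
    rw [eq_top_iff]
    intro y _
    obtain ⟨y', rfl⟩ := IsPurelyInseparable.surjective_algebraMap_of_isSeparable M E y
    exact y'.2
  let a : F := ⟨x ^ p ^ m, hpowmem x⟩
  have hroot : aeval x (X ^ p ^ m - C a : F[X]) = 0 := by
    simp only [map_sub, map_pow, aeval_X, aeval_C]
    exact sub_self _
  have hmonic : (X ^ p ^ m - C a : F[X]).Monic :=
    monic_X_pow_sub_C a (pow_ne_zero _ hp.out.ne_zero)
  have hint : IsIntegral F x := ⟨_, hmonic, hroot⟩
  have h3 := adjoin.finrank hint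
  rw [← hM, hMtop, finrank_top'] at h3
  rw [h3]
  have hdvd := minpoly.dvd F x hroot
  have := natDegree_le_of_dvd hdvd hmonic.ne_zero
  rwa [natDegree_X_pow_sub_C] at this

/-- the Stöhr–Voloch bound for the places fixed by a Frobenius-like endomorphism -/
theorem ncard_fixed_le [IsAlgClosed k] (hE : IsFunctionField k E) (p : ℕ) [hp : Fact p.Prime]
    [CharP E p] (m : ℕ) (hm : 0 < m) (τ : E →ₐ[k] E)
    (hτ₁ : ∀ z : E, ∃ w : E, τ z = w ^ p ^ m) (hτ₂ : ∀ w : E, ∃ z : E, τ z = w ^ p ^ m) (x : E)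
    [hsep : Algebra.IsSeparable (adjoin k ({x} : Set E)) E] (n : ℕ) (hn : genus k E < n) :
    {Q : Place k E | IsFixedPlace (τ : E →+* E) Q}.Finite ∧
    (Set.ncard {Q : Place k E | IsFixedPlace (τ : E →+* E) Q} : ℝ) ≤
      1 + (p : ℝ) ^ m + (n + (p : ℝ) ^ m / n) * genus k E +
        2 * (genus k E : ℝ) ^ 2 * (genus k E - 1) / n := by
  have hN : 2 ≤ p ^ m := by
    calc 2 ≤ p := hp.out.two_le
      _ = p ^ 1 := (pow_one p).symm
      _ ≤ p ^ m := Nat.pow_le_pow_right hp.out.pos hm
  obtain ⟨hfin, hbound⟩ := Groth.Agent.S11053.result k E hE τ n hn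
  have hsub : {Q : Place k E | IsFixedPlace (τ : E →+* E) Q} ⊆
      {P : Place k E | ∀ x : E, P.1 x < 1 → P.1 (τ x) ≤ exp (-2)} := by
    intro Q hQ y hy
    exact strongFixed_of_isFixedPlace (p ^ m) hN (τ : E →+* E) hτ₁ Q hQ y hy
  refine ⟨hfin.subset hsub, ?_⟩
  have h1 : (Set.ncard {Q : Place k E | IsFixedPlace (τ : E →+* E) Q} : ℝ) ≤
      (Set.ncard {P : Place k E | ∀ x : E, P.1 x < 1 → P.1 (τ x) ≤ exp (-2)} : ℝ) := by
    exact_mod_cast Set.ncard_le_ncard hsub hfin
  refine h1.trans (hbound.trans ?_)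
  have hd : (Module.finrank τ.fieldRange E : ℝ) ≤ (p : ℝ) ^ m := by
    exact_mod_cast finrank_fieldRange_le p m τ hτ₂ x
  have hn0 : (0 : ℝ) < n := by
    have : 0 < n := by omega
    exact_mod_cast this
  have hg0 : (0 : ℝ) ≤ genus k E := Nat.cast_nonneg _
  have h2 : (Module.finrank τ.fieldRange E : ℝ) / n ≤ (p : ℝ) ^ m / n :=
    div_le_div_of_nonneg_right hd hn0.le
  have h3 : (n + (Module.finrank τ.fieldRange E : ℝ) / n) * genus k E ≤
      (n + (p : ℝ) ^ m / n) * genus k E :=
    mul_le_mul_of_nonneg_right (by linarith) hg0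
  linarith

end Groth.Agent.Lib.Helper67.RHBound
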