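import Groth.Agent.Lib.Helper67.RHOrbit
import Groth.Agent.Lib.Helper67.FFFrobFixed
import Groth.Agent.Lib.Helper67.FFConstExtExists
import Groth.Agent.Lib.Helper67.FFConstNpts
import Mathlib.RingTheory.Valuation.LocalSubring
import Groth.Agent.S11068

/-!
# Counting the places of `k̄ K` fixed by a power of Frobenius
-/

set_option autoImplicit false
set_option linter.unusedSectionVars false

open FunFld WithZero

namespace Groth.Agent.Lib.Helper67.RHCount

open Groth.Agent.FF Groth.Agent.FF.Ext Groth.Agent.Lib.Helper67.RHOrbit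
  Groth.Agent.Lib.Helper67.FFFrobFixed Groth.Agent.Lib.Helper67.DegCount
  Groth.Agent.Lib.Helper67.FFConstExt

lemma mem_of_isIntegral_subring {E : Type*} [Field E] (V : ValuationSubring E) (R : Subring E)
    (hR : R ≤ V.toSubring) (c : E) (hc : IsIntegral R c) : c ∈ V := by
  let _ : Algebra R V := (Subring.inclusion hR).toAlgebra
  have : IsScalarTower R V E := IsScalarTower.of_algebraMap_eq (fun _ => rfl)
  have h1 : IsIntegral V c := hc.tower_top
  obtain ⟨y, hy⟩ := IsIntegrallyClosed.isIntegral_iff.mp h1
  rw [← hy]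
  exact y.2

section Above

variable {kL L kE E : Type*} [Field kL] [Field L] [Field kE] [Field E] [Algebra kL L]
  [Algebra kE E] [Algebra L E]

/-- A place of `L` has a place of `E` above it, when the constants of `E` are integral over the
image of the valuation ring. -/
theorem exists_place_above (hE : IsFunctionField kE E) (P : Place kL L)
    (hint : ∀ c : kE, IsIntegral (P.O.toSubring.map (algebraMap L E)) (algebraMap kE E c)) :
    ∃ Q : Place kE E, ∀ x : L, Q.1 (algebraMap L E x) ≤ 1 ↔ P.1 x ≤ 1 := by
  classical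
  set A : Subring E := P.O.toSubring.map (algebraMap L E) with hA
  set I : Ideal A := { carrier := {a | ∃ x : L, P.1 x < 1 ∧ algebraMap L E x = (a : E)}
                       add_mem' := by
                        rintro a b ⟨x, hx, hxa⟩ ⟨y, hy, hyb⟩
                        refine ⟨x + y, lt_of_le_of_lt (P.1.map_add x y) (max_lt hx hy), ?_⟩
                        rw [map_add, hxa, hyb]; rfl
                       zero_mem' := ⟨0, by simp, by simp⟩
                       smul_mem' := by
                        rintro ⟨c, y, hy, rfl⟩ a ⟨x, hx, hxa⟩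
                        refine ⟨y * x, ?_, ?_⟩
                        · rw [map_mul]
                          have hy' : P.1 y ≤ 1 := hy
                          calc P.1 y * P.1 x ≤ 1 * P.1 x := by gcongr
                            _ < 1 := by rw [one_mul]; exact hx
                        · rw [map_mul, hxa]; rfl } with hI
  have hIne : I ≠ ⊤ := by
    intro h
    have h1 : (1 : A) ∈ I := by rw [h]; trivial
    obtain ⟨x, hx, hx1⟩ := h1
    have : x = 1 := (algebraMap L E).injective (by rw [hx1, map_one]; rfl)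
    rw [this, map_one] at hx
    exact lt_irrefl _ hx
  obtain ⟨V, hAV, hIV⟩ := Ideal.image_subset_nonunits_valuationSubring (A := A) I hIne
  have hkV : ∀ c : kE, algebraMap kE E c ∈ V :=
    fun c => mem_of_isIntegral_subring V A hAV _ (hint c)
  have hnon : ∀ x : L, P.1 x < 1 → algebraMap L E x ∈ V.nonunits := by
    intro x hx
    apply hIV
    have hxA : algebraMap L E x ∈ A := by
      rw [hA, Subring.mem_map]
      exact ⟨x, hx.le, rfl⟩
    exact ⟨⟨algebraMap L E x, hxA⟩, ⟨x, hx, rfl⟩, rfl⟩
  have hVtop : V ≠ ⊤ := by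
    rintro rfl
    obtain ⟨t, ht0, ht⟩ := exists_ord_eq P 1
    have htlt : P.1 t < 1 := by rw [val_lt_one_iff P ht0, ht]; exact one_pos
    have := hnon t htlt
    rw [ValuationSubring.mem_nonunits_iff_or] at this
    rcases this with h | h
    · exact ht0 ((map_eq_zero_iff _ (algebraMap L E).injective).mp h)
    · exact h (ValuationSubring.mem_top _)
  obtain ⟨Q, hQ⟩ := exists_place_of_valuationSubring V hkV hE hVtop
  have hlt : ∀ x : L, P.1 x < 1 → Q.1 (algebraMap L E x) < 1 := by
    intro x hx
    have h1 := hnon x hx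
    rw [ValuationSubring.mem_nonunits_iff_or] at h1
    rcases h1 with h | h
    · rw [h, map_zero]; exact zero_lt_one
    · by_contra hge
      push Not at hge
      apply h
      have hx0 : algebraMap L E x ≠ 0 := by
        intro h0; rw [h0, map_zero] at hge; exact absurd hge (by simp)
      have : (algebraMap L E x)⁻¹ ∈ Q.O := by
        rw [mem_O_iff, map_inv₀]
        exact inv_le_one_of_one_le₀ hge
      rwa [hQ] at this
  refine ⟨Q, fun x => ⟨fun h => ?_, fun h => ?_⟩⟩
  · by_contra hgt
    push Not at hgt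
    have hx0 : x ≠ 0 := by
      intro h0; rw [h0, map_zero] at hgt; exact absurd hgt (by simp)
    have h1 : P.1 x⁻¹ < 1 := by
      rw [map_inv₀]
      exact inv_lt_one_of_one_lt₀ hgt
    have h2 := hlt x⁻¹ h1
    rw [map_inv₀, map_inv₀] at h2
    have hx0' : algebraMap L E x ≠ 0 := (map_ne_zero_iff _ (algebraMap L E).injective).mpr hx0
    have hpos : (0 : WithZero (Multiplicative ℤ)) < Q.1 (algebraMap L E x) :=
      zero_lt_iff.mpr ((Valuation.ne_zero_iff Q.1).mpr hx0')
    have h3 : 1 < Q.1 (algebraMap L E x) := by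
      by_contra hle
      push Not at hle
      exact absurd h2 (not_lt.mpr (one_le_inv₀ hpos |>.mpr hle))
    exact absurd h (not_le.mpr h3)
  · have : algebraMap L E x ∈ Q.O := by
      rw [hQ]
      apply hAV
      rw [hA, Subring.mem_map]
      exact ⟨x, h, rfl⟩
    exact this

end Above

section Count

open TensorProduct

universe u v w₁ w₂
variable {k : Type u} {K : Type v} {kb : Type w₁} {Kb : Type w₂} [Field k] [Finite k] [Field K]
  [Algebra k K] [Field kb] [Algebra k kb] [IsAlgClosure k kb] [Field Kb] [Algebra K Kb]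
  [Algebra kb Kb]

/-- The places of `k̄ K` fixed by the `r`-th power of Frobenius are counted by `N_r`. -/
theorem card_fixed_eq_npts (hK : IsFunctionField k K) (hKb : IsFunctionField kb Kb)
    (hc : ∀ c : k, algebraMap K Kb (algebraMap k K c) = algebraMap kb Kb (algebraMap k kb c))
    (hgen : Algebra.adjoin K (Set.range (algebraMap kb Kb)) = ⊤)
    (r : ℕ) (hr : 0 < r) (φ : Kb →+* Kb)
    (hφ1 : ∀ c : kb, φ (algebraMap kb Kb c) = algebraMap kb Kb c)
    (hφ2 : ∀ x : K, φ (algebraMap K Kb x) = algebraMap K Kb x ^ (Nat.card k) ^ r) :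
    Nat.card {Q : Place kb Kb // IsFixedPlace φ Q} = npts (fun P : Place k K => P.deg) r := by
  classical
  obtain ⟨k', K', _, _, _, _, _, _, _, _, _, hrank, hbij, hK'⟩ := exists_constExt hK r hr
  letI : Algebra k Kb := ((algebraMap K Kb).comp (algebraMap k K)).toAlgebra
  haveI : IsScalarTower k K Kb := IsScalarTower.of_algebraMap_eq (fun c => rfl)
  haveI : IsScalarTower k kb Kb := IsScalarTower.of_algebraMap_eq (fun c => hc c)
  haveI : IsAlgClosed kb := IsAlgClosure.isAlgClosed k
  haveI : Algebra.IsAlgebraic k kb := IsAlgClosure.isAlgebraic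
  haveI hfd : FiniteDimensional k k' := Module.Finite.of_finite
  haveI : Algebra.IsAlgebraic k k' := Algebra.IsAlgebraic.of_finite k k'
  let j : k' →ₐ[k] kb := IsAlgClosed.lift
  letI : Algebra k' kb := j.toRingHom.toAlgebra
  haveI : IsScalarTower k k' kb := IsScalarTower.of_algebraMap_eq (fun c => (j.commutes c).symm)
  haveI : Algebra.IsAlgebraic k' kb := Algebra.IsAlgebraic.tower_top (K := k) k'
  haveI : IsAlgClosure k' kb := ⟨inferInstance, inferInstance⟩
  -- the embedding of `K'`
  let e : k' ⊗[k] K ≃ₐ[k] K' := AlgEquiv.ofBijective _ hbij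
  let f : k' →ₐ[k] Kb := (IsScalarTower.toAlgHom k kb Kb).comp j
  let g : K →ₐ[k] Kb := IsScalarTower.toAlgHom k K Kb
  let Φ : K' →+* Kb :=
    ((Algebra.TensorProduct.productMap f g : k' ⊗[k] K →ₐ[k] Kb) : k' ⊗[k] K →+* Kb).comp
      (e.symm : K' →+* k' ⊗[k] K)
  letI : Algebra K' Kb := Φ.toAlgebra
  have hΦe : ∀ t : k' ⊗[k] K, algebraMap K' Kb (e t) = Algebra.TensorProduct.productMap f g t := by
    intro t
    show Algebra.TensorProduct.productMap f g (e.symm (e t)) = _
    rw [e.symm_apply_apply]
  have hek' : ∀ c : k', e (c ⊗ₜ 1) = algebraMap k' K' c := by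
    intro c
    show Algebra.TensorProduct.productMap _ _ (c ⊗ₜ[k] (1 : K)) = _
    rw [Algebra.TensorProduct.productMap_apply_tmul, map_one, mul_one]
    rfl
  have heK : ∀ z : K, e (1 ⊗ₜ z) = algebraMap K K' z := by
    intro z
    show Algebra.TensorProduct.productMap _ _ ((1 : k') ⊗ₜ[k] z) = _
    rw [Algebra.TensorProduct.productMap_apply_tmul, map_one, one_mul]
    rfl
  have hc' : ∀ c : k', algebraMap K' Kb (algebraMap k' K' c) =
      algebraMap kb Kb (algebraMap k' kb c) := by
    intro c
    rw [← hek', hΦe, Algebra.TensorProduct.productMap_apply_tmul, map_one, mul_one]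
    rfl
  have hΦK : ∀ z : K, algebraMap K' Kb (algebraMap K K' z) = algebraMap K Kb z := by
    intro z
    rw [← heK, hΦe, Algebra.TensorProduct.productMap_apply_tmul, map_one, one_mul]
    rfl
  haveI : IsScalarTower K K' Kb := IsScalarTower.of_algebraMap_eq (fun z => (hΦK z).symm)
  have hgen' : Algebra.adjoin K' (Set.range (algebraMap kb Kb)) = ⊤ := by
    rw [eq_top_iff]
    intro w _
    have hw : w ∈ Algebra.adjoin K (Set.range (algebraMap kb Kb)) := by rw [hgen]; trivial
    have hle : Algebra.adjoin K (Set.range (algebraMap kb Kb)) ≤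
        (Algebra.adjoin K' (Set.range (algebraMap kb Kb))).restrictScalars K :=
      Algebra.adjoin_le Algebra.subset_adjoin
    exact hle hw
  have hcard' : Nat.card k' = Nat.card k ^ r := by
    rw [Module.natCard_eq_pow_finrank (K := k) (V := k'), hrank]
  have hN0 : Nat.card k' ≠ 0 := Nat.card_pos.ne'
  have haddpow : ∀ a b : Kb, (a + b) ^ Nat.card k' = a ^ Nat.card k' + b ^ Nat.card k' := by
    intro a b
    have := sub_pow_card k' kb (a + b) b
    rw [add_sub_cancel_right] at this
    rw [this]; ring
  have hφ2' : ∀ z' : K', φ (algebraMap K' Kb z') = algebraMap K' Kb z' ^ Nat.card k' := by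
    intro z'
    obtain ⟨t, rfl⟩ := e.surjective z'
    rw [hΦe]
    induction t using TensorProduct.induction_on with
    | zero => rw [map_zero, map_zero, zero_pow hN0]
    | tmul c z =>
      rw [Algebra.TensorProduct.productMap_apply_tmul, map_mul, mul_pow]
      have h1 : f c = algebraMap kb Kb (algebraMap k' kb c) := rfl
      have h2 : g z = algebraMap K Kb z := rfl
      have hcN : algebraMap kb Kb (algebraMap k' kb c) ^ Nat.card k' =
          algebraMap kb Kb (algebraMap k' kb c) := by
        let _ : Fintype k' := Fintype.ofFinite k'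
        rw [← map_pow, ← map_pow, Nat.card_eq_fintype_card, FiniteField.pow_card]
      rw [h1, h2, hφ1, hφ2, ← hcard', hcN]
    | add a b ha hb => rw [map_add, map_add, ha, hb, haddpow]
  have hS := fun Q : Place kb Kb =>
    Groth.Agent.S11068.result k' K' kb Kb hK' hc' hgen' φ hφ1 hφ2' Q
  -- integrality of the constants
  have hint : ∀ (P' : Place k' K') (c : kb),
      IsIntegral (P'.O.toSubring.map (algebraMap K' Kb)) (algebraMap kb Kb c) := by
    intro P' c
    letI : Algebra k' Kb := ((algebraMap kb Kb).comp (algebraMap k' kb)).toAlgebra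
    haveI : IsScalarTower k' kb Kb := IsScalarTower.of_algebraMap_eq (fun c => rfl)
    have h1 : IsIntegral k' c := Algebra.IsIntegral.isIntegral c
    have h2 : IsIntegral k' (algebraMap kb Kb c) := h1.map (IsScalarTower.toAlgHom k' kb Kb)
    let ρ : k' →+* (P'.O.toSubring.map (algebraMap K' Kb)) :=
      (algebraMap k' Kb).codRestrict _ (fun c => by
        rw [Subring.mem_map]
        exact ⟨algebraMap k' K' c, P'.2.1 c, hc' c⟩)
    letI : Algebra k' (P'.O.toSubring.map (algebraMap K' Kb)) := ρ.toAlgebra
    haveI : IsScalarTower k' (P'.O.toSubring.map (algebraMap K' Kb)) Kb :=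
      IsScalarTower.of_algebraMap_eq (fun c => rfl)
    exact h2.tower_top
  -- the bijection
  have hchoice : ∀ Q : {Q : Place kb Kb // IsFixedPlace φ Q}, ∃ P' : Place k' K',
      (∀ x : K', Q.1.1 (algebraMap K' Kb x) ≤ 1 ↔ P'.1 x ≤ 1) ∧ P'.deg = 1 :=
    fun Q => (hS Q.1).mp Q.2
  choose below hbelow using hchoice
  let b := Module.Basis.ofVectorSpace k' kb
  have hequiv : {Q : Place kb Kb // IsFixedPlace φ Q} ≃ {P' : Place k' K' // P'.deg = 1} := by
    refine Equiv.ofBijective (fun Q => ⟨below Q, (hbelow Q).2⟩) ⟨?_, ?_⟩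
    · intro Q₁ Q₂ h12
      have h12' : below Q₁ = below Q₂ := congrArg Subtype.val h12
      apply Subtype.ext
      apply place_eq_of_lt_one_imp
      intro z hz
      obtain ⟨s, x, rfl⟩ := exists_repr hc' hgen' b z
      rw [val_sum_lt_one_iff hc' Q₁.1 (below Q₁) (hbelow Q₁).1 (hbelow Q₁).2 b
        b.linearIndependent] at hz
      rw [val_sum_lt_one_iff hc' Q₂.1 (below Q₂) (hbelow Q₂).1 (hbelow Q₂).2 b
        b.linearIndependent, ← h12']
      exact hz
    · rintro ⟨P', hP'⟩
      obtain ⟨Q, hQ⟩ := exists_place_above hKb P' (hint P')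
      have hQfix : IsFixedPlace φ Q := (hS Q).mpr ⟨P', hQ, hP'⟩
      refine ⟨⟨Q, hQfix⟩, ?_⟩
      apply Subtype.ext
      show below ⟨Q, hQfix⟩ = P'
      apply place_ext_of_le_one_iff
      intro x
      rw [← (hbelow ⟨Q, hQfix⟩).1 x, hQ x]
  haveI : FiniteDimensional K K' := finiteDimensional_of_productMap_surjective hbij.2
  haveI : Algebra.IsAlgebraic K K' := Algebra.IsAlgebraic.of_finite K K'
  rw [Nat.card_congr hequiv, ← npts_one (admissible_deg hK'),
    npts_constExt hbij hK hK' 1 le_rfl, hrank, mul_one]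

end Count

end Groth.Agent.Lib.Helper67.RHCount
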