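import Groth.Agent.FunFld.Rational
import Groth.Agent.FunFld.Transc
import Groth.Agent.S11040
import Groth.Agent.Lib.Helper67.FFNumer

/-!
# Simple transcendental subfields of a function field have genus zero
-/

set_option autoImplicit false

open FunFld IntermediateField

namespace Groth.Agent.Lib.Helper67.RHSimple

open Groth.Agent.FF Groth.Agent.Lib.Helper67.DegCount Groth.Agent.Lib.Helper67.FFNumer

universe u v
variable {k : Type u} {K : Type v} [Field k] [Field K] [Algebra k K]

theorem adjoin_gen_eq_top (x : K) :
    adjoin k ({AdjoinSimple.gen k x} : Set k⟮x⟯) = ⊤ := by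
  apply lift_injective
  rw [lift_adjoin_simple, lift_top]
  rfl

theorem mem_adjoin_gen (x : K) (l : k⟮x⟯) : l ∈ adjoin k ({AdjoinSimple.gen k x} : Set k⟮x⟯) := by
  rw [adjoin_gen_eq_top]
  exact IntermediateField.mem_top

theorem transcendental_gen {x : K} (hx : Transcendental k x) :
    Transcendental k (AdjoinSimple.gen k x) := by
  intro h
  apply hx
  have := h.algebraMap (A := K)
  rwa [AdjoinSimple.algebraMap_gen] at this

theorem isFunctionField_adjoin_simple (hK : IsFunctionField k K) {x : K}
    (hx : Transcendental k x) : IsFunctionField k k⟮x⟯ := by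
  refine ⟨⟨AdjoinSimple.gen k x, transcendental_gen hx, ?_⟩, ?_⟩
  · rw [adjoin_gen_eq_top]
    apply FiniteDimensional.of_finrank_pos
    rw [IntermediateField.finrank_top]
    exact one_pos
  · intro y hy
    have hy' : IsAlgebraic k (y : K) := by
      have := hy.algebraMap (A := K)
      exact this
    obtain ⟨c, hc⟩ := hK.2 _ hy'
    exact ⟨c, Subtype.ext hc⟩

theorem genus_adjoin_simple (hK : IsFunctionField k K) {x : K}
    (hx : Transcendental k x) : genus k k⟮x⟯ = 0 := by
  have hK₀ := isFunctionField_adjoin_simple hK hx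
  obtain ⟨P, hP⟩ := exists_simplePoleAt_of_adjoin_eq_top hK₀ (adjoin_gen_eq_top (k := k) x)
  exact genus_eq_zero_of_simplePoleAt hK₀ hP

/-- the number of rational points of a genus-zero function field over its constant extensions -/
theorem npts_of_genus_zero [Finite k] (hK : IsFunctionField k K) (hg : genus k K = 0) (m : ℕ) :
    npts (fun P : Place k K => P.deg) (m + 1) = (Nat.card k) ^ (m + 1) + 1 := by
  obtain ⟨α, -, hα, -⟩ := Groth.Agent.S11040.result k K hK
  have h := npts_eq_of_numer ℂ hK α hα m
  haveI : IsEmpty (Fin (2 * genus k K)) := ⟨fun i => by have := i.2; omega⟩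
  rw [Finset.univ_eq_empty, Finset.sum_empty, sub_zero] at h
  have h' : (npts (fun P : Place k K => P.deg) (m + 1) : ℂ) =
      (((Nat.card k) ^ (m + 1) + 1 : ℕ) : ℂ) := by
    rw [h]; push_cast; ring
  exact_mod_cast h'

end Groth.Agent.Lib.Helper67.RHSimple
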