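import Groth.Agent.Lib.Helper67.RHTower
import Groth.Agent.Lib.Helper67.RHCount
import Groth.Agent.Lib.Helper67.RHSimple

/-!
# The two-sided estimate for the number of points over the constant extensions
-/

set_option autoImplicit false
set_option linter.unusedSectionVars false

open FunFld WithZero IntermediateField

namespace Groth.Agent.Lib.Helper67.RHCore

open Groth.Agent.FF Groth.Agent.Lib.Helper67.RHOrbit Groth.Agent.Lib.Helper67.RHTower
  Groth.Agent.Lib.Helper67.RHCount Groth.Agent.Lib.Helper67.RHSimple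
  Groth.Agent.Lib.Helper67.DegCount

lemma arith (a N Q g dG dH : ℝ) (hQ : 1 ≤ Q) (hN : N = Q ^ 2) (hg : 0 ≤ g) (hdH : 1 ≤ dH)
    (hdHG : dH ≤ dG)
    (h1 : a ≤ 1 + N + (Q + N / Q) * g + 2 * g ^ 2 * (g - 1) / Q)
    (h2 : dG * (N + 1) ≤
      dH * a + (dG - dH) * (1 + N + (Q + N / Q) * g + 2 * g ^ 2 * (g - 1) / Q)) :
    |a - N - 1| ≤ dG * (2 * g + 2 * g ^ 3) * Q := by
  have hQ0 : 0 < Q := by linarith
  have hNQ : N / Q = Q := by rw [hN]; field_simp
  rw [hNQ] at h1 h2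
  have hg3 : 0 ≤ g ^ 3 := by positivity
  have hg2 : 0 ≤ g ^ 2 := by positivity
  have he : 2 * g ^ 2 * (g - 1) / Q ≤ 2 * g ^ 3 * Q := by
    rw [div_le_iff₀ hQ0]
    have h3 : 2 * g ^ 3 * Q * Q = 2 * g ^ 3 * Q ^ 2 := by ring
    rw [h3]
    have h4 : (1 : ℝ) ≤ Q ^ 2 := by nlinarith
    nlinarith
  set e : ℝ := (2 * g + 2 * g ^ 3) * Q with he'
  have he0 : 0 ≤ e := by positivity
  have hB : 1 + N + (Q + Q) * g + 2 * g ^ 2 * (g - 1) / Q ≤ 1 + N + e := by
    rw [he']; nlinarith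
  have hdG : 1 ≤ dG := le_trans hdH hdHG
  have hfin : dG * (2 * g + 2 * g ^ 3) * Q = dG * e := by rw [he']; ring
  rw [hfin, abs_le]
  constructor
  · -- lower bound
    have h5 : (dG - dH) * (1 + N + (Q + Q) * g + 2 * g ^ 2 * (g - 1) / Q) ≤
        (dG - dH) * (1 + N + e) :=
      mul_le_mul_of_nonneg_left hB (by linarith)
    have h6 : -(dG - dH) * e ≤ dH * (a - N - 1) := by nlinarith
    by_contra hlt
    push Not at hlt
    have h7 : dH * (a - N - 1) < dH * (-(dG * e)) :=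
      mul_lt_mul_of_pos_left hlt (by linarith)
    have h8 : dH * (-(dG * e)) ≤ -(dG * e) := by
      have : 0 ≤ dG * e := by positivity
      nlinarith
    have h9 : 0 ≤ dH * e := by positivity
    nlinarith
  · have h5 : a - N - 1 ≤ e := by linarith
    have h6 : e ≤ dG * e := by nlinarith
    linarith

universe u v v' w w₁ w₂
variable {k : Type u} {K : Type v} {K₀ : Type v'} {kb : Type w} {L : Type w₁} {A : Type w₂}
  [Field k] [Field K] [Algebra k K] [Field K₀] [Algebra k K₀]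
  [Field kb] [Algebra k kb]
  [Field L] [Algebra kb L] [Algebra K₀ L] [Field A] [Algebra kb A] [Algebra K A] [Algebra L A]

/-- the iterates of the inverse Frobenius on the constants -/
lemma exists_iterate (q : ℕ) (ψA : A ≃+* A) (ψL : L ≃+* L)
    (hcompat : ∀ l, ψA (algebraMap L A l) = algebraMap L A (ψL l))
    (hψK : ∀ y : K, ψA (algebraMap K A y) = algebraMap K A y)
    (hψK₀ : ∀ y : K₀, ψL (algebraMap K₀ L y) = algebraMap K₀ L y)
    (hψk : ∀ c : kb, ∃ c' : kb, ψL (algebraMap kb L c) = algebraMap kb L c' ∧ c' ^ q = c)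
    (r : ℕ) :
    ∃ (θA : A ≃+* A) (θL : L ≃+* L), (∀ l, θA (algebraMap L A l) = algebraMap L A (θL l)) ∧
      (∀ y : K, θA (algebraMap K A y) = algebraMap K A y) ∧
      (∀ y : K₀, θL (algebraMap K₀ L y) = algebraMap K₀ L y) ∧
      ∀ c : kb, ∃ c' : kb, θL (algebraMap kb L c) = algebraMap kb L c' ∧ c' ^ q ^ r = c := by
  induction r with
  | zero =>
    exact ⟨RingEquiv.refl A, RingEquiv.refl L, fun _ => rfl, fun _ => rfl, fun _ => rfl,
      fun c => ⟨c, rfl, by rw [pow_zero, pow_one]⟩⟩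
  | succ r ih =>
    obtain ⟨θA, θL, h1, h2, h3, h4⟩ := ih
    refine ⟨θA.trans ψA, θL.trans ψL, fun l => ?_, fun y => ?_, fun y => ?_, fun c => ?_⟩
    · show ψA (θA (algebraMap L A l)) = algebraMap L A (ψL (θL l))
      rw [h1, hcompat]
    · show ψA (θA (algebraMap K A y)) = _
      rw [h2, hψK]
    · show ψL (θL (algebraMap K₀ L y)) = _
      rw [h3, hψK₀]
    · obtain ⟨c₁, hc₁, hc₁'⟩ := h4 c
      obtain ⟨c₂, hc₂, hc₂'⟩ := hψk c₁
      refine ⟨c₂, ?_, ?_⟩
      · show ψL (θL (algebraMap kb L c)) = _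
        rw [hc₁, hc₂]
      · rw [pow_succ', pow_mul, hc₂', hc₁']

variable [Finite k] [IsAlgClosure k kb] [IsScalarTower kb L A] [FiniteDimensional L A]
  [Algebra.IsSeparable L A]

theorem core_bound (hK : IsFunctionField k K) (hK₀ : IsFunctionField k K₀)
    (hg₀ : genus k K₀ = 0) (hA : IsFunctionField kb A) (hL : IsFunctionField kb L)
    (hc : ∀ c : k, algebraMap K A (algebraMap k K c) = algebraMap kb A (algebraMap k kb c))
    (hgen : Algebra.adjoin K (Set.range (algebraMap kb A)) = ⊤)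
    (hc' : ∀ c : k, algebraMap K₀ L (algebraMap k K₀ c) = algebraMap kb L (algebraMap k kb c))
    (hgen' : Algebra.adjoin K₀ (Set.range (algebraMap kb L)) = ⊤)
    (xL : L) (hxgen : ∀ l : L, l ∈ adjoin kb ({xL} : Set L))
    (ψA : A ≃+* A) (ψL : L ≃+* L)
    (hcompat : ∀ l, ψA (algebraMap L A l) = algebraMap L A (ψL l))
    (hψK : ∀ y : K, ψA (algebraMap K A y) = algebraMap K A y)
    (hψK₀ : ∀ y : K₀, ψL (algebraMap K₀ L y) = algebraMap K₀ L y)
    (hψk : ∀ c : kb, ∃ c' : kb, ψL (algebraMap kb L c) = algebraMap kb L c' ∧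
      c' ^ Nat.card k = c) :
    ∃ (c : ℝ) (s₀ : ℕ), ∀ s ≥ s₀,
      |(npts (fun P : Place k K => P.deg) (2 * s) : ℝ) - (Nat.card k : ℝ) ^ (2 * s) - 1| ≤
        c * (Nat.card k : ℝ) ^ s := by
  classical
  letI : Fintype k := Fintype.ofFinite k
  obtain ⟨p, hchar⟩ := CharP.exists k
  obtain ⟨n, hp, hcard⟩ := FiniteField.card k p
  haveI : Fact p.Prime := ⟨hp⟩
  haveI : CharP kb p := charP_of_injective_algebraMap (algebraMap k kb).injective p
  haveI : IsAlgClosed kb := IsAlgClosure.isAlgClosed k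
  haveI : CharP A p := charP_of_injective_algebraMap (algebraMap kb A).injective p
  haveI : CharP L p := charP_of_injective_algebraMap (algebraMap kb L).injective p
  have hq : Nat.card k = p ^ (n : ℕ) := by rw [Nat.card_eq_fintype_card]; exact hcard
  obtain ⟨gE, dG, dH, hdH, hdHG, hmain⟩ := exists_constants hA xL hxgen p
  refine ⟨dG * (2 * gE + 2 * (gE : ℝ) ^ 3), gE + 1, fun s hs => ?_⟩
  have hq2 : 2 ≤ Nat.card k := Finite.one_lt_card
  set q := Nat.card k with hqdef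
  have hr : 0 < 2 * s := by omega
  obtain ⟨θA, θL, hθcompat, hθK, hθK₀, hθk⟩ :=
    exists_iterate (K := K) (K₀ := K₀) (kb := kb) q ψA ψL hcompat hψK hψK₀ hψk (2 * s)
  have hm : 0 < (n : ℕ) * (2 * s) := Nat.mul_pos n.pos hr
  have hpm : p ^ ((n : ℕ) * (2 * s)) = q ^ (2 * s) := by rw [hq, ← pow_mul]
  let φA : A →+* A := (iterateFrobenius A p ((n : ℕ) * (2 * s))).comp (θA : A →+* A)
  let φL : L →+* L := (iterateFrobenius L p ((n : ℕ) * (2 * s))).comp (θL : L →+* L)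
  have hφA : ∀ a, φA a = (θA a) ^ p ^ ((n : ℕ) * (2 * s)) := fun a => rfl
  have hφL : ∀ l, φL l = (θL l) ^ p ^ ((n : ℕ) * (2 * s)) := fun l => rfl
  have hθ' : ∀ c : kb, ∃ c' : kb, θL (algebraMap kb L c) = algebraMap kb L c' ∧
      c' ^ p ^ ((n : ℕ) * (2 * s)) = c := by
    rw [hpm]; exact hθk
  have hgn : gE < q ^ s := by
    have h1 : s < 2 ^ s := Nat.lt_two_pow_self
    have h2 : 2 ^ s ≤ q ^ s := Nat.pow_le_pow_left hq2 s
    omega
  obtain ⟨hfinA, hfinL, h1, h2⟩ :=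
    hmain θA θL hθcompat ((n : ℕ) * (2 * s)) hm hθ' φA hφA φL hφL (q ^ s) hgn
  -- the counts
  have hφA1 : ∀ c : kb, φA (algebraMap kb A c) = algebraMap kb A c := by
    intro c
    obtain ⟨c', h3, h4⟩ := hθ' c
    have h5 : θA (algebraMap kb A c) = algebraMap kb A c' := by
      rw [IsScalarTower.algebraMap_apply kb L A, hθcompat, h3,
        ← IsScalarTower.algebraMap_apply kb L A]
    rw [hφA, h5, ← map_pow, h4]
  have hφA2 : ∀ y : K, φA (algebraMap K A y) = algebraMap K A y ^ (Nat.card k) ^ (2 * s) := by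
    intro y
    rw [hφA, hθK, hpm]
  have hφL1 : ∀ c : kb, φL (algebraMap kb L c) = algebraMap kb L c := by
    intro c
    obtain ⟨c', h3, h4⟩ := hθ' c
    rw [hφL, h3, ← map_pow, h4]
  have hφL2 : ∀ y : K₀, φL (algebraMap K₀ L y) = algebraMap K₀ L y ^ (Nat.card k) ^ (2 * s) := by
    intro y
    rw [hφL, hθK₀, hpm]
  have hcardA : Nat.card {P : Place kb A // IsFixedPlace φA P} =
      npts (fun P : Place k K => P.deg) (2 * s) :=
    card_fixed_eq_npts hK hA hc hgen (2 * s) hr φA hφA1 hφA2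
  have hcardL : Nat.card {P : Place kb L // IsFixedPlace φL P} =
      npts (fun P : Place k K₀ => P.deg) (2 * s) :=
    card_fixed_eq_npts hK₀ hL hc' hgen' (2 * s) hr φL hφL1 hφL2
  have hnL : npts (fun P : Place k K₀ => P.deg) (2 * s) = q ^ (2 * s) + 1 := by
    obtain ⟨r', hr'⟩ : ∃ r', 2 * s = r' + 1 := ⟨2 * s - 1, by omega⟩
    rw [hr']
    exact npts_of_genus_zero hK₀ hg₀ r'
  rw [hcardA] at h1 h2
  rw [hcardL, hnL] at h2
  unfold svBound at h1 h2
  have hN : ((p : ℝ) ^ ((n : ℕ) * (2 * s))) = ((q : ℝ) ^ s) ^ 2 := by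
    have : ((p ^ ((n : ℕ) * (2 * s)) : ℕ) : ℝ) = ((q ^ (2 * s) : ℕ) : ℝ) := by rw [hpm]
    push_cast at this
    rw [this, ← pow_mul, mul_comm]
  have hQ1 : (1 : ℝ) ≤ (q : ℝ) ^ s := by
    have : (1 : ℝ) ≤ (q : ℝ) := by exact_mod_cast (by omega : 1 ≤ q)
    exact one_le_pow₀ this
  have hqs : ((q : ℝ) ^ (2 * s)) = ((q : ℝ) ^ s) ^ 2 := by rw [← pow_mul, mul_comm]
  push_cast at h1 h2
  rw [hqs]
  rw [hN] at h1 h2
  rw [hqs] at h2
  exact arith _ _ ((q : ℝ) ^ s) (gE : ℝ) dG dH hQ1 rfl (Nat.cast_nonneg _)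
    (by exact_mod_cast hdH) (by exact_mod_cast hdHG) h1 h2

end Groth.Agent.Lib.Helper67.RHCore
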