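import Mathlib.FieldTheory.Normal.Closure
import Mathlib.FieldTheory.IsAlgClosed.AlgebraicClosure
import Mathlib.FieldTheory.IsAlgClosed.Basic

/-!
# Lifting a ring automorphism to a normal closure
-/

set_option autoImplicit false

open IntermediateField

namespace Groth.Agent.Lib.Helper67.RHLift

variable {L A Ω : Type*} [Field L] [Field A] [Field Ω] [Algebra L A] [Algebra A Ω] [Algebra L Ω]
  [IsScalarTower L A Ω]

/-- a ring automorphism of `Ω` compatible with automorphisms of `A` and `L` preserves the normal
closure of `A/L` in `Ω` -/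
lemma map_mem_normalClosure (θ : Ω ≃+* Ω) (θA : A ≃+* A) (θL : L ≃+* L)
    (h1 : ∀ a : A, θ (algebraMap A Ω a) = algebraMap A Ω (θA a))
    (h2 : ∀ l : L, θA (algebraMap L A l) = algebraMap L A (θL l)) :
    ∀ w ∈ normalClosure L A Ω, θ w ∈ normalClosure L A Ω := by
  have hL : ∀ l : L, θ (algebraMap L Ω l) = algebraMap L Ω (θL l) := by
    intro l
    rw [IsScalarTower.algebraMap_apply L A Ω, h1, h2, ← IsScalarTower.algebraMap_apply L A Ω]
  let E' : IntermediateField L Ω :=
    { carrier := {w | θ w ∈ normalClosure L A Ω}
      mul_mem' := fun {a b} ha hb => by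
        show θ (a * b) ∈ normalClosure L A Ω
        rw [map_mul]
        exact mul_mem ha hb
      one_mem' := by
        show θ 1 ∈ normalClosure L A Ω
        rw [map_one]
        exact one_mem _
      add_mem' := fun {a b} ha hb => by
        show θ (a + b) ∈ normalClosure L A Ω
        rw [map_add]
        exact add_mem ha hb
      zero_mem' := by
        show θ 0 ∈ normalClosure L A Ω
        rw [map_zero]
        exact zero_mem _
      algebraMap_mem' := fun l => by
        show θ (algebraMap L Ω l) ∈ normalClosure L A Ω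
        rw [hL]
        exact IntermediateField.algebraMap_mem _ _
      inv_mem' := fun a ha => by
        show θ a⁻¹ ∈ normalClosure L A Ω
        rw [map_inv₀]
        exact inv_mem ha }
  have hle : normalClosure L A Ω ≤ E' := by
    rw [normalClosure_def]
    apply iSup_le
    rintro f _ ⟨a, rfl⟩
    show θ (f a) ∈ normalClosure L A Ω
    -- the conjugate embedding
    let f' : A →ₐ[L] Ω :=
      { toRingHom := (θ : Ω →+* Ω).comp ((f : A →+* Ω).comp (θA.symm : A →+* A))
        commutes' := fun l => by
          show θ (f (θA.symm (algebraMap L A l))) = algebraMap L Ω l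
          have h3 : θA.symm (algebraMap L A l) = algebraMap L A (θL.symm l) := by
            rw [RingEquiv.symm_apply_eq, h2, RingEquiv.apply_symm_apply]
          rw [h3, f.commutes, hL, RingEquiv.apply_symm_apply] }
    have h4 : θ (f a) = f' (θA a) := by
      show θ (f a) = θ (f (θA.symm (θA a)))
      rw [RingEquiv.symm_apply_apply]
    rw [h4, normalClosure_def]
    exact (le_iSup (fun g : A →ₐ[L] Ω => g.fieldRange) f') ⟨θA a, rfl⟩
  intro w hw
  exact hle hw

variable [IsAlgClosure A Ω]

/-- A ring automorphism of `A` preserving `L` lifts to the normal closure of `A/L`. -/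
theorem exists_lift_normalClosure (θA : A ≃+* A) (θL : L ≃+* L)
    (h2 : ∀ l : L, θA (algebraMap L A l) = algebraMap L A (θL l)) :
    ∃ θE : normalClosure L A Ω ≃+* normalClosure L A Ω,
      ∀ a : A, θE (algebraMap A (normalClosure L A Ω) a) =
        algebraMap A (normalClosure L A Ω) (θA a) := by
  let θ : Ω ≃+* Ω := IsAlgClosure.equivOfEquiv Ω Ω θA
  have h1 : ∀ a : A, θ (algebraMap A Ω a) = algebraMap A Ω (θA a) :=
    IsAlgClosure.equivOfEquiv_algebraMap Ω Ω θA
  have h1' : ∀ a : A, θ.symm (algebraMap A Ω a) = algebraMap A Ω (θA.symm a) :=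
    IsAlgClosure.equivOfEquiv_symm_algebraMap Ω Ω θA
  have h2' : ∀ l : L, θA.symm (algebraMap L A l) = algebraMap L A (θL.symm l) := by
    intro l
    rw [RingEquiv.symm_apply_eq, h2, RingEquiv.apply_symm_apply]
  have hmem := map_mem_normalClosure θ θA θL h1 h2
  have hmem' := map_mem_normalClosure θ.symm θA.symm θL.symm h1' h2'
  refine ⟨{ toFun := fun w => ⟨θ w.1, hmem w.1 w.2⟩
            invFun := fun w => ⟨θ.symm w.1, hmem' w.1 w.2⟩
            left_inv := fun w => Subtype.ext (θ.symm_apply_apply w.1)
            right_inv := fun w => Subtype.ext (θ.apply_symm_apply w.1)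
            map_mul' := fun a b => Subtype.ext (map_mul θ a.1 b.1)
            map_add' := fun a b => Subtype.ext (map_add θ a.1 b.1) }, ?_⟩
  intro a
  apply Subtype.ext
  exact h1 a

end Groth.Agent.Lib.Helper67.RHLift
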