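import Mathlib.FieldTheory.SeparableClosure
import Mathlib.FieldTheory.IntermediateField.Adjoin.Basic
import Mathlib.RingTheory.Algebraic.Integral

/-!
# Base change of a simple transcendental subextension along a constant field extension
-/

set_option autoImplicit false

open IntermediateField

namespace Groth.Agent.Lib.Helper67.RHModelAux

universe u v w₁ w₂
variable {k : Type u} {K : Type v} {kb : Type w₁} {A : Type w₂} [Field k] [Field K] [Field kb]
  [Field A] [Algebra k K] [Algebra k kb] [Algebra kb A] [Algebra K A]

/-- the image of `k(x₀)` lies in `k̄(x)` -/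
theorem map_mem_adjoin
    (hc : ∀ c : k, algebraMap K A (algebraMap k K c) = algebraMap kb A (algebraMap k kb c))
    (x₀ : K) {y : K} (hy : y ∈ k⟮x₀⟯) : algebraMap K A y ∈ kb⟮algebraMap K A x₀⟯ := by
  induction hy using IntermediateField.adjoin_induction with
  | mem z hz =>
    rw [Set.mem_singleton_iff] at hz
    rw [hz]
    exact mem_adjoin_simple_self _ _
  | algebraMap c =>
    rw [hc]
    exact IntermediateField.algebraMap_mem _ _
  | add a b _ _ ha hb => rw [map_add]; exact add_mem ha hb
  | inv a _ ha => rw [map_inv₀]; exact inv_mem ha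
  | mul a b _ _ ha hb => rw [map_mul]; exact mul_mem ha hb

/-- a ring endomorphism preserving `k̄` and fixing `x` preserves `k̄(x)` -/
theorem map_mem_adjoin_simple (ρ : A →+* A) (x : A)
    (hρk : ∀ c : kb, ∃ c' : kb, ρ (algebraMap kb A c) = algebraMap kb A c') (hρx : ρ x = x)
    {l : A} (hl : l ∈ kb⟮x⟯) : ρ l ∈ kb⟮x⟯ := by
  induction hl using IntermediateField.adjoin_induction with
  | mem z hz =>
    rw [Set.mem_singleton_iff] at hz
    rw [hz, hρx]
    exact mem_adjoin_simple_self _ _
  | algebraMap c =>
    obtain ⟨c', hc'⟩ := hρk c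
    rw [hc']
    exact IntermediateField.algebraMap_mem _ _
  | add a b _ _ ha hb => rw [map_add]; exact add_mem ha hb
  | inv a _ ha => rw [map_inv₀]; exact inv_mem ha
  | mul a b _ _ ha hb => rw [map_mul]; exact mul_mem ha hb

section Gen

variable (hc : ∀ c : k, algebraMap K A (algebraMap k K c) = algebraMap kb A (algebraMap k kb c))
  (hgen : Algebra.adjoin K (Set.range (algebraMap kb A)) = ⊤)

include hc hgen in
theorem finiteDimensional_adjoin (x₀ : K) [FiniteDimensional k⟮x₀⟯ K] :
    FiniteDimensional kb⟮algebraMap K A x₀⟯ A := by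
  classical
  set L := kb⟮algebraMap K A x₀⟯ with hL
  obtain ⟨s, hs⟩ := (Module.finite_def (R := k⟮x₀⟯) (M := K)).mp inferInstance
  let W : Submodule L A := Submodule.span L ((algebraMap K A) '' (s : Set K))
  have hW1 : ∀ y : K, algebraMap K A y ∈ W := by
    intro y
    have hy : y ∈ Submodule.span k⟮x₀⟯ (s : Set K) := by rw [hs]; exact Submodule.mem_top
    induction hy using Submodule.span_induction with
    | mem z hz => exact Submodule.subset_span ⟨z, hz, rfl⟩
    | zero => rw [map_zero]; exact W.zero_mem
    | add a b _ _ ha hb => rw [map_add]; exact W.add_mem ha hb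
    | smul a z _ hz =>
      have h1 : algebraMap K A (a • z) =
          (⟨algebraMap K A a.1, map_mem_adjoin hc x₀ a.2⟩ : L) • algebraMap K A z := by
        rw [Algebra.smul_def, map_mul]
        rfl
      rw [h1]
      exact W.smul_mem _ hz
  have key : ∀ a ∈ Submodule.span K (Set.range (algebraMap kb A)),
      ∀ y : K, algebraMap K A y * a ∈ W := by
    intro a ha
    induction ha using Submodule.span_induction with
    | mem z hz =>
      obtain ⟨c, rfl⟩ := hz
      intro y
      have h1 : algebraMap K A y * algebraMap kb A c =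
          (algebraMap kb L c) • algebraMap K A y := by
        rw [Algebra.smul_def, mul_comm]
        rfl
      rw [h1]
      exact W.smul_mem _ (hW1 y)
    | zero => intro y; rw [mul_zero]; exact W.zero_mem
    | add a b _ _ ha hb => intro y; rw [mul_add]; exact W.add_mem (ha y) (hb y)
    | smul y' z _ hz =>
      intro y
      rw [Algebra.smul_def, ← mul_assoc, ← map_mul]
      exact hz (y * y')
  have hW2 : ∀ a : A, a ∈ W := by
    intro a
    have ha : a ∈ Algebra.adjoin K (Set.range (algebraMap kb A)) := by
      rw [hgen]; exact Algebra.mem_top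
    have ha : a ∈ Subalgebra.toSubmodule (Algebra.adjoin K (Set.range (algebraMap kb A))) := ha
    rw [Algebra.adjoin_eq_span] at ha
    have hcl : (Submonoid.closure (Set.range (algebraMap kb A)) : Set A) =
        Set.range (algebraMap kb A) := by
      rw [← MonoidHom.coe_mrange, Submonoid.closure_eq]
    rw [hcl] at ha
    have := key a ha 1
    rwa [map_one, one_mul] at this
  have hWtop : W = ⊤ := Submodule.eq_top_iff'.mpr hW2
  refine Module.finite_def.mpr ?_
  rw [← hWtop]
  exact Submodule.fg_span ((s.finite_toSet).image _)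

include hc hgen in
theorem isSeparable_adjoin (x₀ : K) [Algebra.IsSeparable k⟮x₀⟯ K] :
    Algebra.IsSeparable kb⟮algebraMap K A x₀⟯ A := by
  classical
  set L := kb⟮algebraMap K A x₀⟯ with hL
  let j : k⟮x₀⟯ →+* L :=
    ((algebraMap K A).comp (algebraMap k⟮x₀⟯ K)).codRestrict L
      (fun a => map_mem_adjoin hc x₀ a.2)
  have hj : (algebraMap L A).comp j = (algebraMap K A).comp (algebraMap k⟮x₀⟯ K) :=
    RingHom.ext fun _ => rfl
  have hK : ∀ y : K, algebraMap K A y ∈ separableClosure L A := by
    intro y
    rw [mem_separableClosure_iff]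
    have hf : (minpoly k⟮x₀⟯ y).Separable := Algebra.IsSeparable.isSeparable k⟮x₀⟯ y
    have hg : ((minpoly k⟮x₀⟯ y).map j).Separable := hf.map
    have hroot : Polynomial.aeval (algebraMap K A y) ((minpoly k⟮x₀⟯ y).map j) = 0 := by
      rw [Polynomial.aeval_def, Polynomial.eval₂_map, hj, ← Polynomial.hom_eval₂,
        ← Polynomial.aeval_def, minpoly.aeval, map_zero]
    exact hg.of_dvd (minpoly.dvd L _ hroot)
  have hall : ∀ a : A, a ∈ separableClosure L A := by
    intro a
    have ha : a ∈ Algebra.adjoin K (Set.range (algebraMap kb A)) := by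
      rw [hgen]; exact Algebra.mem_top
    induction ha using Algebra.adjoin_induction with
    | mem z hz =>
      obtain ⟨c, rfl⟩ := hz
      have : algebraMap kb A c = algebraMap L A (algebraMap kb L c) := rfl
      rw [this]
      exact (separableClosure L A).algebraMap_mem _
    | algebraMap y => exact hK y
    | add a b _ _ ha hb => exact add_mem ha hb
    | mul a b _ _ ha hb => exact mul_mem ha hb
  exact ⟨fun a => mem_separableClosure_iff.mp (hall a)⟩

end Gen

theorem transcendental_map [Algebra k A] [IsScalarTower k K A] [IsScalarTower k kb A]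
    [Algebra.IsAlgebraic k kb] {x₀ : K} (hx : Transcendental k x₀) :
    Transcendental kb (algebraMap K A x₀) := by
  intro h
  apply hx
  have h1 : IsAlgebraic k (algebraMap K A x₀) := h.restrictScalars k
  exact (isAlgebraic_algebraMap_iff (algebraMap K A).injective).mp h1

end Groth.Agent.Lib.Helper67.RHModelAux
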