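import Groth.Agent.FunFld.Perfect
import Groth.Agent.Lib.Helper67.RHModelAux
import Mathlib.FieldTheory.Finite.Basic
import Mathlib.RingTheory.TensorProduct.Nontrivial
import Mathlib.FieldTheory.IsAlgClosed.Basic

/-!
# The constant field extension `k̄ ⊗ K` of a function field over a finite field
-/

set_option autoImplicit false

open FunFld IntermediateField TensorProduct

namespace Groth.Agent.Lib.Helper67.RHModel

open Groth.Agent.FF Groth.Agent.Lib.Helper67.RHModelAux

attribute [local instance] Algebra.TensorProduct.rightAlgebra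

universe u v
variable {k : Type u} {K : Type v} [Field k] [Field K] [Algebra k K]
variable (kb : Type u) [Field kb] [Algebra k kb]

/-- the finite levels of `k̄ ⊗ K` -/
noncomputable def incl (k₁ : IntermediateField k kb) : k₁ ⊗[k] K →ₐ[k] kb ⊗[k] K :=
  Algebra.TensorProduct.map k₁.val (AlgHom.id k K)

lemma incl_tmul (k₁ : IntermediateField k kb) (c : k₁) (y : K) :
    incl (K := K) kb k₁ (c ⊗ₜ y) = (c : kb) ⊗ₜ y := rfl

lemma range_incl_mono {k₁ k₂ : IntermediateField k kb} (h : k₁ ≤ k₂) :
    (incl (K := K) kb k₁).range ≤ (incl (K := K) kb k₂).range := by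
  rintro _ ⟨s, rfl⟩
  refine ⟨Algebra.TensorProduct.map (IntermediateField.inclusion h) (AlgHom.id k K) s, ?_⟩
  induction s using TensorProduct.induction_on with
  | zero => simp
  | tmul c y => rfl
  | add a b ha hb => simp only [map_add] at ha hb ⊢; rw [ha, hb]

variable [Algebra.IsAlgebraic k kb]

lemma exists_finite_level (t : kb ⊗[k] K) :
    ∃ k₁ : IntermediateField k kb, FiniteDimensional k k₁ ∧ t ∈ (incl (K := K) kb k₁).range := by
  induction t using TensorProduct.induction_on with
  | zero => exact ⟨⊥, inferInstance, zero_mem _⟩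
  | tmul c y =>
    refine ⟨k⟮c⟯, adjoin.finiteDimensional (Algebra.IsIntegral.isIntegral c), ?_⟩
    exact ⟨(⟨c, mem_adjoin_simple_self k c⟩ : k⟮c⟯) ⊗ₜ y, rfl⟩
  | add a b ha hb =>
    obtain ⟨k₁, h₁, ha⟩ := ha
    obtain ⟨k₂, h₂, hb⟩ := hb
    refine ⟨k₁ ⊔ k₂, inferInstance, ?_⟩
    exact add_mem (range_incl_mono kb le_sup_left ha) (range_incl_mono kb le_sup_right hb)

theorem isField_tensor [Finite k] (hK : IsFunctionField k K) : IsField (kb ⊗[k] K) := by
  haveI : Nontrivial (kb ⊗[k] K) :=
    Algebra.TensorProduct.nontrivial_of_algebraMap_injective_of_isDomain k kb K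
      (algebraMap k kb).injective (algebraMap k K).injective
  refine ⟨exists_pair_ne _, mul_comm, ?_⟩
  intro t ht
  obtain ⟨k₁, hfin, s, rfl⟩ := exists_finite_level (K := K) kb t
  haveI : Algebra.IsSeparable k k₁ := Algebra.IsAlgebraic.isSeparable_of_perfectField
  have hfield : IsField (k₁ ⊗[k] K) := isField_tensor_of_isSeparable hK k₁
  have hs : s ≠ 0 := by
    rintro rfl
    exact ht (map_zero _)
  obtain ⟨s', hs'⟩ := hfield.mul_inv_cancel hs
  refine ⟨incl kb k₁ s', ?_⟩
  have h := congrArg (incl kb k₁) hs'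
  exact ((incl kb k₁).toRingHom.map_mul s s').symm.trans (h.trans (incl kb k₁).map_one)

section Tensor

omit [Algebra.IsAlgebraic k kb]

lemma hc_tensor (c : k) : algebraMap K (kb ⊗[k] K) (algebraMap k K c) =
    algebraMap kb (kb ⊗[k] K) (algebraMap k kb c) := by
  rw [← IsScalarTower.algebraMap_apply k K (kb ⊗[k] K),
    ← IsScalarTower.algebraMap_apply k kb (kb ⊗[k] K)]

lemma hgen_tensor : Algebra.adjoin K (Set.range (algebraMap kb (kb ⊗[k] K))) = ⊤ := by
  rw [eq_top_iff]
  rintro t -
  induction t using TensorProduct.induction_on with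
  | zero => exact zero_mem _
  | tmul c y =>
    have h1 : c ⊗ₜ[k] y = algebraMap K (kb ⊗[k] K) y * algebraMap kb (kb ⊗[k] K) c := by
      rw [Algebra.TensorProduct.right_algebraMap_apply, Algebra.TensorProduct.algebraMap_apply,
        Algebra.TensorProduct.tmul_mul_tmul, one_mul, mul_one]
      rfl
    rw [h1]
    exact mul_mem (Subalgebra.algebraMap_mem _ y) (Algebra.subset_adjoin ⟨c, rfl⟩)
  | add a b ha hb => exact add_mem ha hb

end Tensor

/-- the inverse Frobenius on the constants -/
noncomputable def psi [Finite k] : kb ⊗[k] K ≃ₐ[k] kb ⊗[k] K :=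
  letI : Fintype k := Fintype.ofFinite k
  Algebra.TensorProduct.congr (FiniteField.frobeniusAlgEquivOfAlgebraic k kb).symm
    (AlgEquiv.refl : K ≃ₐ[k] K)

lemma psi_right [Finite k] (y : K) :
    psi (K := K) kb (algebraMap K (kb ⊗[k] K) y) = algebraMap K (kb ⊗[k] K) y := by
  letI : Fintype k := Fintype.ofFinite k
  rw [Algebra.TensorProduct.right_algebraMap_apply]
  unfold psi
  rw [Algebra.TensorProduct.congr_apply, Algebra.TensorProduct.map_tmul]
  have h1 : ((FiniteField.frobeniusAlgEquivOfAlgebraic k kb).symm : kb →ₐ[k] kb) 1 = 1 :=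
    map_one _
  rw [h1]
  rfl

lemma psi_left [Finite k] (c : kb) : ∃ c' : kb,
    psi (K := K) kb (algebraMap kb (kb ⊗[k] K) c) = algebraMap kb (kb ⊗[k] K) c' ∧
      c' ^ Nat.card k = c := by
  letI : Fintype k := Fintype.ofFinite k
  refine ⟨(FiniteField.frobeniusAlgEquivOfAlgebraic k kb).symm c, ?_, ?_⟩
  · rw [Algebra.TensorProduct.algebraMap_apply, Algebra.TensorProduct.algebraMap_apply]
    unfold psi
    rw [Algebra.TensorProduct.congr_apply, Algebra.TensorProduct.map_tmul]
    rfl
  · have h := (FiniteField.frobeniusAlgEquivOfAlgebraic k kb).apply_symm_apply c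
    rw [FiniteField.coe_frobeniusAlgEquivOfAlgebraic] at h
    rw [Nat.card_eq_fintype_card]
    exact h

theorem exists_model [Finite k] [IsAlgClosed kb] (hK : IsFunctionField k K) :
    ∃ (A : Type (max u v)) (_ : Field A) (_ : Algebra kb A) (_ : Algebra K A),
      IsFunctionField kb A ∧
      (∀ c : k, algebraMap K A (algebraMap k K c) = algebraMap kb A (algebraMap k kb c)) ∧
      Algebra.adjoin K (Set.range (algebraMap kb A)) = ⊤ ∧
      ∃ ψ : A ≃+* A, (∀ y : K, ψ (algebraMap K A y) = algebraMap K A y) ∧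
        ∀ c : kb, ∃ c' : kb, ψ (algebraMap kb A c) = algebraMap kb A c' ∧
          c' ^ Nat.card k = c := by
  classical
  have hfield := isField_tensor kb hK
  letI : Field (kb ⊗[k] K) := hfield.toField
  refine ⟨kb ⊗[k] K, inferInstance, inferInstance, inferInstance, ?_, hc_tensor kb,
    hgen_tensor kb, (psi kb).toRingEquiv, psi_right kb, psi_left kb⟩
  obtain ⟨⟨x₀, hx₀, hfin⟩, -⟩ := id hK
  refine ⟨⟨algebraMap K (kb ⊗[k] K) x₀, transcendental_map hx₀, ?_⟩, ?_⟩
  · exact finiteDimensional_adjoin (hc_tensor kb) (hgen_tensor kb) x₀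
  · intro y hy
    have hint : IsIntegral kb y := hy.isIntegral
    have hdeg := IsAlgClosed.degree_eq_one_of_irreducible kb (minpoly.irreducible hint)
    exact minpoly.mem_range_of_degree_eq_one kb y hdeg

end Groth.Agent.Lib.Helper67.RHModel
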