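import Groth.Agent.Lib.Helper67.RHCore
import Groth.Agent.Lib.Helper67.RHModel
import Groth.Agent.Lib.Helper67.RHAnalytic
import Groth.Agent.FunFld.SepVar

/-!
# The Riemann hypothesis for function fields over finite fields
-/

set_option autoImplicit false
set_option linter.unusedSectionVars false

open FunFld WithZero IntermediateField

namespace Groth.Agent.Lib.Helper67.RHMain

open Groth.Agent.FF Groth.Agent.Lib.Helper67.RHOrbit Groth.Agent.Lib.Helper67.RHTower
  Groth.Agent.Lib.Helper67.RHCount Groth.Agent.Lib.Helper67.RHSimple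
  Groth.Agent.Lib.Helper67.DegCount Groth.Agent.Lib.Helper67.RHCore
  Groth.Agent.Lib.Helper67.RHModel Groth.Agent.Lib.Helper67.RHModelAux

section Generic

universe u v w₁ w₂

theorem adjoin_eq_top_of_gen {k : Type u} {K₀ : Type v} {kb : Type w₁} {L : Type w₂}
    [Field k] [Field K₀] [Field kb] [Field L] [Algebra k K₀] [Algebra k kb] [Algebra kb L]
    [Algebra K₀ L] [Algebra.IsAlgebraic k kb]
    (hc' : ∀ c : k, algebraMap K₀ L (algebraMap k K₀ c) = algebraMap kb L (algebraMap k kb c))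
    (x₀ : K₀) (hx : ∀ l : L, l ∈ kb⟮algebraMap K₀ L x₀⟯) :
    Algebra.adjoin K₀ (Set.range (algebraMap kb L)) = ⊤ := by
  letI : Algebra k L := ((algebraMap kb L).comp (algebraMap k kb)).toAlgebra
  haveI : IsScalarTower k kb L := IsScalarTower.of_algebraMap_eq (fun _ => rfl)
  haveI : IsScalarTower k K₀ L := IsScalarTower.of_algebraMap_eq (fun c => (hc' c).symm)
  have hint : ∀ z ∈ Set.range (algebraMap kb L), IsIntegral K₀ z := by
    rintro _ ⟨c, rfl⟩
    have h1 : IsIntegral k c := (Algebra.IsAlgebraic.isAlgebraic c).isIntegral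
    have h2 : IsIntegral k (algebraMap kb L c) := h1.algebraMap
    exact h2.tower_top
  haveI : Algebra.IsIntegral K₀ (Algebra.adjoin K₀ (Set.range (algebraMap kb L))) :=
    Algebra.IsIntegral.adjoin hint
  have halg : ∀ a : Algebra.adjoin K₀ (Set.range (algebraMap kb L)),
      IsAlgebraic K₀ (a : L) := fun a => by
    have h1 : IsIntegral K₀ a := Algebra.IsIntegral.isIntegral a
    have h2 : IsIntegral K₀ (algebraMap _ L a) := h1.algebraMap
    exact h2.isAlgebraic
  rw [eq_top_iff]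
  rintro l -
  have hl := hx l
  induction hl using IntermediateField.adjoin_induction with
  | mem z hz =>
    rw [Set.mem_singleton_iff] at hz
    rw [hz]
    exact Subalgebra.algebraMap_mem _ _
  | algebraMap c => exact Algebra.subset_adjoin ⟨c, rfl⟩
  | add a b _ _ ha hb => exact add_mem ha hb
  | inv a _ ha => exact Subalgebra.inv_mem_of_algebraic _ (x := ⟨a, ha⟩) (halg ⟨a, ha⟩)
  | mul a b _ _ ha hb => exact mul_mem ha hb

theorem exists_restrict {kb : Type w₁} {A : Type w₂} [Field kb] [Field A] [Algebra kb A] (x : A)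
    (ψ : A ≃+* A)
    (h1 : ∀ c : kb, ∃ c' : kb, ψ (algebraMap kb A c) = algebraMap kb A c')
    (h2 : ∀ c : kb, ∃ c' : kb, ψ.symm (algebraMap kb A c) = algebraMap kb A c')
    (hx : ψ x = x) : ∃ ψL : kb⟮x⟯ ≃+* kb⟮x⟯, ∀ l, ((ψL l : kb⟮x⟯) : A) = ψ l := by
  have hx' : ψ.symm x = x := by
    conv_lhs => rw [← hx]
    exact ψ.symm_apply_apply x
  have m1 : ∀ l ∈ kb⟮x⟯, ψ l ∈ kb⟮x⟯ := fun l hl =>
    map_mem_adjoin_simple (ψ : A →+* A) x h1 hx hl
  have m2 : ∀ l ∈ kb⟮x⟯, ψ.symm l ∈ kb⟮x⟯ := fun l hl =>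
    map_mem_adjoin_simple (ψ.symm : A →+* A) x h2 hx' hl
  exact ⟨{ toFun := fun l => ⟨ψ l, m1 l l.2⟩
           invFun := fun l => ⟨ψ.symm l, m2 l l.2⟩
           left_inv := fun l => Subtype.ext (ψ.symm_apply_apply (l : A))
           right_inv := fun l => Subtype.ext (ψ.apply_symm_apply (l : A))
           map_mul' := fun a b => Subtype.ext (map_mul ψ (a : A) (b : A))
           map_add' := fun a b => Subtype.ext (map_add ψ (a : A) (b : A)) }, fun l => rfl⟩

end Generic

universe u v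
variable {k : Type u} {K : Type v} [Field k] [Finite k] [Field K] [Algebra k K]

theorem exists_bound (hK : IsFunctionField k K) :
    ∃ (c : ℝ) (s₀ : ℕ), ∀ s ≥ s₀,
      |(npts (fun P : Place k K => P.deg) (2 * s) : ℝ) - (Nat.card k : ℝ) ^ (2 * s) - 1| ≤
        c * (Nat.card k : ℝ) ^ s := by
  classical
  obtain ⟨A, _, _, _, hA, hc, hgen, ψ, hψK, hψk⟩ :=
    exists_model (K := K) (AlgebraicClosure k) hK
  obtain ⟨x₀, hx₀, hsep⟩ := exists_separating hK (isGeometric_of_perfectField hK)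
  haveI hfin₀ : FiniteDimensional k⟮x₀⟯ K := finite_adjoin_of_transcendental hK hx₀
  haveI : FiniteDimensional (AlgebraicClosure k)⟮algebraMap K A x₀⟯ A :=
    finiteDimensional_adjoin hc hgen x₀
  haveI : Algebra.IsSeparable (AlgebraicClosure k)⟮algebraMap K A x₀⟯ A :=
    isSeparable_adjoin hc hgen x₀
  have hxtr : Transcendental (AlgebraicClosure k) (algebraMap K A x₀) := by
    letI : Algebra k A := ((algebraMap K A).comp (algebraMap k K)).toAlgebra
    haveI : IsScalarTower k K A := IsScalarTower.of_algebraMap_eq (fun _ => rfl)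
    haveI : IsScalarTower k (AlgebraicClosure k) A :=
      IsScalarTower.of_algebraMap_eq (fun c => hc c)
    exact transcendental_map hx₀
  have hL := isFunctionField_adjoin_simple hA hxtr
  have hK₀ := isFunctionField_adjoin_simple hK hx₀
  have hg₀ := genus_adjoin_simple hK hx₀
  let j : k⟮x₀⟯ →+* (AlgebraicClosure k)⟮algebraMap K A x₀⟯ :=
    ((algebraMap K A).comp (algebraMap k⟮x₀⟯ K)).codRestrict _
      (fun a => map_mem_adjoin hc x₀ a.2)
  letI : Algebra k⟮x₀⟯ (AlgebraicClosure k)⟮algebraMap K A x₀⟯ := j.toAlgebra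
  have hc' : ∀ c : k, algebraMap k⟮x₀⟯ (AlgebraicClosure k)⟮algebraMap K A x₀⟯
      (algebraMap k k⟮x₀⟯ c) = algebraMap (AlgebraicClosure k)
        (AlgebraicClosure k)⟮algebraMap K A x₀⟯ (algebraMap k (AlgebraicClosure k) c) :=
    fun c => Subtype.ext (hc c)
  have hgenx : algebraMap k⟮x₀⟯ (AlgebraicClosure k)⟮algebraMap K A x₀⟯
      (AdjoinSimple.gen k x₀) = AdjoinSimple.gen (AlgebraicClosure k) (algebraMap K A x₀) :=
    Subtype.ext rfl
  have hgen' := adjoin_eq_top_of_gen hc' (AdjoinSimple.gen k x₀)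
    (by rw [hgenx]; exact mem_adjoin_gen _)
  have hψk1 : ∀ c : AlgebraicClosure k, ∃ c' : AlgebraicClosure k,
      ψ (algebraMap (AlgebraicClosure k) A c) = algebraMap (AlgebraicClosure k) A c' :=
    fun c => let ⟨c', h, _⟩ := hψk c; ⟨c', h⟩
  have hψk2 : ∀ c : AlgebraicClosure k, ∃ c' : AlgebraicClosure k,
      ψ.symm (algebraMap (AlgebraicClosure k) A c) = algebraMap (AlgebraicClosure k) A c' := by
    intro c
    refine ⟨c ^ Nat.card k, ?_⟩
    obtain ⟨c', h, h'⟩ := hψk c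
    rw [RingEquiv.symm_apply_eq, map_pow, map_pow, h, ← map_pow, h']
  obtain ⟨ψL, hψL⟩ := exists_restrict (algebraMap K A x₀) ψ hψk1 hψk2 (hψK x₀)
  refine core_bound (K₀ := k⟮x₀⟯) (L := (AlgebraicClosure k)⟮algebraMap K A x₀⟯)
    hK hK₀ hg₀ hA hL hc hgen hc' hgen'
    (AdjoinSimple.gen (AlgebraicClosure k) (algebraMap K A x₀)) (mem_adjoin_gen _) ψ ψL
    (fun l => (hψL l).symm) hψK ?_ ?_
  · intro y
    apply Subtype.ext
    rw [hψL]
    exact hψK y.1
  · intro c
    obtain ⟨c', h, h'⟩ := hψk c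
    exact ⟨c', Subtype.ext (by rw [hψL]; exact h), h'⟩

/-- **The Riemann hypothesis**: the reciprocal roots of the numerator of the zeta function have
absolute value `√q`. -/
theorem norm_eq_sqrt (hK : IsFunctionField k K) {g : ℕ} (α : Fin g → ℂ)
    (hα : PowerSeries.map (Int.castRingHom ℂ) (numerZ k K) =
      ((∏ i, (1 - Polynomial.C (α i) * Polynomial.X) : Polynomial ℂ) : PowerSeries ℂ))
    (hpair : ∀ i, α i * α (Fin.rev i) = (Nat.card k : ℂ)) (i : Fin g) :
    ‖α i‖ = Real.sqrt (Nat.card k : ℝ) := by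
  obtain ⟨c, s₀, hb⟩ := exists_bound hK
  have hq0 : (0 : ℝ) < (Nat.card k : ℝ) := by exact_mod_cast Nat.card_pos
  have hpair' : ∀ i, α i * α (Fin.rev i) = (((Nat.card k : ℕ) : ℝ) : ℂ) := by
    intro i
    rw [hpair i, Complex.ofReal_natCast]
  refine Groth.Agent.Lib.Helper67.RHAnalytic.norm_eq_sqrt_of_powerSum_bound
    (Nat.card k : ℝ) hq0 α hpair' c (max s₀ 1) (fun s hs => ?_) i
  have hs1 : 1 ≤ s := le_of_max_le_right hs
  have hs0 : s₀ ≤ s := le_of_max_le_left hs
  obtain ⟨m, hm⟩ : ∃ m, 2 * s = m + 1 := ⟨2 * s - 1, by omega⟩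
  have h1 := Groth.Agent.Lib.Helper67.FFNumer.npts_eq_of_numer ℂ hK α hα m
  rw [← hm] at h1
  have h2 : ∑ i, α i ^ (2 * s) =
      ((1 + (Nat.card k : ℝ) ^ (2 * s) - (npts (fun P : Place k K => P.deg) (2 * s) : ℝ) : ℝ) : ℂ) := by
    push_cast
    rw [h1]
    ring
  rw [h2, Complex.norm_real, Real.norm_eq_abs]
  have h3 := hb s hs0
  have h4 : 1 + (Nat.card k : ℝ) ^ (2 * s) - (npts (fun P : Place k K => P.deg) (2 * s) : ℝ) =
      -((npts (fun P : Place k K => P.deg) (2 * s) : ℝ) - (Nat.card k : ℝ) ^ (2 * s) - 1) := by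
    ring
  rw [h4, abs_neg]
  exact h3

end Groth.Agent.Lib.Helper67.RHMain
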