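import Groth.Agent.Lib.Helper67.RHTowerAux
import Groth.Agent.Lib.Helper67.RHBound
import Groth.Agent.Lib.Helper67.RHLift

/-!
# The Galois closure tower and the two-sided count of fixed places
-/

set_option autoImplicit false
set_option linter.unusedSectionVars false

open FunFld WithZero IntermediateField

namespace Groth.Agent.Lib.Helper67.RHTower

open Groth.Agent.FF Groth.Agent.FF.Ext Groth.Agent.Lib.Helper67.RHOrbit
  Groth.Agent.Lib.Helper67.RHTowerAux Groth.Agent.Lib.Helper67.RHBound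
  Groth.Agent.Lib.Helper67.RHLift

variable {kb L A : Type*} [Field kb] [IsAlgClosed kb] [Field L] [Field A] [Algebra kb L]
  [Algebra kb A] [Algebra L A] [IsScalarTower kb L A] [FiniteDimensional L A]
  [Algebra.IsSeparable L A]

/-- the bound appearing in the Stöhr–Voloch estimate -/
noncomputable def svBound (N : ℝ) (g n₀ : ℕ) : ℝ :=
  1 + N + (n₀ + N / n₀) * g + 2 * (g : ℝ) ^ 2 * (g - 1) / n₀

theorem exists_constants (hA : IsFunctionField kb A) (x : L)
    (hxgen : ∀ l : L, l ∈ adjoin kb ({x} : Set L)) (p : ℕ) [hp : Fact p.Prime] [CharP kb p] :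
    ∃ (gE dG dH : ℕ), 0 < dH ∧ dH ≤ dG ∧
      ∀ (θA : A ≃+* A) (θL : L ≃+* L)
        (_ : ∀ l, θA (algebraMap L A l) = algebraMap L A (θL l)) (m : ℕ) (_ : 0 < m)
        (_ : ∀ c : kb, ∃ c' : kb, θL (algebraMap kb L c) = algebraMap kb L c' ∧ c' ^ p ^ m = c)
        (φA : A →+* A) (_ : ∀ a, φA a = (θA a) ^ p ^ m)
        (φL : L →+* L) (_ : ∀ l, φL l = (θL l) ^ p ^ m) (n₀ : ℕ) (_ : gE < n₀),
        Finite {P : Place kb A // IsFixedPlace φA P} ∧
        Finite {P : Place kb L // IsFixedPlace φL P} ∧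
        (Nat.card {P : Place kb A // IsFixedPlace φA P} : ℝ) ≤ svBound ((p : ℝ) ^ m) gE n₀ ∧
        (dG : ℝ) * Nat.card {P : Place kb L // IsFixedPlace φL P} ≤
          dH * Nat.card {P : Place kb A // IsFixedPlace φA P} +
            ((dG : ℝ) - dH) * svBound ((p : ℝ) ^ m) gE n₀ := by
  classical
  -- the tower
  let Ω := AlgebraicClosure A
  haveI : IsScalarTower L A Ω := inferInstance
  haveI : Algebra.IsAlgebraic L A := Algebra.IsAlgebraic.of_finite L A
  haveI : IsAlgClosure L Ω := IsAlgClosure.ofAlgebraic L A Ω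
  haveI : Normal L Ω := IsAlgClosure.normal L Ω
  let E := normalClosure L A Ω
  haveI : FiniteDimensional L E := normalClosure.is_finiteDimensional L A Ω
  haveI : Normal L E := normalClosure.normal L A Ω
  haveI hsepE : Algebra.IsSeparable L E := by
    have : ∀ f : A →ₐ[L] Ω, Algebra.IsSeparable L f.fieldRange := fun f =>
      AlgEquiv.Algebra.isSeparable (AlgEquiv.ofInjectiveField f)
    exact IntermediateField.isSeparable_iSup L Ω
  haveI : IsGalois L E := ⟨⟩
  haveI : FiniteDimensional A E := FiniteDimensional.right L A E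
  haveI : IsGalois A E := IsGalois.tower_top_of_isGalois L A E
  letI : Algebra kb E := ((algebraMap L E).comp (algebraMap kb L)).toAlgebra
  haveI : IsScalarTower kb L E := IsScalarTower.of_algebraMap_eq (fun _ => rfl)
  haveI : IsScalarTower kb A E := IsScalarTower.of_algebraMap_eq (fun c => by
    show algebraMap L E (algebraMap kb L c) = algebraMap A E (algebraMap kb A c)
    rw [IsScalarTower.algebraMap_apply kb L A, ← IsScalarTower.algebraMap_apply L A E])
  have hE : IsFunctionField kb E := isFunctionField_of_finite (K := A) hA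
  haveI : CharP L p := charP_of_injective_algebraMap (algebraMap kb L).injective p
  haveI : CharP A p := charP_of_injective_algebraMap (algebraMap kb A).injective p
  haveI : CharP E p := charP_of_injective_algebraMap (algebraMap kb E).injective p
  -- the separating variable of `E`
  set xE : E := algebraMap L E x with hxE
  have hmemx : ∀ l : L, algebraMap L E l ∈ adjoin kb ({xE} : Set E) := by
    intro l
    have h1 : adjoin kb ({x} : Set L) ≤
        (adjoin kb ({xE} : Set E)).comap (IsScalarTower.toAlgHom kb L E) := by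
      rw [adjoin_simple_le_iff]
      change algebraMap L E x ∈ adjoin kb ({xE} : Set E)
      exact mem_adjoin_simple_self _ _
    exact h1 (hxgen l)
  let iL : L →+* adjoin kb ({xE} : Set E) := (algebraMap L E).codRestrict _ hmemx
  letI : Algebra L (adjoin kb ({xE} : Set E)) := iL.toAlgebra
  haveI : IsScalarTower L (adjoin kb ({xE} : Set E)) E :=
    IsScalarTower.of_algebraMap_eq (fun _ => rfl)
  haveI hsepx : Algebra.IsSeparable (adjoin kb ({xE} : Set E)) E :=
    Algebra.isSeparable_tower_top_of_isSeparable L (adjoin kb ({xE} : Set E)) E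
  let ι : (E ≃ₐ[A] E) → (E ≃ₐ[L] E) := fun σ => σ.restrictScalars L
  have hι : Function.Injective ι := by
    intro σ σ' h
    apply AlgEquiv.ext
    intro z
    exact congrArg (fun ρ : E ≃ₐ[L] E => ρ z) h
  refine ⟨genus kb E, Nat.card (E ≃ₐ[L] E), Nat.card (E ≃ₐ[A] E), Nat.card_pos,
    Nat.card_le_card_of_injective ι hι, ?_⟩
  intro θA θL hcompat m hm hθ φA hφA φL hφL n₀ hn₀
  have hN0 : p ^ m ≠ 0 := pow_ne_zero _ hp.out.ne_zero
  -- lift of `θA`
  obtain ⟨θE, hθE⟩ := exists_lift_normalClosure (L := L) (A := A) (Ω := Ω) θA θL hcompat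
  have hθEL : ∀ l : L, θE (algebraMap L E l) = algebraMap L E (θL l) := by
    intro l
    rw [IsScalarTower.algebraMap_apply L A E, hθE, hcompat, ← IsScalarTower.algebraMap_apply L A E]
  have hθEk : ∀ c : kb, ∃ c' : kb, θE (algebraMap kb E c) = algebraMap kb E c' ∧
      c' ^ p ^ m = c := by
    intro c
    obtain ⟨c', h1, h2⟩ := hθ c
    refine ⟨c', ?_, h2⟩
    rw [IsScalarTower.algebraMap_apply kb L E, hθEL, h1, ← IsScalarTower.algebraMap_apply kb L E]
  have hθEk' : ∀ c : kb, ∃ c' : kb, θE (algebraMap kb E c) = algebraMap kb E c' := fun c => by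
    obtain ⟨c', h1, _⟩ := hθEk c
    exact ⟨c', h1⟩
  -- the endomorphism `τ`
  let τ : E →ₐ[kb] E :=
    { toRingHom := (iterateFrobenius E p m).comp (θE : E →+* E)
      commutes' := fun c => by
        obtain ⟨c', h1, h2⟩ := hθEk c
        show iterateFrobenius E p m (θE (algebraMap kb E c)) = algebraMap kb E c
        rw [h1, iterateFrobenius_def, ← map_pow, h2] }
  have hτ : ∀ z : E, τ z = (θE z) ^ p ^ m := fun z => iterateFrobenius_def p m (θE z)
  have hτL : ∀ l : L, (τ : E →+* E) (algebraMap L E l) = algebraMap L E (φL l) := by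
    intro l
    show τ (algebraMap L E l) = _
    rw [hτ, hθEL, hφL, map_pow]
  have hτA : ∀ a : A, (τ : E →+* E) (algebraMap A E a) = algebraMap A E (φA a) := by
    intro a
    show τ (algebraMap A E a) = _
    rw [hτ, hθE, hφA, map_pow]
  have hpull : ∀ Q : Place kb E, ∃ Q' : Place kb E, ∀ z : E,
      Q'.1 z < 1 ↔ Q.1 ((τ : E →+* E) z) < 1 := by
    intro Q
    refine ⟨placeComap θE hθEk' Q, fun z => ?_⟩
    show Q.1 (θE z) < 1 ↔ Q.1 (τ z) < 1
    rw [hτ, map_pow]
    exact (pow_lt_one_iff hN0).symm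
  -- the bound for every twist
  have hbound : ∀ σ : E ≃ₐ[L] E,
      {Q : Place kb E | IsFixedPlace ((τ : E →+* E).comp (σ : E →+* E)) Q}.Finite ∧
      (Set.ncard {Q : Place kb E | IsFixedPlace ((τ : E →+* E).comp (σ : E →+* E)) Q} : ℝ) ≤
        svBound ((p : ℝ) ^ m) (genus kb E) n₀ := by
    intro σ
    let τσ : E →ₐ[kb] E := τ.comp (σ.restrictScalars kb : E ≃ₐ[kb] E).toAlgHom
    have h1 : ∀ z : E, ∃ w : E, τσ z = w ^ p ^ m := fun z => ⟨θE (σ z), hτ (σ z)⟩
    have h2 : ∀ w : E, ∃ z : E, τσ z = w ^ p ^ m := fun w => by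
      refine ⟨σ.symm (θE.symm w), ?_⟩
      show τ (σ (σ.symm (θE.symm w))) = _
      rw [σ.apply_symm_apply, hτ, θE.apply_symm_apply]
    exact ncard_fixed_le hE p m hm τσ h1 h2 xE n₀ hn₀
  -- finiteness of the twisted fixed loci
  set B : ℝ := svBound ((p : ℝ) ^ m) (genus kb E) n₀ with hB
  haveI hfinσ : ∀ σ : E ≃ₐ[L] E,
      Finite {Q : Place kb E // IsFixedPlace ((τ : E →+* E).comp (σ : E →+* E)) Q} :=
    fun σ => (hbound σ).1.to_subtype
  let N : (E ≃ₐ[L] E) → ℕ := fun σ =>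
    Nat.card {Q : Place kb E // IsFixedPlace ((τ : E →+* E).comp (σ : E →+* E)) Q}
  have hN : ∀ σ : E ≃ₐ[L] E, (N σ : ℝ) ≤ B := by
    intro σ
    have h1 : N σ =
        Set.ncard {Q : Place kb E | IsFixedPlace ((τ : E →+* E).comp (σ : E →+* E)) Q} :=
      Nat.card_coe_set_eq _
    rw [h1]
    exact (hbound σ).2
  have hιcoe : ∀ σ' : E ≃ₐ[A] E, ((ι σ' : E ≃ₐ[L] E) : E →+* E) = (σ' : E →+* E) :=
    fun σ' => rfl
  haveI hfinσ' : ∀ σ' : E ≃ₐ[A] E,
      Finite {Q : Place kb E // IsFixedPlace ((τ : E →+* E).comp (σ' : E →+* E)) Q} :=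
    fun σ' => hfinσ (ι σ')
  let eL := Equiv.subtypeProdEquivSigmaSubtype
    (fun (σ : E ≃ₐ[L] E) (Q : Place kb E) =>
      IsFixedPlace ((τ : E →+* E).comp (σ : E →+* E)) Q)
  let eA := Equiv.subtypeProdEquivSigmaSubtype
    (fun (σ' : E ≃ₐ[A] E) (Q : Place kb E) =>
      IsFixedPlace ((τ : E →+* E).comp (σ' : E →+* E)) Q)
  haveI hfinL : Finite {q : (E ≃ₐ[L] E) × Place kb E //
      IsFixedPlace ((τ : E →+* E).comp (q.1 : E →+* E)) q.2} := Finite.of_equiv _ eL.symm
  haveI hfinA : Finite {q : (E ≃ₐ[A] E) × Place kb E //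
      IsFixedPlace ((τ : E →+* E).comp (q.1 : E →+* E)) q.2} := Finite.of_equiv _ eA.symm
  obtain ⟨hFL, hcardL⟩ :=
    card_fixed_twists (k := kb) (L := L) (E := E) (τ : E →+* E) φL hτL hpull hE
  obtain ⟨hFA, hcardA⟩ :=
    card_fixed_twists (k := kb) (L := A) (E := E) (τ : E →+* E) φA hτA hpull hE
  letI : Fintype (E ≃ₐ[L] E) := Fintype.ofFinite _
  letI : Fintype (E ≃ₐ[A] E) := Fintype.ofFinite _
  have hsumL : ∑ σ : E ≃ₐ[L] E, N σ =
      Nat.card {P : Place kb L // IsFixedPlace φL P} * Nat.card (E ≃ₐ[L] E) := by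
    rw [← hcardL, Nat.card_congr eL, Nat.card_sigma]
  have hsumA : ∑ σ' : E ≃ₐ[A] E, N (ι σ') =
      Nat.card {P : Place kb A // IsFixedPlace φA P} * Nat.card (E ≃ₐ[A] E) := by
    rw [← hcardA, Nat.card_congr eA, Nat.card_sigma]
    rfl
  have hdH : (0 : ℝ) < Nat.card (E ≃ₐ[A] E) := by exact_mod_cast Nat.card_pos
  -- first inequality
  have hsumA' : (Nat.card {P : Place kb A // IsFixedPlace φA P} : ℝ) *
      Nat.card (E ≃ₐ[A] E) = ∑ σ' : E ≃ₐ[A] E, (N (ι σ') : ℝ) := by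
    rw [← Nat.cast_mul, ← hsumA, Nat.cast_sum]
  have hsumL' : (Nat.card {P : Place kb L // IsFixedPlace φL P} : ℝ) *
      Nat.card (E ≃ₐ[L] E) = ∑ σ : E ≃ₐ[L] E, (N σ : ℝ) := by
    rw [← Nat.cast_mul, ← hsumL, Nat.cast_sum]
  have hcardH : (Nat.card (E ≃ₐ[A] E) : ℝ) = (Finset.univ : Finset (E ≃ₐ[A] E)).card := by
    rw [Finset.card_univ, Nat.card_eq_fintype_card]
  have hcardG : (Nat.card (E ≃ₐ[L] E) : ℝ) = (Finset.univ : Finset (E ≃ₐ[L] E)).card := by
    rw [Finset.card_univ, Nat.card_eq_fintype_card]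
  refine ⟨hFA, hFL, ?_, ?_⟩
  · have h1 : ∑ σ' : E ≃ₐ[A] E, (N (ι σ') : ℝ) ≤
        (Finset.univ : Finset (E ≃ₐ[A] E)).card • B :=
      Finset.sum_le_card_nsmul _ _ _ (fun σ' _ => hN (ι σ'))
    rw [← hsumA', nsmul_eq_mul, ← hcardH, mul_comm] at h1
    exact le_of_mul_le_mul_left h1 hdH
  · -- split the sum over `G`
    let T : Finset (E ≃ₐ[L] E) := Finset.univ.image ι
    have hT : T.card = Nat.card (E ≃ₐ[A] E) := by
      rw [Finset.card_image_of_injective _ hι, Finset.card_univ, Nat.card_eq_fintype_card]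
    have hTc : (Tᶜ.card : ℝ) = (Nat.card (E ≃ₐ[L] E) : ℝ) - Nat.card (E ≃ₐ[A] E) := by
      have hle : Nat.card (E ≃ₐ[A] E) ≤ Fintype.card (E ≃ₐ[L] E) := by
        rw [← Nat.card_eq_fintype_card]
        exact Nat.card_le_card_of_injective ι hι
      rw [Finset.card_compl, hT, Nat.cast_sub hle, ← Nat.card_eq_fintype_card]
    have h1 : ∑ σ ∈ T, (N σ : ℝ) = ∑ σ' : E ≃ₐ[A] E, (N (ι σ') : ℝ) :=
      Finset.sum_image (fun a _ b _ h => hι h)
    have h2 : ∑ σ ∈ Tᶜ, (N σ : ℝ) ≤ Tᶜ.card • B :=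
      Finset.sum_le_card_nsmul _ _ _ (fun σ _ => hN σ)
    have h3 : ∑ σ ∈ T, (N σ : ℝ) + ∑ σ ∈ Tᶜ, (N σ : ℝ) = ∑ σ : E ≃ₐ[L] E, (N σ : ℝ) :=
      Finset.sum_add_sum_compl T _
    rw [nsmul_eq_mul, hTc] at h2
    rw [mul_comm, hsumL', ← h3, h1, ← hsumA', mul_comm]
    linarith

end Groth.Agent.Lib.Helper67.RHTower
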