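import Groth.Agent.FunFld.ConstField
import Groth.Agent.Lib.Helper67.RHOrbit
import Mathlib.FieldTheory.Normal.Closure
import Mathlib.FieldTheory.SeparableClosure
import Mathlib.FieldTheory.IsAlgClosed.AlgebraicClosure

/-!
# Auxiliary lemmas for the Galois closure of a function field over an algebraically closed field
-/

set_option autoImplicit false
set_option linter.unusedSectionVars false

open FunFld WithZero IntermediateField

namespace Groth.Agent.Lib.Helper67.RHTowerAux

open Groth.Agent.FF Groth.Agent.FF.Ext Groth.Agent.Lib.Helper67.RHOrbit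

section FF

variable {k K K' : Type*} [Field k] [Field K] [Field K'] [Algebra k K] [Algebra K K']
  [Algebra k K'] [IsScalarTower k K K']

/-- a finite extension of a function field over an algebraically closed field is a function
field over the same field -/
theorem isFunctionField_of_finite [IsAlgClosed k] [FiniteDimensional K K']
    (hK : IsFunctionField k K) : IsFunctionField k K' := by
  obtain ⟨⟨x₀, hx₀, hfin⟩, -⟩ := hK
  refine ⟨⟨algebraMap K K' x₀, ?_, ?_⟩, ?_⟩
  · intro halg
    exact hx₀ ((isAlgebraic_algebraMap_iff (algebraMap K K').injective).mp halg)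
  · have hfin' : Module.Finite (adjoin k ({x₀} : Set K)) K' := Module.Finite.trans K K'
    apply finite_of_range_le (A := adjoin k ({x₀} : Set K))
    intro a
    let E : IntermediateField k K :=
      (adjoin k ({algebraMap K K' x₀} : Set K')).comap (IsScalarTower.toAlgHom k K K')
    have hle : adjoin k ({x₀} : Set K) ≤ E := by
      rw [adjoin_simple_le_iff]
      change algebraMap K K' x₀ ∈ adjoin k ({algebraMap K K' x₀} : Set K')
      exact mem_adjoin_simple_self _ _
    exact hle a.2
  · intro y hy
    have hint : IsIntegral k y := hy.isIntegral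
    have hdeg := IsAlgClosed.degree_eq_one_of_irreducible k (minpoly.irreducible hint)
    exact minpoly.mem_range_of_degree_eq_one k y hdeg

end FF

section Comap

variable {k E : Type*} [Field k] [Field E] [Algebra k E]

/-- transport of a place along a ring automorphism preserving the constants -/
def placeComap (θ : E ≃+* E)
    (hθ : ∀ c : k, ∃ c' : k, θ (algebraMap k E c) = algebraMap k E c') (Q : Place k E) :
    Place k E :=
  ⟨Q.1.comap (θ : E →+* E), by
    constructor
    · intro c
      obtain ⟨c', hc'⟩ := hθ c
      rw [Valuation.comap_apply]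
      show Q.1 (θ (algebraMap k E c)) ≤ 1
      rw [hc']
      exact Q.2.1 c'
    · intro γ
      obtain ⟨x, hx⟩ := Q.2.2 γ
      refine ⟨θ.symm x, ?_⟩
      rw [Valuation.comap_apply]
      show Q.1 (θ (θ.symm x)) = γ
      rw [θ.apply_symm_apply, hx]⟩

lemma placeComap_apply (θ : E ≃+* E)
    (hθ : ∀ c : k, ∃ c' : k, θ (algebraMap k E c) = algebraMap k E c') (Q : Place k E) (z : E) :
    (placeComap θ hθ Q).1 z = Q.1 (θ z) := rfl

end Comap

end Groth.Agent.Lib.Helper67.RHTowerAux
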