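import Groth.Agent.Lib.Helper67.GenCurve7
import Groth.Agent.S16240
import Groth.Agent.S1535

/-!
# Locally free modules on regular curves (helper67)

* `isFinLocFree_X₁`: on a regular Noetherian scheme of dimension `≤ 1`, the kernel of an
  epimorphism from a finite locally free module onto a coherent module is finite locally free.
* `isFinLocFree_of_mono`: quasi-coherent submodules of finite locally free modules are finite
  locally free.
-/

set_option autoImplicit false
set_option linter.style.haveILetI false
universe u
open AlgebraicGeometry CategoryTheory Limits Opposite TopologicalSpace Abelian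

namespace Groth.Agent.Lib.Helper67.SmCurve

open Groth.Agent.Lib.Helper67.CurveDeg Groth.Agent.Lib.Helper67.CurveCoh
open Groth.Agent.Lib.Helper49

variable {X : Scheme.{u}} [IsNoetherian X]
  (hreg : ∀ x : X, IsRegularLocalRing (X.presheaf.stalk x))
  (hdim : topologicalKrullDim X ≤ 1)

include hreg hdim in
theorem isFinLocFree_X₁ {S : ShortComplex X.Modules} (hS : S.ShortExact)
    (hE : FlatMod.IsFinLocFree S.X₂) (hF : Coh.IsCoh S.X₃) : FlatMod.IsFinLocFree S.X₁ := by
  have hmono : Mono (S.toComposableArrows.map' 0 1 (Nat.zero_le 1) (Nat.le_add_left 1 1)) := by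
    have : S.toComposableArrows.map' 0 1 (Nat.zero_le 1) (Nat.le_add_left 1 1) = S.f := rfl
    rw [this]
    exact hS.mono_f
  have hepi : Epi (S.toComposableArrows.map' 1 (1 + 1) (Nat.le_succ 1) (le_refl (1 + 1))) := by
    have : S.toComposableArrows.map' 1 (1 + 1) (Nat.le_succ 1) (le_refl (1 + 1)) = S.g := rfl
    rw [this]
    exact hS.epi_g
  exact Groth.Agent.S16240.result X hreg 1 (by simpa using hdim) S.toComposableArrows
    hS.exact.exact_toComposableArrows hmono hepi
    (fun i => by
      obtain ⟨i, hi⟩ := i
      obtain rfl : i = 0 := by omega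
      exact hE) hF

include hreg hdim in
/-- quasi-coherent submodules of finite locally free modules on a regular curve are finite
locally free -/
theorem isFinLocFree_of_mono {G E : X.Modules} (ι : G ⟶ E) [Mono ι]
    (hE : FlatMod.IsFinLocFree E) (hG : G.IsQuasicoherent) : FlatMod.IsFinLocFree G := by
  have hEq := Groth.Agent.Lib.Helper49.isQuasicoherent_of_isFinLocFree E hE
  have hS : (ShortComplex.mk ι (cokernel.π ι) (cokernel.condition ι)).ShortExact :=
    ⟨ShortComplex.exact_of_g_is_cokernel _ (cokernelIsCokernel _)⟩
  have hEft : SheafOfModules.IsFiniteType (R := X.ringCatSheaf) E :=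
    Groth.Agent.Lib.Helper49.isFiniteType_of_isFinLocFree E hE
  have hQ : Coh.IsCoh (cokernel ι) :=
    ⟨isQuasicoherent_cokernel ι hG hEq, isFiniteType_of_epi (cokernel.π ι) hEft⟩
  exact isFinLocFree_X₁ hreg hdim hS hE hQ

end Groth.Agent.Lib.Helper67.SmCurve
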