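import Groth.Agent.Lib.Helper67.SmCurve6

/-!
# Boundedness of degrees of submodules and the maximal destabilising submodule (helper67)
-/

set_option autoImplicit false
set_option linter.style.haveILetI false
universe u
open AlgebraicGeometry CategoryTheory Limits Opposite TopologicalSpace Abelian

namespace Groth.Agent.Lib.Helper67.SmCurve

open Groth.Agent.Lib.Helper67.CurveDeg Groth.Agent.Lib.Helper67.CurveCoh
open Groth.Agent.Lib.Helper67.TensRank Groth.Agent.Lib.Helper67.CurveInv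
open Groth.Agent.Lib.Helper49 Groth.Agent.Lib.Helper18.LimFinLocFree

variable (k : Type u) [Field k] (X : Scheme.{u}) [X.Over (Spec (CommRingCat.of k))]
  [IsProper (X ↘ Spec (CommRingCat.of k))]
  (hdim : topologicalKrullDim X ≤ 1)

include hdim in
/-- the degree of a locally free submodule `G ⊂ E` is bounded by `h⁰(E) - rk G · χ(O)` -/
theorem deg_le_of_mono_bound {G E : X.Modules} {r' : ℕ} (ι : G ⟶ E) [Mono ι]
    (hG : FlatMod.IsFinLocFreeOfRank r' G) (hE : Coh.IsCoh E) :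
    Curv2.deg k X G r' ≤ (Module.finrank k (Coh.HH X E 0) : ℤ) -
      (r' : ℤ) * Curv2.euler k X (Coh.structureModule X) := by
  have hS : (ShortComplex.mk ι (cokernel.π ι) (cokernel.condition ι)).ShortExact :=
    ⟨ShortComplex.exact_of_g_is_cokernel _ (cokernelIsCokernel _)⟩
  have hinj := HHLES.HHlin_f_zero_injective k hS
  haveI := finite_HH_of_coh k X hdim E hE 0
  have h1 : Module.finrank k (Coh.HH X G 0) ≤ Module.finrank k (Coh.HH X E 0) :=
    LinearMap.finrank_le_finrank_of_injective hinj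
  have h2 := euler_eq_of_coh k X hdim G (isCoh_of_rank hG)
  unfold Curv2.deg
  rw [h2]
  have h3 : (Module.finrank k (Coh.HH X G 0) : ℤ) ≤ Module.finrank k (Coh.HH X E 0) := by
    exact_mod_cast h1
  have h4 : (0 : ℤ) ≤ Module.finrank k (Coh.HH X G 1) := Int.natCast_nonneg _
  linarith

variable [IsIntegral X] (hreg : ∀ x : X, IsRegularLocalRing (X.presheaf.stalk x))

include hreg hdim in
/-- the degrees of locally free submodules of `E` are bounded above -/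
theorem exists_deg_bound {E : X.Modules} {r : ℕ} (hE : FlatMod.IsFinLocFreeOfRank r E) :
    ∃ N : ℤ, ∀ (F : X.Modules) (r' : ℕ) (i : F ⟶ E), Mono i → FlatMod.IsFinLocFreeOfRank r' F →
      Curv2.deg k X F r' ≤ N := by
  set h0 : ℤ := (Module.finrank k (Coh.HH X E 0) : ℤ) with hh0
  set χ : ℤ := Curv2.euler k X (Coh.structureModule X) with hχ
  refine ⟨h0 + r * |χ|, ?_⟩
  intro G r' j hj hG
  haveI := hj
  have hle : r' ≤ r := by
    have := rk_le_of_mono k X hreg hdim hE j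
    rwa [rk_eq_of_rank hG] at this
  have h1 := deg_le_of_mono_bound k X hdim j hG (isCoh_of_rank hE)
  have h3 : -((r' : ℤ) * χ) ≤ (r : ℤ) * |χ| := by
    have h4 : -((r' : ℤ) * χ) ≤ (r' : ℤ) * |χ| := by
      have hr'0 : (0 : ℤ) ≤ r' := Int.natCast_nonneg _
      nlinarith [neg_le_abs χ]
    have h5 : (r' : ℤ) * |χ| ≤ (r : ℤ) * |χ| := by
      have : (r' : ℤ) ≤ r := by exact_mod_cast hle
      exact mul_le_mul_of_nonneg_right this (abs_nonneg χ)
    linarith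
  linarith

include hreg hdim in
/-- **the maximal destabilising submodule**: a locally free submodule of maximal slope and, among
those, of maximal rank -/
theorem exists_max_slope_sub {E : X.Modules} {r : ℕ} (hr : 0 < r)
    (hE : FlatMod.IsFinLocFreeOfRank r E) :
    ∃ (E₁ : X.Modules) (r₁ : ℕ) (i₁ : E₁ ⟶ E), Mono i₁ ∧ 0 < r₁ ∧
      FlatMod.IsFinLocFreeOfRank r₁ E₁ ∧
      (∀ (G : X.Modules) (r' : ℕ) (j : G ⟶ E), Mono j → 0 < r' →
        FlatMod.IsFinLocFreeOfRank r' G →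
        Curv2.deg k X G r' * (r₁ : ℤ) ≤ Curv2.deg k X E₁ r₁ * (r' : ℤ)) ∧
      (∀ (G : X.Modules) (r' : ℕ) (j : G ⟶ E), Mono j → 0 < r' →
        FlatMod.IsFinLocFreeOfRank r' G →
        Curv2.deg k X G r' * (r₁ : ℤ) = Curv2.deg k X E₁ r₁ * (r' : ℤ) → r' ≤ r₁) := by
  classical
  set N : ℕ := r.factorial with hN
  have hNpos : 0 < N := Nat.factorial_pos r
  -- ranks of submodules are at most `r`
  have hrk : ∀ (G : X.Modules) (r' : ℕ) (j : G ⟶ E), Mono j →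
      FlatMod.IsFinLocFreeOfRank r' G → r' ≤ r := by
    intro G r' j hj hG
    haveI := hj
    have := rk_le_of_mono k X hreg hdim hE j
    rwa [rk_eq_of_rank hG] at this
  have hdvd : ∀ r' : ℕ, 0 < r' → r' ≤ r → (N / r') * r' = N := fun r' h0 hle =>
    Nat.div_mul_cancel (Nat.dvd_factorial h0 hle)
  let P : ℤ → Prop := fun z => ∃ (G : X.Modules) (r' : ℕ) (j : G ⟶ E), Mono j ∧ 0 < r' ∧
    FlatMod.IsFinLocFreeOfRank r' G ∧ z = Curv2.deg k X G r' * ((N / r' : ℕ) : ℤ)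
  set h0 : ℤ := (Module.finrank k (Coh.HH X E 0) : ℤ) with hh0
  set χ : ℤ := Curv2.euler k X (Coh.structureModule X) with hχ
  have hbdd : ∃ b : ℤ, ∀ z, P z → z ≤ b := by
    refine ⟨(h0 + r * |χ|) * N, ?_⟩
    rintro z ⟨G, r', j, hj, hr', hG, rfl⟩
    haveI := hj
    have hle := hrk G r' j hj hG
    have h1 := deg_le_of_mono_bound k X hdim j hG (isCoh_of_rank hE)
    have h2 : Curv2.deg k X G r' ≤ h0 + r * |χ| := by
      have h3 : -((r' : ℤ) * χ) ≤ (r : ℤ) * |χ| := by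
        have h4 : -((r' : ℤ) * χ) ≤ (r' : ℤ) * |χ| := by
          have := neg_abs_le χ
          have hr'0 : (0 : ℤ) ≤ r' := Int.natCast_nonneg _
          nlinarith [neg_le_abs χ]
        have h5 : (r' : ℤ) * |χ| ≤ (r : ℤ) * |χ| := by
          have : (r' : ℤ) ≤ r := by exact_mod_cast hle
          exact mul_le_mul_of_nonneg_right this (abs_nonneg χ)
        linarith
      linarith
    have hB : (0 : ℤ) ≤ h0 + r * |χ| := by
      have : (0 : ℤ) ≤ h0 := Int.natCast_nonneg _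
      have : (0 : ℤ) ≤ (r : ℤ) * |χ| := mul_nonneg (Int.natCast_nonneg _) (abs_nonneg χ)
      linarith
    have hq1 : (0 : ℤ) ≤ ((N / r' : ℕ) : ℤ) := Int.natCast_nonneg _
    have hq2 : ((N / r' : ℕ) : ℤ) ≤ (N : ℤ) := by exact_mod_cast Nat.div_le_self N r'
    calc Curv2.deg k X G r' * ((N / r' : ℕ) : ℤ)
        ≤ (h0 + r * |χ|) * ((N / r' : ℕ) : ℤ) := mul_le_mul_of_nonneg_right h2 hq1
      _ ≤ (h0 + r * |χ|) * N := mul_le_mul_of_nonneg_left hq2 hB
  have hinh : ∃ z, P z := ⟨_, E, r, 𝟙 E, inferInstance, hr, hE, rfl⟩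
  obtain ⟨M, hM, hmax⟩ := Int.exists_greatest_of_bdd hbdd hinh
  -- maximal rank among those attaining `M`
  let Q : ℕ → Prop := fun n => ∃ (G : X.Modules) (j : G ⟶ E), Mono j ∧ 0 < n ∧
    FlatMod.IsFinLocFreeOfRank n G ∧ M = Curv2.deg k X G n * ((N / n : ℕ) : ℤ)
  obtain ⟨G₀, r₀, j₀, hj₀, hr₀, hG₀, hM₀⟩ := hM
  have hQ₀ : Q r₀ := ⟨G₀, j₀, hj₀, hr₀, hG₀, hM₀⟩
  have hr₀le := hrk G₀ r₀ j₀ hj₀ hG₀
  have hspec := Nat.findGreatest_spec (P := Q) hr₀le hQ₀
  set r₁ := Nat.findGreatest Q r with hr₁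
  obtain ⟨E₁, i₁, hi₁, hr₁pos, hE₁, hM₁⟩ := hspec
  have hr₁le := hrk E₁ r₁ i₁ hi₁ hE₁
  have hkey : ∀ (G : X.Modules) (r' : ℕ), 0 < r' → r' ≤ r →
      (Curv2.deg k X G r' * ((N / r' : ℕ) : ℤ) ≤ M ↔
        Curv2.deg k X G r' * (r₁ : ℤ) ≤ Curv2.deg k X E₁ r₁ * (r' : ℤ)) ∧
      (Curv2.deg k X G r' * ((N / r' : ℕ) : ℤ) = M ↔
        Curv2.deg k X G r' * (r₁ : ℤ) = Curv2.deg k X E₁ r₁ * (r' : ℤ)) := by
    intro G r' h0' hle
    have e1 : ((N / r' : ℕ) : ℤ) * (r' : ℤ) = N := by exact_mod_cast hdvd r' h0' hle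
    have e2 : ((N / r₁ : ℕ) : ℤ) * (r₁ : ℤ) = N := by exact_mod_cast hdvd r₁ hr₁pos hr₁le
    have hpos : (0 : ℤ) < (r' : ℤ) * (r₁ : ℤ) := by
      have a1 : (0 : ℤ) < r' := by exact_mod_cast h0'
      have a2 : (0 : ℤ) < r₁ := by exact_mod_cast hr₁pos
      exact mul_pos a1 a2
    have hNpos' : (0 : ℤ) < N := by exact_mod_cast hNpos
    have l1 : Curv2.deg k X G r' * ((N / r' : ℕ) : ℤ) * ((r' : ℤ) * (r₁ : ℤ)) =
        (Curv2.deg k X G r' * (r₁ : ℤ)) * N := by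
      rw [← e1]; ring
    have l2 : M * ((r' : ℤ) * (r₁ : ℤ)) = (Curv2.deg k X E₁ r₁ * (r' : ℤ)) * N := by
      rw [hM₁, ← e2]; ring
    constructor
    · rw [← mul_le_mul_iff_of_pos_right hpos, l1, l2, mul_le_mul_iff_of_pos_right hNpos']
    · rw [← mul_left_inj' hpos.ne', l1, l2, mul_left_inj' hNpos'.ne']
  refine ⟨E₁, r₁, i₁, hi₁, hr₁pos, hE₁, ?_, ?_⟩
  · intro G r' j hj hr' hG
    have hle := hrk G r' j hj hG
    exact ((hkey G r' hr' hle).1).mp (hmax _ ⟨G, r', j, hj, hr', hG, rfl⟩)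
  · intro G r' j hj hr' hG heq
    have hle := hrk G r' j hj hG
    have h1 := ((hkey G r' hr' hle).2).mpr heq
    exact Nat.le_findGreatest hle ⟨G, j, hj, hr', hG, h1.symm⟩

end Groth.Agent.Lib.Helper67.SmCurve
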