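import Groth.Agent.Lib.Helper67.SmCurve7

/-!
# Submodules of extensions of locally free modules on regular proper integral curves (helper67)
-/

set_option autoImplicit false
set_option linter.style.haveILetI false
universe u
open AlgebraicGeometry CategoryTheory Limits Opposite TopologicalSpace Abelian

namespace Groth.Agent.Lib.Helper67.SmCurve

open Groth.Agent.Lib.Helper67.CurveDeg Groth.Agent.Lib.Helper67.CurveCoh
open Groth.Agent.Lib.Helper67.TensRank Groth.Agent.Lib.Helper67.CurveInv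
open Groth.Agent.Lib.Helper49 Groth.Agent.Lib.Helper18.LimFinLocFree

variable (k : Type u) [Field k] (X : Scheme.{u}) [X.Over (Spec (CommRingCat.of k))]
  [IsIntegral X] [IsProper (X ↘ Spec (CommRingCat.of k))]
  (hreg : ∀ x : X, IsRegularLocalRing (X.presheaf.stalk x))
  (hdim : topologicalKrullDim X ≤ 1)

include hreg hdim in
/-- a locally free submodule `G` of the middle term of a short exact sequence splits into a
submodule `K` of the kernel and a submodule `I` of the quotient -/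
theorem exists_sub_split {T : ShortComplex X.Modules} (hT : T.ShortExact) {r₂ : ℕ}
    (hE₂ : FlatMod.IsFinLocFreeOfRank r₂ T.X₃) {G : X.Modules} {r' : ℕ}
    (hG : FlatMod.IsFinLocFreeOfRank r' G) (i : G ⟶ T.X₂) [Mono i] :
    ∃ (K I : X.Modules) (u t : ℕ) (a : K ⟶ T.X₁) (b : I ⟶ T.X₃), Mono a ∧ Mono b ∧
      FlatMod.IsFinLocFreeOfRank u K ∧ FlatMod.IsFinLocFreeOfRank t I ∧ r' = u + t ∧
      Curv2.deg k X G r' = Curv2.deg k X K u + Curv2.deg k X I t := by
  haveI := hT.mono_f
  obtain ⟨hK, hI, hrk, hdeg, -⟩ := ker_coim k X hreg hdim hG hE₂ (i ≫ T.g)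
  have hk : (kernel.ι (i ≫ T.g) ≫ i) ≫ T.g = 0 := by
    rw [Category.assoc]; exact kernel.condition _
  have hfac : hT.exact.lift (kernel.ι (i ≫ T.g) ≫ i) hk ≫ T.f = kernel.ι (i ≫ T.g) ≫ i :=
    hT.exact.lift_f _ hk
  have hmono : Mono (hT.exact.lift (kernel.ι (i ≫ T.g) ≫ i) hk) := by
    haveI : Mono (hT.exact.lift (kernel.ι (i ≫ T.g) ≫ i) hk ≫ T.f) := by
      rw [hfac]; infer_instance
    exact mono_of_mono _ T.f
  exact ⟨kernel (i ≫ T.g), Abelian.coimage (i ≫ T.g), _, _,
    hT.exact.lift (kernel.ι (i ≫ T.g) ≫ i) hk, Abelian.factorThruCoimage (i ≫ T.g), hmono,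
    inferInstance, hK, hI, hrk, hdeg⟩

include hreg hdim in
/-- the preimage in the middle term of a locally free submodule `G` of the quotient of a short
exact sequence of locally free modules -/
theorem exists_preimage_sub {T : ShortComplex X.Modules} (hT : T.ShortExact) {r₁ r r₂ : ℕ}
    (hE₁ : FlatMod.IsFinLocFreeOfRank r₁ T.X₁) (hE : FlatMod.IsFinLocFreeOfRank r T.X₂)
    (hE₂ : FlatMod.IsFinLocFreeOfRank r₂ T.X₃) {G : X.Modules} {r' : ℕ}
    (hG : FlatMod.IsFinLocFreeOfRank r' G) (i : G ⟶ T.X₃) [Mono i] :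
    ∃ (G' : X.Modules) (j : G' ⟶ T.X₂), Mono j ∧ FlatMod.IsFinLocFreeOfRank (r₁ + r') G' ∧
      Curv2.deg k X G' (r₁ + r') = Curv2.deg k X T.X₁ r₁ + Curv2.deg k X G r' := by
  haveI := hT.epi_g
  have hEc := isCoh_of_rank hE
  have hE₁c := isCoh_of_rank hE₁
  have hE₂c := isCoh_of_rank hE₂
  have hGc := isCoh_of_rank hG
  have hQc : Coh.IsCoh (cokernel i) :=
    ⟨isQuasicoherent_cokernel i hGc.1 hE₂c.1, isFiniteType_of_epi (cokernel.π i) hE₂c.2⟩
  let q : T.X₂ ⟶ cokernel i := T.g ≫ cokernel.π i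
  haveI : Epi q := epi_comp _ _
  have hG'q : (kernel q).IsQuasicoherent := isQuasicoherent_kernel q hEc.1 hQc.1
  have hG' := sub_rank k X hreg hdim (kernel.ι q) (isFinLocFree_of_rank hE) hG'q
  have hS1 : (ShortComplex.mk (kernel.ι q) q (kernel.condition q)).ShortExact :=
    ⟨ShortComplex.exact_of_f_is_kernel _ (kernelIsKernel _)⟩
  have hS2 : (ShortComplex.mk i (cokernel.π i) (cokernel.condition i)).ShortExact :=
    ⟨ShortComplex.exact_of_g_is_cokernel _ (cokernelIsCokernel _)⟩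
  have hG'c := isCoh_of_rank hG'
  -- ranks
  have k1 := rk_additive hS1 hEc
  have k2 := rk_additive hS2 hE₂c
  have k3 := rk_additive hT hEc
  change rk T.X₂ = rk (kernel q) + rk (cokernel i) at k1
  change rk T.X₃ = rk G + rk (cokernel i) at k2
  rw [rk_eq_of_rank hE] at k1 k3
  rw [rk_eq_of_rank hE₂, rk_eq_of_rank hG] at k2
  rw [rk_eq_of_rank hE₁, rk_eq_of_rank hE₂] at k3
  have hrkG' : rk (kernel q) = r₁ + r' := by omega
  rw [hrkG'] at hG'
  -- Euler characteristics
  have e1 := euler_additive_of_coh k X hdim hS1 hG'c hEc hQc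
  have e2 := euler_additive_of_coh k X hdim hS2 hGc hE₂c hQc
  have e3 := euler_additive_of_coh k X hdim hT hE₁c hEc hE₂c
  change Curv2.euler k X T.X₂ = Curv2.euler k X (kernel q) + Curv2.euler k X (cokernel i) at e1
  change Curv2.euler k X T.X₃ = Curv2.euler k X G + Curv2.euler k X (cokernel i) at e2
  refine ⟨kernel q, kernel.ι q, inferInstance, hG', ?_⟩
  unfold Curv2.deg
  push_cast
  linarith

end Groth.Agent.Lib.Helper67.SmCurve
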