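import Groth.Agent.Lib.Helper67.SmCurve10
import Groth.Agent.Lib.Helper67.SmCurve8
import Groth.Agent.Lib.Helper67.TorsQuot

/-!
# Saturation of submodules of locally free modules on a regular proper integral curve (helper67)
-/

set_option autoImplicit false
set_option linter.style.haveILetI false
universe u
open AlgebraicGeometry CategoryTheory Limits Opposite TopologicalSpace Abelian

namespace Groth.Agent.Lib.Helper67.SmCurve

open Groth.Agent.Lib.Helper67.CurveDeg Groth.Agent.Lib.Helper67.CurveCoh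
open Groth.Agent.Lib.Helper67.TensRank Groth.Agent.Lib.Helper67.CurveInv
open Groth.Agent.Lib.Helper49 Groth.Agent.Lib.Helper18.LimFinLocFree

variable (k : Type u) [Field k] (X : Scheme.{u}) [X.Over (Spec (CommRingCat.of k))]
  [IsIntegral X] [IsProper (X ↘ Spec (CommRingCat.of k))]
  (hreg : ∀ x : X, IsRegularLocalRing (X.presheaf.stalk x))
  (hdim : topologicalKrullDim X ≤ 1)

include hreg hdim in
/-- **saturation**: a locally free submodule `G ⊂ E` of rank `s` is contained in a locally free
submodule `G' ⊂ E` of the same rank with locally free quotient `E/G'`; `deg G ≤ deg G'` with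
equality only if `G = G'`. -/
theorem exists_saturation {G E : X.Modules} {r s : ℕ} (hE : FlatMod.IsFinLocFreeOfRank r E)
    (hG : FlatMod.IsFinLocFreeOfRank s G) (ι : G ⟶ E) [Mono ι] :
    ∃ (G' : X.Modules) (j : G' ⟶ E) (a : G ⟶ G'), Mono j ∧ a ≫ j = ι ∧
      FlatMod.IsFinLocFreeOfRank s G' ∧ FlatMod.IsFinLocFreeOfRank (r - s) (cokernel j) ∧
      s ≤ r ∧
      Curv2.deg k X E r = Curv2.deg k X G' s + Curv2.deg k X (cokernel j) (r - s) ∧
      Curv2.deg k X G s ≤ Curv2.deg k X G' s ∧
      (Curv2.deg k X G s = Curv2.deg k X G' s → IsIso a) := by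
  haveI : IsNoetherian X :=
    Groth.Agent.Lib.Helper67.CurveP1.isNoetherian_of_proper k (X ↘ Spec (CommRingCat.of k))
  have hEc := isCoh_of_rank hE
  have hGc := isCoh_of_rank hG
  have hCc : Coh.IsCoh (cokernel ι) :=
    ⟨isQuasicoherent_cokernel ι hGc.1 hEc.1, isFiniteType_of_epi (cokernel.π ι) hEc.2⟩
  have hS0 : (ShortComplex.mk ι (cokernel.π ι) (cokernel.condition ι)).ShortExact :=
    ⟨ShortComplex.exact_of_g_is_cokernel _ (cokernelIsCokernel _)⟩
  have hrk0 := rk_additive hS0 hEc
  change rk E = rk G + rk (cokernel ι) at hrk0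
  rw [rk_eq_of_rank hE, rk_eq_of_rank hG] at hrk0
  obtain ⟨Q, q, hq, hQ⟩ := Groth.Agent.Lib.Helper67.TorsQuot.exists_torsQuot hreg hdim
    (cokernel ι) hCc
  have hrkC : rk (cokernel ι) = r - s := by omega
  rw [hrkC] at hQ
  have hsr : s ≤ r := by omega
  let p : E ⟶ Q := cokernel.π ι ≫ q
  haveI : Epi p := epi_comp _ _
  have hQc := isCoh_of_rank hQ
  have hG'q : (kernel p).IsQuasicoherent := isQuasicoherent_kernel p hEc.1 hQc.1
  have hG' := sub_rank k X hreg hdim (kernel.ι p) (isFinLocFree_of_rank hE) hG'q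
  have hS1 : (ShortComplex.mk (kernel.ι p) p (kernel.condition p)).ShortExact :=
    ⟨ShortComplex.exact_of_f_is_kernel _ (kernelIsKernel _)⟩
  have hrk1 := rk_additive hS1 hEc
  change rk E = rk (kernel p) + rk Q at hrk1
  rw [rk_eq_of_rank hE, rk_eq_of_rank hQ] at hrk1
  have hrkG' : rk (kernel p) = s := by omega
  rw [hrkG'] at hG'
  have hιp : ι ≫ p = 0 := by
    change ι ≫ cokernel.π ι ≫ q = 0
    rw [← Category.assoc, cokernel.condition, zero_comp]
  let a : G ⟶ kernel p := kernel.lift p ι hιp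
  have ha : a ≫ kernel.ι p = ι := kernel.lift_ι p ι hιp
  haveI : Mono a := by
    haveI : Mono (a ≫ kernel.ι p) := by rw [ha]; infer_instance
    exact mono_of_mono a (kernel.ι p)
  -- the cokernel of `kernel.ι p` is `Q`
  let e : cokernel (kernel.ι p) ≅ Q :=
    IsColimit.coconePointUniqueUpToIso (colimit.isColimit _)
      (Abelian.epiIsCokernelOfKernel (KernelFork.ofι (kernel.ι p) (kernel.condition p))
        (kernelIsKernel p))
  have hcok : FlatMod.IsFinLocFreeOfRank (r - s) (cokernel (kernel.ι p)) :=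
    isFinLocFreeOfRank_of_iso e.symm hQ
  have hS2 : (ShortComplex.mk (kernel.ι p) (cokernel.π (kernel.ι p))
      (cokernel.condition _)).ShortExact :=
    ⟨ShortComplex.exact_of_g_is_cokernel _ (cokernelIsCokernel _)⟩
  have hdeg := deg_additive k X hdim hS2 hG' hE hcok
  have hle := deg_le_of_mono_same_rank k X hdim hG hG' a
  exact ⟨kernel p, kernel.ι p, a, inferInstance, ha, hG', hcok, hsr, hdeg, hle.1, hle.2⟩

end Groth.Agent.Lib.Helper67.SmCurve
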