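import Groth.Agent.Lib.Helper67.SmCurve6
import Groth.Prelude.Def_ModFun2

/-!
# Endomorphisms of slope-stable bundles on regular proper integral curves (helper67)
-/

set_option autoImplicit false
set_option linter.style.haveILetI false
universe u
open AlgebraicGeometry CategoryTheory Limits Opposite TopologicalSpace Abelian

namespace Groth.Agent.Lib.Helper67.SmCurve

open Groth.Agent.Lib.Helper67.CurveDeg Groth.Agent.Lib.Helper67.CurveCoh
open Groth.Agent.Lib.Helper67.TensRank Groth.Agent.Lib.Helper67.CurveInv
open Groth.Agent.Lib.Helper49 Groth.Agent.Lib.Helper18.LimFinLocFree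

variable (k : Type u) [Field k] (X : Scheme.{u}) [X.Over (Spec (CommRingCat.of k))]
  [IsIntegral X] [IsProper (X ↘ Spec (CommRingCat.of k))]
  (hreg : ∀ x : X, IsRegularLocalRing (X.presheaf.stalk x))
  (hdim : topologicalKrullDim X ≤ 1)

include hreg hdim in
/-- **every nonzero endomorphism of a slope-stable bundle is an isomorphism** -/
theorem isIso_of_stable {E : X.Modules} {r : ℕ} (hE : FlatMod.IsFinLocFreeOfRank r E)
    (hst : ModFun.IsSlopeStable k X E r) (f : E ⟶ E) (hf : f ≠ 0) : IsIso f := by
  obtain ⟨K, I, u, t, a, b, ha, hb, hK, hI, hrk, ht, hts, hdeg, hmono, haf⟩ :=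
    exists_ker_im k X hreg hdim hE hE f hf
  rcases Nat.eq_zero_or_pos u with hu | hu
  · haveI := hmono hu
    exact (deg_le_of_mono_same_rank k X hdim hE hE f).2 rfl
  · exfalso
    have h1 := hst K u a ha hu (by omega) hK
    have h2 := hst I t b hb ht (by omega) hI
    have hr' : (r : ℤ) = (u : ℤ) + (t : ℤ) := by exact_mod_cast hrk
    have h3 : Curv2.deg k X E r * (r : ℤ) =
        Curv2.deg k X K u * (r : ℤ) + Curv2.deg k X I t * (r : ℤ) := by
      rw [hdeg]; ring
    have h4 : Curv2.deg k X E r * (r : ℤ) =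
        Curv2.deg k X E r * (u : ℤ) + Curv2.deg k X E r * (t : ℤ) := by
      rw [hr']; ring
    linarith

omit [IsProper (X ↘ Spec (CommRingCat.of k))] in
/-- a locally free module of positive rank is not zero -/
theorem not_isZero_of_rank_pos {E : X.Modules} {r : ℕ} (hr : 0 < r)
    (hE : FlatMod.IsFinLocFreeOfRank r E) : ¬ IsZero E := by
  intro hz
  have h := rk_eq_of_rank hE
  have hs := (Helper45.isZero_iff_stalk_subsingleton E).mp hz (genericPoint X)
  rw [rk_eq_zero_of_subsingleton hs] at h
  omega

include hreg hdim in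
/-- a nilpotent endomorphism of a slope-stable bundle of positive rank vanishes -/
theorem eq_zero_of_stable_of_sq_zero {E : X.Modules} {r : ℕ}
    (hE : FlatMod.IsFinLocFreeOfRank r E)
    (hst : ModFun.IsSlopeStable k X E r) (f : E ⟶ E) (hsq : f ≫ f = 0) : f = 0 := by
  by_contra hf
  haveI := isIso_of_stable k X hreg hdim hE hst f hf
  have h1 : f = 0 := by
    rw [← cancel_epi f, hsq, comp_zero]
  exact absurd h1 hf

end Groth.Agent.Lib.Helper67.SmCurve
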