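import Groth.Agent.Lib.Helper67.SmCurve11
import Groth.Agent.Lib.Helper67.SmCurve7

/-!
# (Semi)stability via quotients and via submodules (helper67)
-/

set_option autoImplicit false
set_option linter.style.haveILetI false
universe u
open AlgebraicGeometry CategoryTheory Limits Opposite TopologicalSpace Abelian

namespace Groth.Agent.Lib.Helper67.SmCurve

open Groth.Agent.Lib.Helper67.CurveDeg Groth.Agent.Lib.Helper67.CurveCoh
open Groth.Agent.Lib.Helper67.TensRank Groth.Agent.Lib.Helper67.CurveInv
open Groth.Agent.Lib.Helper49 Groth.Agent.Lib.Helper18.LimFinLocFree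

variable (k : Type u) [Field k] (X : Scheme.{u}) [X.Over (Spec (CommRingCat.of k))]
  [IsIntegral X] [IsProper (X ↘ Spec (CommRingCat.of k))]
  (hreg : ∀ x : X, IsRegularLocalRing (X.presheaf.stalk x))
  (hdim : topologicalKrullDim X ≤ 1)

include hreg hdim in
/-- the kernel of an epimorphism `E ↠ F` of locally free modules -/
theorem ker_of_epi {E F : X.Modules} {r s : ℕ} (hE : FlatMod.IsFinLocFreeOfRank r E)
    (hF : FlatMod.IsFinLocFreeOfRank s F) (p : E ⟶ F) [Epi p] :
    ∃ u : ℕ, FlatMod.IsFinLocFreeOfRank u (kernel p) ∧ r = u + s ∧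
      Curv2.deg k X E r = Curv2.deg k X (kernel p) u + Curv2.deg k X F s := by
  have hEc := isCoh_of_rank hE
  have hFc := isCoh_of_rank hF
  have hKq : (kernel p).IsQuasicoherent := isQuasicoherent_kernel p hEc.1 hFc.1
  have hK := sub_rank k X hreg hdim (kernel.ι p) (isFinLocFree_of_rank hE) hKq
  have hS : (ShortComplex.mk (kernel.ι p) p (kernel.condition p)).ShortExact :=
    ⟨ShortComplex.exact_of_f_is_kernel _ (kernelIsKernel _)⟩
  have hrk := rk_additive hS hEc
  change rk E = rk (kernel p) + rk F at hrk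
  rw [rk_eq_of_rank hE, rk_eq_of_rank hF] at hrk
  exact ⟨rk (kernel p), hK, hrk, deg_additive k X hdim hS hK hE hF⟩

include hreg hdim in
/-- semistability tested on locally free quotients is semistability tested on submodules -/
theorem quot_semistable_iff {E : X.Modules} {r : ℕ} (hE : FlatMod.IsFinLocFreeOfRank r E) :
    (∀ (F : X.Modules) (s : ℕ) (p : E ⟶ F), Epi p → 0 < s → FlatMod.IsFinLocFreeOfRank s F →
      Curv2.deg k X E r * (s : ℤ) ≤ Curv2.deg k X F s * (r : ℤ)) ↔
    (∀ (G : X.Modules) (r' : ℕ) (i : G ⟶ E), Mono i → 0 < r' → FlatMod.IsFinLocFreeOfRank r' G →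
      Curv2.deg k X G r' * (r : ℤ) ≤ Curv2.deg k X E r * (r' : ℤ)) := by
  constructor
  · intro hquot G r' i hi hr' hG
    haveI := hi
    obtain ⟨G', j, a, hj, haj, hG', hcok, hle, hdeg, hdle, -⟩ :=
      exists_saturation k X hreg hdim hE hG i
    have hr0 : (0 : ℤ) ≤ r := Int.natCast_nonneg _
    have h1 : Curv2.deg k X G r' * (r : ℤ) ≤ Curv2.deg k X G' r' * (r : ℤ) :=
      mul_le_mul_of_nonneg_right hdle hr0
    rcases Nat.eq_zero_or_pos (r - r') with h0 | h0
    · have hrr : r = r' := by omega
      rw [h0] at hcok hdeg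
      rw [deg_eq_zero_of_rank_zero k X hcok, add_zero] at hdeg
      rw [hdeg, ← hrr]
      rw [← hrr] at h1
      exact h1
    · have h2 := hquot (cokernel j) (r - r') (cokernel.π j) inferInstance h0 hcok
      have hc : ((r - r' : ℕ) : ℤ) = (r : ℤ) - (r' : ℤ) := Nat.cast_sub hle
      rw [hc] at h2
      have e1 : Curv2.deg k X E r * ((r : ℤ) - (r' : ℤ)) =
          Curv2.deg k X E r * (r : ℤ) - Curv2.deg k X E r * (r' : ℤ) := by ring
      have e2 : Curv2.deg k X (cokernel j) (r - r') * (r : ℤ) =
          Curv2.deg k X E r * (r : ℤ) - Curv2.deg k X G' r' * (r : ℤ) := by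
        rw [hdeg]; ring
      linarith
  · intro hsub F s p hp hs hF
    haveI := hp
    obtain ⟨u, hK, hrk, hdeg⟩ := ker_of_epi k X hreg hdim hE hF p
    have hr' : (r : ℤ) = (u : ℤ) + (s : ℤ) := by exact_mod_cast hrk
    rcases Nat.eq_zero_or_pos u with hu | hu
    · subst hu
      rw [deg_eq_zero_of_rank_zero k X hK, zero_add] at hdeg
      have hrs : r = s := by omega
      rw [hdeg, hrs]
    · have h1 := hsub (kernel p) u (kernel.ι p) inferInstance hu hK
      have e1 : Curv2.deg k X F s * (r : ℤ) =
          Curv2.deg k X E r * (r : ℤ) - Curv2.deg k X (kernel p) u * (r : ℤ) := by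
        rw [hdeg]; ring
      have e2 : Curv2.deg k X E r * (r : ℤ) =
          Curv2.deg k X E r * (u : ℤ) + Curv2.deg k X E r * (s : ℤ) := by
        rw [hr']; ring
      linarith

include hreg hdim in
/-- stability tested on locally free quotients is stability tested on submodules -/
theorem quot_stable_iff {E : X.Modules} {r : ℕ} (hE : FlatMod.IsFinLocFreeOfRank r E) :
    (∀ (F : X.Modules) (s : ℕ) (p : E ⟶ F), Epi p → 0 < s → FlatMod.IsFinLocFreeOfRank s F →
      (¬ IsIso p) → Curv2.deg k X E r * (s : ℤ) < Curv2.deg k X F s * (r : ℤ)) ↔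
    (∀ (G : X.Modules) (r' : ℕ) (i : G ⟶ E), Mono i → 0 < r' → FlatMod.IsFinLocFreeOfRank r' G →
      (¬ IsIso i) → Curv2.deg k X G r' * (r : ℤ) < Curv2.deg k X E r * (r' : ℤ)) := by
  constructor
  · intro hquot G r' i hi hr' hG hni
    haveI := hi
    obtain ⟨G', j, a, hj, haj, hG', hcok, hle, hdeg, hdle, hiso⟩ :=
      exists_saturation k X hreg hdim hE hG i
    haveI := hj
    have hrpos : (0 : ℤ) < r := by
      have : 0 < r := lt_of_lt_of_le hr' hle
      exact_mod_cast this
    have h1 : Curv2.deg k X G r' * (r : ℤ) ≤ Curv2.deg k X G' r' * (r : ℤ) :=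
      mul_le_mul_of_nonneg_right hdle hrpos.le
    rcases Nat.eq_zero_or_pos (r - r') with h0 | h0
    · have hrr : r = r' := by omega
      rw [h0] at hcok hdeg
      have hz := isZero_of_rank_zero hcok
      haveI : Epi j := Preadditive.epi_of_isZero_cokernel j hz
      haveI : IsIso j := isIso_of_mono_of_epi j
      have hna : ¬ IsIso a := by
        intro ha
        apply hni
        rw [← haj]
        infer_instance
      have hlt : Curv2.deg k X G r' < Curv2.deg k X G' r' :=
        lt_of_le_of_ne hdle (fun h => hna (hiso h))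
      rw [deg_eq_zero_of_rank_zero k X hcok, add_zero] at hdeg
      rw [hdeg, ← hrr]
      rw [← hrr] at hlt
      exact mul_lt_mul_of_pos_right hlt hrpos
    · have hnπ : ¬ IsIso (cokernel.π j) := by
        intro hπ
        have hj0 : j = 0 := by
          have : j ≫ cokernel.π j = 0 ≫ cokernel.π j := by
            rw [cokernel.condition, zero_comp]
          exact (cancel_mono (cokernel.π j)).mp this
        have hid : 𝟙 G' = 0 := by
          have : 𝟙 G' ≫ j = 0 ≫ j := by rw [Category.id_comp, zero_comp, hj0]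
          exact (cancel_mono j).mp this
        exact not_isZero_of_rank_pos X hr' hG' ((IsZero.iff_id_eq_zero G').mpr hid)
      have h2 := hquot (cokernel j) (r - r') (cokernel.π j) inferInstance h0 hcok hnπ
      have hc : ((r - r' : ℕ) : ℤ) = (r : ℤ) - (r' : ℤ) := Nat.cast_sub hle
      rw [hc] at h2
      have e1 : Curv2.deg k X E r * ((r : ℤ) - (r' : ℤ)) =
          Curv2.deg k X E r * (r : ℤ) - Curv2.deg k X E r * (r' : ℤ) := by ring
      have e2 : Curv2.deg k X (cokernel j) (r - r') * (r : ℤ) =
          Curv2.deg k X E r * (r : ℤ) - Curv2.deg k X G' r' * (r : ℤ) := by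
        rw [hdeg]; ring
      linarith
  · intro hsub F s p hp hs hF hni
    haveI := hp
    obtain ⟨u, hK, hrk, hdeg⟩ := ker_of_epi k X hreg hdim hE hF p
    have hr' : (r : ℤ) = (u : ℤ) + (s : ℤ) := by exact_mod_cast hrk
    rcases Nat.eq_zero_or_pos u with hu | hu
    · exfalso
      subst hu
      have hz := isZero_of_rank_zero hK
      haveI : Mono p := Preadditive.mono_of_isZero_kernel p hz
      exact hni (isIso_of_mono_of_epi p)
    · have hnι : ¬ IsIso (kernel.ι p) := by
        intro hι
        have hp0 : p = 0 := by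
          have : kernel.ι p ≫ p = kernel.ι p ≫ 0 := by
            rw [kernel.condition, comp_zero]
          exact (cancel_epi (kernel.ι p)).mp this
        have hid : 𝟙 F = 0 := by
          have : p ≫ 𝟙 F = p ≫ 0 := by rw [Category.comp_id, comp_zero, hp0]
          exact (cancel_epi p).mp this
        exact not_isZero_of_rank_pos X hs hF ((IsZero.iff_id_eq_zero F).mpr hid)
      have h1 := hsub (kernel p) u (kernel.ι p) inferInstance hu hK hnι
      have e1 : Curv2.deg k X F s * (r : ℤ) =
          Curv2.deg k X E r * (r : ℤ) - Curv2.deg k X (kernel p) u * (r : ℤ) := by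
        rw [hdeg]; ring
      have e2 : Curv2.deg k X E r * (r : ℤ) =
          Curv2.deg k X E r * (u : ℤ) + Curv2.deg k X E r * (s : ℤ) := by
        rw [hr']; ring
      linarith

end Groth.Agent.Lib.Helper67.SmCurve
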