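import Groth.Agent.Lib.Helper67.SmCurve12

/-!
# Semistable bundles of a fixed slope form an abelian subcategory (helper67)
-/

set_option autoImplicit false
set_option linter.style.haveILetI false
universe u
open AlgebraicGeometry CategoryTheory Limits Opposite TopologicalSpace Abelian

namespace Groth.Agent.Lib.Helper67.SmCurve

open Groth.Agent.Lib.Helper67.CurveDeg Groth.Agent.Lib.Helper67.CurveCoh
open Groth.Agent.Lib.Helper67.TensRank Groth.Agent.Lib.Helper67.CurveInv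
open Groth.Agent.Lib.Helper49 Groth.Agent.Lib.Helper18.LimFinLocFree

variable (k : Type u) [Field k] (X : Scheme.{u}) [X.Over (Spec (CommRingCat.of k))]

theorem deg_eq_of_iso {M N : X.Modules} (e : M ≅ N) (n : ℕ) :
    Curv2.deg k X M n = Curv2.deg k X N n := by
  unfold Curv2.deg
  rw [euler_eq_of_iso k e]

variable [IsIntegral X] [IsProper (X ↘ Spec (CommRingCat.of k))]
  (hreg : ∀ x : X, IsRegularLocalRing (X.presheaf.stalk x))
  (hdim : topologicalKrullDim X ≤ 1)

include hreg hdim in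
/-- numerical part: kernel and image of a map of semistable bundles of the same slope have that
slope -/
theorem ss_same_slope_ker_im {E F : X.Modules} {r s : ℕ} (hr : 0 < r) (hs : 0 < s)
    (hE : FlatMod.IsFinLocFreeOfRank r E) (hF : FlatMod.IsFinLocFreeOfRank s F)
    (hEss : ModFun.IsSlopeSemistable k X E r) (hFss : ModFun.IsSlopeSemistable k X F s)
    (hμ : Curv2.deg k X E r * (s : ℤ) = Curv2.deg k X F s * (r : ℤ)) (f : E ⟶ F) :
    ∃ u t : ℕ, FlatMod.IsFinLocFreeOfRank u (kernel f) ∧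
      FlatMod.IsFinLocFreeOfRank t (Abelian.coimage f) ∧ r = u + t ∧
      Curv2.deg k X (kernel f) u * (r : ℤ) = Curv2.deg k X E r * (u : ℤ) ∧
      Curv2.deg k X (Abelian.coimage f) t * (s : ℤ) = Curv2.deg k X F s * (t : ℤ) := by
  obtain ⟨hK, hI, hrk, hdeg, -⟩ := ker_coim k X hreg hdim hE hF f
  set u := rk (kernel f) with hu
  set t := rk (Abelian.coimage f) with ht
  refine ⟨u, t, hK, hI, hrk, ?_⟩
  set dE := Curv2.deg k X E r with hdE
  set dF := Curv2.deg k X F s with hdF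
  set dK := Curv2.deg k X (kernel f) u with hdK
  set dI := Curv2.deg k X (Abelian.coimage f) t with hdI
  have hrZ : (r : ℤ) = (u : ℤ) + (t : ℤ) := by exact_mod_cast hrk
  have hrpos : (0 : ℤ) < r := by exact_mod_cast hr
  have hspos : (0 : ℤ) < s := by exact_mod_cast hs
  rcases Nat.eq_zero_or_pos t with ht0 | htpos
  · -- image zero
    have hI0 : dI = 0 := by
      rw [hdI]
      have hI' := hI
      rw [ht0] at hI' ⊢
      exact deg_eq_zero_of_rank_zero k X hI'
    have hur : (u : ℤ) = r := by rw [hrZ, ht0]; simp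
    constructor
    · rw [hur]
      have : dE = dK := by rw [hdeg, hI0, add_zero]
      rw [this]
    · rw [hI0, ht0]; simp
  · rcases Nat.eq_zero_or_pos u with hu0 | hupos
    · have hK0 : dK = 0 := by
        rw [hdK]
        have hK' := hK
        rw [hu0] at hK' ⊢
        exact deg_eq_zero_of_rank_zero k X hK'
      have htr : (t : ℤ) = r := by rw [hrZ, hu0]; simp
      constructor
      · rw [hK0, hu0]; simp
      · have : dE = dI := by rw [hdeg, hK0, zero_add]
        rw [htr, ← this, hμ]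
    · have h1 := hFss (Abelian.coimage f) t (Abelian.factorThruCoimage f) inferInstance htpos hI
      have h2 := hEss (kernel f) u (kernel.ι f) inferInstance hupos hK
      change dI * (s : ℤ) ≤ dF * (t : ℤ) at h1
      change dK * (r : ℤ) ≤ dE * (u : ℤ) at h2
      -- dI * r ≥ dE * t
      have h3 : dE * (t : ℤ) ≤ dI * (r : ℤ) := by
        have e1 : dI * (r : ℤ) = dE * (r : ℤ) - dK * (r : ℤ) := by rw [hdeg]; ring
        have e2 : dE * (r : ℤ) = dE * (u : ℤ) + dE * (t : ℤ) := by rw [hrZ]; ring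
        linarith
      have h4 : dF * (t : ℤ) * (r : ℤ) ≤ dI * (s : ℤ) * (r : ℤ) := by
        have e1 : dE * (t : ℤ) * (s : ℤ) ≤ dI * (r : ℤ) * (s : ℤ) :=
          mul_le_mul_of_nonneg_right h3 hspos.le
        have e2 : dE * (t : ℤ) * (s : ℤ) = dF * (t : ℤ) * (r : ℤ) := by
          have : dE * (t : ℤ) * (s : ℤ) = (dE * (s : ℤ)) * (t : ℤ) := by ring
          rw [this, hμ]; ring
        have e3 : dI * (r : ℤ) * (s : ℤ) = dI * (s : ℤ) * (r : ℤ) := by ring
        linarith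
      have h5 : dF * (t : ℤ) ≤ dI * (s : ℤ) := le_of_mul_le_mul_right h4 hrpos
      have hI_eq : dI * (s : ℤ) = dF * (t : ℤ) := le_antisymm h1 h5
      refine ⟨?_, hI_eq⟩
      -- dI * r = dE * t
      have h6 : dI * (r : ℤ) = dE * (t : ℤ) := by
        have e1 : (dI * (r : ℤ)) * (s : ℤ) = (dE * (t : ℤ)) * (s : ℤ) := by
          have a1 : (dI * (r : ℤ)) * (s : ℤ) = (dI * (s : ℤ)) * (r : ℤ) := by ring
          have a2 : (dE * (t : ℤ)) * (s : ℤ) = (dE * (s : ℤ)) * (t : ℤ) := by ring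
          rw [a1, a2, hI_eq, hμ]; ring
        exact mul_right_cancel₀ hspos.ne' e1
      have e1 : dK * (r : ℤ) = dE * (r : ℤ) - dI * (r : ℤ) := by rw [hdeg]; ring
      have e2 : dE * (r : ℤ) = dE * (u : ℤ) + dE * (t : ℤ) := by rw [hrZ]; ring
      linarith

include hreg hdim in
/-- the kernel of a map of semistable bundles of the same slope is semistable of that slope -/
theorem ss_ker {E F : X.Modules} {r s : ℕ} (hr : 0 < r) (hs : 0 < s)
    (hE : FlatMod.IsFinLocFreeOfRank r E) (hF : FlatMod.IsFinLocFreeOfRank s F)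
    (hEss : ModFun.IsSlopeSemistable k X E r) (hFss : ModFun.IsSlopeSemistable k X F s)
    (hμ : Curv2.deg k X E r * (s : ℤ) = Curv2.deg k X F s * (r : ℤ)) (f : E ⟶ F) :
    ∃ r₀ : ℕ, FlatMod.IsFinLocFreeOfRank r₀ (kernel f) ∧
      Curv2.deg k X (kernel f) r₀ * (r : ℤ) = Curv2.deg k X E r * (r₀ : ℤ) ∧
      ∀ (G : X.Modules) (n : ℕ) (j : G ⟶ kernel f), Mono j → 0 < n →
        FlatMod.IsFinLocFreeOfRank n G →
        Curv2.deg k X G n * (r₀ : ℤ) ≤ Curv2.deg k X (kernel f) r₀ * (n : ℤ) := by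
  obtain ⟨u, t, hK, hI, hrk, hKeq, hIeq⟩ :=
    ss_same_slope_ker_im k X hreg hdim hr hs hE hF hEss hFss hμ f
  refine ⟨u, hK, hKeq, ?_⟩
  intro G n j hj hn hG
  haveI := hj
  have h1 := hEss G n (j ≫ kernel.ι f) (mono_comp _ _) hn hG
  have hrpos : (0 : ℤ) < r := by exact_mod_cast hr
  have hu0 : (0 : ℤ) ≤ u := Int.natCast_nonneg _
  have h2 : (Curv2.deg k X G n * (u : ℤ)) * (r : ℤ) ≤
      (Curv2.deg k X (kernel f) u * (n : ℤ)) * (r : ℤ) := by
    have e1 : (Curv2.deg k X G n * (u : ℤ)) * (r : ℤ) =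
        (Curv2.deg k X G n * (r : ℤ)) * (u : ℤ) := by ring
    have e2 : (Curv2.deg k X (kernel f) u * (n : ℤ)) * (r : ℤ) =
        (Curv2.deg k X E r * (n : ℤ)) * (u : ℤ) := by
      have : (Curv2.deg k X (kernel f) u * (n : ℤ)) * (r : ℤ) =
          (Curv2.deg k X (kernel f) u * (r : ℤ)) * (n : ℤ) := by ring
      rw [this, hKeq]; ring
    rw [e1, e2]
    exact mul_le_mul_of_nonneg_right h1 hu0
  exact le_of_mul_le_mul_right h2 hrpos

include hreg hdim in
/-- the cokernel of a map of semistable bundles of the same slope is locally free and semistable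
of that slope -/
theorem ss_coker {E F : X.Modules} {r s : ℕ} (hr : 0 < r) (hs : 0 < s)
    (hE : FlatMod.IsFinLocFreeOfRank r E) (hF : FlatMod.IsFinLocFreeOfRank s F)
    (hEss : ModFun.IsSlopeSemistable k X E r) (hFss : ModFun.IsSlopeSemistable k X F s)
    (hμ : Curv2.deg k X E r * (s : ℤ) = Curv2.deg k X F s * (r : ℤ)) (f : E ⟶ F) :
    ∃ s₀ : ℕ, FlatMod.IsFinLocFreeOfRank s₀ (cokernel f) ∧
      Curv2.deg k X (cokernel f) s₀ * (s : ℤ) = Curv2.deg k X F s * (s₀ : ℤ) ∧
      ∀ (G : X.Modules) (n : ℕ) (j : G ⟶ cokernel f), Mono j → 0 < n →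
        FlatMod.IsFinLocFreeOfRank n G →
        Curv2.deg k X G n * (s₀ : ℤ) ≤ Curv2.deg k X (cokernel f) s₀ * (n : ℤ) := by
  obtain ⟨u, t, hK, hI, hrk, hKeq, hIeq⟩ :=
    ss_same_slope_ker_im k X hreg hdim hr hs hE hF hEss hFss hμ f
  obtain ⟨I', j', a, hj', haj, hI', hcok, hts, hdeg, hdle, hiso⟩ :=
    exists_saturation k X hreg hdim hF hI (Abelian.factorThruCoimage f)
  haveI := hj'
  have hspos : (0 : ℤ) < s := by exact_mod_cast hs
  set dF := Curv2.deg k X F s with hdF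
  set dI := Curv2.deg k X (Abelian.coimage f) t with hdI
  set dI' := Curv2.deg k X I' t with hdI'
  set dC := Curv2.deg k X (cokernel j') (s - t) with hdC
  -- `dI = dI'`
  have heq : dI = dI' := by
    rcases Nat.eq_zero_or_pos t with ht0 | htpos
    · have hIz := hI
      have hI'z := hI'
      rw [hdI, hdI']
      rw [ht0] at hIz hI'z ⊢
      rw [deg_eq_zero_of_rank_zero k X hIz, deg_eq_zero_of_rank_zero k X hI'z]
    · have h1 := hFss I' t j' hj' htpos hI'
      change dI' * (s : ℤ) ≤ dF * (t : ℤ) at h1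
      rw [← hIeq] at h1
      exact le_antisymm hdle (le_of_mul_le_mul_right h1 hspos)
  haveI : IsIso a := hiso heq
  have hI'eq : dI' * (s : ℤ) = dF * (t : ℤ) := by rw [← heq]; exact hIeq
  -- `cokernel f ≅ cokernel j'`
  let e : cokernel f ≅ cokernel j' :=
    cokernelIsoOfEq (Abelian.coimage.fac f).symm ≪≫
      cokernelEpiComp (Abelian.coimage.π f) (Abelian.factorThruCoimage f) ≪≫
      cokernelIsoOfEq haj.symm ≪≫ cokernelEpiComp a j'
  have hcokf : FlatMod.IsFinLocFreeOfRank (s - t) (cokernel f) :=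
    isFinLocFreeOfRank_of_iso e.symm hcok
  have hdCf : Curv2.deg k X (cokernel f) (s - t) = dC := deg_eq_of_iso k X e (s - t)
  have hc : ((s - t : ℕ) : ℤ) = (s : ℤ) - (t : ℤ) := Nat.cast_sub hts
  have hCeq : dC * (s : ℤ) = dF * ((s - t : ℕ) : ℤ) := by
    rw [hc]
    have e1 : dC * (s : ℤ) = dF * (s : ℤ) - dI' * (s : ℤ) := by rw [hdeg]; ring
    rw [e1, hI'eq]; ring
  refine ⟨s - t, hcokf, by rw [hdCf]; exact hCeq, ?_⟩
  intro G n j hj hn hG
  haveI := hj
  rw [hdCf]
  have hT : (ShortComplex.mk j' (cokernel.π j') (cokernel.condition j')).ShortExact :=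
    ⟨ShortComplex.exact_of_g_is_cokernel _ (cokernelIsCokernel _)⟩
  obtain ⟨G'', j'', hj'', hG'', hdG''⟩ :=
    exists_preimage_sub k X hreg hdim hT hI' hF hcok hG (j ≫ e.hom)
  have h1 := hFss G'' (t + n) j'' hj'' (by omega) hG''
  rw [hdG''] at h1
  change (dI' + Curv2.deg k X G n) * (s : ℤ) ≤ dF * ((t + n : ℕ) : ℤ) at h1
  push_cast at h1
  have h2 : Curv2.deg k X G n * (s : ℤ) ≤ dF * (n : ℤ) := by
    have e1 : (dI' + Curv2.deg k X G n) * (s : ℤ) =
        dI' * (s : ℤ) + Curv2.deg k X G n * (s : ℤ) := by ring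
    have e2 : dF * ((t : ℤ) + (n : ℤ)) = dF * (t : ℤ) + dF * (n : ℤ) := by ring
    linarith
  have hs0 : (0 : ℤ) ≤ ((s - t : ℕ) : ℤ) := Int.natCast_nonneg _
  have h3 : (Curv2.deg k X G n * ((s - t : ℕ) : ℤ)) * (s : ℤ) ≤ (dC * (n : ℤ)) * (s : ℤ) := by
    have e1 : (Curv2.deg k X G n * ((s - t : ℕ) : ℤ)) * (s : ℤ) =
        (Curv2.deg k X G n * (s : ℤ)) * ((s - t : ℕ) : ℤ) := by ring
    have e2 : (dC * (n : ℤ)) * (s : ℤ) = (dF * (n : ℤ)) * ((s - t : ℕ) : ℤ) := by
      have : (dC * (n : ℤ)) * (s : ℤ) = (dC * (s : ℤ)) * (n : ℤ) := by ring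
      rw [this, hCeq]; ring
    rw [e1, e2]
    exact mul_le_mul_of_nonneg_right h2 hs0
  exact le_of_mul_le_mul_right h3 hspos

end Groth.Agent.Lib.Helper67.SmCurve
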