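import Groth.Agent.Lib.Helper67.SmCurve13

/-!
# The maximal destabilising submodule: the slope drops in the quotient; uniqueness (helper67)
-/

set_option autoImplicit false
set_option linter.style.haveILetI false
universe u
open AlgebraicGeometry CategoryTheory Limits Opposite TopologicalSpace Abelian

namespace Groth.Agent.Lib.Helper67.SmCurve

open Groth.Agent.Lib.Helper67.CurveDeg Groth.Agent.Lib.Helper67.CurveCoh
open Groth.Agent.Lib.Helper67.TensRank Groth.Agent.Lib.Helper67.CurveInv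
open Groth.Agent.Lib.Helper49 Groth.Agent.Lib.Helper18.LimFinLocFree

variable (k : Type u) [Field k] (X : Scheme.{u}) [X.Over (Spec (CommRingCat.of k))]
  [IsIntegral X] [IsProper (X ↘ Spec (CommRingCat.of k))]
  (hreg : ∀ x : X, IsRegularLocalRing (X.presheaf.stalk x))
  (hdim : topologicalKrullDim X ≤ 1)

include hreg hdim in
/-- the preimage in the middle term of a locally free submodule `G` of the (coherent) quotient of
a short exact sequence -/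
theorem exists_preimage_sub' {T : ShortComplex X.Modules} (hT : T.ShortExact) {r₁ r : ℕ}
    (hE₁ : FlatMod.IsFinLocFreeOfRank r₁ T.X₁) (hE : FlatMod.IsFinLocFreeOfRank r T.X₂)
    (hE₂c : Coh.IsCoh T.X₃) {G : X.Modules} {r' : ℕ}
    (hG : FlatMod.IsFinLocFreeOfRank r' G) (i : G ⟶ T.X₃) [Mono i] :
    ∃ (G' : X.Modules) (j : G' ⟶ T.X₂), Mono j ∧ FlatMod.IsFinLocFreeOfRank (r₁ + r') G' ∧
      Curv2.deg k X G' (r₁ + r') = Curv2.deg k X T.X₁ r₁ + Curv2.deg k X G r' := by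
  haveI := hT.epi_g
  have hEc := isCoh_of_rank hE
  have hE₁c := isCoh_of_rank hE₁
  have hGc := isCoh_of_rank hG
  have hQc : Coh.IsCoh (cokernel i) :=
    ⟨isQuasicoherent_cokernel i hGc.1 hE₂c.1, isFiniteType_of_epi (cokernel.π i) hE₂c.2⟩
  let q : T.X₂ ⟶ cokernel i := T.g ≫ cokernel.π i
  haveI : Epi q := epi_comp _ _
  have hG'q : (kernel q).IsQuasicoherent := isQuasicoherent_kernel q hEc.1 hQc.1
  have hG' := sub_rank k X hreg hdim (kernel.ι q) (isFinLocFree_of_rank hE) hG'q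
  have hS1 : (ShortComplex.mk (kernel.ι q) q (kernel.condition q)).ShortExact :=
    ⟨ShortComplex.exact_of_f_is_kernel _ (kernelIsKernel _)⟩
  have hS2 : (ShortComplex.mk i (cokernel.π i) (cokernel.condition i)).ShortExact :=
    ⟨ShortComplex.exact_of_g_is_cokernel _ (cokernelIsCokernel _)⟩
  have hG'c := isCoh_of_rank hG'
  -- ranks
  have k1 := rk_additive hS1 hEc
  have k2 := rk_additive hS2 hE₂c
  have k3 := rk_additive hT hEc
  change rk T.X₂ = rk (kernel q) + rk (cokernel i) at k1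
  change rk T.X₃ = rk G + rk (cokernel i) at k2
  rw [rk_eq_of_rank hE] at k1 k3
  rw [rk_eq_of_rank hG] at k2
  rw [rk_eq_of_rank hE₁] at k3
  have hrkG' : rk (kernel q) = r₁ + r' := by omega
  rw [hrkG'] at hG'
  -- Euler characteristics
  have e1 := euler_additive_of_coh k X hdim hS1 hG'c hEc hQc
  have e2 := euler_additive_of_coh k X hdim hS2 hGc hE₂c hQc
  have e3 := euler_additive_of_coh k X hdim hT hE₁c hEc hE₂c
  change Curv2.euler k X T.X₂ = Curv2.euler k X (kernel q) + Curv2.euler k X (cokernel i) at e1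
  change Curv2.euler k X T.X₃ = Curv2.euler k X G + Curv2.euler k X (cokernel i) at e2
  refine ⟨kernel q, kernel.ι q, inferInstance, hG', ?_⟩
  unfold Curv2.deg
  push_cast
  linarith

include hreg hdim in
/-- for a submodule `E₁ ⊂ E` of maximal slope and, among those, maximal rank, every locally free
submodule of `E/E₁` has strictly smaller slope -/
theorem slope_drop {E E₁ : X.Modules} {r r₁ : ℕ} (hE : FlatMod.IsFinLocFreeOfRank r E)
    (hr₁ : 0 < r₁) (hE₁ : FlatMod.IsFinLocFreeOfRank r₁ E₁) (i₁ : E₁ ⟶ E) [Mono i₁]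
    (hA : ∀ (G : X.Modules) (r' : ℕ) (j : G ⟶ E), Mono j → 0 < r' →
        FlatMod.IsFinLocFreeOfRank r' G →
        Curv2.deg k X G r' * (r₁ : ℤ) ≤ Curv2.deg k X E₁ r₁ * (r' : ℤ))
    (hA2 : ∀ (G : X.Modules) (r' : ℕ) (j : G ⟶ E), Mono j → 0 < r' →
        FlatMod.IsFinLocFreeOfRank r' G →
        Curv2.deg k X G r' * (r₁ : ℤ) = Curv2.deg k X E₁ r₁ * (r' : ℤ) → r' ≤ r₁)
    (Q : X.Modules) (s : ℕ) (j : Q ⟶ cokernel i₁) (hj : Mono j) (hs : 0 < s)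
    (hQ : FlatMod.IsFinLocFreeOfRank s Q) :
    Curv2.deg k X Q s * (r₁ : ℤ) < Curv2.deg k X E₁ r₁ * (s : ℤ) := by
  haveI := hj
  have hEc := isCoh_of_rank hE
  have hE₁c := isCoh_of_rank hE₁
  have hCc : Coh.IsCoh (cokernel i₁) :=
    ⟨isQuasicoherent_cokernel i₁ hE₁c.1 hEc.1, isFiniteType_of_epi (cokernel.π i₁) hEc.2⟩
  have hT : (ShortComplex.mk i₁ (cokernel.π i₁) (cokernel.condition i₁)).ShortExact :=
    ⟨ShortComplex.exact_of_g_is_cokernel _ (cokernelIsCokernel _)⟩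
  obtain ⟨G', j', hj', hG', hdG'⟩ :=
    exists_preimage_sub' k X hreg hdim hT hE₁ hE hCc hQ j
  have h1 := hA G' (r₁ + s) j' hj' (by omega) hG'
  have h2 := hA2 G' (r₁ + s) j' hj' (by omega) hG'
  rw [hdG'] at h1 h2
  push_cast at h1 h2
  have e1 : (Curv2.deg k X E₁ r₁ + Curv2.deg k X Q s) * (r₁ : ℤ) =
      Curv2.deg k X E₁ r₁ * (r₁ : ℤ) + Curv2.deg k X Q s * (r₁ : ℤ) := by ring
  have e2 : Curv2.deg k X E₁ r₁ * ((r₁ : ℤ) + (s : ℤ)) =
      Curv2.deg k X E₁ r₁ * (r₁ : ℤ) + Curv2.deg k X E₁ r₁ * (s : ℤ) := by ring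
  rw [e1, e2] at h1 h2
  have hle : Curv2.deg k X Q s * (r₁ : ℤ) ≤ Curv2.deg k X E₁ r₁ * (s : ℤ) := by linarith
  refine lt_of_le_of_ne hle (fun heq => ?_)
  have := h2 (by linarith)
  omega

include hreg hdim in
/-- a submodule of maximal slope is saturated: the quotient is locally free -/
theorem coker_locFree_of_max {E E₁ : X.Modules} {r r₁ : ℕ} (hE : FlatMod.IsFinLocFreeOfRank r E)
    (hr₁ : 0 < r₁) (hE₁ : FlatMod.IsFinLocFreeOfRank r₁ E₁) (i₁ : E₁ ⟶ E) [Mono i₁]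
    (hA : ∀ (G : X.Modules) (r' : ℕ) (j : G ⟶ E), Mono j → 0 < r' →
        FlatMod.IsFinLocFreeOfRank r' G →
        Curv2.deg k X G r' * (r₁ : ℤ) ≤ Curv2.deg k X E₁ r₁ * (r' : ℤ)) :
    FlatMod.IsFinLocFreeOfRank (r - r₁) (cokernel i₁) := by
  obtain ⟨S, jS, a, hjS, haj, hS, hcok, hle, hdeg, hdle, hiso⟩ :=
    exists_saturation k X hreg hdim hE hE₁ i₁
  have hpos : (0 : ℤ) < r₁ := by exact_mod_cast hr₁
  have h1 := hA S r₁ jS hjS hr₁ hS
  have h2 : Curv2.deg k X S r₁ ≤ Curv2.deg k X E₁ r₁ := le_of_mul_le_mul_right h1 hpos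
  haveI : IsIso a := hiso (le_antisymm hdle h2)
  let e : cokernel i₁ ≅ cokernel jS := cokernelIsoOfEq haj.symm ≪≫ cokernelEpiComp a jS
  exact isFinLocFreeOfRank_of_iso e.symm hcok

include hreg hdim in
/-- another submodule `E₁'` of maximal slope lies in a maximal destabilising submodule `E₁` -/
theorem factor_of_max {E E₁ E₁' : X.Modules} {r r₁ r₁' : ℕ}
    (hE : FlatMod.IsFinLocFreeOfRank r E)
    (hr₁ : 0 < r₁) (hE₁ : FlatMod.IsFinLocFreeOfRank r₁ E₁) (i₁ : E₁ ⟶ E) [Mono i₁]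
    (hA : ∀ (G : X.Modules) (r' : ℕ) (j : G ⟶ E), Mono j → 0 < r' →
        FlatMod.IsFinLocFreeOfRank r' G →
        Curv2.deg k X G r' * (r₁ : ℤ) ≤ Curv2.deg k X E₁ r₁ * (r' : ℤ))
    (hB : ∀ (Q : X.Modules) (s : ℕ) (j : Q ⟶ cokernel i₁), Mono j → 0 < s →
        FlatMod.IsFinLocFreeOfRank s Q →
        Curv2.deg k X Q s * (r₁ : ℤ) < Curv2.deg k X E₁ r₁ * (s : ℤ))
    (hr₁' : 0 < r₁') (hE₁' : FlatMod.IsFinLocFreeOfRank r₁' E₁') (i₁' : E₁' ⟶ E) [Mono i₁']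
    (hA' : ∀ (G : X.Modules) (r' : ℕ) (j : G ⟶ E), Mono j → 0 < r' →
        FlatMod.IsFinLocFreeOfRank r' G →
        Curv2.deg k X G r' * (r₁' : ℤ) ≤ Curv2.deg k X E₁' r₁' * (r' : ℤ)) :
    ∃ c : E₁' ⟶ E₁, c ≫ i₁ = i₁' := by
  have hC₁ := coker_locFree_of_max k X hreg hdim hE hr₁ hE₁ i₁ hA
  have hμ1 := hA E₁' r₁' i₁' inferInstance hr₁' hE₁'
  have hμ2 := hA' E₁ r₁ i₁ inferInstance hr₁ hE₁
  have hμ : Curv2.deg k X E₁ r₁ * (r₁' : ℤ) = Curv2.deg k X E₁' r₁' * (r₁ : ℤ) :=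
    le_antisymm hμ2 hμ1
  suffices hφ : i₁' ≫ cokernel.π i₁ = 0 from
    ⟨Abelian.monoLift i₁ i₁' hφ, Abelian.monoLift_comp i₁ i₁' hφ⟩
  by_contra hφ
  obtain ⟨K, I, u, t, a, b, ha, hb, hK, hI, hrk, ht, -, hdeg, -, -⟩ :=
    exists_ker_im k X hreg hdim hE₁' hC₁ (i₁' ≫ cokernel.π i₁) hφ
  haveI := ha
  have h1 := hB I t b hb ht hI
  set dE₁ := Curv2.deg k X E₁ r₁ with hdE₁
  set dE₁' := Curv2.deg k X E₁' r₁' with hdE₁'
  set dK := Curv2.deg k X K u with hdK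
  set dI := Curv2.deg k X I t with hdI
  have hrZ : (r₁' : ℤ) = (u : ℤ) + (t : ℤ) := by exact_mod_cast hrk
  have hpos : (0 : ℤ) < r₁ := by exact_mod_cast hr₁
  have hpos' : (0 : ℤ) < r₁' := by exact_mod_cast hr₁'
  have h2 : dK * (r₁' : ℤ) ≤ dE₁' * (u : ℤ) := by
    rcases Nat.eq_zero_or_pos u with hu | hu
    · have hK' := hK
      have : dK = 0 := by
        rw [hdK]
        rw [hu] at hK' ⊢
        exact deg_eq_zero_of_rank_zero k X hK'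
      rw [this, hu]; simp
    · exact hA' K u (a ≫ i₁') (mono_comp _ _) hu hK
  have h3 : dE₁' * (t : ℤ) ≤ dI * (r₁' : ℤ) := by
    have e1 : dI * (r₁' : ℤ) = dE₁' * (r₁' : ℤ) - dK * (r₁' : ℤ) := by rw [hdeg]; ring
    have e2 : dE₁' * (r₁' : ℤ) = dE₁' * (u : ℤ) + dE₁' * (t : ℤ) := by rw [hrZ]; ring
    linarith
  have h4 : dI * (r₁ : ℤ) * (r₁' : ℤ) < dE₁ * (t : ℤ) * (r₁' : ℤ) :=
    mul_lt_mul_of_pos_right h1 hpos'
  have h5 : dE₁' * (t : ℤ) * (r₁ : ℤ) ≤ dI * (r₁' : ℤ) * (r₁ : ℤ) :=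
    mul_le_mul_of_nonneg_right h3 hpos.le
  have e3 : dE₁ * (t : ℤ) * (r₁' : ℤ) = dE₁' * (t : ℤ) * (r₁ : ℤ) := by
    have : dE₁ * (t : ℤ) * (r₁' : ℤ) = (dE₁ * (r₁' : ℤ)) * (t : ℤ) := by ring
    rw [this, hμ]; ring
  have e4 : dI * (r₁' : ℤ) * (r₁ : ℤ) = dI * (r₁ : ℤ) * (r₁' : ℤ) := by ring
  linarith

include hreg hdim in
/-- **uniqueness of the maximal destabilising submodule** -/
theorem max_destab_unique {E E₁ E₁' : X.Modules} {r r₁ r₁' : ℕ}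
    (hE : FlatMod.IsFinLocFreeOfRank r E)
    (hr₁ : 0 < r₁) (hE₁ : FlatMod.IsFinLocFreeOfRank r₁ E₁) (i₁ : E₁ ⟶ E) [Mono i₁]
    (hA : ∀ (G : X.Modules) (r' : ℕ) (j : G ⟶ E), Mono j → 0 < r' →
        FlatMod.IsFinLocFreeOfRank r' G →
        Curv2.deg k X G r' * (r₁ : ℤ) ≤ Curv2.deg k X E₁ r₁ * (r' : ℤ))
    (hB : ∀ (Q : X.Modules) (s : ℕ) (j : Q ⟶ cokernel i₁), Mono j → 0 < s →
        FlatMod.IsFinLocFreeOfRank s Q →
        Curv2.deg k X Q s * (r₁ : ℤ) < Curv2.deg k X E₁ r₁ * (s : ℤ))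
    (hr₁' : 0 < r₁') (hE₁' : FlatMod.IsFinLocFreeOfRank r₁' E₁') (i₁' : E₁' ⟶ E) [Mono i₁']
    (hA' : ∀ (G : X.Modules) (r' : ℕ) (j : G ⟶ E), Mono j → 0 < r' →
        FlatMod.IsFinLocFreeOfRank r' G →
        Curv2.deg k X G r' * (r₁' : ℤ) ≤ Curv2.deg k X E₁' r₁' * (r' : ℤ))
    (hB' : ∀ (Q : X.Modules) (s : ℕ) (j : Q ⟶ cokernel i₁'), Mono j → 0 < s →
        FlatMod.IsFinLocFreeOfRank s Q →
        Curv2.deg k X Q s * (r₁' : ℤ) < Curv2.deg k X E₁' r₁' * (s : ℤ)) :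
    ∃ e : E₁ ≅ E₁', e.hom ≫ i₁' = i₁ := by
  obtain ⟨c, hc⟩ := factor_of_max k X hreg hdim hE hr₁ hE₁ i₁ hA hB hr₁' hE₁' i₁' hA'
  obtain ⟨d, hd⟩ := factor_of_max k X hreg hdim hE hr₁' hE₁' i₁' hA' hB' hr₁ hE₁ i₁ hA
  refine ⟨⟨d, c, ?_, ?_⟩, hd⟩
  · rw [← cancel_mono i₁, Category.assoc, hc, hd, Category.id_comp]
  · rw [← cancel_mono i₁', Category.assoc, hd, hc, Category.id_comp]

end Groth.Agent.Lib.Helper67.SmCurve
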