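import Groth.Agent.Lib.Helper67.SmCurve15

/-!
# Nefness (curve-test form) and extensions (helper67)
-/

set_option autoImplicit false
set_option linter.style.haveILetI false
universe u
open AlgebraicGeometry CategoryTheory Limits Opposite TopologicalSpace Abelian

namespace Groth.Agent.Lib.Helper67.SmCurve

open Groth.Agent.Lib.Helper67.CurveDeg Groth.Agent.Lib.Helper67.CurveCoh
open Groth.Agent.Lib.Helper67.TensRank Groth.Agent.Lib.Helper67.CurveInv
open Groth.Agent.Lib.Helper67.CurveTors
open Groth.Agent.Lib.Helper49 Groth.Agent.Lib.Helper18.LimFinLocFree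

/-- a locally free module of rank one is invertible -/
theorem isInvertible_of_rank_one {X : Scheme.{u}} {L : X.Modules}
    (hL : FlatMod.IsFinLocFreeOfRank 1 L) : PicF.IsInvertible L := by
  intro x
  obtain ⟨U, hxU, ⟨e⟩⟩ := hL x
  exact ⟨U, hxU, ⟨e ≪≫ Limits.coproductUniqueIso
    (fun _ : Fin 1 => Coh.structureModule (U : Scheme.{u}))⟩⟩

variable (k : Type u) [Field k] (X : Scheme.{u}) [X.Over (Spec (CommRingCat.of k))]
  [IsIntegral X] [IsProper (X ↘ Spec (CommRingCat.of k))]
  (hreg : ∀ x : X, IsRegularLocalRing (X.presheaf.stalk x))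
  (hdim : topologicalKrullDim X ≤ 1)

include hreg hdim in
/-- invertible quotients of an extension of modules whose invertible quotients have nonnegative
degree have nonnegative degree -/
theorem deg_nonneg_of_quot_ext {A B D : X.Modules} (a : A ⟶ B) (b : B ⟶ D) (w : a ≫ b = 0)
    (hb : IsColimit (CokernelCofork.ofπ b w)) (hA : A.IsQuasicoherent)
    (nefA : ∀ (N : X.Modules), PicF.IsInvertible N → ∀ (p : A ⟶ N), Epi p →
      0 ≤ Curv2.deg k X N 1)
    (nefD : ∀ (N : X.Modules), PicF.IsInvertible N → ∀ (p : D ⟶ N), Epi p →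
      0 ≤ Curv2.deg k X N 1)
    (M : X.Modules) (hM : PicF.IsInvertible M) (q : B ⟶ M) [Epi q] :
    0 ≤ Curv2.deg k X M 1 := by
  have hM1 := rank_one_of_isInvertible hM
  have hMc := isCoh_of_rank hM1
  by_cases hφ : a ≫ q = 0
  · -- `q` factors through `D`
    let q' : D ⟶ M := hb.desc (CokernelCofork.ofπ q hφ)
    have hq' : b ≫ q' = q := Cofork.IsColimit.π_desc hb
    haveI : Epi (b ≫ q') := by rw [hq']; infer_instance
    haveI : Epi q' := epi_of_epi b q'
    exact nefD M hM q' inferInstance
  · set φ := a ≫ q with hφdef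
    have hIq : (Abelian.image φ).IsQuasicoherent :=
      isQuasicoherent_kernel (cokernel.π φ) hMc.1 (isQuasicoherent_cokernel φ hA hMc.1)
    have hI := sub_rank k X hreg hdim (Abelian.image.ι φ) (isFinLocFree_of_rank hM1) hIq
    have hle := rk_le_of_mono k X hreg hdim hM1 (Abelian.image.ι φ)
    have hne : rk (Abelian.image φ) ≠ 0 := by
      intro h0
      rw [h0] at hI
      have hz := isZero_of_rank_zero hI
      apply hφ
      rw [← Abelian.image.fac φ, hz.eq_of_tgt (Abelian.factorThruImage φ) 0, zero_comp]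
    have h1 : rk (Abelian.image φ) = 1 := by omega
    rw [h1] at hI
    have h2 := nefA (Abelian.image φ) (isInvertible_of_rank_one hI) (Abelian.factorThruImage φ)
      inferInstance
    have h3 := (deg_le_of_mono_same_rank k X hdim hI hM1 (Abelian.image.ι φ)).1
    linarith

end Groth.Agent.Lib.Helper67.SmCurve
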