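import Groth.Agent.Lib.Helper67.SmCurve16
import Groth.Agent.Lib.Helper67.HomFin
import Groth.Agent.Lib.Helper11.InvDual
import Groth.Agent.S7637

/-!
# Normalized bundles: maps from invertible modules (helper67)
-/

set_option autoImplicit false
set_option linter.style.haveILetI false
universe u
open AlgebraicGeometry CategoryTheory Limits Opposite TopologicalSpace Abelian

namespace Groth.Agent.Lib.Helper67.SmCurve

open Groth.Agent.Lib.Helper67.CurveDeg Groth.Agent.Lib.Helper67.CurveCoh
open Groth.Agent.Lib.Helper67.TensRank Groth.Agent.Lib.Helper67.CurveInv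
open Groth.Agent.Lib.Helper67.CurveTors
open Groth.Agent.Lib.Helper49 Groth.Agent.Lib.Helper18.LimFinLocFree

/-- a nonzero class in `H⁰` gives a nonzero morphism from the structure module -/
theorem exists_hom_ne_zero_of_nontrivial {X : Scheme.{u}} (E : X.Modules)
    (h : Nontrivial (Coh.HH X E 0)) : ∃ σ : Coh.structureModule X ⟶ E, σ ≠ 0 := by
  obtain ⟨x, hx⟩ := exists_ne (0 : Coh.HH X E 0)
  set t := Groth.Agent.Lib.Helper17.HZero.hh0Equiv E x with ht
  have ht0 : t ≠ 0 := by
    intro h0
    apply hx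
    apply (Groth.Agent.Lib.Helper17.HZero.hh0Equiv E).injective
    rw [← ht, h0, map_zero]
  refine ⟨Groth.Agent.Lib.Helper11.GenLocus.homOfSection E t, fun h0 => ht0 ?_⟩
  have h1 := Groth.Agent.Lib.Helper11.GenLocus.sec_homOfSection E t ⊤
  rw [h0] at h1
  have h2 : Groth.Agent.Lib.Helper11.GenLocus.sec (0 : Coh.structureModule X ⟶ E) ⊤ = 0 := rfl
  rw [h2] at h1
  have h3 : Groth.Agent.Lib.Helper49.mres E (le_top : (⊤ : X.Opens) ≤ ⊤) t = t :=
    Groth.Agent.Lib.Helper49.mres_self (F := E) t
  rw [h3] at h1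
  exact h1.symm

variable (k : Type u) [Field k] (X : Scheme.{u}) [X.Over (Spec (CommRingCat.of k))]
  [IsProper (X ↘ Spec (CommRingCat.of k))]
  (hdim : topologicalKrullDim X ≤ 1)

include hdim in
/-- the dual of an invertible module has the opposite degree -/
theorem deg_dual {N : X.Modules} (hN : PicF.IsInvertible N) :
    Curv2.deg k X (RefHull.dual N) 1 = - Curv2.deg k X N 1 := by
  have hN1 := rank_one_of_isInvertible hN
  have hD := Groth.Agent.Lib.Helper11.InvDual.isInvertible_dual hN
  have hD1 := rank_one_of_isInvertible hD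
  have h1 := Groth.Agent.S7637.result k X hdim 1 1 N (RefHull.dual N) hN1 hD1
  have h2 := deg_eq_of_iso k X (Groth.Agent.Lib.Helper11.InvDual.tensorDualIso hN) 1
  have hdegO : Curv2.deg k X (Coh.structureModule X) 1 = 0 := by
    unfold Curv2.deg
    simp
  rw [hdegO] at h2
  have h3 : Curv2.deg k X (CohB1.tensorMod N (RefHull.dual N)) (1 * 1) =
      Curv2.deg k X (CohB1.tensorMod N (RefHull.dual N)) 1 := by rw [Nat.mul_one]
  rw [h3, h2] at h1
  push_cast at h1
  linarith

include hdim in
/-- if `H⁰(E ⊗ M) = 0` for all invertible `M` of negative degree, then invertible modules mapping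
nontrivially to `E` have degree `≤ 0` -/
theorem deg_le_zero_of_hom_ne_zero {E : X.Modules}
    (hneg : ∀ M : X.Modules, PicF.IsInvertible M → Curv2.deg k X M 1 < 0 →
      Subsingleton (Coh.HH X (CohB1.tensorMod E M) 0))
    {N : X.Modules} (hN : PicF.IsInvertible N) (f : N ⟶ E) (hf : f ≠ 0) :
    Curv2.deg k X N 1 ≤ 0 := by
  by_contra hpos
  rw [not_le] at hpos
  have hD := Groth.Agent.Lib.Helper11.InvDual.isInvertible_dual hN
  have hdeg := deg_dual k X hdim hN
  haveI := hneg (RefHull.dual N) hD (by rw [hdeg]; linarith)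
  have hinj := Groth.Agent.Lib.Helper67.HomFin.homToHH_injective k
    (Groth.Agent.Lib.Helper11.FinFreeAdj.dualPairOfFinLocFree
      (isFinLocFree_of_rank (rank_one_of_isInvertible hN))).symm E
  exact hf (hinj (Subsingleton.elim _ _))

end Groth.Agent.Lib.Helper67.SmCurve
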