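import Groth.Agent.Lib.Helper67.SmCurve1

/-!
# Ranks, kernels and images of maps of locally free modules on regular proper curves (helper67)
-/

set_option autoImplicit false
set_option linter.style.haveILetI false
universe u
open AlgebraicGeometry CategoryTheory Limits Opposite TopologicalSpace Abelian

namespace Groth.Agent.Lib.Helper67.SmCurve

open Groth.Agent.Lib.Helper67.CurveDeg Groth.Agent.Lib.Helper67.CurveCoh
open Groth.Agent.Lib.Helper67.TensRank Groth.Agent.Lib.Helper67.CurveInv
open Groth.Agent.Lib.Helper49 Groth.Agent.Lib.Helper18.LimFinLocFree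

section Rank

variable {X : Scheme.{u}} [IsIntegral X]

/-- on an integral scheme a finite locally free module has constant rank `rk M` -/
theorem isFinLocFreeOfRank_rk {M : X.Modules} (hM : FlatMod.IsFinLocFree M) :
    FlatMod.IsFinLocFreeOfRank (rk M) M := by
  haveI := isQuasicoherent_of_isFinLocFree M hM
  have h1 := (isFinLocFree_iff_rankAt M).mp hM
  obtain ⟨n, hn⟩ := h1 (genericPoint X)
  have hall : ∀ x, RankAt M n x := by
    intro x
    obtain ⟨m, hm⟩ := h1 x
    have hξ : RankAt M m (genericPoint X) :=
      ((genericPoint_spec X).specializes (Set.mem_univ x)).mem_open (isOpen_setOf_rankAt M m) hm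
    rw [RankAt.unique hn hξ]
    exact hm
  have hrank := (isFinLocFreeOfRank_iff_rankAt M n).mpr hall
  have : rk M = n := (stalk_of_rank hrank (genericPoint X)).2.2
  rw [this]
  exact hrank

theorem rk_eq_of_rank {M : X.Modules} {n : ℕ} (hM : FlatMod.IsFinLocFreeOfRank n M) :
    rk M = n := (stalk_of_rank hM (genericPoint X)).2.2

omit [IsIntegral X] in
/-- a locally free module of rank zero is zero -/
theorem isZero_of_rank_zero {M : X.Modules} (hM : FlatMod.IsFinLocFreeOfRank 0 M) : IsZero M := by
  rw [Helper45.isZero_iff_stalk_subsingleton]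
  intro x
  obtain ⟨hfree, hfin, hr⟩ := stalk_of_rank hM x
  haveI := hfree
  haveI := hfin
  exact (Module.finrank_eq_zero_iff_of_free _ _).mp hr

end Rank

end Groth.Agent.Lib.Helper67.SmCurve
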