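import Groth.Agent.Lib.Helper67.SmCurve2

/-!
# Kernels and images of maps of locally free modules on regular proper integral curves (helper67)
-/

set_option autoImplicit false
set_option linter.style.haveILetI false
universe u
open AlgebraicGeometry CategoryTheory Limits Opposite TopologicalSpace Abelian

namespace Groth.Agent.Lib.Helper67.SmCurve

open Groth.Agent.Lib.Helper67.CurveDeg Groth.Agent.Lib.Helper67.CurveCoh
open Groth.Agent.Lib.Helper67.TensRank Groth.Agent.Lib.Helper67.CurveInv
open Groth.Agent.Lib.Helper49 Groth.Agent.Lib.Helper18.LimFinLocFree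

variable (k : Type u) [Field k] (X : Scheme.{u}) [X.Over (Spec (CommRingCat.of k))]
  [IsIntegral X] [IsProper (X ↘ Spec (CommRingCat.of k))]
  (hreg : ∀ x : X, IsRegularLocalRing (X.presheaf.stalk x))
  (hdim : topologicalKrullDim X ≤ 1)

include k hreg hdim in
/-- quasi-coherent submodules of locally free modules are locally free of constant rank -/
theorem sub_rank {G E : X.Modules} (ι : G ⟶ E) [Mono ι] (hE : FlatMod.IsFinLocFree E)
    (hG : G.IsQuasicoherent) : FlatMod.IsFinLocFreeOfRank (rk G) G := by
  haveI : IsNoetherian X :=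
    Groth.Agent.Lib.Helper67.CurveP1.isNoetherian_of_proper k (X ↘ Spec (CommRingCat.of k))
  exact isFinLocFreeOfRank_rk (isFinLocFree_of_mono hreg hdim ι hE hG)

/-- the short exact sequence `0 → ker f → E → coim f → 0` -/
theorem shortExact_ker_coim {E F : X.Modules} (f : E ⟶ F) :
    (ShortComplex.mk (kernel.ι f) (Abelian.coimage.π f) (cokernel.condition _)).ShortExact :=
  ⟨ShortComplex.exact_of_g_is_cokernel _ (cokernelIsCokernel _)⟩

include k hreg hdim in
/-- **kernel and image of a map of locally free modules on a regular proper curve** -/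
theorem ker_coim {E F : X.Modules} {r s : ℕ} (hE : FlatMod.IsFinLocFreeOfRank r E)
    (hF : FlatMod.IsFinLocFreeOfRank s F) (f : E ⟶ F) :
    FlatMod.IsFinLocFreeOfRank (rk (kernel f)) (kernel f) ∧
    FlatMod.IsFinLocFreeOfRank (rk (Abelian.coimage f)) (Abelian.coimage f) ∧
    r = rk (kernel f) + rk (Abelian.coimage f) ∧
    Curv2.deg k X E r = Curv2.deg k X (kernel f) (rk (kernel f)) +
      Curv2.deg k X (Abelian.coimage f) (rk (Abelian.coimage f)) ∧
    (f ≠ 0 → 0 < rk (Abelian.coimage f)) := by
  have hEc := isCoh_of_rank hE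
  have hFc := isCoh_of_rank hF
  have hKq : (kernel f).IsQuasicoherent := isQuasicoherent_kernel f hEc.1 hFc.1
  have hIq : (Abelian.coimage f).IsQuasicoherent :=
    isQuasicoherent_cokernel (kernel.ι f) hKq hEc.1
  have hK := sub_rank k X hreg hdim (kernel.ι f) (isFinLocFree_of_rank hE) hKq
  have hI := sub_rank k X hreg hdim (Abelian.factorThruCoimage f) (isFinLocFree_of_rank hF) hIq
  have hS := shortExact_ker_coim X f
  have hrk := rk_additive hS hEc
  change rk E = rk (kernel f) + rk (Abelian.coimage f) at hrk
  rw [rk_eq_of_rank hE] at hrk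
  refine ⟨hK, hI, hrk, deg_additive k X hdim hS hK hE hI, ?_⟩
  intro hf
  by_contra h0
  have h0' : rk (Abelian.coimage f) = 0 := by omega
  rw [h0'] at hI
  have hz := isZero_of_rank_zero hI
  apply hf
  rw [← Abelian.coimage.fac f, hz.eq_of_tgt (Abelian.coimage.π f) 0, zero_comp]

include hdim in
/-- **a submodule of full rank has smaller degree, with equality only for isomorphisms** -/
theorem deg_le_of_mono_same_rank {G E : X.Modules} {r : ℕ}
    (hG : FlatMod.IsFinLocFreeOfRank r G) (hE : FlatMod.IsFinLocFreeOfRank r E)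
    (ι : G ⟶ E) [Mono ι] :
    Curv2.deg k X G r ≤ Curv2.deg k X E r ∧
      (Curv2.deg k X G r = Curv2.deg k X E r → IsIso ι) := by
  letI : Field (X.presheaf.stalk (genericPoint X)) := inferInstanceAs (Field X.functionField)
  obtain ⟨-, hGfin, hGr⟩ := stalk_of_rank hG (genericPoint X)
  obtain ⟨-, hEfin, hEr⟩ := stalk_of_rank hE (genericPoint X)
  haveI := hGfin
  haveI := hEfin
  have hinj : Function.Injective (stalkMapLinear ι (genericPoint X)) :=
    stalkMap_injective_of_mono ι _
  have hsurj : Function.Surjective (stalkMapLinear ι (genericPoint X)) :=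
    (LinearMap.injective_iff_surjective_of_finrank_eq_finrank (by rw [hGr, hEr])).mp hinj
  have hgen : Subsingleton ((cokernel ι).presheaf.stalk (genericPoint X)) :=
    (subsingleton_stalk_cokernel_iff ι (genericPoint X)).mpr hsurj
  obtain ⟨h1, h2⟩ := main_mono k X hdim (isCoh_of_rank hG) (isCoh_of_rank hE) ι hgen
  unfold Curv2.deg
  constructor
  · have := Int.natCast_nonneg (Module.finrank k (Coh.HH X (cokernel ι) 0))
    linarith
  · intro heq
    apply h2.mp
    have : (Module.finrank k (Coh.HH X (cokernel ι) 0) : ℤ) = 0 := by linarith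
    exact_mod_cast this

end Groth.Agent.Lib.Helper67.SmCurve
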