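import Groth.Agent.Lib.Helper67.SmCurve3

/-!
# Slope inequalities for maps of locally free modules on regular proper integral curves (helper67)
-/

set_option autoImplicit false
set_option linter.style.haveILetI false
universe u
open AlgebraicGeometry CategoryTheory Limits Opposite TopologicalSpace Abelian

namespace Groth.Agent.Lib.Helper67.SmCurve

open Groth.Agent.Lib.Helper67.CurveDeg Groth.Agent.Lib.Helper67.CurveCoh
open Groth.Agent.Lib.Helper67.TensRank Groth.Agent.Lib.Helper67.CurveInv
open Groth.Agent.Lib.Helper49 Groth.Agent.Lib.Helper18.LimFinLocFree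

variable (k : Type u) [Field k] (X : Scheme.{u}) [X.Over (Spec (CommRingCat.of k))]

theorem euler_eq_zero_of_isZero {M : X.Modules} (hM : IsZero M) : Curv2.euler k X M = 0 := by
  unfold Curv2.euler
  refine finsum_eq_zero_of_forall_eq_zero fun i => ?_
  haveI := Helper1.subsingleton_HH_of_isZero hM i
  simp [Module.finrank_zero_of_subsingleton]

theorem deg_eq_zero_of_rank_zero {M : X.Modules} (hM : FlatMod.IsFinLocFreeOfRank 0 M) :
    Curv2.deg k X M 0 = 0 := by
  unfold Curv2.deg
  rw [euler_eq_zero_of_isZero k X (isZero_of_rank_zero hM)]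
  simp

variable [IsIntegral X] [IsProper (X ↘ Spec (CommRingCat.of k))]
  (hreg : ∀ x : X, IsRegularLocalRing (X.presheaf.stalk x))
  (hdim : topologicalKrullDim X ≤ 1)

include hreg hdim in
/-- **maps from a semistable bundle to a bundle of smaller maximal slope vanish** -/
theorem hom_eq_zero_of_slope {E F : X.Modules} {r s : ℕ} (hr : 0 < r)
    (hE : FlatMod.IsFinLocFreeOfRank r E) (hF : FlatMod.IsFinLocFreeOfRank s F)
    (hEss : ∀ (G : X.Modules) (r' : ℕ) (i : G ⟶ E), Mono i → 0 < r' →
      FlatMod.IsFinLocFreeOfRank r' G →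
      Curv2.deg k X G r' * (r : ℤ) ≤ Curv2.deg k X E r * (r' : ℤ))
    (hmax : ∀ (G : X.Modules) (r' : ℕ) (i : G ⟶ F), Mono i → 0 < r' →
      FlatMod.IsFinLocFreeOfRank r' G →
      Curv2.deg k X G r' * (r : ℤ) < Curv2.deg k X E r * (r' : ℤ))
    (f : E ⟶ F) : f = 0 := by
  by_contra hf
  obtain ⟨hK, hI, hrk, hdeg, hpos⟩ := ker_coim k X hreg hdim hE hF f
  have ht := hpos hf
  have h1 := hmax _ _ (Abelian.factorThruCoimage f) inferInstance ht hI
  rcases Nat.eq_zero_or_pos (rk (kernel f)) with hu | hu
  · rw [hu] at hK hdeg hrk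
    rw [deg_eq_zero_of_rank_zero k X hK, zero_add] at hdeg
    rw [hdeg] at h1
    have : r = rk (Abelian.coimage f) := by omega
    rw [← this] at h1
    exact lt_irrefl _ h1
  · have h2 := hEss _ _ (kernel.ι f) inferInstance hu hK
    have hr' : (r : ℤ) = (rk (kernel f) : ℤ) + (rk (Abelian.coimage f) : ℤ) := by
      exact_mod_cast hrk
    have h3 : Curv2.deg k X E r * (r : ℤ) =
        Curv2.deg k X (kernel f) (rk (kernel f)) * (r : ℤ) +
          Curv2.deg k X (Abelian.coimage f) (rk (Abelian.coimage f)) * (r : ℤ) := by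
      rw [hdeg]; ring
    have h4 : Curv2.deg k X E r * (r : ℤ) =
        Curv2.deg k X E r * (rk (kernel f) : ℤ) +
          Curv2.deg k X E r * (rk (Abelian.coimage f) : ℤ) := by
      rw [hr']; ring
    linarith

end Groth.Agent.Lib.Helper67.SmCurve
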