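import Groth.Agent.Lib.Helper67.SmCurve4
import Groth.Agent.Lib.Helper78.SmoothNormalField
import Groth.Agent.Lib.Helper38.DomainStalkIrred

/-!
# Smooth connected proper curves are integral and regular (helper67)
-/

set_option autoImplicit false
set_option linter.style.haveILetI false
universe u
open AlgebraicGeometry CategoryTheory Limits Opposite TopologicalSpace Abelian

namespace Groth.Agent.Lib.Helper67.SmCurve

variable (k : Type u) [Field k] (X : Scheme.{u}) [X.Over (Spec (CommRingCat.of k))]

/-- a connected Noetherian scheme smooth over a field is integral -/
theorem isIntegral_of_smooth_of_connected [Smooth (X ↘ Spec (CommRingCat.of k))]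
    [IsNoetherian X] [ConnectedSpace X] : IsIntegral X := by
  have hdom : ∀ x : X, IsDomain (X.presheaf.stalk x) := fun x =>
    (Groth.Agent.Lib.Helper78.isIntegrallyClosed_stalk_of_smooth_field k
      (X ↘ Spec (CommRingCat.of k)) x).1
  haveI : ∀ x : X, _root_.IsReduced (X.presheaf.stalk x) := fun x => by
    haveI := hdom x
    infer_instance
  haveI : IsReduced X := isReduced_of_isReduced_stalk X
  haveI := Groth.Agent.Lib.Helper38.irreducibleSpace_of_connected_of_isDomain_stalk X
    NoetherianSpace.finite_irreducibleComponents hdom
  exact isIntegral_of_irreducibleSpace_of_isReduced X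

/-- a geometrically connected scheme over a field is connected -/
theorem connectedSpace_of_geometricallyConnected
    [GeometricallyConnected (X ↘ Spec (CommRingCat.of k))] : ConnectedSpace X := by
  haveI : Subsingleton ↥(Spec (CommRingCat.of k)) :=
    show Subsingleton (PrimeSpectrum k) from inferInstance
  haveI : Nonempty ↥(Spec (CommRingCat.of k)) :=
    show Nonempty (PrimeSpectrum k) from inferInstance
  exact GeometricallyConnected.connectedSpace_of_subsingleton
    (f := X ↘ Spec (CommRingCat.of k))

/-- a smooth proper geometrically connected scheme over a field is integral -/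
theorem isIntegral_of_smooth_proper_geomConn [IsProper (X ↘ Spec (CommRingCat.of k))]
    [Smooth (X ↘ Spec (CommRingCat.of k))]
    [GeometricallyConnected (X ↘ Spec (CommRingCat.of k))] : IsIntegral X := by
  haveI : IsNoetherian X :=
    Groth.Agent.Lib.Helper67.CurveP1.isNoetherian_of_proper k (X ↘ Spec (CommRingCat.of k))
  haveI := connectedSpace_of_geometricallyConnected k X
  exact isIntegral_of_smooth_of_connected k X

end Groth.Agent.Lib.Helper67.SmCurve
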