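import Groth.Agent.Lib.Helper67.SmCurve5

/-!
# Structure of a nonzero map of locally free modules on a regular proper integral curve (helper67)
-/

set_option autoImplicit false
set_option linter.style.haveILetI false
universe u
open AlgebraicGeometry CategoryTheory Limits Opposite TopologicalSpace Abelian

namespace Groth.Agent.Lib.Helper67.SmCurve

open Groth.Agent.Lib.Helper67.CurveDeg Groth.Agent.Lib.Helper67.CurveCoh
open Groth.Agent.Lib.Helper67.TensRank Groth.Agent.Lib.Helper67.CurveInv
open Groth.Agent.Lib.Helper49 Groth.Agent.Lib.Helper18.LimFinLocFree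

variable (k : Type u) [Field k] (X : Scheme.{u}) [X.Over (Spec (CommRingCat.of k))]
  [IsIntegral X] [IsProper (X ↘ Spec (CommRingCat.of k))]
  (hreg : ∀ x : X, IsRegularLocalRing (X.presheaf.stalk x))
  (hdim : topologicalKrullDim X ≤ 1)

include k hreg hdim in
/-- the rank of a quasi-coherent submodule is at most the rank -/
theorem rk_le_of_mono {G E : X.Modules} {r : ℕ} (hE : FlatMod.IsFinLocFreeOfRank r E)
    (ι : G ⟶ E) [Mono ι] : rk G ≤ r := by
  have hS : (ShortComplex.mk ι (cokernel.π ι) (cokernel.condition ι)).ShortExact :=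
    ⟨ShortComplex.exact_of_g_is_cokernel _ (cokernelIsCokernel _)⟩
  have h := rk_additive hS (isCoh_of_rank hE)
  change rk E = rk G + rk (cokernel ι) at h
  rw [rk_eq_of_rank hE] at h
  omega

include hreg hdim in
/-- **structure of a nonzero map `f : E → F` of locally free modules**: kernel `K ⊂ E` of rank
`u`, image `I ⊂ F` of rank `t ≥ 1`, `r = u + t`, `deg E = deg K + deg I`. -/
theorem exists_ker_im {E F : X.Modules} {r s : ℕ} (hE : FlatMod.IsFinLocFreeOfRank r E)
    (hF : FlatMod.IsFinLocFreeOfRank s F) (f : E ⟶ F) (hf : f ≠ 0) :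
    ∃ (K I : X.Modules) (u t : ℕ) (a : K ⟶ E) (b : I ⟶ F), Mono a ∧ Mono b ∧
      FlatMod.IsFinLocFreeOfRank u K ∧ FlatMod.IsFinLocFreeOfRank t I ∧
      r = u + t ∧ 0 < t ∧ t ≤ s ∧
      Curv2.deg k X E r = Curv2.deg k X K u + Curv2.deg k X I t ∧
      (u = 0 → Mono f) ∧ a ≫ f = 0 := by
  obtain ⟨hK, hI, hrk, hdeg, hpos⟩ := ker_coim k X hreg hdim hE hF f
  refine ⟨kernel f, Abelian.coimage f, rk (kernel f), rk (Abelian.coimage f), kernel.ι f,
    Abelian.factorThruCoimage f, inferInstance, inferInstance, hK, hI, hrk, hpos hf,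
    rk_le_of_mono k X hreg hdim hF (Abelian.factorThruCoimage f), hdeg, ?_, kernel.condition f⟩
  intro hu
  rw [hu] at hK
  exact Preadditive.mono_of_isZero_kernel f (isZero_of_rank_zero hK)

end Groth.Agent.Lib.Helper67.SmCurve
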