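import Mathlib.AlgebraicGeometry.AffineScheme
import Mathlib.AlgebraicGeometry.Morphisms.Flat
import Mathlib.Tactic

/-!
`Spec.map f` is an epimorphism of schemes when it is surjective on points and `f` induces
injections on the local rings.
-/

namespace Groth.Agent.Lib.Helper67

open CategoryTheory AlgebraicGeometry

universe u

/-- Criterion for injectivity of the map induced on localizations at primes. -/
lemma localRingHom_injective {R S : Type*} [CommRing R] [CommRing S] (f : R →+* S)
    (J : Ideal S) [J.IsPrime] (I : Ideal R) [I.IsPrime] (hIJ : I = J.comap f)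
    (h : ∀ x : R, (∃ t : S, t ∉ J ∧ t * f x = 0) → ∃ s : R, s ∉ I ∧ s * x = 0) :
    Function.Injective (Localization.localRingHom I J f hIJ) := by
  rw [injective_iff_map_eq_zero]
  intro y hy
  obtain ⟨x, s, rfl⟩ := IsLocalization.exists_mk'_eq I.primeCompl y
  rw [Localization.localRingHom_mk', IsLocalization.mk'_eq_zero_iff] at hy
  obtain ⟨t, ht⟩ := hy
  obtain ⟨s', hs', hs'x⟩ := h x ⟨t.1, t.2, ht⟩
  rw [IsLocalization.mk'_eq_zero_iff]
  exact ⟨⟨s', hs'⟩, hs'x⟩

set_option backward.isDefEq.respectTransparency.types false in
lemma epi_Spec_map {R S : CommRingCat.{u}} (f : R ⟶ S)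
    (hsurj : Function.Surjective (PrimeSpectrum.comap f.hom))
    (hinj : ∀ p : PrimeSpectrum S, Function.Injective
      (Localization.localRingHom (p.comap f.hom).asIdeal p.asIdeal f.hom rfl)) :
    Epi (Spec.map f) := by
  apply CategoryTheory.Functor.epi_of_epi_map (Scheme.forgetToLocallyRingedSpace)
  apply CategoryTheory.Functor.epi_of_epi_map (LocallyRingedSpace.forgetToSheafedSpace)
  apply SheafedSpace.epi_of_base_surjective_of_stalk_mono _ hsurj
  intro x
  apply ConcreteCategory.mono_of_injective
  have h := Scheme.localRingHom_comp_stalkIso f x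
  have key : Function.Injective ((Spec.stalkIso R (x.comap f.hom)).hom ≫
      (CommRingCat.ofHom <| Localization.localRingHom
        (PrimeSpectrum.comap f.hom x).asIdeal x.asIdeal f.hom rfl) ≫
      (Spec.stalkIso S x).inv).hom := by
    rw [CommRingCat.hom_comp, CommRingCat.hom_comp, CommRingCat.hom_ofHom, RingHom.coe_comp,
      RingHom.coe_comp]
    refine Function.Injective.comp (Function.Injective.comp ?_ (hinj x)) ?_
    · exact (ConcreteCategory.bijective_of_isIso (Spec.stalkIso S x).inv).1
    · exact (ConcreteCategory.bijective_of_isIso (Spec.stalkIso R (x.comap f.hom)).hom).1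
  rw [h] at key
  exact key

end Groth.Agent.Lib.Helper67
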