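import Mathlib.Algebra.Module.Submodule.Union
import Mathlib.Data.Set.Card
import Mathlib.Tactic

/-!
Sharp version of `Submodule.iUnion_ssubset_of_forall_ne_top_of_card_lt`:
a module over a field `K` is not the union of `n ≤ |K|` proper submodules.
-/

namespace Groth.Agent.Lib.Helper67

open Function Set

variable {ι K M : Type*} [Field K] [AddCommGroup M] [Module K M]

theorem iUnion_ne_univ_of_card_le (s : Finset ι) (p : ι → Submodule K M)
    (h₁ : ∀ i, p i ≠ ⊤) (h₂ : (s.card : ℕ∞) ≤ ENat.card K) :
    ⋃ i ∈ s, (p i : Set M) ≠ univ := by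
  classical
  induction s using Finset.induction_on with
  | empty =>
    intro h
    have : (0 : M) ∈ (⋃ i ∈ (∅ : Finset ι), (p i : Set M)) := h ▸ mem_univ _
    simp at this
  | insert j s hj hj' =>
    have h₃ : ((s.card : ℕ∞)) < ENat.card K := by
      refine lt_of_lt_of_le ?_ h₂
      rw [Finset.card_insert_of_notMem hj]
      exact_mod_cast Nat.lt_succ_self _
    specialize hj' h₃.le
    intro hU
    apply hj'
    replace hU : (p j : Set M) ∪ (⋃ i ∈ s, p i) = univ := by
      simpa only [Finset.mem_insert, iUnion_iUnion_eq_or_left] using! hU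
    suffices (p j : Set M) ⊆ ⋃ i ∈ s, p i by rwa [union_eq_right.mpr this] at hU
    intro x (hx : x ∈ p j)
    obtain ⟨y, hy⟩ : ∃ y, y ∉ p j := by
      specialize h₁ j; contrapose! h₁; ext; simp [h₁]
    have hline : ∀ t : K, y + t • x ∈ ⋃ i ∈ s, (p i : Set M) := by
      intro t
      have hmem : y + t • x ∈ (p j : Set M) ∪ (⋃ i ∈ s, p i) := hU ▸ mem_univ _
      rcases hmem with h | h
      · exfalso
        apply hy
        have := (p j).sub_mem h ((p j).smul_mem t hx)
        simpa using this
      · exact h
    have hline' : ∀ t : K, ∃ i, i ∈ s ∧ y + t • x ∈ p i := by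
      intro t
      have := hline t
      simp only [mem_iUnion, SetLike.mem_coe, exists_prop] at this
      exact this
    choose f hf using hline'
    have hf' : MapsTo f (univ : Set K) (s : Set ι) := fun t _ => (hf t).1
    have hcard : (s : Set ι).encard < (univ : Set K).encard := by
      rw [Set.encard_coe_eq_coe_finsetCard, Set.encard_univ]
      exact h₃
    obtain ⟨t₁, -, t₂, -, hne, heq⟩ := exists_ne_map_eq_of_encard_lt_of_maps_to hcard hf'
    have h1 := (hf t₁).2
    have h2 := (hf t₂).2
    rw [heq] at h1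
    have h3 : (t₁ - t₂) • x ∈ p (f t₂) := by
      have := (p (f t₂)).sub_mem h1 h2
      have e : y + t₁ • x - (y + t₂ • x) = (t₁ - t₂) • x := by
        rw [sub_smul]; abel
      rwa [e] at this
    have h4 : x ∈ p (f t₂) := by
      rwa [(p (f t₂)).smul_mem_iff (sub_ne_zero.mpr hne)] at h3
    simp only [mem_iUnion, SetLike.mem_coe, exists_prop]
    exact ⟨f t₂, (hf t₂).1, h4⟩

end Groth.Agent.Lib.Helper67
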