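import Mathlib.RingTheory.Noetherian.Basic
import Mathlib.RingTheory.FiniteType
import Mathlib.RingTheory.FinitePresentation
import Mathlib.Algebra.MvPolynomial.Monad
import Mathlib.Tactic

/-!
A surjective ring endomorphism of a Noetherian ring is injective.
-/

namespace Groth.Agent.Lib.Helper67

theorem ringEnd_injective_of_surjective {S : Type*} [CommRing S] [IsNoetherianRing S]
    (α : S →+* S) (hα : Function.Surjective α) : Function.Injective α := by
  -- the chain of kernels of iterates
  let K : ℕ →o Ideal S :=
    { toFun := fun n => RingHom.ker (α ^ n)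
      monotone' := by
        intro a b hab x hx
        rw [RingHom.mem_ker] at hx ⊢
        obtain ⟨c, rfl⟩ := Nat.exists_eq_add_of_le hab
        rw [add_comm, pow_add]
        change (α ^ c) ((α ^ a) x) = 0
        rw [hx, map_zero] }
  obtain ⟨n, hn⟩ := monotone_stabilizes_iff_noetherian.mpr inferInstance K
  have hsurj : ∀ m : ℕ, Function.Surjective (α ^ m) := by
    intro m
    induction m with
    | zero => exact fun x => ⟨x, rfl⟩
    | succ m ih =>
      rw [pow_succ]
      exact ih.comp hα
  rw [injective_iff_map_eq_zero]
  intro x hx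
  obtain ⟨y, rfl⟩ := hsurj n x
  have hy : y ∈ K (n + 1) := by
    change y ∈ RingHom.ker (α ^ (n + 1))
    rw [RingHom.mem_ker, pow_succ']
    exact hx
  rw [← hn (n + 1) (Nat.le_succ n)] at hy
  exact hy

end Groth.Agent.Lib.Helper67
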