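import Groth.Agent.Lib.Helper67.TensZero2
import Groth.Agent.Lib.Helper67.PushUnit
import Groth.Agent.Lib.Helper67.CurveInv2

/-!
# Generic rank and `χ(F ⊗ E) = rk(F) · deg E + n · χ(F)` on integral proper curves (helper67)
-/

set_option autoImplicit false
set_option linter.style.haveILetI false
universe u
open AlgebraicGeometry CategoryTheory Limits Opposite TopologicalSpace Abelian

namespace Groth.Agent.Lib.Helper67.TensRank

open Groth.Agent.Lib.Helper67.EulerLES Groth.Agent.Lib.Helper67.CurveCoh
open Groth.Agent.Lib.Helper67.CurveDeg Groth.Agent.Lib.Helper67.CurveTors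
open Groth.Agent.Lib.Helper67.ZeroDim Groth.Agent.Lib.Helper67.TensExact
open Groth.Agent.Lib.Helper67.TensZero
open Groth.Agent.Lib.Helper49 Groth.Agent.Lib.Helper11.FinFreeBasis
open Groth.Agent.Lib.Helper11.FinFreeAdj

section Stalk

variable {X : Scheme.{u}}

attribute [local instance] Helper45.stalkModuleSections in
/-- stalks of coherent modules are finite modules -/
theorem finite_stalk_of_isCoh {F : X.Modules} (hF : Coh.IsCoh F) (x : X) :
    Module.Finite (X.presheaf.stalk x) ↑(F.presheaf.stalk x) := by
  haveI := hF.1
  obtain ⟨_, ⟨V, hV : IsAffineOpen V, rfl⟩, hxV, -⟩ :=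
    X.isBasis_affineOpens.exists_subset_of_mem_open (Set.mem_univ x) isOpen_univ
  obtain ⟨y, rfl⟩ : ∃ y : V, (y : X) = x := ⟨⟨x, hxV⟩, rfl⟩
  have := Helper45.isLocalizedModule_germₗ hV F y
  have := hV.isLocalization_stalk y
  have hfinV : Module.Finite Γ(X, V) Γ(F, V) := finite_sections_of_isFiniteType F hF.2 hV
  exact Module.Finite.of_isLocalizedModule (hV.primeIdealOf y).asIdeal.primeCompl
    (Helper45.germₗ F y)

end Stalk

section Rank

variable {X : Scheme.{u}} [IsIntegral X]

/-- the generic rank of a module on an integral scheme -/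
noncomputable def rk (F : X.Modules) : ℕ :=
  Module.finrank (X.presheaf.stalk (genericPoint X)) (F.presheaf.stalk (genericPoint X))

theorem rk_eq_of_iso {M N : X.Modules} (e : M ≅ N) : rk M = rk N := by
  have hbij : Function.Bijective (stalkMapLinear e.hom (genericPoint X)) := by
    haveI : Mono e.hom := inferInstance
    haveI : Epi e.hom := inferInstance
    exact ⟨stalkMap_injective_of_mono e.hom _, stalkMap_surjective_of_epi e.hom _⟩
  exact (LinearEquiv.ofBijective _ hbij).finrank_eq

theorem rk_eq_zero_of_subsingleton {M : X.Modules}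
    (h : Subsingleton (M.presheaf.stalk (genericPoint X))) : rk M = 0 :=
  Module.finrank_zero_of_subsingleton

theorem rk_additive {S : ShortComplex X.Modules} (hS : S.ShortExact) (h₂ : Coh.IsCoh S.X₂) :
    rk S.X₂ = rk S.X₁ + rk S.X₃ := by
  haveI := hS.mono_f
  haveI := hS.epi_g
  letI : Field (X.presheaf.stalk (genericPoint X)) :=
    inferInstanceAs (Field X.functionField)
  haveI := finite_stalk_of_isCoh h₂ (genericPoint X)
  have hex : Function.Exact (stalkMapLinear S.f (genericPoint X))
      (stalkMapLinear S.g (genericPoint X)) :=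
    stalkMap_exact_of_shortExact S hS (genericPoint X)
  have hinj : Function.Injective (stalkMapLinear S.f (genericPoint X)) :=
    stalkMap_injective_of_mono S.f _
  have hsurj : Function.Surjective (stalkMapLinear S.g (genericPoint X)) :=
    stalkMap_surjective_of_epi S.g _
  have e1 := LinearMap.finrank_range_add_finrank_ker (stalkMapLinear S.g (genericPoint X))
  have e2 : Module.finrank (X.presheaf.stalk (genericPoint X))
      (LinearMap.range (stalkMapLinear S.g (genericPoint X))) = rk S.X₃ := by
    rw [LinearMap.range_eq_top.mpr hsurj]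
    exact finrank_top _ _
  have e3 : Module.finrank (X.presheaf.stalk (genericPoint X))
      (LinearMap.ker (stalkMapLinear S.g (genericPoint X))) = rk S.X₁ := by
    rw [hex.linearMap_ker_eq]
    exact LinearMap.finrank_range_of_inj hinj
  unfold rk at e2 e3 ⊢
  omega

theorem rk_structureModule : rk (Coh.structureModule X) = 1 :=
  (stalk_of_rank (rank_one_of_isInvertible
    (Groth.Agent.Lib.Helper11.GenLocus.isInvertible_structureModule X)) (genericPoint X)).2.2

end Rank

end Groth.Agent.Lib.Helper67.TensRank
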