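/-
Helper library (helper67): formal consequences of the conditions of a Weil cohomology theory
(`WeilCoh.TheoryOn`): the characterisation of the push-forward and uniqueness via Poincaré duality.
-/
import Groth.Prelude.Def_WeilCoh
import Mathlib.Tactic

set_option autoImplicit false
universe u v w

namespace Groth.Agent.Lib.Helper67

open CategoryTheory AlgebraicGeometry WeilCoh

variable {k : Type u} [Field k] {P : ObjectProperty (Over (Spec (CommRingCat.of k)))}
variable {K : Type v} [Field K] (T : WeilCoh.TheoryOn.{u, v, w} k P K)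

theorem pairing_apply {A : Type w} [Ring A] [Algebra K A] (S U : Submodule K A) (t : A →ₗ[K] K)
    (a : S) (b : U) : WeilCoh.pairing K S U t a b = t ((a : A) * (b : A)) := rfl

/-- Uniqueness through Poincaré duality: two classes of degree `m` with the same pairings against
all classes of the complementary degree `n` coincide. -/
theorem eq_of_forall_tr_mul_eq (X : P.FullSubcategory) (m n : ℤ)
    (hmn : m + n = 2 * (WeilCoh.dim X.obj.left : ℤ)) (a a' : T.H X) (ha : a ∈ T.gr X m)
    (ha' : a' ∈ T.gr X m)
    (h : ∀ b : T.H X, b ∈ T.gr X n → T.tr X (a * b) = T.tr X (a' * b)) : a = a' := by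
  have hperf := T.duality X m n hmn
  have hinj := (LinearMap.IsPerfPair.bijective_left
    (WeilCoh.pairing K (T.gr X m) (T.gr X n) (T.tr X))).1
  have : (⟨a, ha⟩ : T.gr X m) = ⟨a', ha'⟩ := by
    apply hinj
    ext b
    rw [pairing_apply, pairing_apply]
    exact h b b.2
  exact congrArg Subtype.val this

/-- The defining property of the push-forward. -/
theorem tr_push_mul {X Y : P.FullSubcategory} (f : X ⟶ Y) (i : ℤ) (a : T.gr X i)
    (b : T.H Y) (hb : b ∈ T.gr Y (2 * (WeilCoh.dim X.obj.left : ℤ) - i)) :
    T.tr Y ((T.push f i a : T.H Y) * b) = T.tr X ((a : T.H X) * T.pull f b) := by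
  have hperf := T.duality Y (i + 2 * (dim Y.obj.left : ℤ) - 2 * (dim X.obj.left : ℤ))
    (2 * (dim X.obj.left : ℤ) - i) (by omega)
  have h1 := LinearMap.apply_symm_toPerfPair_self
    (WeilCoh.pairing K (T.gr Y (i + 2 * (dim Y.obj.left : ℤ) - 2 * (dim X.obj.left : ℤ)))
      (T.gr Y (2 * (dim X.obj.left : ℤ) - i)) (T.tr Y)) (T.pushFunctional f i a)
  have h2 := LinearMap.congr_fun h1 ⟨b, hb⟩
  rw [pairing_apply] at h2
  exact h2

end Groth.Agent.Lib.Helper67
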