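import Mathlib
import Groth.Prelude.Def_W4c1zetahwZeta
import Groth.Agent.Lib.Helper66.LogDeriv
import Groth.Agent.Lib.Helper67.ZetaMult
import Groth.Agent.S13056

/-!
# Power series algebra for the cohomological expression of the zeta function (helper67)
-/

set_option autoImplicit false
universe u v

open CategoryTheory AlgebraicGeometry PowerSeries Groth.Agent.Lib.Helper66

namespace Groth.Agent.Lib.Helper67.WeilSeries

variable {K : Type v} [Field K] [CharZero K]

theorem exp_subst_sum {ι : Type*} (s : Finset ι) (B : ι → K⟦X⟧)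
    (hB : ∀ i ∈ s, constantCoeff (B i) = 0) :
    (exp K).subst (∑ i ∈ s, B i) = ∏ i ∈ s, (exp K).subst (B i) := by
  have h0 : constantCoeff (∑ i ∈ s, B i) = 0 := by
    rw [map_sum]; exact Finset.sum_eq_zero hB
  have hF : IsLogDeriv ((exp K).subst (∑ i ∈ s, B i)) (d⁄dX K (∑ i ∈ s, B i)) :=
    isLogDeriv_exp_subst _ h0
  have hG : IsLogDeriv (∏ i ∈ s, (exp K).subst (B i)) (∑ i ∈ s, d⁄dX K (B i)) :=
    IsLogDeriv.prod s _ _ fun i hi => isLogDeriv_exp_subst _ (hB i hi)
  rw [← map_sum] at hG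
  have hF0 : constantCoeff ((exp K).subst (∑ i ∈ s, B i)) = 1 := constantCoeff_exp_subst _ h0
  have hG0 : constantCoeff (∏ i ∈ s, (exp K).subst (B i)) = 1 := by
    rw [map_prod]
    exact Finset.prod_eq_one fun i hi => constantCoeff_exp_subst _ (hB i hi)
  exact hF.unique hG (hF0.trans hG0.symm) (by rw [hG0]; exact one_ne_zero)

theorem exp_subst_add (A B : K⟦X⟧) (hA : constantCoeff A = 0) (hB : constantCoeff B = 0) :
    (exp K).subst (A + B) = (exp K).subst A * (exp K).subst B := by
  have := exp_subst_sum (Finset.univ : Finset Bool) (fun b => if b then A else B)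
    (fun b _ => by cases b <;> simp [hA, hB])
  simpa [Fintype.sum_bool, Fintype.prod_bool] using this

theorem map_zetaFun {k : Type u} [Field k] {X : Scheme.{u}}
    (f : X ⟶ Spec (CommRingCat.of k)) :
    PowerSeries.map (algebraMap ℚ K) (Zeta.zetaFun f) =
      (exp K).subst (PowerSeries.map (algebraMap ℚ K) (Zeta.logZeta f)) := by
  unfold Zeta.zetaFun
  refine Eq.trans (PowerSeries.map_subst (h := algebraMap ℚ K)
    (HasSubst.of_constantCoeff_zero' (Groth.Agent.Lib.Helper67.constantCoeff_logZeta f))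
    (exp ℚ)) ?_
  rw [map_exp]
  rfl

/-- `det(1 - tφ) = exp(-∑ tr(φ^m) t^m/m)` for an endomorphism of a finite-dimensional space. -/
theorem reverse_charpoly_eq_exp {V : Type*} [AddCommGroup V] [Module K V] [FiniteDimensional K V]
    (φ : V →ₗ[K] V) :
    ((LinearMap.charpoly φ).reverse : K⟦X⟧) =
      (exp K).subst (PowerSeries.mk fun m : ℕ => -(LinearMap.trace K V (φ ^ m)) / (m : K)) := by
  classical
  let b := Module.finBasis K V
  set M := LinearMap.toMatrix b b φ with hM
  have h1 : LinearMap.charpoly φ = M.charpoly := (LinearMap.charpoly_toMatrix φ b).symm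
  rw [h1, Matrix.reverse_charpoly, Groth.Agent.S13056.result M]
  congr 1
  ext m
  rw [coeff_mk, coeff_mk, LinearMap.trace_eq_matrix_trace K b, LinearMap.toMatrix_pow]

/-- Splitting an alternating sum into even and odd parts. -/
theorem alt_sum_split (n : ℕ) (a : ℕ → K) :
    ∑ i ∈ Finset.range (2 * n + 1), (-1 : K) ^ i * a i =
      ∑ i ∈ Finset.range (n + 1), a (2 * i) - ∑ i ∈ Finset.range n, a (2 * i + 1) := by
  induction n with
  | zero => simp
  | succ n ih =>
    have e : 2 * (n + 1) + 1 = (2 * n + 1) + 1 + 1 := by ring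
    have h1 : (-1 : K) ^ (2 * n + 1) = -1 := by
      rw [pow_succ, pow_mul]; simp
    have h2 : (-1 : K) ^ (2 * n + 1 + 1) = 1 := by
      rw [pow_succ, h1]; simp
    have e2 : 2 * (n + 1) = 2 * n + 1 + 1 := by ring
    have hA : ∑ i ∈ Finset.range (n + 1 + 1), a (2 * i) =
        ∑ i ∈ Finset.range (n + 1), a (2 * i) + a (2 * n + 1 + 1) := by
      rw [Finset.sum_range_succ, e2]
    have hB : ∑ i ∈ Finset.range (n + 1), a (2 * i + 1) =
        ∑ i ∈ Finset.range n, a (2 * i + 1) + a (2 * n + 1) := Finset.sum_range_succ _ _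
    rw [e, Finset.sum_range_succ, Finset.sum_range_succ, ih, hA, hB, h1, h2]
    ring

/-- The main series identity: if `N_m = ∑ (-1)^i tr(φ_i^m)` for `m ≥ 1`, then
`Z · ∏ P_{2i} = ∏ P_{2i+1}`. -/
theorem zeta_mul_prod_eq {k : Type u} [Field k] {X : Scheme.{u}}
    (f : X ⟶ Spec (CommRingCat.of k)) (n : ℕ)
    (V : ℕ → Type*) [∀ i, AddCommGroup (V i)] [∀ i, Module K (V i)]
    [∀ i, FiniteDimensional K (V i)] (φ : ∀ i, V i →ₗ[K] V i)
    (hN : ∀ m : ℕ, 1 ≤ m → (Zeta.nPts f m : K) =
      ∑ i ∈ Finset.range (2 * n + 1), (-1 : K) ^ i * LinearMap.trace K (V i) (φ i ^ m)) :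
    PowerSeries.map (algebraMap ℚ K) (Zeta.zetaFun f) *
        (∏ i ∈ Finset.range (n + 1), ((LinearMap.charpoly (φ (2 * i))).reverse : K⟦X⟧)) =
      ∏ i ∈ Finset.range n, ((LinearMap.charpoly (φ (2 * i + 1))).reverse : K⟦X⟧) := by
  set G : ℕ → K⟦X⟧ := fun i =>
    PowerSeries.mk fun m : ℕ => -(LinearMap.trace K (V i) (φ i ^ m)) / (m : K) with hG
  have hG0 : ∀ i, constantCoeff (G i) = 0 := by
    intro i
    rw [← coeff_zero_eq_constantCoeff_apply, hG, coeff_mk]
    simp
  set LK := PowerSeries.map (algebraMap ℚ K) (Zeta.logZeta f) with hLK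
  have hLK0 : constantCoeff LK = 0 := by
    rw [← coeff_zero_eq_constantCoeff_apply, hLK, coeff_map, coeff_zero_eq_constantCoeff_apply,
      Groth.Agent.Lib.Helper67.constantCoeff_logZeta, map_zero]
  rw [map_zetaFun f]
  simp_rw [reverse_charpoly_eq_exp]
  rw [← exp_subst_sum _ (fun i => G (2 * i)) (fun i _ => hG0 _),
    ← exp_subst_sum _ (fun i => G (2 * i + 1)) (fun i _ => hG0 _),
    ← exp_subst_add _ _ hLK0 (by rw [map_sum]; exact Finset.sum_eq_zero fun i _ => hG0 _)]
  congr 1
  ext m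
  rw [map_add, map_sum, map_sum]
  simp only [hG, coeff_mk, hLK, coeff_map]
  unfold Zeta.logZeta
  rw [coeff_mk]
  rcases Nat.eq_zero_or_pos m with rfl | hm
  · simp
  · have hm0 : (m : K) ≠ 0 := by exact_mod_cast hm.ne'
    have hsplit := alt_sum_split n (fun i => LinearMap.trace K (V i) (φ i ^ m))
    have hNm := hN m hm
    rw [hsplit] at hNm
    rw [map_div₀, map_natCast, map_natCast, hNm]
    simp only [neg_div, Finset.sum_neg_distrib, ← Finset.sum_div]
    ring

end Groth.Agent.Lib.Helper67.WeilSeries
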