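import Mathlib
import Groth.Prelude.Def_WeilCoh
import Groth.Prelude.Def_W4c1zetahwZeta
import Groth.Agent.Lib.Helper67.FixMult
import Groth.Agent.Lib.Helper67.FixTrace
import Groth.Agent.Lib.Helper67.FixCount
import Groth.Agent.Lib.Helper67.FrobIter
import Groth.Agent.Lib.Helper67.WeilSeries
import Groth.Agent.S15450

/-!
# The zeta function through a Weil cohomology theory (helper67)

`Z(X, t) · ∏ P_{2i}(t) = ∏ P_{2i+1}(t)` for `X` over a finite field whose base change to an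
algebraically closed field is an object of the theory.
-/

set_option autoImplicit false
universe u v

open CategoryTheory AlgebraicGeometry WeilCoh

namespace Groth.Agent.Lib.Helper67.WeilZeta

open Groth.Agent.Lib.Helper67.FrobIter

/-- the section `(id, G)` of the product and the diagonal -/
theorem exists_graph {k : Type u} [Field k] {X P : WeilCoh.Var k} (p q : P ⟶ X)
    (hP : WeilCoh.IsProd p q) (G : X ⟶ X) :
    ∃ g : X ⟶ P, g ≫ p = 𝟙 X ∧ g ≫ q = G := by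
  have hG : WeilCoh.sm G ≫ X.obj.hom = X.obj.hom := Over.w G.hom
  have hcomm : 𝟙 X.obj.left ≫ X.obj.hom = WeilCoh.sm G ≫ X.obj.hom := by
    rw [hG, Category.id_comp]
  have hfst : hP.lift (𝟙 X.obj.left) (WeilCoh.sm G) hcomm ≫ WeilCoh.sm p = 𝟙 X.obj.left :=
    hP.lift_fst _ _ _
  have hsnd : hP.lift (𝟙 X.obj.left) (WeilCoh.sm G) hcomm ≫ WeilCoh.sm q = WeilCoh.sm G :=
    hP.lift_snd _ _ _
  have hw : hP.lift (𝟙 X.obj.left) (WeilCoh.sm G) hcomm ≫ P.obj.hom = X.obj.hom := by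
    have h1 : WeilCoh.sm p ≫ X.obj.hom = P.obj.hom := Over.w p.hom
    rw [← h1, ← Category.assoc, hfst, Category.id_comp]
  refine ⟨ObjectProperty.homMk (Over.homMk (hP.lift (𝟙 X.obj.left) (WeilCoh.sm G) hcomm) hw),
    ?_, ?_⟩
  · apply ObjectProperty.hom_ext
    apply Over.OverMorphism.ext
    exact hfst
  · apply ObjectProperty.hom_ext
    apply Over.OverMorphism.ext
    exact hsnd

variable (k₀ : Type u) [Field k₀] [Finite k₀] (k : Type u) [Field k] [IsAlgClosed k] [Algebra k₀ k]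
  (K : Type v) [Field K] [CharZero K] (T : WeilCoh.Theory k K)
  {X : Scheme.{u}} (f : X ⟶ Spec (CommRingCat.of k₀)) [LocallyOfFiniteType f] [QuasiCompact f]
  (FX : X ⟶ X) (hle : ∀ U : X.Opens, U ≤ FX ⁻¹ᵁ U)
  (hFapp : ∀ (U : X.Opens) (s : Γ(X, U)), (FX.appLE U U (hle U)).hom s = s ^ Nat.card k₀)
  (Xb : WeilCoh.Var k) (π : Xb.obj.left ⟶ X)
  (hπ : IsPullback π Xb.obj.hom f (Spec.map (CommRingCat.ofHom (algebraMap k₀ k))))
  (F : Xb ⟶ Xb) (hF : WeilCoh.sm F ≫ π = π ≫ FX)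
  (Pb : WeilCoh.Var k) (p q : Pb ⟶ Xb) (hP : WeilCoh.IsProd p q)

include hFapp hπ hF hP in
/-- The Lefschetz trace formula for the powers of Frobenius. -/
theorem nPts_eq_alt_sum_trace (m : ℕ) (hm : 1 ≤ m) :
    (Zeta.nPts f m : K) =
      ∑ i ∈ Finset.range (2 * WeilCoh.dim Xb.obj.left + 1),
        (-1 : K) ^ i * LinearMap.trace K ↥(T.gr Xb (i : ℤ)) (T.pullDeg F (i : ℤ) ^ m) := by
  classical
  haveI : Fintype k₀ := Fintype.ofFinite k₀
  obtain ⟨pc, hpc⟩ := CharP.exists k₀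
  haveI := hpc
  obtain ⟨⟨e, he0⟩, hpp, hcard⟩ := FiniteField.card k₀ pc
  haveI : Fact pc.Prime := ⟨hpp⟩
  have hq : Nat.card k₀ = pc ^ e := by rw [Nat.card_eq_fintype_card]; exact hcard
  haveI : CharP k pc := charP_of_injective_algebraMap (algebraMap k₀ k).injective pc
  haveI : IrreducibleSpace ↥Xb.obj.left := Xb.property.2.2
  have hsm : Smooth Xb.obj.hom := Xb.property.1
  haveI : LocallyOfFiniteType Xb.obj.hom := inferInstance
  haveI : JacobsonSpace ↥Xb.obj.left := LocallyOfFiniteType.jacobsonSpace Xb.obj.hom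
  set φ : Xb ⟶ Xb := iter F m with hφdef
  set Φ : X ⟶ X := frobIter FX m with hΦdef
  have hleΦ : ∀ U : X.Opens, U ≤ Φ ⁻¹ᵁ U := frobIter_le FX hle m
  have happΦ : ∀ (U : X.Opens) (s : Γ(X, U)),
      (Φ.appLE U U (hleΦ U)).hom s = s ^ (Nat.card k₀ ^ m) :=
    frobIter_appLE FX (Nat.card k₀) hle hFapp m
  have hr : e * m ≠ 0 := Nat.mul_ne_zero he0.ne' (by omega)
  have happΦ' : ∀ (U : X.Opens) (s : Γ(X, U)),
      (Φ.appLE U U (hleΦ U)).hom s = s ^ (pc ^ (e * m)) := by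
    intro U s
    rw [happΦ U s, hq, pow_mul]
  have hφπ : WeilCoh.sm φ ≫ π = π ≫ Φ := sm_iter_comp F FX π hF m
  have hφg : WeilCoh.sm φ ≫ Xb.obj.hom = Xb.obj.hom := Over.w φ.hom
  obtain ⟨j, hjp, hjq⟩ := exists_graph p q hP φ
  obtain ⟨d, hdp, hdq⟩ := exists_graph p q hP (𝟙 Xb)
  have hjp' : WeilCoh.sm j ≫ WeilCoh.sm p = 𝟙 Xb.obj.left := congrArg (fun ψ => WeilCoh.sm ψ) hjp
  have hjq' : WeilCoh.sm j ≫ WeilCoh.sm q = WeilCoh.sm φ := congrArg (fun ψ => WeilCoh.sm ψ) hjq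
  have hdp' : WeilCoh.sm d ≫ WeilCoh.sm p = 𝟙 Xb.obj.left := congrArg (fun ψ => WeilCoh.sm ψ) hdp
  have hdq' : WeilCoh.sm d ≫ WeilCoh.sm q = 𝟙 Xb.obj.left := congrArg (fun ψ => WeilCoh.sm ψ) hdq
  set η := genericPoint ↥Xb.obj.left with hη
  have hloc : ∀ (w : Xb.obj.left) (hw : WeilCoh.sm j w = WeilCoh.sm d w)
      (h : WeilCoh.sm d η ⤳ WeilCoh.sm j w),
      Ideal.map ((WeilCoh.sm j).stalkMap w).hom
        (RingHom.ker (Cyc.specMap (WeilCoh.sm j w) (WeilCoh.sm d η) h)) =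
        IsLocalRing.maximalIdeal (Xb.obj.left.presheaf.stalk w) ∧
      IsClosed ({w} : Set Xb.obj.left) := fun w hw h =>
    Groth.Agent.Lib.Helper67.FixMult.map_ker_eq_maximalIdeal f Xb.obj.hom π hπ pc (e * m) hr Φ hleΦ
      happΦ' (WeilCoh.sm φ) hφπ (WeilCoh.sm p) (WeilCoh.sm q) (WeilCoh.sm j) (WeilCoh.sm d)
      hjp' hjq' hdp' hdq' w η hw h
  have hspec : ∀ (w : Xb.obj.left), WeilCoh.sm j w = WeilCoh.sm d w →
      WeilCoh.sm d η ⤳ WeilCoh.sm j w := by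
    intro w hw
    rw [hw]
    exact (genericPoint_specializes w).map (WeilCoh.sm d).continuous
  have hcl : ∀ w : Xb.obj.left, WeilCoh.sm j w = WeilCoh.sm d w →
      IsClosed ({w} : Set Xb.obj.left) := fun w hw => (hloc w hw (hspec w hw)).2
  obtain ⟨hcount, hfin⟩ := Groth.Agent.Lib.Helper67.FixCount.natCard_fix_eq_nPts f Xb.obj.hom π hπ m
    hm Φ hleΦ happΦ (WeilCoh.sm φ) hφπ hφg (WeilCoh.sm p) (WeilCoh.sm q) hP (WeilCoh.sm j)
    (WeilCoh.sm d) hjp' hjq' hdp' hdq' hcl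
  haveI := hfin
  have htr := Groth.Agent.Lib.Helper67.FixTrace.tr_cl_graph_mul_cl_diag_eq_card k K T Xb Pb φ p q hP
    j d hjp hjq hdp hdq hcl (fun w hw h => (hloc w hw h).1)
  have hlef := Groth.Agent.S15450.result k K T Xb Pb φ p q hP j d hjp hjq hdp hdq
  rw [← hcount, ← htr, hlef]
  refine Finset.sum_congr rfl fun i _ => ?_
  rw [hφdef, pullDeg_iter]

include hFapp hπ hF hP in
/-- The cohomological expression of the zeta function. -/
theorem zetaFun_mul_prod_even_eq_prod_odd :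
    PowerSeries.map (algebraMap ℚ K) (Zeta.zetaFun f) *
        (∏ i ∈ Finset.range (WeilCoh.dim Xb.obj.left + 1),
          ((LinearMap.charpoly (T.pullDeg F ((2 * i : ℕ) : ℤ))).reverse : PowerSeries K)) =
      ∏ i ∈ Finset.range (WeilCoh.dim Xb.obj.left),
        ((LinearMap.charpoly (T.pullDeg F ((2 * i + 1 : ℕ) : ℤ))).reverse : PowerSeries K) :=
  Groth.Agent.Lib.Helper67.WeilSeries.zeta_mul_prod_eq f (WeilCoh.dim Xb.obj.left)
    (fun i : ℕ => ↥(T.gr Xb (i : ℤ))) (fun i : ℕ => T.pullDeg F (i : ℤ))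
    (fun m hm => nPts_eq_alt_sum_trace k₀ k K T f FX hle hFapp Xb π hπ F hF Pb p q hP m hm)

end Groth.Agent.Lib.Helper67.WeilZeta
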