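import Groth.Agent.Lib.Helper67.CurveTors

/-!
# Coherent modules supported at closed points on proper schemes over a field (helper67)

For a coherent module `M` on a proper `k`-scheme (of any dimension) whose support consists of
closed points, `H⁰(X, M)` is finite-dimensional and `Hⁱ(X, M) = 0` for `i > 0`.
-/

set_option autoImplicit false
set_option linter.style.haveILetI false
universe u
open AlgebraicGeometry CategoryTheory Limits Opposite TopologicalSpace Abelian

namespace Groth.Agent.Lib.Helper67.ZeroDim

open Groth.Agent.Lib.Helper67.EulerLES Groth.Agent.Lib.Helper67.CurveCoh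
open Groth.Agent.Lib.Helper67.CurveDeg Groth.Agent.Lib.Helper67.CurveTors
open Groth.Agent.Lib.Helper49

section Defs

variable {X : Scheme.{u}}

/-- the support of `M` consists of closed points -/
def ClosedSupp (M : X.Modules) : Prop :=
  ∀ x : X, ¬ Subsingleton (M.presheaf.stalk x) → IsClosed ({x} : Set X)

theorem closedSupp_of_mono {M N : X.Modules} (f : M ⟶ N) [Mono f] (hN : ClosedSupp N) :
    ClosedSupp M := by
  intro x hx
  apply hN x
  intro hsub
  exact hx ⟨fun a b => stalkMap_injective_of_mono f x (hsub.elim _ _)⟩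

theorem closedSupp_of_epi {M N : X.Modules} (f : M ⟶ N) [Epi f] (hM : ClosedSupp M) :
    ClosedSupp N := by
  intro x hx
  apply hM x
  intro hsub
  apply hx
  refine ⟨fun a b => ?_⟩
  obtain ⟨a', rfl⟩ := stalkMap_surjective_of_epi f x a
  obtain ⟨b', rfl⟩ := stalkMap_surjective_of_epi f x b
  rw [hsub.elim a' b']

theorem closedSupp_of_iso {M N : X.Modules} (e : M ≅ N) (hM : ClosedSupp M) : ClosedSupp N :=
  closedSupp_of_mono e.inv hM

theorem closedSupp_of_isZero {M : X.Modules} (hM : IsZero M) : ClosedSupp M := by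
  intro x hx
  exact absurd ((Helper45.isZero_iff_stalk_subsingleton M).mp hM x) hx

end Defs

variable (k : Type u) [Field k] (X : Scheme.{u}) [X.Over (Spec (CommRingCat.of k))]

/-- `H⁰` finite-dimensional and all higher cohomology vanishing -/
def IsGood0 (M : X.Modules) : Prop :=
  Module.Finite k (Coh.HH X M 0) ∧ ∀ i, 0 < i → Subsingleton (Coh.HH X M i)

variable {X}

theorem isGood_of_isGood0 {M : X.Modules} (h : IsGood0 k X M) : IsGood k X M := by
  refine ⟨fun i => ?_, fun i hi => h.2 i (by omega)⟩
  rcases Nat.eq_zero_or_pos i with rfl | hi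
  · exact h.1
  · haveI := h.2 i hi
    infer_instance

theorem euler_eq_of_isGood0 {M : X.Modules} (h : IsGood0 k X M) :
    Curv2.euler k X M = (Module.finrank k (Coh.HH X M 0) : ℤ) := by
  haveI := h.2 1 Nat.one_pos
  have h1 : Module.finrank k (Coh.HH X M 1) = 0 := Module.finrank_zero_of_subsingleton
  rw [euler_eq k (isGood_of_isGood0 k h), h1]
  simp

theorem isGood0_of_iso {M N : X.Modules} (e : M ≅ N) (hM : IsGood0 k X M) : IsGood0 k X N := by
  have hlin : ∀ i, Coh.HH X M i ≃ₗ[k] Coh.HH X N i := fun i =>
    LinearEquiv.ofLinear (Canon.HHlin k e.hom i) (Canon.HHlin k e.inv i)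
      (by rw [← Groth.Agent.Lib.Helper17.HHLinLES.HHlin_comp, e.inv_hom_id,
        Groth.Agent.Lib.Helper17.HHLinLES.HHlin_id])
      (by rw [← Groth.Agent.Lib.Helper17.HHLinLES.HHlin_comp, e.hom_inv_id,
        Groth.Agent.Lib.Helper17.HHLinLES.HHlin_id])
  refine ⟨?_, fun i hi => ?_⟩
  · haveI := hM.1
    exact Module.Finite.equiv (hlin 0)
  · haveI := hM.2 i hi
    exact (hlin i).symm.toEquiv.subsingleton

theorem isGood0_X₂ {S : ShortComplex X.Modules} (hS : S.ShortExact)
    (h1 : IsGood0 k X S.X₁) (h3 : IsGood0 k X S.X₃) : IsGood0 k X S.X₂ := by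
  refine ⟨?_, fun i hi => ?_⟩
  · haveI := h1.1
    haveI := h3.1
    have hN : IsNoetherian k (Coh.HH X S.X₂ 0) :=
      isNoetherian_of_range_eq_ker (Canon.HHlin k S.f 0) (Canon.HHlin k S.g 0)
        (HHLES.range_f_eq_ker_g k hS 0)
    infer_instance
  · exact Groth.Agent.Lib.Helper1.subsingleton_HH_of_shortExact hS i (h1.2 i hi) (h3.2 i hi)

variable (X)

/-- **coherent modules supported at closed points on a proper scheme over a field** -/
theorem isGood0_of_closedSupp [IsProper (X ↘ Spec (CommRingCat.of k))] (M : X.Modules)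
    (hM : Coh.IsCoh M) (hsupp : ClosedSupp M) : IsGood0 k X M := by
  haveI : IsNoetherian X := CurveP1.isNoetherian_of_proper k (X ↘ Spec (CommRingCat.of k))
  by_cases hne : Nonempty X
  swap
  · rw [not_nonempty_iff] at hne
    haveI : IsAffine X := isAffine_of_isEmpty
    haveI : IsAffineHom (X ↘ Spec (CommRingCat.of k)) := inferInstance
    haveI : IsFinite (X ↘ Spec (CommRingCat.of k)) :=
      (IsFinite.iff_isProper_and_isAffineHom).mpr ⟨inferInstance, inferInstance⟩
    haveI : M.IsQuasicoherent := hM.1
    exact ⟨(isGood_of_isFinite k X M hM).1 0, fun i hi => Groth.Agent.S0007.result X M i hi⟩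
  revert hsupp
  refine Groth.Agent.S0027.result X (fun M => ClosedSupp M → IsGood0 k X M) ?_ ?_ ?_ M hM
  · rintro M N ⟨e⟩ hM hN
    exact isGood0_of_iso k e (hM (closedSupp_of_iso e.symm hN))
  · intro S hS _ _ _ h1 h3 h2
    haveI := hS.mono_f
    haveI := hS.epi_g
    exact isGood0_X₂ k hS (h1 (closedSupp_of_mono S.f h2)) (h3 (closedSupp_of_epi S.g h2))
  · intro Z i hi hZ I ι hι hI hsupp
    haveI := hi
    haveI := hZ
    haveI := hι
    haveI : I.IsQuasicoherent := hI
    by_cases hIz : IsZero I
    · have hz : IsZero ((Scheme.Modules.pushforward i).obj I) :=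
        (Scheme.Modules.pushforward i).map_isZero hIz
      refine ⟨?_, fun p _ => Groth.Agent.Lib.Helper1.subsingleton_HH_of_isZero hz p⟩
      haveI := Groth.Agent.Lib.Helper1.subsingleton_HH_of_isZero hz 0
      infer_instance
    letI : Z.Over (Spec (CommRingCat.of k)) := ⟨i ≫ (X ↘ Spec (CommRingCat.of k))⟩
    haveI : IsProper (Z ↘ Spec (CommRingCat.of k)) :=
      inferInstanceAs (IsProper (i ≫ (X ↘ Spec (CommRingCat.of k))))
    haveI : IsNoetherian Z := CurveP1.isNoetherian_of_proper k (Z ↘ Spec (CommRingCat.of k))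
    -- the image of the generic point of `Z` lies in the support, hence is closed
    have hη : IsClosed ({i (genericPoint Z)} : Set X) := by
      apply hsupp
      intro hsub
      exact hIz (isZero_of_subsingleton_stalk_push i I ι hsub)
    have hsubZ : Subsingleton Z := by
      refine ⟨fun z z' => i.isClosedEmbedding.injective ?_⟩
      have key : ∀ z : Z, i z = i (genericPoint Z) := by
        intro z
        have h1 : genericPoint Z ⤳ z := genericPoint_specializes z
        have h2 : i (genericPoint Z) ⤳ i z := h1.map i.continuous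
        have h3 : i z ∈ closure ({i (genericPoint Z)} : Set X) := h2.mem_closure
        rw [hη.closure_eq] at h3
        exact h3
      rw [key z, key z']
    have hdimZ : topologicalKrullDim Z ≤ 0 := topologicalKrullDim_zero_of_discreteTopology Z
    haveI := isFinite_of_dim_ne_one k Z (hdimZ.trans zero_le_one) (by
      intro h1
      rw [h1] at hdimZ
      exact absurd hdimZ (by norm_num))
    haveI : IsAffine Z := isAffine_of_isAffineHom (Z ↘ Spec (CommRingCat.of k))
    have hIcoh : Coh.IsCoh I := by
      haveI := isQuasicoherent_structureModule Z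
      exact ⟨hI, Groth.Agent.Lib.Helper49.isFiniteType_of_mono ι
        (Groth.Agent.Lib.Helper49.isFiniteType_unit Z)⟩
    have hf : i ≫ (X ↘ Spec (CommRingCat.of k)) = Z ↘ Spec (CommRingCat.of k) := rfl
    refine ⟨?_, fun p hp => ?_⟩
    · haveI := (isGood_of_isFinite k Z I hIcoh).1 0
      exact Module.Finite.equiv (AffPush.pushEdgeEquiv i k hf I 0).symm
    · haveI := Groth.Agent.S0007.result Z I p hp
      exact (AffPush.pushEdge_bijective i I p).injective.subsingleton

end Groth.Agent.Lib.Helper67.ZeroDim
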