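import Mathlib
import Groth.Agent.Lib.Helper67.ZetaAffine

/-!
# The zeta function of a base change to a finite extension (helper67)
-/

set_option autoImplicit false
universe u
open CategoryTheory CategoryTheory.Limits AlgebraicGeometry

namespace Groth.Agent.Lib.Helper67

section baseChange

variable {k : Type u} [Field k] [Finite k] {X : Scheme.{u}}
  (f : X ⟶ Spec (CommRingCat.of k)) [LocallyOfFiniteType f] [QuasiCompact f]
  (k' : Type u) [Field k'] [Algebra k k'] [Finite k']

theorem pointCount_baseChange (k'' : Type u) [Field k''] [Algebra k' k''] [Algebra k k'']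
    [IsScalarTower k k' k''] :
    SgaExt.pointCount (pullback.snd f (Spec.map (CommRingCat.ofHom (algebraMap k k')))) k'' =
      SgaExt.pointCount f k'' := by
  unfold SgaExt.pointCount
  have hs : Spec.map (CommRingCat.ofHom (algebraMap k k'')) =
      Spec.map (CommRingCat.ofHom (algebraMap k' k'')) ≫
        Spec.map (CommRingCat.ofHom (algebraMap k k')) := by
    rw [← Spec.map_comp, ← CommRingCat.ofHom_comp, ← IsScalarTower.algebraMap_eq]
  refine Nat.card_congr
    { toFun := fun g' => ⟨g'.1 ≫ pullback.fst f _, by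
        rw [Category.assoc, pullback.condition, ← Category.assoc, g'.2, hs]⟩
      invFun := fun g => ⟨pullback.lift g.1 (Spec.map (CommRingCat.ofHom (algebraMap k' k'')))
        (by rw [g.2, hs]), pullback.lift_snd _ _ _⟩
      left_inv := fun g' => by
        apply Subtype.ext
        apply pullback.hom_ext
        · simp only [pullback.lift_fst]
        · simp only [pullback.lift_snd]; exact g'.2.symm
      right_inv := fun g => by
        apply Subtype.ext
        simp only [pullback.lift_fst] }

theorem nPts_baseChange (m : ℕ) :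
    Zeta.nPts (pullback.snd f (Spec.map (CommRingCat.ofHom (algebraMap k k')))) m =
      Zeta.nPts f (Module.finrank k k' * m) := by
  rcases Nat.eq_zero_or_pos m with rfl | hm
  · simp [Zeta.nPts]
  obtain ⟨k'', _, _, _, hk''⟩ := exists_extension_finrank_eq k' m hm
  letI : Algebra k k'' := ((algebraMap k' k'').comp (algebraMap k k')).toAlgebra
  haveI : IsScalarTower k k' k'' := IsScalarTower.of_algebraMap_eq (fun _ => rfl)
  have h1 := pointCount_eq_nPts
    (pullback.snd f (Spec.map (CommRingCat.ofHom (algebraMap k k')))) k''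
  have h2 := pointCount_eq_nPts f k''
  rw [hk''] at h1
  rw [← Module.finrank_mul_finrank k k' k'', hk''] at h2
  rw [← h1, ← h2, pointCount_baseChange f k' k'']

end baseChange

section series

open PowerSeries Groth.Agent.Lib.Helper66

theorem exp_subst_sum {ι : Type*} (s : Finset ι) (B : ι → ℂ⟦X⟧)
    (hB : ∀ i ∈ s, constantCoeff (B i) = 0) :
    (exp ℂ).subst (∑ i ∈ s, B i) = ∏ i ∈ s, (exp ℂ).subst (B i) := by
  have h0 : constantCoeff (∑ i ∈ s, B i) = 0 := by
    rw [map_sum]; exact Finset.sum_eq_zero hB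
  have hF : IsLogDeriv ((exp ℂ).subst (∑ i ∈ s, B i)) (d⁄dX ℂ (∑ i ∈ s, B i)) :=
    isLogDeriv_exp_subst _ h0
  have hG : IsLogDeriv (∏ i ∈ s, (exp ℂ).subst (B i)) (∑ i ∈ s, d⁄dX ℂ (B i)) :=
    IsLogDeriv.prod s _ _ fun i hi => isLogDeriv_exp_subst _ (hB i hi)
  rw [← map_sum] at hG
  have hF0 : constantCoeff ((exp ℂ).subst (∑ i ∈ s, B i)) = 1 := constantCoeff_exp_subst _ h0
  have hG0 : constantCoeff (∏ i ∈ s, (exp ℂ).subst (B i)) = 1 := by
    rw [map_prod]
    exact Finset.prod_eq_one fun i hi => constantCoeff_exp_subst _ (hB i hi)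
  exact hF.unique hG (hF0.trans hG0.symm) (by rw [hG0]; exact one_ne_zero)

theorem rescale_exp_subst (a : ℂ) (L : ℂ⟦X⟧) (hL : constantCoeff L = 0) :
    rescale a ((exp ℂ).subst L) = (exp ℂ).subst (rescale a L) := by
  rw [rescale_eq_subst, rescale_eq_subst, subst_comp_subst_apply]
  · exact HasSubst.of_constantCoeff_zero' hL
  · exact HasSubst.smul_X' _

theorem map_zetaFun {k : Type u} [Field k] {X : Scheme.{u}}
    (f : X ⟶ Spec (CommRingCat.of k)) :
    PowerSeries.map (algebraMap ℚ ℂ) (Zeta.zetaFun f) =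
      (exp ℂ).subst (PowerSeries.map (algebraMap ℚ ℂ) (Zeta.logZeta f)) := by
  unfold Zeta.zetaFun
  refine Eq.trans (PowerSeries.map_subst (h := algebraMap ℚ ℂ)
    (HasSubst.of_constantCoeff_zero' (constantCoeff_logZeta f)) (exp ℚ)) ?_
  rw [map_exp]
  rfl

theorem constantCoeff_map_logZeta {k : Type u} [Field k] {X : Scheme.{u}}
    (f : X ⟶ Spec (CommRingCat.of k)) :
    constantCoeff (PowerSeries.map (algebraMap ℚ ℂ) (Zeta.logZeta f)) = 0 := by
  rw [← coeff_zero_eq_constantCoeff_apply, coeff_map, coeff_zero_eq_constantCoeff_apply,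
    constantCoeff_logZeta, map_zero]

end series

section main

open PowerSeries

variable {k : Type u} [Field k] [Finite k] {X : Scheme.{u}}
  (f : X ⟶ Spec (CommRingCat.of k)) [LocallyOfFiniteType f] [QuasiCompact f]
  (k' : Type u) [Field k'] [Algebra k k'] [Finite k']

theorem logZeta_baseChange (ξ : ℂ) (hξ : IsPrimitiveRoot ξ (Module.finrank k k')) :
    PowerSeries.subst ((PowerSeries.X : PowerSeries ℂ) ^ Module.finrank k k')
        (PowerSeries.map (algebraMap ℚ ℂ) (Zeta.logZeta
          (pullback.snd f (Spec.map (CommRingCat.ofHom (algebraMap k k')))))) =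
      ∑ i ∈ Finset.range (Module.finrank k k'),
        PowerSeries.rescale (ξ ^ i) (PowerSeries.map (algebraMap ℚ ℂ) (Zeta.logZeta f)) := by
  have hr0 : Module.finrank k k' ≠ 0 := (Module.finrank_pos (R := k) (M := k')).ne'
  set r := Module.finrank k k' with hr
  have hsX : HasSubst ((PowerSeries.X : PowerSeries ℂ) ^ r) :=
    HasSubst.of_constantCoeff_zero' (by rw [map_pow, constantCoeff_X, zero_pow hr0])
  ext n
  rw [coeff_subst' hsX, map_sum]
  simp only [coeff_rescale, coeff_map, ← pow_mul, coeff_X_pow, smul_eq_mul]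
  unfold Zeta.logZeta
  simp only [coeff_mk]
  by_cases hdvd : r ∣ n
  · obtain ⟨m, rfl⟩ := hdvd
    rw [finsum_eq_single _ m]
    · simp only [if_true, mul_one]
      rw [nPts_baseChange f k' m, ← hr]
      have hξ1 : ∀ i : ℕ, ξ ^ (i * (r * m)) = 1 := by
        intro i
        rw [mul_comm i, mul_assoc, pow_mul, hξ.pow_eq_one, one_pow]
      simp only [hξ1, one_mul, Finset.sum_const, Finset.card_range, nsmul_eq_mul]
      rcases Nat.eq_zero_or_pos m with rfl | hm
      · simp
      · have hm' : (m : ℂ) ≠ 0 := by exact_mod_cast hm.ne'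
        have hr' : (r : ℂ) ≠ 0 := by exact_mod_cast hr0
        simp only [map_div₀, map_natCast, Nat.cast_mul, map_mul]
        field_simp
    · intro d hd
      have : ¬ (r * m = r * d) := fun h => hd (Nat.eq_of_mul_eq_mul_left (Nat.pos_of_ne_zero hr0) h).symm
      simp [this]
  · rw [finsum_eq_zero_of_forall_eq_zero]
    · have hne : ξ ^ n ≠ 1 := fun h => hdvd ((hξ.pow_eq_one_iff_dvd n).mp h)
      have hsum : ∑ i ∈ Finset.range r, (ξ ^ n) ^ i = 0 := by
        have h1 := geom_sum_mul (ξ ^ n) r
        rw [← pow_mul, mul_comm n r, pow_mul, hξ.pow_eq_one, one_pow, sub_self] at h1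
        exact (mul_eq_zero.mp h1).resolve_right (sub_ne_zero.mpr hne)
      have h2 : ∀ i : ℕ, ξ ^ (i * n) = (ξ ^ n) ^ i := fun i => by
        rw [← pow_mul, mul_comm]
      simp only [h2]
      rw [← Finset.sum_mul, hsum, zero_mul]
    · intro d
      have : ¬ (n = r * d) := fun h => hdvd ⟨d, h⟩
      simp [this]

theorem zetaFun_baseChange (ξ : ℂ) (hξ : IsPrimitiveRoot ξ (Module.finrank k k')) :
    PowerSeries.subst ((PowerSeries.X : PowerSeries ℂ) ^ Module.finrank k k')
        (PowerSeries.map (algebraMap ℚ ℂ) (Zeta.zetaFun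
          (pullback.snd f (Spec.map (CommRingCat.ofHom (algebraMap k k')))))) =
      ∏ i ∈ Finset.range (Module.finrank k k'),
        PowerSeries.rescale (ξ ^ i) (PowerSeries.map (algebraMap ℚ ℂ) (Zeta.zetaFun f)) := by
  have hr0 : Module.finrank k k' ≠ 0 := (Module.finrank_pos (R := k) (M := k')).ne'
  have hsX : HasSubst ((PowerSeries.X : PowerSeries ℂ) ^ Module.finrank k k') :=
    HasSubst.of_constantCoeff_zero' (by rw [map_pow, constantCoeff_X, zero_pow hr0])
  rw [map_zetaFun, map_zetaFun,
    subst_comp_subst_apply (HasSubst.of_constantCoeff_zero' (constantCoeff_map_logZeta _)) hsX,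
    logZeta_baseChange f k' ξ hξ, exp_subst_sum]
  · refine Finset.prod_congr rfl fun i _ => ?_
    rw [rescale_exp_subst _ _ (constantCoeff_map_logZeta f)]
  · intro i _
    rw [← coeff_zero_eq_constantCoeff_apply, coeff_rescale, coeff_zero_eq_constantCoeff_apply,
      constantCoeff_map_logZeta, mul_zero]

end main

end Groth.Agent.Lib.Helper67
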